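import Groth.Agent.Lib.ProperFin.Devissage
import Groth.Agent.Lib.Devissage.Closure
import Groth.Prelude.Def_ClSub2

/-!
# Dévissage with smaller supports known

`devissage'`: as `devissage`, the generator at `y` being constructed knowing the property for
modules with support in the closure of `y` not containing `y`. `bridge`: a surjection on stalks
onto a semisimple stalk is realised by a cospan of coherent modules.
-/

set_option autoImplicit false
set_option linter.style.haveILetI false
universe u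

open CategoryTheory Limits AlgebraicGeometry Opposite TopologicalSpace

namespace Groth.Agent.H52.DevSummand

open Groth.Agent.Lib Groth.Agent.Lib.Modules.StalkModule
open Groth.Agent.Lib.Devissage.Basic
open Groth.Agent.Lib.ProperFin.Devissage (Thick)

variable {X : Scheme.{u}}

theorem devissage' [IsNoetherian X] (Q : X.Modules → Prop) (T : Closeds X)
    (hQ : Thick (T : Set X) Q)
    (hgen : ∀ y ∈ T, (∀ D, CohIn (closure {y}) D → y ∉ CohB1.support D → Q D) →
      ∃ F, CohIn (closure {y}) F ∧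
        Module.length (X.presheaf.stalk y) (F.presheaf.stalk y) = 1 ∧ Q F)
    (G : X.Modules) (hG : CohIn (T : Set X) G) : Q G := by
  induction T using WellFoundedLT.induction generalizing G with
  | ind T ih =>
    refine Groth.Agent.Lib.ProperFin.Devissage.devissage Q T hQ (fun y hy => hgen y hy ?_) G hG
    intro D hD hyD
    haveI := hD.1.2
    let T' : Closeds X := ⟨CohB1.support D, Modules.Support.isClosed_support D⟩
    have hle : T' ≤ T := hD.2.trans (closure_minimal (Set.singleton_subset_iff.mpr hy) T.isClosed)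
    exact ih T' (lt_of_le_of_ne hle fun e => hyD (by
        have : y ∈ (T' : Set X) := e ▸ hy
        exact this))
      (hQ.mono hle) (fun z hz => hgen z (hle hz)) D ⟨hD.1, subset_rfl⟩

theorem support_sky (y : X) (L : Type u) [AddCommGroup L] [Module (X.presheaf.stalk y) L] :
    CohB1.support (Devissage.Sky.sky y L) ⊆ closure {y} := by
  intro z hz
  by_contra hzy
  apply hz
  refine subsingleton_of_forall_eq 0 fun v => ?_
  obtain ⟨U, hzU, -, r, m, -, rfl⟩ : ∃ (U : X.Opens) (hzU : z ∈ U) (_ : True) (r : Γ(X, U))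
      (m : Γ(Devissage.Sky.sky y L, U)), X.presheaf.germ U z hzU r = 1 ∧
        (Devissage.Sky.sky y L).presheaf.germ U z hzU m = v := by
    obtain ⟨U, hU, r, m, h1, h2⟩ := exists_germ_eq₂ (1 : X.presheaf.stalk z) v
    exact ⟨U, hU, trivial, r, m, h1, h2⟩
  let V : X.Opens := U ⊓ ⟨(closure {y})ᶜ, isClosed_closure.isOpen_compl⟩
  have hV : V ≤ U := inf_le_left
  have hzV : z ∈ V := ⟨hzU, hzy⟩
  have hyV : y ∉ V := fun h => h.2 (subset_closure rfl)
  rw [← TopCat.Presheaf.germ_res_apply _ (homOfLE hV) z hzV m,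
    show (Devissage.Sky.sky y L).presheaf.map (homOfLE hV).op m = 0 from
      funext fun h => absurd h.down hyV, map_zero]

/-- A surjection of stalks onto a stalk killed by the maximal ideal comes from a cospan. -/
theorem bridge [IsLocallyNoetherian X] {A B : X.Modules} (hA : Coh.IsCoh A) (hB : Coh.IsCoh B)
    (y : X) (φ : A.presheaf.stalk y →ₗ[X.presheaf.stalk y] B.presheaf.stalk y)
    (hφ : Function.Surjective φ)
    (hnil : ∀ a : X.presheaf.stalk y, ¬ IsUnit a → ∀ l : B.presheaf.stalk y, a • l = 0) :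
    ∃ (M : X.Modules) (α : A ⟶ M) (β : B ⟶ M), CohIn (closure {y}) M ∧
      Function.Surjective (stalkMapₗ α y) ∧ Function.Bijective (stalkMapₗ β y) ∧
      ∀ v, stalkMapₗ α y v = stalkMapₗ β y (φ v) := by
  set S := Devissage.Sky.sky y (B.presheaf.stalk y)
  haveI hS : S.IsQuasicoherent :=
    Devissage.Sky.isQCoh_sky y _ fun a ha l => ⟨1, by rw [pow_one]; exact hnil a ha l⟩
  let a : A ⟶ S := Devissage.Sky.toSky φ
  let b : B ⟶ S := Devissage.Sky.toSky LinearMap.id
  let ψ : A ⊞ B ⟶ S := biprod.desc a b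
  let M := cokernel (kernel.ι ψ)
  let π : A ⊞ B ⟶ M := cokernel.π (kernel.ι ψ)
  let m : M ⟶ S := cokernel.desc (kernel.ι ψ) ψ (kernel.condition ψ)
  haveI : Mono m := inferInstanceAs (Mono (Abelian.factorThruCoimage ψ))
  let α : A ⟶ M := biprod.inl ≫ π
  let β : B ⟶ M := biprod.inr ≫ π
  have hα : α ≫ m = a := by simp [α, π, m, ψ]
  have hβ : β ≫ m = b := by simp [β, π, m, ψ]
  have hm : Function.Injective (stalkMapₗ m y) := (mono_iff_stalkMapₗ_injective m).mp inferInstance y
  have hmb (v) : stalkMapₗ m y (stalkMapₗ β y v) = Devissage.Sky.stalkEquiv y _ v := by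
    rw [← LinearMap.comp_apply, ← stalkMapₗ_comp, hβ]
    exact Devissage.Sky.stalkMapₗ_toSky _ v
  have hma (v) : stalkMapₗ m y (stalkMapₗ α y v) = Devissage.Sky.stalkEquiv y _ (φ v) := by
    rw [← LinearMap.comp_apply, ← stalkMapₗ_comp, hα]
    exact Devissage.Sky.stalkMapₗ_toSky _ v
  have hαβ (v) : stalkMapₗ α y v = stalkMapₗ β y (φ v) := hm (by rw [hma, hmb])
  have hβy : Function.Bijective (stalkMapₗ β y) := by
    refine ⟨fun v w h => (Devissage.Sky.stalkEquiv y _).injective (by rw [← hmb, ← hmb, h]),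
      fun z => ?_⟩
    obtain ⟨v, hv⟩ := (Devissage.Sky.stalkEquiv y (B.presheaf.stalk y)).surjective (stalkMapₗ m y z)
    exact ⟨v, hm ((hmb v).trans hv)⟩
  have hαy : Function.Surjective (stalkMapₗ α y) := fun z => by
    obtain ⟨w, rfl⟩ := hβy.2 z
    obtain ⟨v, rfl⟩ := hφ w
    exact ⟨v, hαβ v⟩
  haveI := hA.1
  haveI := hB.1
  have hAB : Coh.IsCoh (A ⊞ B) := CohBasics.Closure.isCoh_biprod hA hB
  have hkψ : Coh.IsQCoh (kernel ψ) := by
    haveI := hAB.1
    exact QCoh.Closure.isQCoh_kernel ψ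
  exact ⟨M, α, β, ⟨CohBasics.Closure.isCoh_cokernel _ hkψ hAB,
    (Modules.Support.support_subset_of_mono m).trans (support_sky y _)⟩, hαy, hβy, hαβ⟩

theorem not_mem_support_kernel {A M : X.Modules} (f : A ⟶ M) {y : X}
    (hf : Function.Injective (stalkMapₗ f y)) : y ∉ CohB1.support (kernel f) := by
  rw [Modules.Support.not_mem_support_iff]
  refine subsingleton_of_forall_eq 0 fun v => ?_
  apply (mono_iff_stalkMapₗ_injective (kernel.ι f)).mp inferInstance y
  apply hf
  rw [← LinearMap.comp_apply, ← stalkMapₗ_comp, kernel.condition, stalkMapₗ_zero, map_zero,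
    map_zero]
  rfl

theorem not_mem_support_cokernel {A M : X.Modules} (f : A ⟶ M) {y : X}
    (hf : Function.Surjective (stalkMapₗ f y)) : y ∉ CohB1.support (cokernel f) := by
  rw [Modules.Support.not_mem_support_iff]
  refine subsingleton_of_forall_eq 0 fun v => ?_
  obtain ⟨w, rfl⟩ := (epi_iff_stalkMapₗ_surjective (cokernel.π f)).mp inferInstance y v
  obtain ⟨w, rfl⟩ := hf w
  rw [← LinearMap.comp_apply, ← stalkMapₗ_comp, cokernel.condition, stalkMapₗ_zero]
  rfl

theorem eq_stalk_kernel {A M : X.Modules} (f : A ⟶ M) {y : X} (v : A.presheaf.stalk y)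
    (hv : stalkMapₗ f y v = 0) : ∃ w, stalkMapₗ (kernel.ι f) y w = v := by
  have hex := (Modules.Stalk.exact_iff_stalk
    (ShortComplex.mk (kernel.ι f) f (kernel.condition f))).mp (ShortComplex.exact_kernel f) y
  rw [ShortComplex.ab_exact_iff] at hex
  exact hex v hv

/-- The two short exact sequences of a morphism of coherent modules. -/
theorem exists_two_ses [IsLocallyNoetherian X] {T : Set X} {A M : X.Modules} (f : A ⟶ M)
    (hA : Coh.IsCoh A) (hM : CohIn T M) :
    ∃ (I : X.Modules) (e : A ⟶ I) (i : I ⟶ M) (_ : Epi e) (_ : Mono i),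
      CohIn T I ∧ Coh.IsCoh (kernel e) ∧ CohIn T (cokernel i) ∧ Nonempty (kernel e ≅ kernel f) ∧
        Nonempty (cokernel i ≅ cokernel f) := by
  haveI := hA.1
  haveI := hM.1.1
  have hI : Coh.IsCoh (Abelian.image f) := CohBasics.Closure.isCoh_image f hA.1 hM.1
  have hc : Coh.IsCoh (cokernel f) := CohBasics.Closure.isCoh_cokernel f hA.1 hM.1
  let kf : kernel (Abelian.factorThruImage f) ≅ kernel f :=
    (kernelCompMono (Abelian.factorThruImage f) (Abelian.image.ι f)).symm ≪≫
      kernelIsoOfEq (Abelian.image.fac f)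
  let cf : cokernel (Abelian.image.ι f) ≅ cokernel f :=
    (cokernelEpiComp (Abelian.factorThruImage f) (Abelian.image.ι f)).symm ≪≫
      cokernelIsoOfEq (Abelian.image.fac f)
  refine ⟨_, Abelian.factorThruImage f, Abelian.image.ι f, inferInstance, inferInstance,
    ⟨hI, (Modules.Support.support_subset_of_mono (Abelian.image.ι f)).trans hM.2⟩,
    CohBasics.Closure.isCoh_of_iso kf.symm (CohBasics.Closure.isCoh_kernel f hA hM.1.1),
    ⟨CohBasics.Closure.isCoh_of_iso cf.symm hc, ?_⟩, ⟨kf⟩, ⟨cf⟩⟩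
  rw [Modules.Support.support_congr cf]
  exact (Modules.Support.support_subset_of_epi (cokernel.π f)).trans hM.2

/-- Modules with isomorphic stalks at `y` through a morphism. -/
theorem iff_of_bijective [IsLocallyNoetherian X] {T : Set X} {Q : X.Modules → Prop}
    (hQ : Thick T Q) {y : X} (small : ∀ D, CohIn T D → y ∉ CohB1.support D → Q D)
    {A M : X.Modules} (f : A ⟶ M) (hA : CohIn T A) (hM : CohIn T M)
    (hf : Function.Bijective (stalkMapₗ f y)) : Q A ↔ Q M := by
  obtain ⟨I, e, i, _, _, hI, hk, hc, ⟨kf⟩, ⟨cf⟩⟩ := exists_two_ses f hA.1 hM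
  have hk' : CohIn T (kernel e) :=
    ⟨hk, (Modules.Support.support_subset_of_mono (kernel.ι e)).trans hA.2⟩
  have h1 := hQ.two _ (exists_ses_epi e) hk' hA hI
  have h2 := hQ.two _ (exists_ses_mono i) hI hM hc
  have q1 : Q (kernel e) := small _ hk'
    (Modules.Support.support_congr kf ▸ not_mem_support_kernel f hf.1)
  have q2 : Q (cokernel i) := small _ hc
    (Modules.Support.support_congr cf ▸ not_mem_support_cokernel f hf.2)
  exact ⟨fun h => h2.1 (h1.2.2 q1 h) q2, fun h => h1.1 q1 (h2.2.1 h q2)⟩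

theorem exists_surjective_residue {R M N : Type u} [CommRing R] [IsLocalRing R] [AddCommGroup M]
    [Module R M] [Module.Finite R M] [Nontrivial M] [AddCommGroup N] [Module R N]
    (hN : Module.length R N = 1) :
    ∃ φ : M →ₗ[R] N, Function.Surjective φ ∧ ∀ a : R, ¬ IsUnit a → ∀ l : N, a • l = 0 := by
  haveI : IsSimpleModule R N := Module.length_eq_one_iff.mp hN
  obtain ⟨P, hP, -⟩ := (eq_top_or_exists_le_coatom (⊥ : Submodule R M)).resolve_left bot_ne_top
  haveI : IsSimpleModule R (M ⧸ P) := isSimpleModule_iff_isCoatom.mpr hP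
  have hl : Module.length R (M ⧸ P) ≠ ⊤ := by
    rw [Module.length_eq_one_iff.mpr ‹_›]; exact ENat.one_ne_top
  haveI : Nontrivial (M ⧸ P) := IsSimpleModule.nontrivial R (M ⧸ P)
  obtain ⟨φ, h1, h2⟩ := exists_surjective_of_length (N := N) hl hN
  exact ⟨φ ∘ₗ P.mkQ, h1.comp P.mkQ_surjective, h2⟩

/-- A module killed by the ideal of the reduced closure of `y` has semisimple stalk at `y`. -/
theorem stalk_killed (G : X.Modules) (y : X)
    (hG : _root_.ClSub.KilledByIdeal (Scheme.IdealSheafData.vanishingIdeal ⟨closure {y}, isClosed_closure⟩) G)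
    (a : X.presheaf.stalk y) (ha : ¬ IsUnit a) (v : G.presheaf.stalk y) : a • v = 0 := by
  obtain ⟨U, hU, r, m, rfl, rfl⟩ := exists_germ_eq₂ a v
  obtain ⟨V, hV, hyV, hVU⟩ := exists_isAffineOpen_mem_and_subset hU
  rw [← TopCat.Presheaf.germ_res_apply _ (homOfLE hVU) y hyV r] at ha ⊢
  rw [← TopCat.Presheaf.germ_res_apply _ (homOfLE hVU) y hyV m, ← germ_smul]
  have hr : X.presheaf.map (homOfLE hVU).op r ∈
      (Scheme.IdealSheafData.vanishingIdeal ⟨closure {y}, isClosed_closure⟩).ideal ⟨V, hV⟩ := by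
    rw [Scheme.IdealSheafData.vanishingIdeal_ideal]
    refine (PrimeSpectrum.mem_vanishingIdeal _ _).mpr fun p hp => ?_
    by_contra hrp
    have hz : hV.fromSpec p ∈ X.basicOpen (X.presheaf.map (homOfLE hVU).op r) :=
      SetLike.ext_iff.mp (hV.fromSpec_preimage_basicOpen _) p |>.mpr hrp
    have hy := (closure_singleton_specializes hp).mem_open
      (X.basicOpen (X.presheaf.map (homOfLE hVU).op r)).2 hz
    exact ha ((X.mem_basicOpen _ y hyV).mp hy)
  exact (congrArg (G.presheaf.germ V y hyV) (hG ⟨V, hV⟩ _ hr _)).trans (map_zero _)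
where
  closure_singleton_specializes {z : X} (h : z ∈ closure ({y} : Set X)) : y ⤳ z :=
    specializes_iff_mem_closure.mpr h

end Groth.Agent.H52.DevSummand
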