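import Groth.Agent.H52.CubeTools
import Groth.Agent.S19476
import Groth.Agent.H26.NormalSection
import Groth.Agent.Lib.PicGen.Main

/-!
# The theorem of the cube for smooth varieties, none of them assumed complete
-/

set_option autoImplicit false
set_option linter.style.haveILetI false
universe u

open CategoryTheory CategoryTheory.Limits MonoidalCategory CartesianMonoidalCategory AlgebraicGeometry
open Groth.Agent.H3
open Groth.Agent.H52.CubeTools

namespace Groth.Agent.H52.CubeCore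

noncomputable section

local instance (Y : Scheme.{u}) : PicGrp.Law Y := Groth.Agent.Lib.TensorMod.Invertible.law Y

variable {K L : Type u} [Field K] [Field L]

local notation "S" => Spec (CommRingCat.of K)
local notation "SL" => Spec (CommRingCat.of L)

/-- The projection of a triple product forgetting the last factor. -/
abbrev proj (A B C : Over SL) : A ⊗ B ⊗ C ⟶ A ⊗ B := lift (fst A (B ⊗ C)) (snd A (B ⊗ C) ≫ fst B C)

/-- A class trivial on the slices over a dense set of points comes from the base. -/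
theorem seesaw {Z C : Over SL} [LocallyOfFiniteType Z.hom] [IsReduced Z.left] [IsProper C.hom] [Flat C.hom]
    [GeometricallyIntegral C.hom] (δ : PicLoc.PicSet (Z ⊗ C).left)
    (D : Set Z.left) (hD : Dense D)
    (h : ∀ x ∈ D, ∃ (z : 𝟙_ (Over SL) ⟶ Z), x ∈ Set.range z.left ∧
      PicCalc.ph (lift (toUnit C ≫ z) (𝟙 C)) δ = 1) :
    ∃ m, δ = PicCalc.ph (fst Z C) m := by
  haveI : IsLocallyNoetherian Z.left := LocallyOfFiniteType.isLocallyNoetherian Z.hom
  let q := (fst Z C).left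
  haveI : IsProper q := inferInstanceAs (IsProper (pullback.fst Z.hom C.hom))
  haveI : Flat q := inferInstanceAs (Flat (pullback.fst Z.hom C.hom))
  haveI : GeometricallyIntegral q := inferInstanceAs (GeometricallyIntegral (pullback.fst Z.hom C.hom))
  obtain ⟨M, hM, rfl⟩ := PicGrp.exists_eq_cls δ
  obtain ⟨Z', ι, hι, huniv⟩ := Groth.Agent.S19476.result q M
    (Groth.Agent.Lib.TensorMod.LocFree.of_isInvertible hM)
  haveI := hι
  have hsub : D ⊆ Set.range ι := by
    intro x hx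
    obtain ⟨z, ⟨p, rfl⟩, hz⟩ := h x hx
    let g : Spec (CommRingCat.of L) ⟶ Z.left := z.left
    let s : C ⟶ Z ⊗ C := lift (toUnit C ≫ z) (𝟙 C)
    have hs : IsPullback s.left C.hom q g := by
      have hr : IsPullback (snd Z C).left q C.hom Z.hom := (IsPullback.of_hasPullback Z.hom C.hom).flip
      have h1 : g ≫ Z.hom = 𝟙 _ := Over.w z
      refine IsPullback.of_right ?_ ?_ hr
      · rw [← Over.comp_left, h1, lift_snd]
        haveI : IsIso (𝟙 C : C ⟶ C).left := inferInstanceAs (IsIso (𝟙 C.left))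
        exact IsPullback.of_horiz_isIso ⟨by simp⟩
      · rw [← Over.comp_left, lift_fst]
        rfl
    suffices hex : Nonempty ((Scheme.Modules.pullback (pullback.fst q g)).obj M ≅
        (Scheme.Modules.pullback (pullback.snd q g)).obj (Coh.structureModule _)) by
      obtain ⟨u', hu'⟩ := (huniv _ g inferInstance).mpr ⟨Coh.structureModule _,
        Groth.Agent.Lib.TensorMod.LocFree.of_isInvertible (PicLoc.isInvertible_structureModule _), hex⟩
      exact ⟨u' p, congrArg (fun k : Spec (CommRingCat.of L) ⟶ Z.left => k p) hu'⟩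
    have h0 : PicGrp.cls ((Scheme.Modules.pullback s.left).obj M)
        (Groth.Agent.Lib.TensorMod.LocFree.isInvertible_of_rank_one
          (Groth.Agent.Lib.TensorMod.LocFree.rank_pullback s.left
            (Groth.Agent.Lib.TensorMod.LocFree.of_isInvertible hM))) = 1 :=
      Subtype.ext ((congrArg Subtype.val hz : _))
    obtain ⟨e⟩ := (PicGrp.cls_eq_one_iff _).mp h0
    exact ⟨(Scheme.Modules.pullbackCongr hs.isoPullback_inv_fst.symm).app M ≪≫
      (Scheme.Modules.pullbackComp hs.isoPullback.inv s.left).symm.app M ≪≫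
      (Scheme.Modules.pullback hs.isoPullback.inv).mapIso e ≪≫
      PicLoc.pullbackStructureIso hs.isoPullback.inv ≪≫ (PicLoc.pullbackStructureIso _).symm⟩
  haveI : Surjective ι := ⟨fun x => by
    have := closure_minimal hsub ι.isClosedEmbedding.isClosed_range
    rw [hD.closure_eq] at this
    exact this (Set.mem_univ x)⟩
  haveI : IsIso ι := isIso_of_isClosedImmersion_of_surjective ι
  obtain ⟨N, hN, ⟨e⟩⟩ := (huniv Z.left (𝟙 _) inferInstance).mp ⟨inv ι, IsIso.inv_hom_id ι⟩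
  refine ⟨PicGrp.cls N (Groth.Agent.Lib.TensorMod.LocFree.isInvertible_of_rank_one hN),
    Subtype.ext ((PicGrp.cl_eq_cl_iff _ _).mpr ⟨?_⟩)⟩
  haveI : IsIso (pullback.fst q (𝟙 Z.left)) := inferInstance
  have h2 : pullback.snd q (𝟙 Z.left) = pullback.fst q (𝟙 Z.left) ≫ q :=
    ((Category.comp_id _).symm.trans pullback.condition.symm)
  exact ((Scheme.Modules.pullbackId _).app M).symm ≪≫
    (Scheme.Modules.pullbackCongr (IsIso.inv_hom_id (pullback.fst q (𝟙 Z.left))).symm).app M ≪≫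
    (Scheme.Modules.pullbackComp _ _).symm.app M ≪≫
    (Scheme.Modules.pullback (inv (pullback.fst q (𝟙 Z.left)))).mapIso e ≪≫
    (Scheme.Modules.pullbackComp _ _).app N ≪≫
    (Scheme.Modules.pullbackCongr (by rw [h2, IsIso.inv_hom_id_assoc])).app N

variable [IsAlgClosed K] (b : Spec (CommRingCat.of L) ⟶ Spec (CommRingCat.of K))

/-- The underlying morphism of a map out of a scheme over the extension. -/
def under' {T : Over SL} {X : Over S} (g : (Over.map b).obj T ⟶ X) : T.left ⟶ X.left := g.left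

/-- Pullback of classes to a scheme over the extension. -/
def res {T : Over SL} {X : Over S} (g : (Over.map b).obj T ⟶ X) :
    PicLoc.PicSet X.left →* PicLoc.PicSet T.left :=
  PicGrp.pullHom (under' b g) (Groth.Agent.Lib.TensorMod.Pullback.pullMul (under' b g))

omit [IsAlgClosed K] in
theorem ph_res {T T' : Over SL} {X : Over S} (g : T ⟶ T') (F : (Over.map b).obj T' ⟶ X)
    (c : PicLoc.PicSet X.left) : PicCalc.ph g (res b F c) = res b ((Over.map b).map g ≫ F) c :=
  Subtype.ext (PicLoc.pullCl_comp g.left (under' b F) c.1).symm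

omit [IsAlgClosed K] in
theorem res_comp {T : Over SL} {X X' : Over S} (g : (Over.map b).obj T ⟶ X) (q : X ⟶ X')
    (c : PicLoc.PicSet X'.left) : res b (g ≫ q) c = res b g (PicCalc.ph q c) :=
  Subtype.ext (PicLoc.pullCl_comp (under' b g) q.left c.1)

omit [IsAlgClosed K] in
theorem res_eq_one {T : Over SL} {X : Over S} {g : (Over.map b).obj T ⟶ X}
    {c : PicLoc.PicSet X.left} (h : PicCalc.ph g c = 1) : res b g c = 1 :=
  Subtype.ext ((congrArg Subtype.val h :))

/-- The map to `U × V × W` over an `L`-valued point of `U` given on a first factor. -/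
abbrev toTriple {U V W : Over S} {T : Over SL} (f : (Over.map b).obj T ⟶ U)
    (g : T ⟶ (Over.pullback b).obj V ⊗ (Over.pullback b).obj W) :
    (Over.map b).obj T ⟶ U ⊗ V ⊗ W :=
  lift f (lift ((Over.map b).map (g ≫ fst _ _) ≫ pr b V) ((Over.map b).map (g ≫ snd _ _) ≫ pr b W))

set_option maxHeartbeats 1000000 in
/-- A class trivial on the three slices is trivial over a point joined to `u₀` by a curve. -/
theorem eq_one_of_curve {U V W : Over S}
    [Smooth V.hom] [IsSeparated V.hom] [QuasiCompact V.hom] [GeometricallyIntegral V.hom]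
    [Smooth W.hom] [IsSeparated W.hom] [QuasiCompact W.hom] [GeometricallyIntegral W.hom]
    (u₀ : 𝟙_ (Over S) ⟶ U) (v₀ : 𝟙_ (Over S) ⟶ V) (w₀ : 𝟙_ (Over S) ⟶ W)
    (c : PicLoc.PicSet (U ⊗ V ⊗ W).left)
    (h₁ : PicCalc.ph (lift (toUnit (V ⊗ W) ≫ u₀) (𝟙 (V ⊗ W))) c = 1)
    (h₂ : PicCalc.ph (lift (fst U W) (lift (toUnit (U ⊗ W) ≫ v₀) (snd U W))) c = 1)
    (h₃ : PicCalc.ph (lift (fst U V) (lift (snd U V) (toUnit (U ⊗ V) ≫ w₀))) c = 1)
    {C Y : Over SL} [IsProper C.hom] [Flat C.hom] [GeometricallyIntegral C.hom] [IsIntegral C.left]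
    (hreg : ∀ x : C.left, IsRegularLocalRing (C.left.presheaf.stalk x))
    (j : Y ⟶ C) [IsOpenImmersion j.left] (f : (Over.map b).obj Y ⟶ U)
    (y₀ y₁ : 𝟙_ (Over SL) ⟶ Y) (hy₀ : (Over.map b).map y₀ ≫ f = toUnit _ ≫ u₀) :
    res b (toTriple b ((Over.map b).map (toUnit _ ≫ y₁) ≫ f)
      (𝟙 ((Over.pullback b).obj V ⊗ (Over.pullback b).obj W))) c = 1 := by
  let VL := (Over.pullback b).obj V
  let WL := (Over.pullback b).obj W
  haveI : Smooth VL.hom := inferInstanceAs (Smooth (pullback.snd V.hom b))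
  haveI : QuasiCompact VL.hom := inferInstanceAs (QuasiCompact (pullback.snd V.hom b))
  haveI : GeometricallyIntegral VL.hom := inferInstanceAs (GeometricallyIntegral (pullback.snd V.hom b))
  haveI : Smooth WL.hom := inferInstanceAs (Smooth (pullback.snd W.hom b))
  haveI : QuasiCompact WL.hom := inferInstanceAs (QuasiCompact (pullback.snd W.hom b))
  haveI : GeometricallyIntegral WL.hom := inferInstanceAs (GeometricallyIntegral (pullback.snd W.hom b))
  haveI : GeometricallyConnected VL.hom := H2.Rigid.GeomIrred.geometricallyConnected VL.hom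
  haveI : GeometricallyConnected WL.hom := H2.Rigid.GeomIrred.geometricallyConnected WL.hom
  obtain ⟨r₁, r₂, r₃, r₄⟩ := regular_prod (P := VL) (Q := WL) hreg
  haveI := r₁; haveI := r₂; haveI := r₃
  let X := VL ⊗ WL ⊗ C
  haveI h : IsOpenImmersion (𝟙 WL ⊗ₘ j).left :=
    Groth.Agent.Lib.ActSep.GenericTransporter.prop_tensorHom (P := @IsOpenImmersion) (𝟙 WL) j
      (inferInstanceAs (IsOpenImmersion (𝟙 WL.left))) ‹_›
  haveI : IsOpenImmersion (𝟙 VL ⊗ₘ (𝟙 WL ⊗ₘ j)).left :=
    Groth.Agent.Lib.ActSep.GenericTransporter.prop_tensorHom (P := @IsOpenImmersion) (𝟙 VL) _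
      (inferInstanceAs (IsOpenImmersion (𝟙 VL.left))) h
  let F : (Over.map b).obj (VL ⊗ WL ⊗ Y) ⟶ U ⊗ V ⊗ W :=
    toTriple b ((Over.map b).map (snd VL (WL ⊗ Y) ≫ snd WL Y) ≫ f) (proj VL WL Y)
  obtain ⟨δ, hδ⟩ := CubeTools.exists_extension (𝟙 VL ⊗ₘ (𝟙 WL ⊗ₘ j)) r₄
    (res b F c)
  -- the values of the extension over the open piece
  have hev : ∀ {T : Over SL} (v : T ⟶ VL) (w : T ⟶ WL) (y : T ⟶ Y),
      PicCalc.ph (lift v (lift w (y ≫ j))) δ =
        res b (lift ((Over.map b).map y ≫ f)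
          (lift ((Over.map b).map v ≫ pr b V) ((Over.map b).map w ≫ pr b W))) c := fun {T} v w y => by
    have e : lift v (lift w (y ≫ j)) = lift v (lift w y) ≫ (𝟙 VL ⊗ₘ (𝟙 WL ⊗ₘ j)) := by
      ext : 1 <;> simp [VL, WL]
    rw [e, PicCalc.ph_comp, hδ, ph_res]
    have e' : (Over.map b).map (lift v (lift w y)) ≫ F = lift ((Over.map b).map y ≫ f)
        (lift ((Over.map b).map v ≫ pr b V) ((Over.map b).map w ≫ pr b W)) := by
      simp only [F, toTriple, proj, VL, WL, comp_lift, ← Category.assoc, ← Functor.map_comp, lift_fst,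
        lift_snd]
    rw [e']
  -- normalization
  let v₁ : X ⟶ VL := toUnit X ≫ pt b v₀
  let w₁ : X ⟶ WL := toUnit X ≫ pt b w₀
  let eV : X ⟶ X := lift v₁ (snd VL (WL ⊗ C))
  let eW : X ⟶ X := lift (fst VL (WL ⊗ C)) (lift w₁ (snd VL (WL ⊗ C) ≫ snd WL C))
  let eVW : X ⟶ X := lift v₁ (lift w₁ (snd VL (WL ⊗ C) ≫ snd WL C))
  let δ' := δ * PicCalc.ph eVW δ * (PicCalc.ph eV δ * PicCalc.ph eW δ)⁻¹
  have hpV : ∀ {T : Over SL}, (Over.map b).map (toUnit T ≫ pt b v₀) ≫ pr b V = toUnit _ ≫ v₀ :=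
    fun {T} => by rw [Functor.map_comp, Category.assoc, map_pt_pr, comp_toUnit_assoc]
  have hpW : ∀ {T : Over SL}, (Over.map b).map (toUnit T ≫ pt b w₀) ≫ pr b W = toUnit _ ≫ w₀ :=
    fun {T} => by rw [Functor.map_comp, Category.assoc, map_pt_pr, comp_toUnit_assoc]
  have hc₂ : ∀ {T : Over S} (p : T ⟶ U) (q : T ⟶ W),
      PicCalc.ph (lift p (lift (toUnit T ≫ v₀) q)) c = 1 := fun {T} p q => by
    have e : lift p (lift (toUnit _ ≫ v₀) q) =
        lift p q ≫ lift (fst U W) (lift (toUnit (U ⊗ W) ≫ v₀) (snd U W)) := by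
      ext : 1 <;> simp [VL, WL, X, comp_toUnit_assoc]
    rw [e, PicCalc.ph_comp, h₂, map_one]
  have hc₃ : ∀ {T : Over S} (p : T ⟶ U) (q : T ⟶ V),
      PicCalc.ph (lift p (lift q (toUnit T ≫ w₀))) c = 1 := fun {T} p q => by
    have e : lift p (lift q (toUnit _ ≫ w₀)) =
        lift p q ≫ lift (fst U V) (lift (snd U V) (toUnit (U ⊗ V) ≫ w₀)) := by
      ext : 1 <;> simp [VL, WL, X, comp_toUnit_assoc]
    rw [e, PicCalc.ph_comp, h₃, map_one]
  have hc₂' : ∀ {T : Over SL} (p : (Over.map b).obj T ⟶ U) (q : (Over.map b).obj T ⟶ W),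
      res b (lift p (lift (toUnit _ ≫ v₀) q)) c = 1 := fun p q =>
    res_eq_one b (hc₂ p q)
  have hc₃' : ∀ {T : Over SL} (p : (Over.map b).obj T ⟶ U) (q : (Over.map b).obj T ⟶ V),
      res b (lift p (lift q (toUnit _ ≫ w₀))) c = 1 := fun p q =>
    res_eq_one b (hc₃ p q)
  -- the values of the normalised class at rational points of the open piece
  let s : (𝟙_ (Over SL) ⟶ Y) → (VL ⊗ WL ⟶ X) := fun y =>
    lift (fst VL WL) (lift (snd VL WL) (toUnit _ ≫ y ≫ j))
  have hs : ∀ y, PicCalc.ph (s y) δ' =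
      res b (toTriple b ((Over.map b).map (toUnit _ ≫ y) ≫ f) (𝟙 (VL ⊗ WL))) c := fun y => by
    have e₁ : s y ≫ eV = lift (toUnit _ ≫ pt b v₀) (lift (snd VL WL) ((toUnit _ ≫ y) ≫ j)) := by
      ext : 1 <;> simp [VL, WL, X, s, eV, v₁, comp_toUnit_assoc]
    have e₂ : s y ≫ eW = lift (fst VL WL) (lift (toUnit _ ≫ pt b w₀) ((toUnit _ ≫ y) ≫ j)) := by
      ext : 1 <;> simp [VL, WL, X, s, eW, w₁, comp_toUnit_assoc]
    have e₃ : s y ≫ eVW =
        lift (toUnit _ ≫ pt b v₀) (lift (toUnit _ ≫ pt b w₀) ((toUnit _ ≫ y) ≫ j)) := by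
      ext : 1 <;> simp [VL, WL, X, s, eVW, v₁, w₁, comp_toUnit_assoc]
    have e₀ : s y = lift (fst VL WL) (lift (snd VL WL) ((toUnit _ ≫ y) ≫ j)) := by
      simp only [s, Category.assoc]
    have t₁ : PicCalc.ph (s y ≫ eV) δ = 1 := by rw [e₁, hev, hpV]; exact hc₂' _ _
    have t₂ : PicCalc.ph (s y ≫ eW) δ = 1 := by rw [e₂, hev, hpW]; exact hc₃' _ _
    have t₃ : PicCalc.ph (s y ≫ eVW) δ = 1 := by rw [e₃, hev, hpV]; exact hc₂' _ _
    simp only [δ', map_mul, map_inv, ← PicCalc.ph_comp, t₁, t₂, t₃, _root_.mul_one, inv_one]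
    rw [e₀, hev]
    simp only [toTriple, Category.id_comp]
    rfl
  -- the normalised class is trivial along the curve at each pair of rational points
  let σ : 𝟙_ (Over SL) ⟶ C := y₀ ≫ j
  have hV : ∀ (a : 𝟙_ (Over SL) ⟶ WL),
      PicCalc.ph (SquareCurves.sl C (pt b v₀) a) δ' = 1 := fun a => by
    have e₁ : SquareCurves.sl C (pt b v₀) a ≫ eV = SquareCurves.sl C (pt b v₀) a := by
      ext : 1 <;> simp [VL, WL, X, SquareCurves.sl, eV, v₁, comp_toUnit_assoc]
    have e₃ : SquareCurves.sl C (pt b v₀) a ≫ eVW = SquareCurves.sl C (pt b v₀) a ≫ eW := by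
      ext : 1 <;> simp [VL, WL, X, SquareCurves.sl, eVW, eW, v₁, w₁, comp_toUnit_assoc]
    simp only [δ', map_mul, map_inv, ← PicCalc.ph_comp, e₁, e₃]
    exact mul_inv_eq_one.mpr rfl
  have hW : ∀ (a : 𝟙_ (Over SL) ⟶ VL),
      PicCalc.ph (SquareCurves.sl C a (pt b w₀)) δ' = 1 := fun a => by
    have e₂ : SquareCurves.sl C a (pt b w₀) ≫ eW = SquareCurves.sl C a (pt b w₀) := by
      ext : 1 <;> simp [VL, WL, X, SquareCurves.sl, eW, w₁, comp_toUnit_assoc]
    have e₃ : SquareCurves.sl C a (pt b w₀) ≫ eVW = SquareCurves.sl C a (pt b w₀) ≫ eV := by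
      ext : 1 <;> simp [VL, WL, X, SquareCurves.sl, eVW, eV, v₁, w₁, comp_toUnit_assoc]
    simp only [δ', map_mul, map_inv, ← PicCalc.ph_comp, e₂, e₃]
    exact mul_inv_eq_one.mpr (mul_comm _ _)
  have hsl : ∀ (v : 𝟙_ (Over S) ⟶ V) (w : 𝟙_ (Over S) ⟶ W),
      PicCalc.ph (SquareCurves.sl C (pt b v) (pt b w)) δ' = 1 := fun v w => by
    have h := CubeTools.sq b hreg σ δ' v v₀ w w₀
    unfold SquareCurves.Sq at h
    rwa [hV, hV, hW, _root_.mul_one, _root_.mul_one] at h
  -- the seesaw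
  haveI : Smooth (VL ⊗ WL).hom := by rw [Over.tensorObj_hom]; infer_instance
  haveI : IsReduced (VL ⊗ WL).left := Groth.Agent.Lib.GrpSch.isReduced_of_smooth_field (VL ⊗ WL).hom
  let D : Set (VL ⊗ WL).left := {x | ∃ (v : 𝟙_ (Over S) ⟶ V) (w : 𝟙_ (Over S) ⟶ W),
    x ∈ Set.range (lift (pt b v) (pt b w)).left}
  have hD : Dense D := dense_iff_inter_open.mpr fun O hO hne => by
    obtain ⟨v, w, z, hz⟩ := exists_pts_mem b hO hne
    exact ⟨_, hz, v, w, z, rfl⟩
  obtain ⟨m, hm⟩ := seesaw (PicCalc.ph (α_ VL WL C).hom δ') D hD fun x hx => by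
    obtain ⟨v, w, hx⟩ := hx
    refine ⟨lift (pt b v) (pt b w), hx, ?_⟩
    rw [← PicCalc.ph_comp]
    refine Eq.trans ?_ (hsl v w)
    congr 2
    ext : 1 <;> simp [VL, WL, X, SquareCurves.sl]
  have hev' : ∀ y, PicCalc.ph (s y) δ' = m := fun y => by
    have e : s y = lift (𝟙 (VL ⊗ WL)) (toUnit _ ≫ y ≫ j) ≫ (α_ VL WL C).hom := by
      apply CartesianMonoidalCategory.hom_ext
      · simp [VL, WL, s]
      · apply CartesianMonoidalCategory.hom_ext <;> simp [VL, WL, s]
    rw [e, PicCalc.ph_comp, hm, ← PicCalc.ph_comp, lift_fst, PicCalc.ph_id]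
  rw [← hs y₁, hev', ← hev' y₀, hs y₀]
  have e : toTriple b ((Over.map b).map (toUnit (VL ⊗ WL) ≫ y₀) ≫ f) (𝟙 (VL ⊗ WL)) =
      lift ((Over.map b).map (fst VL WL) ≫ pr b V) ((Over.map b).map (snd VL WL) ≫ pr b W) ≫
        lift (toUnit (V ⊗ W) ≫ u₀) (𝟙 (V ⊗ W)) := by
    simp only [toTriple, VL, WL, Functor.map_comp, Category.assoc, hy₀, comp_toUnit_assoc, Category.id_comp,
      comp_lift, Category.comp_id]
  rw [e, res_comp, h₁, map_one]

set_option maxHeartbeats 1000000 in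
/-- **The theorem of the cube** for smooth varieties, none of them assumed complete. -/
theorem cube {U V W : Over S}
    [Smooth U.hom] [IsSeparated U.hom] [QuasiCompact U.hom] [GeometricallyIntegral U.hom]
    [Smooth V.hom] [IsSeparated V.hom] [QuasiCompact V.hom] [GeometricallyIntegral V.hom]
    [Smooth W.hom] [IsSeparated W.hom] [QuasiCompact W.hom] [GeometricallyIntegral W.hom]
    (u₀ : 𝟙_ (Over S) ⟶ U) (v₀ : 𝟙_ (Over S) ⟶ V) (w₀ : 𝟙_ (Over S) ⟶ W)
    (c : PicLoc.PicSet (U ⊗ V ⊗ W).left)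
    (h₁ : PicCalc.ph (lift (toUnit (V ⊗ W) ≫ u₀) (𝟙 (V ⊗ W))) c = 1)
    (h₂ : PicCalc.ph (lift (fst U W) (lift (toUnit (U ⊗ W) ≫ v₀) (snd U W))) c = 1)
    (h₃ : PicCalc.ph (lift (fst U V) (lift (snd U V) (toUnit (U ⊗ V) ≫ w₀))) c = 1) :
    c = 1 := by
  haveI := SquareNoncomplete.isIntegral_left U
  haveI : IsLocallyNoetherian U.left := LocallyOfFiniteType.isLocallyNoetherian U.hom
  obtain ⟨O, hO, hpencil⟩ := PencilCurve.exists_pencil u₀
  let η := genericPoint U.left
  let L := U.left.residueField η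
  let x : Spec (CommRingCat.of L) ⟶ U.left := U.left.fromSpecResidueField η
  let b : Spec (CommRingCat.of L) ⟶ S := x ≫ U.hom
  letI : Algebra K L := (Spec.preimage b).hom.toAlgebra
  have hb : b = Spec.map (CommRingCat.ofHom (algebraMap K L)) := (Spec.map_preimage b).symm
  obtain ⟨Y, ψ, f, y₀, y₁, hY₁, hY₂, hY₃, hY₄, hψ, -, hf, hy₀, hy₁⟩ := hpencil L x hb (by
    have hx : x (IsLocalRing.closedPoint L) = η := U.left.fromSpecResidueField_apply η _
    rw [hx]
    exact (genericPoint_spec U.left).mem_open_set_iff O.2 |>.2 (by simpa using hO))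
  obtain ⟨C, j, hC₁, hC₂, hC₃, hC₄, hj, hreg⟩ := RegularModel.exists_model Y ψ
  let f' : (Over.map b).obj Y ⟶ U := Over.homMk f (by
    show f ≫ U.hom = Y.hom ≫ b
    rw [hb, hf])
  have hy₀' : (Over.map b).map y₀ ≫ f' = toUnit _ ≫ u₀ := Over.OverMorphism.ext (by
    show y₀.left ≫ f = _
    rw [hy₀, ← hb]
    exact congrArg (· ≫ u₀.left) (Category.id_comp b).symm)
  have key := eq_one_of_curve b u₀ v₀ w₀ c h₁ h₂ h₃ hreg j f' y₀ y₁ hy₀'
  -- the generic fibre
  let φ := (fst U (V ⊗ W)).left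
  obtain ⟨-, hVW⟩ := H4.AxesConst.geometricallyIntegral_tensor V W
  haveI := hVW
  haveI : Smooth (V ⊗ W).hom := by rw [Over.tensorObj_hom]; infer_instance
  haveI : QuasiCompact (V ⊗ W).hom := by rw [Over.tensorObj_hom]; infer_instance
  haveI : Flat φ := inferInstanceAs (Flat (pullback.fst U.hom (V ⊗ W).hom))
  haveI : Smooth φ := inferInstanceAs (Smooth (pullback.fst U.hom (V ⊗ W).hom))
  haveI : QuasiCompact φ := inferInstanceAs (QuasiCompact (pullback.fst U.hom (V ⊗ W).hom))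
  haveI : GeometricallyIntegral φ :=
    inferInstanceAs (GeometricallyIntegral (pullback.fst U.hom (V ⊗ W).hom))
  haveI : IsIntegral (U ⊗ V ⊗ W).left := (H4.AxesConst.geometricallyIntegral_tensor U (V ⊗ W)).1
  haveI : IsLocallyNoetherian (U ⊗ V ⊗ W).left := LocallyOfFiniteType.isLocallyNoetherian φ
  obtain ⟨M, hM, rfl⟩ := PicGrp.exists_eq_cls c
  let T : Over (Spec (CommRingCat.of L)) := Over.mk (φ.fiberToSpecResidueField η)
  let i : (Over.map b).obj T ⟶ U ⊗ V ⊗ W := Over.homMk (φ.fiberι η) (by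
    show φ.fiberι η ≫ (U ⊗ V ⊗ W).hom = φ.fiberToSpecResidueField η ≫ x ≫ U.hom
    rw [← Category.assoc, ← φ.fiber_fac η, Category.assoc]
    exact congrArg (φ.fiberι η ≫ ·) (Over.w (fst U (V ⊗ W))).symm)
  let χ : T ⟶ (Over.pullback b).obj V ⊗ (Over.pullback b).obj W :=
    lift (lp b (i ≫ snd _ _ ≫ fst V W)) (lp b (i ≫ snd _ _ ≫ snd V W))
  let G : (Over.map b).obj ((Over.pullback b).obj V ⊗ (Over.pullback b).obj W) ⟶ U ⊗ V ⊗ W :=
    toTriple b ((Over.map b).map (toUnit _ ≫ y₁) ≫ f') (𝟙 _)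
  have hi : (Over.map b).map χ ≫ G = i := by
    have e₁ : i ≫ fst U (V ⊗ W) = (Over.map b).map (toUnit T ≫ y₁) ≫ f' := Over.OverMorphism.ext (by
      show φ.fiberι η ≫ φ = (φ.fiberToSpecResidueField η ≫ y₁.left) ≫ f
      rw [Category.assoc, hy₁]
      exact φ.fiber_fac η)
    apply CartesianMonoidalCategory.hom_ext
    · rw [e₁, Category.assoc, lift_fst, ← Category.assoc, ← Functor.map_comp, comp_toUnit_assoc]
    · apply CartesianMonoidalCategory.hom_ext
      · simp only [G, toTriple, Category.assoc, lift_snd, lift_fst, Category.id_comp]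
        rw [← Category.assoc, ← Functor.map_comp, lift_fst, map_lp_pr]
      · simp only [G, toTriple, Category.assoc, lift_snd, Category.id_comp]
        rw [← Category.assoc, ← Functor.map_comp, lift_snd, map_lp_pr]
  have hgen : res b i (PicGrp.cls M hM) = 1 := by
    rw [← hi, ← ph_res, key, map_one]
  have hgen' : Nonempty ((Scheme.Modules.pullback (φ.fiberι η)).obj M ≅
      Coh.structureModule (φ.fiber η)) :=
    (PicGrp.cls_eq_one_iff (Groth.Agent.Lib.TensorMod.LocFree.isInvertible_of_rank_one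
      (Groth.Agent.Lib.TensorMod.LocFree.rank_pullback (φ.fiberι η)
        (Groth.Agent.Lib.TensorMod.LocFree.of_isInvertible hM)))).mp
      (Subtype.ext (congrArg Subtype.val hgen :))
  have hnorm : Pi1.IsNormalScheme U.left := fun z => by
    haveI := Groth.Agent.Lib.JacCrit.OverField.isRegularLocalRing_stalk U.hom z
      (by rw [U.hom.smoothLocus_eq_top]; trivial)
    exact ⟨Groth.Agent.Lib.Regular.Quotient.isDomain _, Groth.Agent.Lib.Regular.UFD.isIntegrallyClosed _⟩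
  obtain ⟨N, hN, ⟨e⟩⟩ := Groth.Agent.Lib.PicGen.Main.exists_descent φ hnorm
    (fun y => GeometricallyIntegral.geometrically_isIntegral (f := φ) _ _ _
      (IsPullback.of_hasPullback φ (U.left.fromSpecResidueField y)))
    (Or.inl inferInstance) M hM hgen'
  have hc : PicGrp.cls M hM = PicCalc.ph (fst U (V ⊗ W)) (PicGrp.cls N hN) :=
    Subtype.ext ((PicGrp.cl_eq_cl_iff _ _).mpr ⟨e⟩)
  have hN1 : PicGrp.cls N hN = 1 := by
    have e' : lift (𝟙 U) (toUnit U ≫ lift v₀ w₀) =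
        lift (𝟙 U) (toUnit U ≫ w₀) ≫
          lift (fst U W) (lift (toUnit (U ⊗ W) ≫ v₀) (snd U W)) := by
      ext : 1 <;> simp [comp_toUnit_assoc]
    have := congrArg (PicCalc.ph (lift (𝟙 U) (toUnit U ≫ lift v₀ w₀))) hc
    rw [← PicCalc.ph_comp, lift_fst, PicCalc.ph_id, e', PicCalc.ph_comp, h₂, map_one] at this
    exact this.symm
  rw [hc, hN1, map_one]

end

end Groth.Agent.H52.CubeCore
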