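import Groth.Agent.H52.CubeCore
import Groth.Agent.Lib.Ample.Basis
import Groth.Agent.Lib.Ample.RelAmple
import Groth.Agent.H75.RedSub

/-!
# Ample classes on abelian varieties are non-degenerate
-/

set_option autoImplicit false
set_option linter.style.haveILetI false
universe u

open CategoryTheory CategoryTheory.Limits MonoidalCategory CartesianMonoidalCategory MonObj AlgebraicGeometry
open Groth.Agent.H3
open Groth.Agent.Lib.GrpQ.MonoClosed (ptOf)

namespace Groth.Agent.H52.AmpleNondeg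

noncomputable section

local instance (Y : Scheme.{u}) : PicGrp.Law Y := Groth.Agent.Lib.TensorMod.Invertible.law Y

/-- A proper scheme over a field with ample structure sheaf is finite. -/
theorem finite_of_isAmple_structure {k : Type u} [Field k] {Z : Scheme.{u}}
    (f : Z ⟶ Spec (CommRingCat.of k)) [IsProper f] (h : CohB1.IsAmple (Coh.structureModule Z)) :
    Finite Z := by
  haveI := Groth.Agent.Lib.Ample.RelAmple.isQuasiAffine_of_isAmple_structure h
  haveI : IsProper Z.toSpecΓ := by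
    haveI : IsProper (Z.toSpecΓ ≫ Spec.map f.appTop) := by
      rw [← Scheme.toSpecΓ_naturality]
      infer_instance
    exact IsProper.of_comp _ (Spec.map f.appTop)
  haveI : IsClosedImmersion Z.toSpecΓ :=
    IsClosedImmersion.of_isPreimmersion _ Z.toSpecΓ.isClosedMap.isClosed_range
  haveI : IsAffine Z := isAffine_of_isAffineHom Z.toSpecΓ
  haveI : IsFinite f := IsFinite.iff_isProper_and_isAffineHom.2 ⟨inferInstance, inferInstance⟩
  have h := f.finite_preimage_singleton (default : Spec (CommRingCat.of k))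
  rw [← Set.finite_univ_iff]
  exact h.subset fun y _ => Subsingleton.elim _ _

variable {K : Type u} [Field K] [IsAlgClosed K]

local notation "S" => Spec (CommRingCat.of K)

theorem finite_translationFixing (A : Over S) [GrpObj A] [IsProper A.hom]
    [GeometricallyIntegral A.hom] (L : A.left.Modules) (hL : CohB1.IsAmple L) :
    Set.Finite {a : 𝟙_ (Over S) ⟶ A |
      Nonempty ((Scheme.Modules.pullback ((𝟙 A * (toUnit A ≫ a))).left).obj L ≅ L)} := by
  let ℓ : PicLoc.PicSet A.left := PicGrp.cls L hL.1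
  let F : Set (𝟙_ (Over S) ⟶ A) :=
    {a | Nonempty ((Scheme.Modules.pullback ((𝟙 A * (toUnit A ≫ a))).left).obj L ≅ L)}
  have hF : ∀ a ∈ F, PicCalc.ph (𝟙 A * (toUnit A ≫ a)) ℓ = ℓ := fun a ha =>
    (PicCalc.iso_iff (PicCalc.cl_pullback _ (a := ℓ) rfl) (b := ℓ) rfl).mp ha
  let P : Set A.left := ptOf '' F
  let Zc : TopologicalSpace.Closeds A.left := ⟨closure P, isClosed_closure⟩
  let I := Scheme.IdealSheafData.vanishingIdeal (X := A.left) Zc
  haveI : IsReduced I.subscheme := H75.RedSub.isReduced_vanishingIdeal Zc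
  have hr : Set.range I.subschemeι = closure P := by
    rw [Scheme.IdealSheafData.range_subschemeι, Scheme.IdealSheafData.coe_support_vanishingIdeal]
    rfl
  let Z : Over S := Over.mk (I.subschemeι ≫ A.hom)
  let i : Z ⟶ A := Over.homMk I.subschemeι rfl
  haveI : IsReduced Z.left := inferInstanceAs (IsReduced I.subscheme)
  haveI : IsClosedImmersion i.left := inferInstanceAs (IsClosedImmersion I.subschemeι)
  haveI : IsProper Z.hom := inferInstanceAs (IsProper (I.subschemeι ≫ A.hom))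
  have hlift : ∀ a ∈ F, ∃ z : 𝟙_ (Over S) ⟶ Z, z ≫ i = a := fun a ha => by
    obtain ⟨w, hw⟩ : ptOf a ∈ Set.range I.subschemeι := hr.ge (subset_closure ⟨a, ha, rfl⟩)
    have hcl : IsClosed ({ptOf a} : Set A.left) :=
      (pointEquivClosedPoint A.hom ⟨a.left, Over.w a⟩).2
    have hwc : IsClosed ({w} : Set I.subscheme) := by
      have := hcl.preimage I.subschemeι.continuous
      rwa [show I.subschemeι ⁻¹' {ptOf a} = {w} from Set.ext fun v =>
        ⟨fun h => I.subschemeι.isEmbedding.injective (h.trans hw.symm), fun h => h ▸ hw⟩] at this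
    refine ⟨Over.homMk (pointOfClosedPoint Z.hom w hwc) (pointOfClosedPoint_comp Z.hom w hwc),
      Over.OverMorphism.ext (ext_of_apply_closedPoint_eq A.hom (Over.w (_ ≫ i)) (Over.w a) ?_)⟩
    exact (congrArg I.subschemeι (pointOfClosedPoint_apply Z.hom w hwc _)).trans hw
  -- the seesaw
  haveI : Flat A.hom := inferInstance
  let g : Z ⊗ A ⟶ A := snd Z A * (fst Z A ≫ i)
  let δ : PicLoc.PicSet (Z ⊗ A).left := PicCalc.ph g ℓ * (PicCalc.ph (snd Z A) ℓ)⁻¹
  let D : Set Z.left := i.left ⁻¹' P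
  have hD : Dense D := by
    rw [i.left.isClosedEmbedding.isEmbedding.isInducing.dense_iff]
    intro z
    have h1 : i.left z ∈ closure P := hr.le ⟨z, rfl⟩
    refine closure_mono ?_ h1
    rintro _ ⟨a, ha, rfl⟩
    obtain ⟨y, hy⟩ := hlift a ha
    exact ⟨ptOf y, ⟨a, ha, (congrArg ptOf hy).symm⟩, congrArg ptOf hy⟩
  obtain ⟨m, hm⟩ := CubeCore.seesaw δ D hD fun z hz => by
    obtain ⟨a, ha, haz⟩ := hz
    obtain ⟨y, hy⟩ := hlift a ha
    refine ⟨y, ⟨IsLocalRing.closedPoint K, ?_⟩, ?_⟩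
    · exact i.left.isClosedEmbedding.injective ((congrArg ptOf hy).trans haz)
    · have e : lift (toUnit A ≫ y) (𝟙 A) ≫ g = 𝟙 A * (toUnit A ≫ a) := by
        simp only [g, MonObj.comp_mul, lift_snd, lift_fst_assoc, Category.assoc, hy]
      simp only [δ, map_mul, map_inv, ← PicCalc.ph_comp, e, lift_snd, PicCalc.ph_id, hF a ha]
      exact mul_inv_eq_one.mpr rfl
  haveI : Subsingleton (𝟙_ (Over S)).left := inferInstanceAs (Subsingleton (PrimeSpectrum K))
  haveI : Nonempty (𝟙_ (Over S)).left := inferInstanceAs (Nonempty (PrimeSpectrum K))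
  have hone : ∀ X : Over S, PicCalc.ph (1 : X ⟶ A) ℓ = 1 := fun X => by
    rw [Hom.one_def, PicCalc.ph_comp, PicCalc.eq_one_of_subsingleton (PicCalc.ph η[A] ℓ), map_one]
  have hmz : m = PicCalc.ph i ℓ := by
    have h := congrArg (PicCalc.ph (lift (𝟙 Z) (1 : Z ⟶ A))) hm
    simp only [δ, g, map_mul, map_inv, ← PicCalc.ph_comp, MonObj.comp_mul, lift_snd, lift_fst_assoc,
      Category.id_comp, lift_fst, PicCalc.ph_id, hone, _root_.one_mul, inv_one, _root_.mul_one] at h
    exact h.symm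
  have htriv : PicCalc.ph i ℓ * PicCalc.ph i⁻¹ ℓ = 1 := by
    have h := congrArg (PicCalc.ph (lift (𝟙 Z) i⁻¹)) hm
    simp only [δ, g, map_mul, map_inv, ← PicCalc.ph_comp, MonObj.comp_mul, lift_snd, lift_fst_assoc,
      Category.id_comp, lift_fst, PicCalc.ph_id, inv_mul_cancel, hone, _root_.one_mul, hmz] at h
    rw [← h, inv_mul_cancel]
  -- ampleness
  have hinv : IsClosedImmersion (i⁻¹ : Z ⟶ A).left := by
    haveI : IsIso (ι[A] : A ⟶ A).left := inferInstanceAs (IsIso ((Over.forget S).map ι[A]))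
    have e : (i⁻¹ : Z ⟶ A) = i ≫ ι[A] := Hom.inv_def i
    rw [e]
    exact inferInstanceAs (IsClosedImmersion (i.left ≫ (ι[A] : A ⟶ A).left))
  have ha1 : CohB1.IsAmple ((Scheme.Modules.pullback i.left).obj L) :=
    Groth.Agent.Lib.Ample.Pullback.isAmple_pullback _
      (Groth.Agent.Lib.Ample.Pullback.isQuasiAffine_of_isAffineHom _) hL
  haveI := hinv
  have ha2 : CohB1.IsAmple ((Scheme.Modules.pullback (i⁻¹ : Z ⟶ A).left).obj L) :=
    Groth.Agent.Lib.Ample.Pullback.isAmple_pullback _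
      (Groth.Agent.Lib.Ample.Pullback.isQuasiAffine_of_isAffineHom _) hL
  have ha3 := Groth.Agent.Lib.Ample.Basis.isAmple_tensor ha1 ha2.1 fun x => by
    obtain ⟨n, hn, s, hs, -⟩ := (Groth.Agent.Lib.Ample.Pow.isAmple_iff.1 ha2).2.2 x
    exact ⟨n, hn, s, hs⟩
  obtain ⟨e⟩ := (PicCalc.iso_iff (PicCalc.cl_tensor (PicCalc.cl_pullback i (a := ℓ) rfl)
    (PicCalc.cl_pullback (i⁻¹ : Z ⟶ A) (a := ℓ) rfl)) (b := (1 : PicLoc.PicSet Z.left))
    PicGrp.one_val.symm).mpr htriv
  haveI : Finite Z.left := finite_of_isAmple_structure Z.hom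
    (Groth.Agent.Lib.Ample.Pow.isAmple_of_iso e ha3)
  refine Set.Finite.of_finite_image ((Set.finite_range i.left).subset ?_) fun a _ a' _ h =>
    Over.OverMorphism.ext (ext_of_apply_closedPoint_eq A.hom (Over.w a) (Over.w a') h)
  rintro _ ⟨a, ha, rfl⟩
  obtain ⟨y, hy⟩ := hlift a ha
  exact ⟨ptOf y, congrArg ptOf hy⟩

end

end Groth.Agent.H52.AmpleNondeg
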