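import Groth.Agent.H52.RelAcyclic
import Groth.Agent.H52.AmpleNondeg
import Groth.Agent.H3.TransInv
import Groth.Agent.S7804
import Groth.Agent.H63.AVProjective
import Groth.Agent.Lib.Cube.FamCx
import Groth.Agent.Lib.Ample.GG
import Mathlib.AlgebraicGeometry.Group.Abelian

/-!
# Translation invariant classes are the defects of translations of a non-degenerate class

Mumford's argument: otherwise the Mumford class twisted by the invariant class has acyclic fibres
over the second factor, hence no cohomology, and acyclic fibres over the first factor outside the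
finite kernel, hence acyclic fibres everywhere, although the fibre over the origin is trivial.
-/

set_option autoImplicit false
set_option linter.style.haveILetI false
universe u

open CategoryTheory CategoryTheory.Limits MonoidalCategory CartesianMonoidalCategory MonObj AlgebraicGeometry
open Groth.Agent.H3
open Groth.Agent.Lib.GrpQ.MonoClosed (ptOf exists_ptOf)

namespace Groth.Agent.H52.PicZeroTranslate

noncomputable section

local instance (Y : Scheme.{u}) : PicGrp.Law Y := Groth.Agent.Lib.TensorMod.Invertible.law Y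

variable {K : Type u} [Field K] [IsAlgClosed K]
  {A : Over (Spec (CommRingCat.of K))} [GrpObj A] [IsProper A.hom] [GeometricallyIntegral A.hom]

local notation "S" => Spec (CommRingCat.of K)

/-- An invariant non-trivial class has no cohomology. -/
theorem acyclic (M : A.left.Modules) (hM : PicF.IsInvertible M) (hinv : TransInv.Inv (PicGrp.cls M hM))
    (hne : PicGrp.cls M hM ≠ 1) (n : ℕ) : Subsingleton (Coh.HH A.left M n) := by
  refine (Groth.Agent.S7804.result K A M hM ?_).mp (fun h => hne ((PicGrp.cls_eq_one_iff hM).mpr h)) n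
  have hμ : μ[A] = fst A A * snd A A := by
    rw [Hom.mul_def]
    simp
  rw [hμ]
  exact (PicCalc.iso_iff (PicCalc.cl_pullback (fst A A * snd A A) (a := PicGrp.cls M hM) rfl)
    (PicCalc.cl_tensor (PicCalc.cl_pullback (fst A A) (a := PicGrp.cls M hM) rfl)
      (PicCalc.cl_pullback (snd A A) (a := PicGrp.cls M hM) rfl))).mpr (TransInv.mul_eq _ hinv)

/-- The fibre over a closed point is the slice. -/
theorem exists_fiber_iso {P : Over S} (q : P ⟶ A) (D : P.left.Modules) (hD : PicF.IsInvertible D)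
    (y : A.left) (hy : IsClosed ({y} : Set A.left)) (s : A ⟶ P)
    (hs : IsPullback s.left A.hom q.left (pointOfClosedPoint A.hom y hy)) (n : ℕ) :
    Nonempty (Coh.HH A.left ((Scheme.Modules.pullback s.left).obj D) n ≃+
      CohIII.fiberH q.left D y n) := by
  let θ : Spec (CommRingCat.of K) ⟶ Spec (A.left.residueField y) :=
    Spec.map (residueFieldIsoBase A.hom y hy).hom
  haveI : IsIso θ := inferInstance
  have h' : IsPullback s.left (A.hom ≫ θ) q.left (A.left.fromSpecResidueField y) :=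
    hs.of_iso (Iso.refl _) (Iso.refl _) (asIso θ) (Iso.refl _) (by simp) (by simp) (by simp)
      (by simp [θ, pointOfClosedPoint])
  let e := h'.isoPullback
  let σ : q.left.fiber y ⟶ A.left := e.inv
  haveI : IsIso σ := inferInstanceAs (IsIso e.inv)
  have hσ : σ ≫ s.left = q.left.fiberι y := h'.isoPullback_inv_fst
  obtain ⟨a⟩ := Groth.Agent.S7804.nonempty_of_isIso σ A.hom _
    (PicLoc.isInvertible_pullback s.left hD) n
  obtain ⟨b⟩ := Groth.Agent.S7804.nonempty_of_iso
    ((Scheme.Modules.pullbackComp σ s.left).app D ≪≫ (Scheme.Modules.pullbackCongr hσ).app D) n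
  exact ⟨a.trans b⟩

/-- **Mumford's theorem**: an invariant class is the defect of a non-degenerate class under a
translation. -/
theorem exists_translate (ℓ m : PicLoc.PicSet A.left) (hm : TransInv.Inv m)
    (hnd : Set.Finite {x : 𝟙_ (Over S) ⟶ A | PicCalc.ph (𝟙 A * (toUnit A ≫ x)) ℓ = ℓ}) :
    ∃ x : 𝟙_ (Over S) ⟶ A, PicCalc.ph (𝟙 A * (toUnit A ≫ x)) ℓ * ℓ⁻¹ = m := by
  by_contra! hno
  haveI : IsIntegral A.left := GeometricallyIntegral.isIntegral_of_subsingleton A.hom
  haveI : IsLocallyNoetherian A.left := LocallyOfFiniteType.isLocallyNoetherian A.hom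
  haveI : JacobsonSpace A.left := LocallyOfFiniteType.jacobsonSpace A.hom
  haveI : CompactSpace A.left := QuasiCompact.compactSpace_of_compactSpace A.hom
  haveI : IsNoetherian A.left := {}
  haveI : Flat A.hom := inferInstance
  haveI : IsCommMonObj A := isCommMonObj_of_isProper_of_geometricallyIntegral A
  let d : PicLoc.PicSet (A ⊗ A).left := PicCalc.ph (fst A A * snd A A) ℓ *
    (PicCalc.ph (fst A A) ℓ * PicCalc.ph (snd A A) ℓ)⁻¹ * (PicCalc.ph (fst A A) m)⁻¹
  obtain ⟨D, hD, hDc⟩ := PicGrp.exists_eq_cls d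
  have hcoh := Groth.Agent.Lib.Ample.GG.isCoh_of_isInvertible hD
  haveI : IsProper (fst A A).left := inferInstanceAs (IsProper (pullback.fst A.hom A.hom))
  haveI : IsProper (snd A A).left := inferInstanceAs (IsProper (pullback.snd A.hom A.hom))
  haveI : Flat (fst A A).left := inferInstanceAs (Flat (pullback.fst A.hom A.hom))
  haveI : Flat (snd A A).left := inferInstanceAs (Flat (pullback.snd A.hom A.hom))
  have hfl₁ := Groth.Agent.Lib.Cube.FamCx.isFlatOver_of_isInvertible (fst A A).left hD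
  have hfl₂ := Groth.Agent.Lib.Cube.FamCx.isFlatOver_of_isInvertible (snd A A).left hD
  have hcls : ∀ s : A ⟶ A ⊗ A, PicGrp.cls ((Scheme.Modules.pullback s.left).obj D)
      (PicLoc.isInvertible_pullback s.left hD) = PicCalc.ph s d := fun s =>
    hDc ▸ Subtype.ext (PicCalc.cl_pullback s (a := PicGrp.cls D hD) rfl)
  have hpt : ∀ y (hy : IsClosed ({y} : Set A.left)), ∃ x : 𝟙_ (Over S) ⟶ A,
      x.left = pointOfClosedPoint A.hom y hy ∧ ptOf x = y := fun y hy =>
    ⟨Over.homMk (pointOfClosedPoint A.hom y hy) (pointOfClosedPoint_comp A.hom y hy), rfl,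
      pointOfClosedPoint_apply A.hom y hy _⟩
  have hid : IsPullback (𝟙 A.left) A.hom A.hom (𝟙 _) := IsPullback.of_horiz_isIso ⟨by simp⟩
  -- the slices over the second factor
  have hs₂ : ∀ x : 𝟙_ (Over S) ⟶ A,
      IsPullback (lift (𝟙 A) (toUnit A ≫ x)).left A.hom (snd A A).left x.left := fun x => by
    have hr : IsPullback (fst A A).left (snd A A).left A.hom A.hom :=
      IsPullback.of_hasPullback A.hom A.hom
    refine IsPullback.of_right ?_ ?_ hr
    · rw [← Over.comp_left, lift_fst, show x.left ≫ A.hom = 𝟙 _ from Over.w x]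
      exact hid
    · rw [← Over.comp_left, lift_snd]
      rfl
  have hs₁ : ∀ x : 𝟙_ (Over S) ⟶ A,
      IsPullback (lift (toUnit A ≫ x) (𝟙 A)).left A.hom (fst A A).left x.left := fun x => by
    have hr : IsPullback (snd A A).left (fst A A).left A.hom A.hom :=
      (IsPullback.of_hasPullback A.hom A.hom).flip
    refine IsPullback.of_right ?_ ?_ hr
    · rw [← Over.comp_left, lift_snd, show x.left ≫ A.hom = 𝟙 _ from Over.w x]
      exact hid
    · rw [← Over.comp_left, lift_fst]
      rfl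
  have hd₂ : ∀ x : 𝟙_ (Over S) ⟶ A, PicCalc.ph (lift (𝟙 A) (toUnit A ≫ x)) d =
      PicCalc.ph (𝟙 A * (toUnit A ≫ x)) ℓ * ℓ⁻¹ * m⁻¹ := fun x => by
    simp only [d, map_mul, map_inv, ← PicCalc.ph_comp, MonObj.comp_mul, lift_fst, lift_snd,
      PicCalc.ph_id, TransInv.ph_const, _root_.mul_one]
  have hd₁ : ∀ x : 𝟙_ (Over S) ⟶ A, PicCalc.ph (lift (toUnit A ≫ x) (𝟙 A)) d =
      PicCalc.ph (𝟙 A * (toUnit A ≫ x)) ℓ * ℓ⁻¹ := fun x => by
    simp only [d, map_mul, map_inv, ← PicCalc.ph_comp, MonObj.comp_mul, lift_fst, lift_snd,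
      PicCalc.ph_id, TransInv.ph_const, _root_.one_mul, inv_one, _root_.mul_one]
    rw [_root_.mul_comm (toUnit A ≫ x)]
  -- no cohomology on the product
  have hV₂ : ∀ V : A.left.Opens, IsAffineOpen V → ∀ n,
      Subsingleton (CohTop.HU (Coh.toAb D) n ((snd A A).left ⁻¹ᵁ V)) := fun V hV =>
    RelAcyclic.subsingleton_HU _ D hcoh hfl₂ V hV fun y _ hy n => by
      obtain ⟨x, hx, -⟩ := hpt y hy
      obtain ⟨e⟩ := exists_fiber_iso (snd A A) D hD y hy _ (hx ▸ hs₂ x) n
      haveI := acyclic _ (PicLoc.isInvertible_pullback _ hD)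
        (show TransInv.Inv (PicGrp.cls ((Scheme.Modules.pullback (lift (𝟙 A) (toUnit A ≫ x)).left).obj D)
          (PicLoc.isInvertible_pullback _ hD)) by
          rw [hcls, hd₂]
          intro a
          rw [map_mul, map_inv, TransInv.inv_defect ℓ x a, hm a])
        (by rw [hcls, hd₂]; exact fun h => hno x (mul_inv_eq_one.mp h)) n
      exact e.symm.toEquiv.subsingleton
  have htop : ∀ n, Subsingleton (CohTop.HU (Coh.toAb D) n ⊤) := fun n => by
    have h := RelAcyclic.subsingleton_HU_of_affine (snd A A).left D ⊤ (fun V _ hV => hV₂ V hV) ⊤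
      le_rfl isCompact_univ n
    rwa [Scheme.Hom.preimage_top] at h
  -- an affine open around the kernel
  obtain ⟨L₀, hL₀⟩ := H63.AVProjective.exists_isAmple A
  let Z : Set A.left := ptOf '' {x : 𝟙_ (Over S) ⟶ A | PicCalc.ph (𝟙 A * (toUnit A ≫ x)) ℓ = ℓ}
  have h1Z : ptOf (1 : 𝟙_ (Over S) ⟶ A) ∈ Z := ⟨1, by simp [PicCalc.ph_id], rfl⟩
  obtain ⟨N, -, σ, hZV, -, hV⟩ :=
    Groth.Agent.Lib.Ample.Basis.exists_locus_of_finite hL₀ Z (hnd.image _) ⊤ fun _ _ => trivial
  let V : A.left.Opens := CohB1.genLocus _ σ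
  have hclosed : ∀ x : 𝟙_ (Over S) ⟶ A, IsClosed ({ptOf x} : Set A.left) := fun x =>
    (pointEquivClosedPoint A.hom ⟨x.left, Over.w x⟩).2
  let U : A.left.Opens := ⟨Zᶜ, IsClosed.isOpen_compl (self := by
    rw [← Set.biUnion_of_singleton Z]
    exact (hnd.image _).isClosed_biUnion (by rintro _ ⟨x, -, rfl⟩; exact hclosed x))⟩
  have hU : ∀ W : A.left.Opens, W ≤ U → ∀ n,
      Subsingleton (CohTop.HU (Coh.toAb D) n ((fst A A).left ⁻¹ᵁ W)) := fun W hW n => by
    refine RelAcyclic.subsingleton_HU_of_affine _ D U (fun W' hW' hW'a => ?_) W hW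
      (TopologicalSpace.NoetherianSpace.isCompact _) n
    refine RelAcyclic.subsingleton_HU _ D hcoh hfl₁ W' hW'a fun y hyW hy k => ?_
    obtain ⟨x, hx, hxy⟩ := hpt y hy
    obtain ⟨e⟩ := exists_fiber_iso (fst A A) D hD y hy _ (hx ▸ hs₁ x) k
    haveI := acyclic _ (PicLoc.isInvertible_pullback _ hD)
      (show TransInv.Inv (PicGrp.cls ((Scheme.Modules.pullback (lift (toUnit A ≫ x) (𝟙 A)).left).obj D)
        (PicLoc.isInvertible_pullback _ hD)) by
        rw [hcls, hd₁]
        exact TransInv.inv_defect ℓ x)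
      (by
        rw [hcls, hd₁]
        exact fun h => hW' hyW ⟨x, mul_inv_eq_one.mp h, hxy⟩) k
    exact e.symm.toEquiv.subsingleton
  have hVvan : ∀ n, Subsingleton (CohTop.HU (Coh.toAb D) n ((fst A A).left ⁻¹ᵁ V)) := fun n => by
    refine subsingleton_of_forall_eq 0 fun z => ?_
    haveI : Subsingleton (CohTop.HU (Coh.toAb D) n ((fst A A).left ⁻¹ᵁ V ⊓ (fst A A).left ⁻¹ᵁ U)) :=
      hU (V ⊓ U) inf_le_right n
    obtain ⟨w, hw, -⟩ := Groth.Agent.Lib.Cech.MV.exists_res_eq (Coh.toAb D) _ _ n z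
      (0 : CohTop.HU (Coh.toAb D) n ((fst A A).left ⁻¹ᵁ U)) (Subsingleton.elim _ _)
    have e : (fst A A).left ⁻¹ᵁ V ⊔ (fst A A).left ⁻¹ᵁ U = ⊤ := by
      rw [← Scheme.Hom.preimage_sup, ← Scheme.Hom.preimage_top (f := (fst A A).left)]
      congr 1
      ext y
      simp only [TopologicalSpace.Opens.coe_sup, Set.mem_union, TopologicalSpace.Opens.coe_top,
        Set.mem_univ, iff_true]
      exact (em (y ∈ Z)).imp (fun h => hZV h) id
    haveI : Subsingleton (CohTop.HU (Coh.toAb D) n
        ((fst A A).left ⁻¹ᵁ V ⊔ (fst A A).left ⁻¹ᵁ U)) := by rw [e]; exact htop n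
    rw [← hw, Subsingleton.elim w 0, map_zero]
  -- the fibre over the origin
  let y₀ : A.left := ptOf (1 : 𝟙_ (Over S) ⟶ A)
  obtain ⟨x, hx, hxy⟩ := hpt y₀ (hclosed 1)
  have hx1 : x = 1 := Over.OverMorphism.ext (ext_of_apply_closedPoint_eq A.hom (Over.w x) (Over.w _) hxy)
  obtain ⟨e⟩ := exists_fiber_iso (fst A A) D hD y₀ (hclosed 1) _ (hx ▸ hs₁ x) 0
  haveI := RelAcyclic.subsingleton_fiberH (fst A A).left D hcoh y₀ 0
    (RelAcyclic.fiberRank_eq_zero (fst A A).left D hcoh hfl₁ V hV hVvan y₀ (hZV h1Z) 0)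
  haveI : Subsingleton (Coh.HH A.left _ 0) := e.toEquiv.subsingleton
  obtain ⟨i⟩ := (PicGrp.cls_eq_one_iff (PicLoc.isInvertible_pullback
    (lift (toUnit A ≫ x) (𝟙 A)).left hD)).mp (by rw [hcls, hd₁, hx1]; simp [PicCalc.ph_id])
  obtain ⟨i'⟩ := Groth.Agent.S7804.nonempty_of_iso i 0
  haveI : Nontrivial (Coh.HH A.left (Coh.structureModule A.left) 0) := by
    have : Nontrivial ((Coh.structureModule A.left).val.obj (Opposite.op ⊤) : Type u) :=
      inferInstanceAs (Nontrivial Γ(A.left, ⊤))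
    exact (Groth.Agent.Lib.Curves.GlobalSections.h0Equiv _).toEquiv.nontrivial
  haveI : Subsingleton (Coh.HH A.left (Coh.structureModule A.left) 0) := i'.symm.toEquiv.subsingleton
  exact false_of_nontrivial_of_subsingleton (Coh.HH A.left (Coh.structureModule A.left) 0)

end

end Groth.Agent.H52.PicZeroTranslate
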