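import Groth.Agent.H52.NondegAmple
import Groth.Agent.H52.PicZeroTranslate
import Groth.Agent.Lib.GrpQ.RedSubgroup
import Groth.Agent.Lib.IntTheory.ProductCurves

/-!
# Degenerate classes on simple abelian varieties are invariant
-/

set_option autoImplicit false
set_option linter.style.haveILetI false
universe u

open CategoryTheory CategoryTheory.Limits MonoidalCategory CartesianMonoidalCategory MonObj AlgebraicGeometry
open Groth.Agent.H3
open Groth.Agent.Lib.GrpQ.MonoClosed (ptOf exists_ptOf)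
open Groth.Agent.H52.NondegAmple (tr tr_mul ptOf_tr)

namespace Groth.Agent.H52.SimpleAmple

noncomputable section

local instance (Y : Scheme.{u}) : PicGrp.Law Y := Groth.Agent.Lib.TensorMod.Invertible.law Y

variable {K : Type u} [Field K] [IsAlgClosed K]

local notation "S" => Spec (CommRingCat.of K)

/-- An integral scheme of finite type over an algebraically closed field is geometrically integral. -/
theorem geometricallyIntegral (C : Over S) [LocallyOfFiniteType C.hom] [IsIntegral C.left] :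
    GeometricallyIntegral C.hom := by
  letI : C.left.Over S := ⟨C.hom⟩
  haveI : GeometricallyIrreducible C.hom :=
    Groth.Agent.Lib.IntTheory.ProductCurves.geometricallyIrreducible K C.left
  haveI : GeometricallyReduced C.hom := by
    haveI : LocallyOfFinitePresentation C.hom :=
      Groth.Agent.Lib.JacCrit.OverField.locallyOfFinitePresentation C.hom
    have hgen : genericPoint C.left ∈ C.hom.smoothLocus := by
      refine Groth.Agent.Lib.JacCrit.OverField.mem_smoothLocus_of_isRegular C.hom _ ?_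
      exact (inferInstance : IsRegularLocalRing C.left.functionField)
    haveI : Smooth (C.hom.smoothLocus.ι ≫ C.hom) := by
      rw [← Scheme.Hom.smoothLocus_eq_top_iff]
      exact top_le_iff.mp fun z _ => by
        rw [← Scheme.Hom.preimage_smoothLocus_eq]
        exact z.2
    exact H2.Rigid.SmoothDense.geometricallyReduced_of_dense C.hom C.hom.smoothLocus
      (C.hom.smoothLocus.isOpen.dense ⟨_, hgen⟩)
  exact GeometricallyIntegral.of_geometricallyReduced_of_geometricallyIrreducible (f := C.hom)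

variable {A : Over (Spec (CommRingCat.of K))} [GrpObj A] [IsProper A.hom] [GeometricallyIntegral A.hom]

/-- The points fixing a class are closed. -/
theorem fix_of_mem_closure (ℓ : PicLoc.PicSet A.left) (a : 𝟙_ (Over S) ⟶ A)
    (ha : ptOf a ∈ closure (ptOf '' {b : 𝟙_ (Over S) ⟶ A | PicCalc.ph (tr b) ℓ = ℓ})) :
    PicCalc.ph (tr a) ℓ = ℓ := by
  let F : Set (𝟙_ (Over S) ⟶ A) := {b | PicCalc.ph (tr b) ℓ = ℓ}
  let P : Set A.left := ptOf '' F
  let Zc : TopologicalSpace.Closeds A.left := ⟨closure P, isClosed_closure⟩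
  let I := Scheme.IdealSheafData.vanishingIdeal (X := A.left) Zc
  haveI : IsReduced I.subscheme := H75.RedSub.isReduced_vanishingIdeal Zc
  have hr : Set.range I.subschemeι = closure P := by
    rw [Scheme.IdealSheafData.range_subschemeι, Scheme.IdealSheafData.coe_support_vanishingIdeal]
    rfl
  let Z : Over S := Over.mk (I.subschemeι ≫ A.hom)
  let i : Z ⟶ A := Over.homMk I.subschemeι rfl
  haveI : IsReduced Z.left := inferInstanceAs (IsReduced I.subscheme)
  haveI : IsClosedImmersion i.left := inferInstanceAs (IsClosedImmersion I.subschemeι)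
  haveI : IsProper Z.hom := inferInstanceAs (IsProper (I.subschemeι ≫ A.hom))
  haveI : JacobsonSpace Z.left := LocallyOfFiniteType.jacobsonSpace Z.hom
  have hlift : ∀ b, ptOf b ∈ closure P → ∃ z : 𝟙_ (Over S) ⟶ Z, z ≫ i = b := fun b hb => by
    obtain ⟨w, hw⟩ : ptOf b ∈ Set.range I.subschemeι := hr.ge hb
    have hcl : IsClosed ({ptOf b} : Set A.left) := (pointEquivClosedPoint A.hom ⟨b.left, Over.w b⟩).2
    have hwc : IsClosed ({w} : Set I.subscheme) := by
      have := hcl.preimage I.subschemeι.continuous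
      rwa [show I.subschemeι ⁻¹' {ptOf b} = {w} from Set.ext fun v =>
        ⟨fun h => I.subschemeι.isEmbedding.injective (h.trans hw.symm), fun h => h ▸ hw⟩] at this
    refine ⟨Over.homMk (pointOfClosedPoint Z.hom w hwc) (pointOfClosedPoint_comp Z.hom w hwc),
      Over.OverMorphism.ext (ext_of_apply_closedPoint_eq A.hom (Over.w (_ ≫ i)) (Over.w b) ?_)⟩
    exact (congrArg I.subschemeι (pointOfClosedPoint_apply Z.hom w hwc _)).trans hw
  haveI : Flat A.hom := inferInstance
  let δ : PicLoc.PicSet (Z ⊗ A).left :=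
    PicCalc.ph (snd Z A * (fst Z A ≫ i)) ℓ * (PicCalc.ph (snd Z A) ℓ)⁻¹
  have hsl : ∀ z : 𝟙_ (Over S) ⟶ Z,
      PicCalc.ph (lift (toUnit A ≫ z) (𝟙 A)) δ = PicCalc.ph (tr (z ≫ i)) ℓ * ℓ⁻¹ := fun z => by
    have e : lift (toUnit A ≫ z) (𝟙 A) ≫ (snd Z A * (fst Z A ≫ i)) = tr (z ≫ i) := by
      simp [tr, MonObj.comp_mul]
    simp only [δ, map_mul, map_inv, ← PicCalc.ph_comp, e, lift_snd, PicCalc.ph_id]
  have hD : Dense (i.left ⁻¹' P) := by
    rw [i.left.isClosedEmbedding.isEmbedding.isInducing.dense_iff]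
    intro z
    refine closure_mono ?_ (hr.le ⟨z, rfl⟩ : i.left z ∈ closure P)
    rintro _ ⟨b, hb, rfl⟩
    obtain ⟨y, hy⟩ := hlift b (subset_closure ⟨b, hb, rfl⟩)
    exact ⟨ptOf y, ⟨b, hb, (congrArg ptOf hy).symm⟩, congrArg ptOf hy⟩
  obtain ⟨m, hm⟩ := CubeCore.seesaw δ (i.left ⁻¹' P) hD fun z ⟨b, hb, hbz⟩ => by
    obtain ⟨y, hy⟩ := hlift b (subset_closure ⟨b, hb, rfl⟩)
    refine ⟨y, ⟨IsLocalRing.closedPoint K, ?_⟩, ?_⟩
    · exact i.left.isClosedEmbedding.injective ((congrArg ptOf hy).trans hbz)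
    · rw [hsl, hy, mul_inv_eq_one]
      exact hb
  obtain ⟨z, hz⟩ := hlift a ha
  haveI : Subsingleton (𝟙_ (Over S)).left := inferInstanceAs (Subsingleton (PrimeSpectrum K))
  haveI : Nonempty (𝟙_ (Over S)).left := inferInstanceAs (Nonempty (PrimeSpectrum K))
  have h := hsl z
  rw [hm, ← PicCalc.ph_comp, lift_fst, PicCalc.ph_comp,
    PicCalc.eq_one_of_subsingleton (PicCalc.ph z m), map_one, hz] at h
  exact mul_inv_eq_one.mp h.symm

/-- An infinite fixing set contains the points of an abelian subvariety of positive dimension. -/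
theorem exists_sub (ℓ : PicLoc.PicSet A.left)
    (hinf : ¬ Set.Finite {b : 𝟙_ (Over S) ⟶ A | PicCalc.ph (tr b) ℓ = ℓ}) :
    ∃ (B : Over S) (_ : GrpObj B) (i : B ⟶ A), GeometricallyIntegral B.hom ∧ IsMonHom i ∧
      IsClosedImmersion i.left ∧ ¬ Subsingleton ↥B.left ∧
      ∀ b : 𝟙_ (Over S) ⟶ B, PicCalc.ph (tr (b ≫ i)) ℓ = ℓ := by
  let F : Set (𝟙_ (Over S) ⟶ A) := {b | PicCalc.ph (tr b) ℓ = ℓ}
  let Z : Set A.left := closure (ptOf '' F)
  have hone : (1 : 𝟙_ (Over S) ⟶ A) ∈ F := by simp [F, tr, PicCalc.ph_id]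
  have hmul : ∀ b c, b ∈ F → c ∈ F → b * c ∈ F := fun b c hb hc => by
    show PicCalc.ph (tr (b * c)) ℓ = ℓ
    rw [← tr_mul, PicCalc.ph_comp, show PicCalc.ph (tr c) ℓ = ℓ from hc]
    exact hb
  have hinv : ∀ b, b ∈ F → b⁻¹ ∈ F := fun b hb => by
    show PicCalc.ph (tr b⁻¹) ℓ = ℓ
    conv_lhs => rw [← show PicCalc.ph (tr b) ℓ = ℓ from hb]
    rw [← PicCalc.ph_comp, tr_mul, inv_mul_cancel]
    simp [tr, PicCalc.ph_id]
  have hZ : IsClosed Z := isClosed_closure
  have hpt : ∀ b, ptOf b ∈ Z ↔ b ∈ F :=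
    fun b => ⟨fix_of_mem_closure ℓ b, fun h => subset_closure ⟨b, h, rfl⟩⟩
  haveI : IsLocallyNoetherian A.left := LocallyOfFiniteType.isLocallyNoetherian A.hom
  haveI : CompactSpace A.left := QuasiCompact.compactSpace_of_compactSpace A.hom
  haveI : IsNoetherian A.left := { }
  haveI : JacobsonSpace A.left := LocallyOfFiniteType.jacobsonSpace A.hom
  -- reduced irreducible subsets and their products
  let red : TopologicalSpace.Closeds A.left → Over S := fun W =>
    Over.mk ((Scheme.IdealSheafData.vanishingIdeal (X := A.left) W).subschemeι ≫ A.hom)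
  let inc : ∀ W, red W ⟶ A := fun W => Over.homMk _ rfl
  have hred : ∀ W, IsReduced (red W).left := fun W => H75.RedSub.isReduced_vanishingIdeal W
  have hinc : ∀ W, IsClosedImmersion (inc W).left := fun W =>
    inferInstanceAs (IsClosedImmersion (Scheme.IdealSheafData.subschemeι _))
  have hrange : ∀ W : TopologicalSpace.Closeds A.left, Set.range (inc W).left = W := fun W => by
    show Set.range (Scheme.IdealSheafData.vanishingIdeal W).subschemeι = _
    rw [Scheme.IdealSheafData.range_subschemeι, Scheme.IdealSheafData.coe_support_vanishingIdeal]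
  have hint : ∀ W : TopologicalSpace.Closeds A.left, IsIrreducible (W : Set A.left) → IsIntegral (red W).left := fun W hW => by
    haveI := hred W
    haveI : IrreducibleSpace ↥(red W).left := by
      haveI : IrreducibleSpace ↥(W : Set A.left) := isIrreducible_iff_irreducibleSpace.mp hW
      haveI := hinc W
      exact ((inc W).left.isEmbedding.toHomeomorph.trans (Homeomorph.setCongr (hrange W))).irreducibleSpace_iff.2
        inferInstance
    exact isIntegral_of_irreducibleSpace_of_isReduced _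
  -- the sum of two irreducible closed subsets of the kernel
  have hsum : ∀ W W' : TopologicalSpace.Closeds A.left, IsIrreducible (W : Set A.left) →
      IsIrreducible (W' : Set A.left) → (W : Set A.left) ⊆ Z → (W' : Set A.left) ⊆ Z →
      IsReduced (red W ⊗ red W').left ∧
      ∃ T : Set A.left, IsIrreducible T ∧ T ⊆ Z ∧
        Set.range ((fst (red W) (red W') ≫ inc W) * (snd (red W) (red W') ≫ inc W')).left ⊆ T ∧
        ∀ b c, ptOf b ∈ (W : Set A.left) → ptOf c ∈ (W' : Set A.left) → ptOf (b * c) ∈ T := fun W W' hW hW' hWZ hWZ' => by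
    haveI := hinc W; haveI := hinc W'; haveI := hred W; haveI := hred W'
    haveI := hint W hW; haveI := hint W' hW'
    haveI : IsProper (red W).hom := inferInstanceAs (IsProper (Scheme.IdealSheafData.subschemeι _ ≫ A.hom))
    haveI : IsProper (red W').hom := inferInstanceAs (IsProper (Scheme.IdealSheafData.subschemeι _ ≫ A.hom))
    haveI := geometricallyIntegral (red W)
    haveI := geometricallyIntegral (red W')
    haveI : Flat (red W').hom := inferInstance
    haveI : UniversallyOpen (red W').hom := UniversallyOpen.of_flat _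
    haveI : IsLocallyNoetherian (red W).left := LocallyOfFiniteType.isLocallyNoetherian (red W).hom
    haveI : IsIntegral (red W ⊗ red W').left := inferInstanceAs (IsIntegral (pullback (red W).hom (red W').hom))
    haveI : IsProper (red W ⊗ red W').hom :=
      inferInstanceAs (IsProper (pullback.fst (red W).hom (red W').hom ≫ (red W).hom))
    let mW := (fst (red W) (red W') ≫ inc W) * (snd (red W) (red W') ≫ inc W')
    have hlift : ∀ (V : TopologicalSpace.Closeds A.left) b, ptOf b ∈ (V : Set A.left) →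
        ∃ z : 𝟙_ (Over S) ⟶ red V, z ≫ inc V = b := fun V b hb => by
      haveI := hinc V
      haveI : LocallyOfFiniteType (red V).hom :=
        inferInstanceAs (LocallyOfFiniteType (Scheme.IdealSheafData.subschemeι _ ≫ A.hom))
      obtain ⟨w, hw⟩ : ptOf b ∈ Set.range (inc V).left := (hrange V).ge hb
      obtain ⟨z, hz⟩ := exists_ptOf (X := red V) (s := (inc V).left ⁻¹' {ptOf b})
        (((pointEquivClosedPoint A.hom ⟨b.left, Over.w b⟩).2).preimage (inc V).left.continuous).isLocallyClosed ⟨w, hw⟩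
      exact ⟨z, Over.OverMorphism.ext (ext_of_apply_closedPoint_eq A.hom (Over.w (_ ≫ inc V)) (Over.w b) hz)⟩
    refine ⟨inferInstance, Set.range mW.left, ?_, ?_, le_rfl, fun b c hb hc => ?_⟩
    · rw [← Set.image_univ]
      exact (IrreducibleSpace.isIrreducible_univ _).image _ mW.left.continuous.continuousOn
    · rintro _ ⟨w, rfl⟩
      by_contra hw
      obtain ⟨q, hq⟩ := exists_ptOf (X := red W ⊗ red W')
        ((hZ.isOpen_compl.preimage mW.left.continuous).isLocallyClosed) ⟨w, hw⟩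
      refine hq (show ptOf (q ≫ mW) ∈ Z from (hpt _).mpr ?_)
      have hmem : ∀ (V : TopologicalSpace.Closeds A.left), (V : Set A.left) ⊆ Z →
          ∀ z : 𝟙_ (Over S) ⟶ red V, z ≫ inc V ∈ F := fun V hV z =>
        (hpt _).mp (hV ((hrange V).le ⟨ptOf z, rfl⟩))
      simp only [mW, MonObj.comp_mul, ← Category.assoc]
      exact hmul _ _ (hmem W hWZ _) (hmem W' hWZ' _)
    · obtain ⟨z, rfl⟩ := hlift W b hb
      obtain ⟨z', rfl⟩ := hlift W' c hc
      refine ⟨ptOf (lift z z'), (Groth.Agent.Lib.GrpQ.MonoClosed.ptOf_comp _ _).trans ?_⟩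
      congr 1
      simp [mW, MonObj.comp_mul]
  -- the component through the origin
  have hirr1 : IsIrreducible ({ptOf (1 : 𝟙_ (Over S) ⟶ A)} : Set A.left) := isIrreducible_singleton
  obtain ⟨B₀, hB₀, h1B₀⟩ := exists_mem_irreducibleComponents_subset_of_isIrreducible
    (Subtype.val ⁻¹' {ptOf (1 : 𝟙_ (Over S) ⟶ A)} : Set ↥Z) (by
      rw [show (Subtype.val ⁻¹' {ptOf (1 : 𝟙_ (Over S) ⟶ A)} : Set ↥Z) = {⟨ptOf 1, (hpt 1).mpr hone⟩} by
        ext x
        simp [Subtype.ext_iff]]
      exact isIrreducible_singleton)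
  let B : TopologicalSpace.Closeds A.left := ⟨Subtype.val '' B₀,
    hZ.isClosedEmbedding_subtypeVal.isClosedMap _ (isClosed_of_mem_irreducibleComponents _ hB₀)⟩
  have hBirr : IsIrreducible (B : Set A.left) := hB₀.1.image _ continuous_subtype_val.continuousOn
  have hBZ : (B : Set A.left) ⊆ Z := by rintro _ ⟨x, -, rfl⟩; exact x.2
  have h1B : ptOf (1 : 𝟙_ (Over S) ⟶ A) ∈ (B : Set A.left) := ⟨⟨_, (hpt 1).mpr hone⟩, h1B₀ rfl, rfl⟩
  have hmax : ∀ T : Set A.left, IsIrreducible T → T ⊆ Z → (B : Set A.left) ⊆ T → T ⊆ B := fun T hT hTZ hBT => by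
    have hT' : IsIrreducible (Subtype.val ⁻¹' T : Set ↥Z) := by
      refine ⟨?_, ?_⟩
      · obtain ⟨x, hx⟩ := hT.1
        exact ⟨⟨x, hTZ hx⟩, hx⟩
      · rintro U V hU hV ⟨y, hyT, hyU⟩ ⟨z, hzT, hzV⟩
        obtain ⟨U', hU', rfl⟩ := isOpen_induced_iff.mp hU
        obtain ⟨V', hV', rfl⟩ := isOpen_induced_iff.mp hV
        obtain ⟨w, hwT, hwU, hwV⟩ := hT.2 U' V' hU' hV' ⟨y.1, hyT, hyU⟩ ⟨z.1, hzT, hzV⟩
        exact ⟨⟨w, hTZ hwT⟩, hwT, hwU, hwV⟩
    intro x hx
    exact ⟨⟨x, hTZ hx⟩, hB₀.2 hT' (fun y hy => hBT ⟨y, hy, rfl⟩) hx, rfl⟩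
  -- every irreducible subset through the origin lies in the component
  have hthrough : ∀ W : TopologicalSpace.Closeds A.left, IsIrreducible (W : Set A.left) → (W : Set A.left) ⊆ Z →
      ptOf (1 : 𝟙_ (Over S) ⟶ A) ∈ (W : Set A.left) → (W : Set A.left) ⊆ B := fun W hW hWZ h1W => by
    obtain ⟨-, T, hT, hTZ, -, hTm⟩ := hsum B W hBirr hW hBZ hWZ
    have hT' : IsIrreducible (closure T) := hT.closure
    have hTZ' : closure T ⊆ Z := closure_minimal hTZ hZ
    have hsub : ∀ V : TopologicalSpace.Closeds A.left, (∀ b, ptOf b ∈ (V : Set A.left) → ptOf b ∈ T) → (V : Set A.left) ⊆ closure T :=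
      fun V hV x hx => by
        by_contra hxT
        obtain ⟨b, hb, hb'⟩ := exists_ptOf (X := A)
          (V.isClosed.isLocallyClosed.inter isClosed_closure.isOpen_compl.isLocallyClosed) ⟨x, hx, hxT⟩
        exact hb' (subset_closure (hV b hb))
    have hBT : (B : Set A.left) ⊆ closure T := hsub B fun b hb => by
      have := hTm b 1 hb h1W
      rwa [_root_.mul_one] at this
    exact fun x hx => hmax _ hT' hTZ' hBT (hsub W (fun c hc => by
      have := hTm 1 c h1B hc
      rwa [_root_.one_mul] at this) hx)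
  -- the component is a subgroup
  haveI := hinc B; haveI := hred B; haveI := hint B hBirr
  haveI : IsProper (red B).hom := inferInstanceAs (IsProper (Scheme.IdealSheafData.subschemeι _ ≫ A.hom))
  have hGI := geometricallyIntegral (red B)
  haveI : Mono (inc B).left := inferInstance
  haveI : Mono (inc B) := Over.mono_of_mono_left _
  have hfac : ∀ {T : Over S} (x : T ⟶ A), IsReduced T.left → Set.range x.left ⊆ (B : Set A.left) →
      ∃ y, y ≫ inc B = x := fun {T} x hT hx => by
    have H : (inc B).left.ker ≤ x.left.ker := by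
      rw [show (inc B).left.ker = Scheme.IdealSheafData.vanishingIdeal B from
        Scheme.IdealSheafData.ker_subschemeι _]
      refine Scheme.IdealSheafData.le_ofIdeals_iff.2 fun U c hc => RingHom.mem_ker.2 ?_
      refine (basicOpen_eq_bot_iff ((x.left.app U.1).hom c)).mp (le_bot_iff.mp fun t ht => ?_)
      have hts : x.left t ∈ A.left.basicOpen c := by
        rw [← Scheme.preimage_basicOpen] at ht
        exact ht
      have htU : x.left t ∈ U.1 := A.left.basicOpen_le c hts
      rw [Scheme.IdealSheafData.vanishingIdeal_ideal] at hc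
      have hmem := (PrimeSpectrum.mem_vanishingIdeal _ _).1 hc (U.2.primeIdealOf ⟨_, htU⟩)
        (show U.2.fromSpec _ ∈ (B : Set A.left) by rw [U.2.fromSpec_primeIdealOf]; exact hx ⟨t, rfl⟩)
      exact absurd hmem ((Groth.Agent.Lib.Ideal.EffCartier.mem_basicOpen_iff_notMem_prime U.2 htU c).mp hts)
    refine ⟨Over.homMk (IsClosedImmersion.lift (inc B).left x.left H) ?_, Over.OverMorphism.ext ?_⟩
    · rw [← Over.w (inc B), IsClosedImmersion.lift_fac_assoc, Over.w]
    · exact IsClosedImmersion.lift_fac _ _ _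
  obtain ⟨hredBB, T, hT, hTZ, hTr, hTm⟩ := hsum B B hBirr hBirr hBZ hBZ
  have hjac : ∀ {X : Over S} [LocallyOfFiniteType X.hom] (f : X ⟶ A),
      (∀ q : 𝟙_ (Over S) ⟶ X, ptOf (q ≫ f) ∈ (B : Set A.left)) → Set.range f.left ⊆ (B : Set A.left) := by
    intro X _ f h
    rintro _ ⟨w, rfl⟩
    by_contra hw
    obtain ⟨q, hq⟩ := exists_ptOf (X := X) ((B.isClosed.isOpen_compl.preimage f.left.continuous).isLocallyClosed) ⟨w, hw⟩
    exact hq (h q)
  have hiota : Set.range (inc B)⁻¹.left ⊆ (B : Set A.left) := by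
    haveI : IsIso (ι[A] : A ⟶ A).left := inferInstanceAs (IsIso ((Over.forget S).map ι[A]))
    rw [Hom.inv_def, Over.comp_left]
    let V : TopologicalSpace.Closeds A.left := ⟨(ι[A] : A ⟶ A).left '' B,
      (Scheme.homeoOfIso (asIso (ι[A] : A ⟶ A).left)).isClosedMap _ B.isClosed⟩
    have hVZ : (V : Set A.left) ⊆ Z := by
      rintro _ ⟨x, hx, rfl⟩
      by_contra hx'
      obtain ⟨b, hb, hb'⟩ := exists_ptOf (X := A)
        (B.isClosed.isLocallyClosed.inter (hZ.isOpen_compl.preimage (ι[A] : A ⟶ A).left.continuous).isLocallyClosed)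
        ⟨x, hx, hx'⟩
      refine hb' (show (ι[A] : A ⟶ A).left (ptOf b) ∈ Z from ?_)
      rw [Groth.Agent.Lib.GrpQ.MonoClosed.ptOf_comp, ← Hom.inv_def]
      exact (hpt _).mpr (hinv b ((hpt b).mp (hBZ hb)))
    have h1V : ptOf (1 : 𝟙_ (Over S) ⟶ A) ∈ (V : Set A.left) :=
      ⟨_, h1B, by rw [Groth.Agent.Lib.GrpQ.MonoClosed.ptOf_comp, ← Hom.inv_def, inv_one]⟩
    rintro _ ⟨w, rfl⟩
    exact hthrough V (hBirr.image _ (ι[A] : A ⟶ A).left.continuous.continuousOn) hVZ h1V
      ⟨_, (hrange B).le ⟨w, rfl⟩, rfl⟩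
  have hTB : T ⊆ (B : Set A.left) := by
    have hBT : (B : Set A.left) ⊆ closure T := fun x hx => by
      by_contra hxT
      obtain ⟨b, hb, hb'⟩ := exists_ptOf (X := A)
        (B.isClosed.isLocallyClosed.inter isClosed_closure.isOpen_compl.isLocallyClosed) ⟨x, hx, hxT⟩
      have := hTm b 1 hb h1B
      rw [_root_.mul_one] at this
      exact hb' (subset_closure this)
    exact subset_closure.trans (hmax _ hT.closure (closure_minimal hTZ hZ) hBT)
  obtain ⟨hG, hmon⟩ := Groth.Agent.Lib.GrpQ.InfSub.exists_grpObj_of_mono (inc B)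
    (hfac _ (inferInstanceAs (IsReduced (Spec (CommRingCat.of K)))) (by
      rintro _ ⟨w, rfl⟩
      have e : (η[A] : 𝟙_ (Over S) ⟶ A) = 1 := by
        rw [Hom.one_def, toUnit_unique (toUnit _) (𝟙 _), Category.id_comp]
      have hw : w = IsLocalRing.closedPoint K := @Subsingleton.elim _ (inferInstanceAs (Subsingleton (PrimeSpectrum K))) _ _
      rw [hw, e]
      exact h1B))
    (hfac _ hredBB (hTr.trans hTB))
    (hfac _ inferInstance hiota)
  refine ⟨red B, hG, inc B, hGI, hmon, hinc B, fun hsub => ?_,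
    fun b => (hpt _).mp (hBZ ((hrange B).le ⟨ptOf b, rfl⟩))⟩
  apply hinf
  have hBeq : (B : Set A.left) = {ptOf (1 : 𝟙_ (Over S) ⟶ A)} := by
    refine Set.eq_singleton_iff_unique_mem.mpr ⟨h1B, fun x hx => ?_⟩
    obtain ⟨w, rfl⟩ := (hrange B).ge hx
    obtain ⟨w', hw'⟩ := (hrange B).ge h1B
    rw [Subsingleton.elim w w', hw']
  haveI : TopologicalSpace.NoetherianSpace ↥Z :=
    (Topology.IsInducing.subtypeVal : Topology.IsInducing (Subtype.val : ↥Z → A.left)).noetherianSpace
  have hfinC : (irreducibleComponents ↥Z).Finite := TopologicalSpace.NoetherianSpace.finite_irreducibleComponents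
  -- each component has only one rational point
  refine Set.Finite.of_finite_image (f := ptOf) ?_ (fun b _ c _ h => Over.OverMorphism.ext
    (ext_of_apply_closedPoint_eq A.hom (Over.w b) (Over.w c) h))
  have hsing : ∀ C ∈ irreducibleComponents ↥Z,
      Set.Subsingleton ((Subtype.val '' C) ∩ ptOf '' F) := fun C hC => by
    rintro _ ⟨hb1, b, hb, rfl⟩ _ ⟨hc1, c, hc, rfl⟩
    let W : TopologicalSpace.Closeds A.left := ⟨Subtype.val '' C,
      hZ.isClosedEmbedding_subtypeVal.isClosedMap _ (isClosed_of_mem_irreducibleComponents _ hC)⟩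
    have hW : IsIrreducible (W : Set A.left) := hC.1.image _ continuous_subtype_val.continuousOn
    have hWZ : (W : Set A.left) ⊆ Z := by rintro _ ⟨x, -, rfl⟩; exact x.2
    haveI : IsIso (tr b⁻¹).left := inferInstanceAs (IsIso ((Over.forget S).map (tr b⁻¹)))
    let V : TopologicalSpace.Closeds A.left := ⟨(tr b⁻¹).left '' W,
      (Scheme.homeoOfIso (asIso (tr b⁻¹).left)).isClosedMap _ W.isClosed⟩
    have hVZ : (V : Set A.left) ⊆ Z := by
      rintro _ ⟨x, hx, rfl⟩
      by_contra hx'
      obtain ⟨q, hq, hq'⟩ := exists_ptOf (X := A)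
        (W.isClosed.isLocallyClosed.inter (hZ.isOpen_compl.preimage (tr b⁻¹).left.continuous).isLocallyClosed)
        ⟨x, hx, hx'⟩
      refine hq' (show (tr b⁻¹).left (ptOf q) ∈ Z from ?_)
      rw [ptOf_tr]
      exact (hpt _).mpr (hmul _ _ ((hpt q).mp (hWZ hq)) (hinv b hb))
    have h1V : ptOf (1 : 𝟙_ (Over S) ⟶ A) ∈ (V : Set A.left) :=
      ⟨ptOf b, hb1, by rw [ptOf_tr, mul_inv_cancel]⟩
    have hcV : ptOf (c * b⁻¹) ∈ (B : Set A.left) :=
      hthrough V (hW.image _ (tr b⁻¹).left.continuous.continuousOn) hVZ h1V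
        ⟨ptOf c, hc1, ptOf_tr c b⁻¹⟩
    rw [hBeq, Set.mem_singleton_iff] at hcV
    have hcb : c * b⁻¹ = 1 :=
      Over.OverMorphism.ext (ext_of_apply_closedPoint_eq A.hom (Over.w _) (Over.w _) hcV)
    rw [mul_inv_eq_one.mp hcb]
  refine ((hfinC.biUnion fun C hC => (hsing C hC).finite).subset ?_)
  rintro _ ⟨b, hb, rfl⟩
  obtain ⟨C, hC, hbC⟩ := exists_mem_irreducibleComponents_subset_of_isIrreducible
    ({⟨ptOf b, (hpt b).mpr hb⟩} : Set ↥Z) isIrreducible_singleton
  exact Set.mem_biUnion hC ⟨⟨_, hbC rfl, rfl⟩, b, hb, rfl⟩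

/-- On a simple abelian variety a degenerate class is invariant. -/
theorem inv_of_infinite
    (hsimple : ∀ (B : Over S) [GrpObj B] [GeometricallyIntegral B.hom] (i : B ⟶ A) [IsMonHom i]
      [IsClosedImmersion i.left], Subsingleton ↥B.left ∨ IsIso i)
    (ℓ : PicLoc.PicSet A.left) (hinf : ¬ Set.Finite {b : 𝟙_ (Over S) ⟶ A | PicCalc.ph (tr b) ℓ = ℓ})
    (a : 𝟙_ (Over S) ⟶ A) : PicCalc.ph (tr a) ℓ = ℓ := by
  obtain ⟨B, hG, i, hGI, hmon, hi, hns, hfix⟩ := exists_sub ℓ hinf
  rcases @hsimple B hG hGI i hmon hi with hsub | hiso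
  · exact absurd hsub hns
  · haveI := hiso
    have h := hfix (a ≫ inv i)
    rwa [Category.assoc, IsIso.inv_hom_id, Category.comp_id] at h

end

end Groth.Agent.H52.SimpleAmple
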