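import Groth.Agent.H52.AcycCx
import Groth.Agent.Lib.ExtHH.SheafHom
import Groth.Agent.H30.RightAcyc

/-!
# Ext sheaves from resolutions in the first variable
-/

set_option autoImplicit false
set_option linter.style.haveILetI false
universe u

open CategoryTheory Limits AlgebraicGeometry

namespace Groth.Agent.H52.ExtResolve

section Site

variable {C : Type u} [SmallCategory C] {J : GrothendieckTopology C} {O : Sheaf J CommRingCat.{u}}
  {M N L : ModSite.Mod O} [ModSite.HasSheafHom M] [ModSite.HasSheafHom N] [ModSite.HasSheafHom L]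

lemma sheafHomMap_comp (a : M ⟶ N) (b : N ⟶ L) :
    ExtSupp.sheafHomMap (a ≫ b) = ExtSupp.sheafHomMap b ≫ ExtSupp.sheafHomMap a := by
  rw [ExtSupp.sheafHomMap, Functor.map_comp]
  exact (conjugateEquiv_comp (ModSite.sheafHomAdj L) (ModSite.sheafHomAdj N) (ModSite.sheafHomAdj M)
    ((ModSite.tensorBi O).flip.map b) ((ModSite.tensorBi O).flip.map a)).symm

lemma sheafHomMap_zero_app (Z : ModSite.Mod O) : (ExtSupp.sheafHomMap (0 : M ⟶ N)).app Z = 0 := by
  apply ((ModSite.sheafHomAdj M).homEquiv _ Z).symm.injective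
  let W := (ModSite.sheafHom N).obj Z
  haveI : ((ModSite.tensorBi O).obj W).PreservesZeroMorphisms :=
    Functor.preservesZeroMorphisms_of_preserves_initial_object
  haveI : ((ModSite.tensorBi O).flip.obj M).PreservesZeroMorphisms :=
    Functor.preservesZeroMorphisms_of_preserves_initial_object
  conv_lhs => rw [← Category.id_comp ((ExtSupp.sheafHomMap (0 : M ⟶ N)).app Z)]
  rw [HomInj.homEquiv_symm_comp, Adjunction.homEquiv_counit, Adjunction.homEquiv_counit]
  simp only [Functor.map_zero, zero_comp]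

end Site

variable {X Y : Scheme.{u}} (P : X.Modules ⥤ Y.Modules)

instance hasSheafHom' (M : X.Modules) : ModSite.HasSheafHom (O := X.sheaf) M :=
  Groth.Agent.Lib.ModTensor.ModSite.hasSheafHom M

/-- `P ∘ Hom(M, -)`. -/
noncomputable abbrev T (M : X.Modules) : X.Modules ⥤ Y.Modules :=
  ModSite.sheafHom (O := X.sheaf) M ⋙ P

/-- Contravariance. -/
noncomputable abbrev tm {M N : X.Modules} (a : M ⟶ N) : T P N ⟶ T P M :=
  Functor.whiskerRight (ExtSupp.sheafHomMap (O := X.sheaf) a) P

lemma tm_comp {M N L : X.Modules} (a : M ⟶ N) (b : N ⟶ L) : tm P (a ≫ b) = tm P b ≫ tm P a := by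
  refine NatTrans.ext (funext fun Z => ?_)
  refine Eq.trans ?_ (P.map_comp _ _)
  exact congrArg (fun t => P.map (NatTrans.app t Z)) (sheafHomMap_comp (O := X.sheaf) a b)

variable [P.IsRightAdjoint] [P.Additive]

instance preservesFiniteLimits_P : PreservesFiniteLimits P :=
  haveI : PreservesLimitsOfSize.{0, 0} P := (Adjunction.ofIsRightAdjoint P).rightAdjoint_preservesLimits
  PreservesLimitsOfSize.preservesFiniteLimits _

lemma preservesFiniteLimits_T (M : X.Modules) : PreservesFiniteLimits (T P M) :=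
  haveI : PreservesLimitsOfSize.{0, 0} (T P M) :=
    ((Adjunction.ofIsRightAdjoint P).comp (ModSite.sheafHomAdj (O := X.sheaf) M)).rightAdjoint_preservesLimits
  PreservesLimitsOfSize.preservesFiniteLimits _

omit [P.IsRightAdjoint] in
lemma tm_zero (M N : X.Modules) (Z : X.Modules) : (tm P (0 : M ⟶ N)).app Z = 0 := by
  exact (congrArg P.map (sheafHomMap_zero_app (O := X.sheaf) (M := M) (N := N) Z)).trans
    (Functor.map_zero P _ _)

lemma tm_comp_zero {M N L : X.Modules} (a : M ⟶ N) (b : N ⟶ L) (h : a ≫ b = 0) :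
    tm P b ≫ tm P a = 0 := by
  rw [← tm_comp, h]
  exact NatTrans.ext (funext fun Z => tm_zero P M L Z)

/-- For a short exact sequence and an injective module. -/
lemma shortExact_T (hepi : ∀ {A B : X.Modules} (φ : A ⟶ B),
    (∀ U : X.Opens, Function.Surjective (φ.app U)) → Epi (P.map φ))
    {S : ShortComplex X.Modules} (hS : S.ShortExact) (I : X.Modules) [Injective I] :
    (ShortComplex.mk ((tm P S.g).app I) ((tm P S.f).app I)
      (by rw [← NatTrans.comp_app, tm_comp_zero P _ _ S.zero]; rfl)).ShortExact := by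
  haveI : Injective (C := ModSite.Mod X.sheaf) I := ‹_›
  obtain ⟨hex, hmono⟩ := HomInj.exact_mono (O := X.sheaf) (S := S) hS I
  let a : (show X.Modules from (ModSite.sheafHom (O := X.sheaf) S.X₃).obj I) ⟶
      (show X.Modules from (ModSite.sheafHom (O := X.sheaf) S.X₂).obj I) :=
    (ExtSupp.sheafHomMap (O := X.sheaf) S.g).app I
  let b : (show X.Modules from (ModSite.sheafHom (O := X.sheaf) S.X₂).obj I) ⟶
      (show X.Modules from (ModSite.sheafHom (O := X.sheaf) S.X₁).obj I) :=
    (ExtSupp.sheafHomMap (O := X.sheaf) S.f).app I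
  have hab : a ≫ b = 0 := HomInj.map_comp_eq_zero (O := X.sheaf) S I
  have hex' : (ShortComplex.mk a b hab).Exact := hex
  haveI hma : Mono a := hmono
  refine { exact := hex'.map_of_mono_of_preservesKernel P hma inferInstance,
           mono_f := inferInstanceAs (Mono (P.map a)), epi_g := ?_ }
  exact hepi b fun U => HomInj.surjective_sections (O := X.sheaf) (S := S) hS I (Opposite.op U)

variable (hepi : ∀ {A B : X.Modules} (φ : A ⟶ B),
    (∀ U : X.Opens, Function.Surjective (φ.app U)) → Epi (P.map φ))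

include hepi

lemma mono_tm_of_epi {M N : X.Modules} (p : M ⟶ N) [Epi p] (I : X.Modules) [Injective I] :
    Mono ((tm P p).app I) :=
  (shortExact_T P hepi (S := ShortComplex.mk (kernel.ι p) p (kernel.condition p))
    { exact := ShortComplex.exact_of_f_is_kernel _ (kernelIsKernel p) } I).mono_f

lemma epi_tm_of_mono {M N : X.Modules} (m : M ⟶ N) [Mono m] (I : X.Modules) [Injective I] :
    Epi ((tm P m).app I) :=
  (shortExact_T P hepi (S := ShortComplex.mk m (cokernel.π m) (cokernel.condition m))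
    { exact := ShortComplex.exact_of_g_is_cokernel _ (cokernelIsCokernel m) } I).epi_g

/-- An exact sequence gives an exact sequence on injective modules. -/
lemma exists_lift (S : ShortComplex X.Modules) (hS : S.Exact) (I : X.Modules) [Injective I]
    {W : Y.Modules} (x : W ⟶ (T P S.X₂).obj I) (hx : x ≫ (tm P S.f).app I = 0) :
    ∃ (W' : Y.Modules) (π : W' ⟶ W) (_ : Epi π) (y : W' ⟶ (T P S.X₃).obj I),
      π ≫ x = y ≫ (tm P S.g).app I := by
  let p := kernel.lift S.g S.f S.zero
  haveI : Epi p := hS.epi_kernelLift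
  haveI := mono_tm_of_epi P hepi p I
  have hf : tm P S.f = tm P (kernel.ι S.g) ≫ tm P p := by rw [← tm_comp, kernel.lift_ι]
  have hx' : x ≫ (tm P (kernel.ι S.g)).app I = 0 := by
    rw [← cancel_mono ((tm P p).app I), zero_comp, Category.assoc, ← NatTrans.comp_app, ← hf]
    exact hx
  have hw : kernel.ι S.g ≫ Abelian.factorThruImage S.g = 0 := by
    rw [← cancel_mono (Abelian.image.ι S.g), Category.assoc, Abelian.image.fac, kernel.condition,
      zero_comp]
  have h1 : (ShortComplex.mk (kernel.ι S.g) (Abelian.factorThruImage S.g) hw).ShortExact :=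
    { exact := by
        refine ShortComplex.exact_of_f_is_kernel _ (KernelFork.IsLimit.ofι' _ _ fun {Z} k hk => ?_)
        exact ⟨kernel.lift S.g k (by rw [← Abelian.image.fac S.g, reassoc_of% hk, zero_comp]),
          kernel.lift_ι _ _ _⟩ }
  have hex := (shortExact_T P hepi h1 I).exact
  rw [ShortComplex.exact_iff_exact_up_to_refinements] at hex
  obtain ⟨W₁, π₁, hπ₁, z, hz⟩ := hex x hx'
  haveI := epi_tm_of_mono P hepi (Abelian.image.ι S.g) I
  obtain ⟨W₂, π₂, hπ₂, y, hy⟩ :=
    surjective_up_to_refinements_of_epi ((tm P (Abelian.image.ι S.g)).app I) z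
  refine ⟨W₂, π₂ ≫ π₁, epi_comp _ _, y, ?_⟩
  dsimp only at hz
  rw [Category.assoc, hz, reassoc_of% hy, ← NatTrans.comp_app, ← tm_comp, Abelian.image.fac]

variable {F : X.Modules} (L : ChainComplex X.Modules ℕ) (ε : L.X 0 ⟶ F) [Epi ε] (hε : L.d 1 0 ≫ ε = 0)
    (hex0 : (ShortComplex.mk (L.d 1 0) ε hε).Exact) (hex : ∀ j : ℕ, L.ExactAt (j + 1))
    [HasInjectiveResolutions (ModSite.Mod X.sheaf)]

include hex0 hex

theorem nonempty_homology_iso [∀ j, (T P (L.X j)).Additive] [(T P F).Additive] (G : X.Modules)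
    (hL : ∀ j n, IsZero (((T P (L.X j)).rightDerived (n + 1)).obj G))
    (C : CochainComplex Y.Modules ℕ) (e : ∀ j, C.X j ≅ (T P (L.X j)).obj G)
    (hC : ∀ j, C.d j (j + 1) ≫ (e (j + 1)).hom = (e j).hom ≫ (tm P (L.d (j + 1) j)).app G) (i : ℕ) :
    Nonempty (C.homology i ≅ ((T P F).rightDerived i).obj G) := by
  haveI : HasInjectiveResolutions X.Modules := ‹HasInjectiveResolutions (ModSite.Mod X.sheaf)›
  haveI : ∀ j, PreservesFiniteLimits (T P (L.X j)) := fun j => preservesFiniteLimits_T P _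
  let τ : ∀ j, T P (L.X j) ⟶ T P (L.X (j + 1)) := fun j => tm P (L.d (j + 1) j)
  have hτ : ∀ j, τ j ≫ τ (j + 1) = 0 := fun j => tm_comp_zero P _ _ (L.d_comp_d _ _ _)
  have hexI : ∀ (j : ℕ) (I : X.Modules), Injective I →
      ∀ {W : Y.Modules} (x : W ⟶ (T P (L.X (j + 1))).obj I), x ≫ (τ (j + 1)).app I = 0 →
        ∃ (W' : Y.Modules) (π : W' ⟶ W) (_ : Epi π) (y : W' ⟶ (T P (L.X j)).obj I),
          π ≫ x = y ≫ (τ j).app I := fun j I hI W x hx =>
    exists_lift P hepi (L.sc' (j + 2) (j + 1) j)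
      ((L.exactAt_iff' (j + 2) (j + 1) j (by simp) (by simp)).1 (hex j)) I x hx
  obtain ⟨e₁⟩ := AcycCx.nonempty_homology_iso (fun j => T P (L.X j)) τ hτ hexI G hL C e hC i
  let α : T P F ⟶ AcycCx.Z (fun j => T P (L.X j)) τ 0 :=
    kernel.lift _ (tm P ε) (tm_comp_zero P _ _ hε)
  have hα : ∀ I : X.Modules, Injective I → IsIso (α.app I) := fun I hI => by
    have e : α.app I ≫ (kernel.ι (τ 0)).app I = (tm P ε).app I := by
      rw [← NatTrans.comp_app, kernel.lift_ι]
    haveI : Mono (α.app I) :=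
      haveI : Mono (α.app I ≫ (kernel.ι (τ 0)).app I) := by
        rw [e]; exact mono_tm_of_epi P hepi ε I
      mono_of_mono _ ((kernel.ι (τ 0)).app I)
    haveI : Epi (α.app I) := by
      rw [epi_iff_surjective_up_to_refinements]
      intro W x
      have h0 : (x ≫ (kernel.ι (τ 0)).app I) ≫ (tm P (L.d 1 0)).app I = 0 := by
        rw [Category.assoc]
        exact (congrArg (x ≫ ·) (congrArg (fun t => t.app I) (kernel.condition (τ 0)))).trans comp_zero
      obtain ⟨W', π, hπ, y, hy⟩ := exists_lift P hepi (ShortComplex.mk (L.d 1 0) ε hε) hex0 I _ h0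
      refine ⟨W', π, hπ, y, ?_⟩
      rw [← cancel_mono ((kernel.ι (τ 0)).app I), Category.assoc, Category.assoc, e]
      exact hy
    exact isIso_of_mono_of_epi _
  let R := injectiveResolution G
  haveI : ∀ n, IsIso (α.app (R.cocomplex.X n)) := fun n => hα _ (R.injective n)
  haveI : ∀ n, IsIso (((NatTrans.mapHomologicalComplex α (ComplexShape.up ℕ)).app R.cocomplex).f n) :=
    fun n => hα _ (R.injective n)
  haveI : IsIso ((NatTrans.mapHomologicalComplex α (ComplexShape.up ℕ)).app R.cocomplex) :=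
    HomologicalComplex.Hom.isIso_of_components _
  haveI : IsIso ((NatTrans.rightDerived α i).app G) := by
    rw [InjectiveResolution.rightDerived_app_eq α R i]
    infer_instance
  exact ⟨e₁ ≪≫ (asIso ((NatTrans.rightDerived α i).app G)).symm⟩

end Groth.Agent.H52.ExtResolve

namespace Groth.Agent.H52.ExtResolve

open Groth.Agent.Lib.ModTensor.ModSite in
theorem isZero_rightDerived_locFree {X : Scheme.{u}} {A : X.Modules} (hA : FlatMod.IsFinLocFree A)
    [HasInjectiveResolutions (ModSite.Mod X.sheaf)]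
    [instAdd : (ModSite.sheafHom (O := X.sheaf) A ⋙ 𝟭 X.Modules).Additive] (G : X.Modules) (n : ℕ) :
    IsZero (((ModSite.sheafHom (O := X.sheaf) A ⋙ 𝟭 X.Modules).rightDerived (n + 1)).obj G) := by
  haveI : HasInjectiveResolutions X.Modules := ‹HasInjectiveResolutions (ModSite.Mod X.sheaf)›
  let L : X.Modules ⥤ X.Modules := (DCoh.tensorBi (X := X)).obj A
  let R : X.Modules ⥤ X.Modules := ModSite.sheafHom (O := X.sheaf) A
  let adj : L ⊣ R := (ModSite.sheafHomAdj (O := X.sheaf) A).ofNatIsoLeft (flipObjIso (O := X.sheaf) A)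
  haveI : DCoh.HasSheafHom A := adj.isLeftAdjoint
  let e : R ≅ DCoh.sheafHom A := Adjunction.rightAdjointUniq adj (DCoh.sheafHomAdj A)
  haveI := preservesFiniteLimits_T (𝟭 X.Modules) A
  haveI : (T (𝟭 X.Modules) A).Additive := instAdd
  refine H30.RightAcyc.isZero_rightDerived (injectiveResolution G) (T (𝟭 X.Modules) A) n ?_
  haveI := (Groth.Agent.Lib.EtJ.RightAcyclic.seq_shortExact (injectiveResolution G) n).epi_g
  haveI : Epi ((DCoh.sheafHom A).map
      (Groth.Agent.Lib.EtJ.RightAcyclic.seq (injectiveResolution G) n).g) :=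
    Groth.Agent.Lib.ExtHH.SheafHom.epi_map hA _
  exact ((MorphismProperty.epimorphisms X.Modules).arrow_mk_iso_iff
    (Arrow.isoMk (e.app _) (e.app _) (e.hom.naturality _).symm)).2 ‹_›

theorem epi_map_of_surjective {X Y : Scheme.{u}} (f : X ⟶ Y) {A B : X.Modules} (φ : A ⟶ B)
    (h : ∀ U : X.Opens, Function.Surjective (φ.app U)) : Epi ((Scheme.Modules.pushforward f).map φ) :=
  Groth.Agent.Lib.ClSub.Basis.epi_of_surjective_affine (φ := (Scheme.Modules.pushforward f).map φ)
    fun _ => h _

theorem epi_id_map_of_surjective {X : Scheme.{u}} {A B : X.Modules} (φ : A ⟶ B)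
    (h : ∀ U : X.Opens, Function.Surjective (φ.app U)) : Epi ((𝟭 X.Modules).map φ) :=
  Groth.Agent.Lib.ClSub.Basis.epi_of_surjective_affine (φ := φ) fun _ => h _

end Groth.Agent.H52.ExtResolve
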