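import Groth.Agent.H52.HomInj
import Groth.Agent.Lib.ClSub.Basis

/-!
# Long exact sequence of relative Ext sheaves in the first variable
-/

set_option autoImplicit false
set_option linter.style.haveILetI false
universe v v' u u'

open CategoryTheory Limits

namespace Groth.Agent.H52.RelExtLES

section

variable {C : Type u} [Category.{v} C] [Abelian C] [HasInjectiveResolutions C]
  {D : Type u'} [Category.{v'} D] [Abelian D] {G H K : C ⥤ D} [G.Additive] [H.Additive] [K.Additive]
  (f : G ⟶ H) (g : H ⟶ K) (w : ∀ Z : C, f.app Z ≫ g.app Z = 0)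
  (hS : ∀ I : C, Injective I → (ShortComplex.mk (f.app I) (g.app I) (w I)).ShortExact)

open Groth.Agent.H30.DerivedSES

include hS

lemma exact₂ (n : ℕ) (Z : C) :
    ∃ h : (NatTrans.rightDerived f n).app Z ≫ (NatTrans.rightDerived g n).app Z = 0,
      (ShortComplex.mk _ _ h).Exact := by
  let P := injectiveResolution Z
  have hc := cx_shortExact f g w hS P
  have h : (NatTrans.rightDerived f n).app Z ≫ (NatTrans.rightDerived g n).app Z = 0 := by
    rw [InjectiveResolution.rightDerived_app_eq f P n, InjectiveResolution.rightDerived_app_eq g P n]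
    simp only [Category.assoc, Iso.inv_hom_id_assoc]
    refine (congrArg _ ((Category.assoc _ _ _).symm.trans ((congrArg (· ≫ _)
      (((HomologicalComplex.homologyFunctor D (ComplexShape.up ℕ) n).map_comp _ _).symm.trans
        ((congrArg _ (cx f g w P.cocomplex).zero).trans (Functor.map_zero _ _ _)))).trans zero_comp))).trans
      comp_zero
  refine ⟨h, ShortComplex.exact_of_iso ?_ (hc.homology_exact₂ n)⟩
  refine ShortComplex.isoMk (P.isoRightDerivedObj G n).symm (P.isoRightDerivedObj H n).symm
    (P.isoRightDerivedObj K n).symm ?_ ?_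
  · simp only [Iso.symm_hom]
    rw [InjectiveResolution.rightDerived_app_eq f P n]
    exact Iso.inv_hom_id_assoc _ _
  · simp only [Iso.symm_hom]
    rw [InjectiveResolution.rightDerived_app_eq g P n]
    exact Iso.inv_hom_id_assoc _ _

lemma exact₁ (n : ℕ) (Z : C) :
    ∃ h : (δ f g w hS n).app Z ≫ (NatTrans.rightDerived f (n + 1)).app Z = 0,
      (ShortComplex.mk _ _ h).Exact := by
  let P := injectiveResolution Z
  have hc := cx_shortExact f g w hS P
  have h : (δ f g w hS n).app Z ≫ (NatTrans.rightDerived f (n + 1)).app Z = 0 := by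
    rw [InjectiveResolution.rightDerived_app_eq f P (n + 1)]
    simp only [δ, δApp, Category.assoc, P]
    refine (congrArg _ (congrArg _ (Iso.inv_hom_id_assoc _ _))).trans ?_
    refine (congrArg _ ((Category.assoc _ _ _).symm.trans ((congrArg (· ≫ _)
      (hc.δ_comp n (n + 1) rfl)).trans zero_comp))).trans comp_zero
  refine ⟨h, ShortComplex.exact_of_iso ?_ (hc.homology_exact₁ n (n + 1) rfl)⟩
  refine ShortComplex.isoMk (P.isoRightDerivedObj K n).symm (P.isoRightDerivedObj G (n + 1)).symm
    (P.isoRightDerivedObj H (n + 1)).symm ?_ ?_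
  · simp only [Iso.symm_hom, δ, δApp, P]
    exact Iso.inv_hom_id_assoc _ _
  · simp only [Iso.symm_hom]
    rw [InjectiveResolution.rightDerived_app_eq f P (n + 1)]
    exact Iso.inv_hom_id_assoc _ _

lemma mono₀ (Z : C) : Mono ((NatTrans.rightDerived f 0).app Z) := by
  let P := injectiveResolution Z
  have hc := cx_shortExact f g w hS P
  haveI := hc.mono_f
  rw [InjectiveResolution.rightDerived_app_eq f P 0]
  have hm : Mono (HomologicalComplex.homologyMap (cx f g w P.cocomplex).f 0) :=
    HomologicalComplex.mono_homologyMap_of_mono_of_not_rel _ 0 (fun j h => Nat.succ_ne_zero j h)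
  have key : ∀ {A B A' B' : D} (i : A ≅ A') (j : B ≅ B') (m : A' ⟶ B'), Mono m → Mono (i.hom ≫ m ≫ j.inv) :=
    fun i j m hm => inferInstance
  exact key _ _ _ hm

end

open AlgebraicGeometry Opposite in
theorem shortExact_pushforward {X Y : Scheme.{u}} (f : X ⟶ Y) {S : ShortComplex X.Modules}
    [ModSite.HasSheafHom (O := X.sheaf) S.X₁] [ModSite.HasSheafHom (O := X.sheaf) S.X₂]
    [ModSite.HasSheafHom (O := X.sheaf) S.X₃] (hS : S.ShortExact) (I : X.Modules) [Injective I]
    (w : (Functor.whiskerRight (ExtSupp.sheafHomMap (O := X.sheaf) S.g) (Scheme.Modules.pushforward f)).app I ≫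
      (Functor.whiskerRight (ExtSupp.sheafHomMap (O := X.sheaf) S.f) (Scheme.Modules.pushforward f)).app I = 0) :
    (ShortComplex.mk _ _ w).ShortExact := by
  haveI : Injective (C := ModSite.Mod X.sheaf) I := ‹_›
  obtain ⟨hex, hmono⟩ := HomInj.exact_mono (O := X.sheaf) (S := S) hS I
  let a : (show X.Modules from (ModSite.sheafHom (O := X.sheaf) S.X₃).obj I) ⟶
      (show X.Modules from (ModSite.sheafHom (O := X.sheaf) S.X₂).obj I) :=
    (ExtSupp.sheafHomMap (O := X.sheaf) S.g).app I
  let b : (show X.Modules from (ModSite.sheafHom (O := X.sheaf) S.X₂).obj I) ⟶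
      (show X.Modules from (ModSite.sheafHom (O := X.sheaf) S.X₁).obj I) :=
    (ExtSupp.sheafHomMap (O := X.sheaf) S.f).app I
  have hab : a ≫ b = 0 := HomInj.map_comp_eq_zero (O := X.sheaf) S I
  have hex' : (ShortComplex.mk a b hab).Exact := hex
  haveI hma : Mono a := hmono
  haveI : (Scheme.Modules.pushforward f).IsRightAdjoint :=
    (Scheme.Modules.pullbackPushforwardAdjunction f).isRightAdjoint
  haveI : PreservesLimitsOfSize.{0, 0} (Scheme.Modules.pushforward f) :=
    (Scheme.Modules.pullbackPushforwardAdjunction f).rightAdjoint_preservesLimits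
  haveI : PreservesFiniteLimits (Scheme.Modules.pushforward f) :=
    PreservesLimitsOfSize.preservesFiniteLimits _
  refine { exact := hex'.map_of_mono_of_preservesKernel (Scheme.Modules.pushforward f) hma inferInstance,
           mono_f := inferInstanceAs (Mono ((Scheme.Modules.pushforward f).map a)), epi_g := ?_ }
  refine Lib.ClSub.Basis.epi_of_surjective_affine (φ := (Scheme.Modules.pushforward f).map b) fun U => ?_
  exact HomInj.surjective_sections (O := X.sheaf) (S := S) hS I (op (f ⁻¹ᵁ U.1))

end Groth.Agent.H52.RelExtLES
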