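import Groth.Agent.H52.SquareNoncomplete

/-!
# The square relation for families on group varieties
-/

set_option autoImplicit false
set_option linter.style.haveILetI false
universe u

open CategoryTheory CategoryTheory.Limits MonoidalCategory CartesianMonoidalCategory MonObj AlgebraicGeometry
open Groth.Agent.H3

namespace Groth.Agent.H52.SquareGroupVar

noncomputable section

local instance (Y : Scheme.{u}) : PicGrp.Law Y := Groth.Agent.Lib.TensorMod.Invertible.law Y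

variable {K : Type u} [Field K] [IsAlgClosed K]

local notation "S" => Spec (CommRingCat.of K)

/-- The slice `{a} × W`. -/
def sl1 {G : Over S} (W : Over S) (a : 𝟙_ (Over S) ⟶ G) : W ⟶ G ⊗ W := lift (toUnit W ≫ a) (𝟙 W)

theorem rel {G W : Over S} [GrpObj G] [Smooth G.hom] [IsSeparated G.hom] [GeometricallyIntegral G.hom]
    [Smooth W.hom] [QuasiCompact W.hom] [GeometricallyIntegral W.hom]
    (ℓ : PicLoc.PicSet (G ⊗ W).left) {a1 a2 a3 a4 : 𝟙_ (Over S) ⟶ G} (h : a1 * a3⁻¹ = a2 * a4⁻¹) :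
    PicCalc.ph (sl1 W a1) ℓ * PicCalc.ph (sl1 W a4) ℓ =
      PicCalc.ph (sl1 W a2) ℓ * PicCalc.ph (sl1 W a3) ℓ := by
  let m : G ⊗ G ⊗ W ⟶ G ⊗ W :=
    lift (fst G (G ⊗ W) * (snd G (G ⊗ W) ≫ fst G W)) (snd G (G ⊗ W) ≫ snd G W)
  have key := SquareNoncomplete.sq (PicCalc.ph m ℓ) (1 : 𝟙_ (Over S) ⟶ G) (a4 * a2⁻¹) a1 a2
  have e : ∀ x y : 𝟙_ (Over S) ⟶ G, SquareCurves.sl W x y ≫ m = sl1 W (x * y) := fun x y => by
    ext : 1 <;> simp [SquareCurves.sl, sl1, m, MonObj.comp_mul, comp_toUnit_assoc]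
  have h3 : a4 * a2⁻¹ * a1 = a3 := by
    have h' : a1 = a2 * a4⁻¹ * a3 := by rw [← h, inv_mul_cancel_right]
    rw [h']; group
  unfold SquareCurves.Sq at key
  simp only [← PicCalc.ph_comp, e, _root_.one_mul, inv_mul_cancel_right, h3] at key
  exact key

theorem nonempty_iso {G W : Over S} [GrpObj G] [Smooth G.hom] [IsSeparated G.hom]
    [GeometricallyIntegral G.hom] [Smooth W.hom] [QuasiCompact W.hom] [GeometricallyIntegral W.hom]
    (L : (G ⊗ W).left.Modules) (hL : PicF.IsInvertible L)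
    {a1 a2 a3 a4 : 𝟙_ (Over S) ⟶ G} (h : a1 * a3⁻¹ = a2 * a4⁻¹) :
    Nonempty (CohB1.tensorMod ((Scheme.Modules.pullback (sl1 W a1).left).obj L)
        ((Scheme.Modules.pullback (sl1 W a4).left).obj L) ≅
      CohB1.tensorMod ((Scheme.Modules.pullback (sl1 W a2).left).obj L)
        ((Scheme.Modules.pullback (sl1 W a3).left).obj L)) :=
  (PicCalc.iso_iff
    (PicCalc.cl_tensor (PicCalc.cl_pullback _ (a := PicGrp.cls L hL) rfl)
      (PicCalc.cl_pullback _ (a := PicGrp.cls L hL) rfl))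
    (PicCalc.cl_tensor (PicCalc.cl_pullback _ (a := PicGrp.cls L hL) rfl)
      (PicCalc.cl_pullback _ (a := PicGrp.cls L hL) rfl))).mpr
    (rel (PicGrp.cls L hL) h)

/-- Translation in the first factor. -/
def tr {G : Over S} [GrpObj G] (W : Over S) (c : 𝟙_ (Over S) ⟶ G) : G ⊗ W ⟶ G ⊗ W :=
  (𝟙 G * (toUnit G ≫ c)) ▷ W

theorem transl_rel {G W : Over S} [GrpObj G] [Smooth G.hom] [IsSeparated G.hom] [QuasiCompact G.hom]
    [GeometricallyIntegral G.hom] [Smooth W.hom] [QuasiCompact W.hom] [GeometricallyIntegral W.hom]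
    (ℓ : PicLoc.PicSet (G ⊗ W).left) (a b : 𝟙_ (Over S) ⟶ G) :
    PicCalc.ph (tr W (a * b)) ℓ * ℓ = PicCalc.ph (tr W a) ℓ * PicCalc.ph (tr W b) ℓ := by
  obtain ⟨-, hGW⟩ := H4.AxesConst.geometricallyIntegral_tensor G W
  haveI := hGW
  haveI : Smooth (G ⊗ W).hom := by rw [Over.tensorObj_hom]; infer_instance
  haveI : QuasiCompact (G ⊗ W).hom := by rw [Over.tensorObj_hom]; infer_instance
  let M : G ⊗ G ⊗ W ⟶ G ⊗ W :=
    lift ((snd G (G ⊗ W) ≫ fst G W) * fst G (G ⊗ W)) (snd G (G ⊗ W) ≫ snd G W)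
  have key := rel (PicCalc.ph M ℓ) (a1 := a * b) (a2 := a) (a3 := b) (a4 := (1 : 𝟙_ (Over S) ⟶ G))
    (by simp)
  have e : ∀ c : 𝟙_ (Over S) ⟶ G, sl1 (G ⊗ W) c ≫ M = tr W c := fun c => by
    ext : 1 <;> simp [sl1, tr, M, MonObj.comp_mul, comp_toUnit_assoc]
  have e1 : tr W (1 : 𝟙_ (Over S) ⟶ G) = 𝟙 (G ⊗ W) := by
    unfold tr
    rw [MonObj.comp_one, _root_.mul_one]
    simp
  simp only [← PicCalc.ph_comp, e, e1, PicCalc.ph_id] at key
  exact key

theorem transl_nonempty_iso {G W : Over S} [GrpObj G] [Smooth G.hom] [IsSeparated G.hom]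
    [QuasiCompact G.hom]
    [GeometricallyIntegral G.hom] [Smooth W.hom] [QuasiCompact W.hom] [GeometricallyIntegral W.hom]
    (L : (G ⊗ W).left.Modules) (hL : PicF.IsInvertible L) (a b : 𝟙_ (Over S) ⟶ G) :
    Nonempty (CohB1.tensorMod ((Scheme.Modules.pullback (tr W (a * b)).left).obj L) L ≅
      CohB1.tensorMod ((Scheme.Modules.pullback (tr W a).left).obj L)
        ((Scheme.Modules.pullback (tr W b).left).obj L)) :=
  (PicCalc.iso_iff
    (PicCalc.cl_tensor (PicCalc.cl_pullback _ (a := PicGrp.cls L hL) rfl)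
      (b := PicGrp.cls L hL) rfl)
    (PicCalc.cl_tensor (PicCalc.cl_pullback _ (a := PicGrp.cls L hL) rfl)
      (PicCalc.cl_pullback _ (a := PicGrp.cls L hL) rfl))).mpr
    (transl_rel (PicGrp.cls L hL) a b)

end

end Groth.Agent.H52.SquareGroupVar
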