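import Groth.Agent.H52.HilbertJump
import Groth.Agent.H78.Existence.AmpleVanish

/-!
# The index is bounded by the number of positive roots
-/

set_option autoImplicit false
set_option linter.style.haveILetI false
set_option linter.unusedSectionVars false
universe u

open CategoryTheory CategoryTheory.Limits MonoidalCategory CartesianMonoidalCategory AlgebraicGeometry
open Groth.Agent.H52.TwoTwistBound (Tw isInvertible_tw)
open Groth.Agent.H52.BaseToClosure (Conc conc_of_iso nondeg_of_conc)
open Groth.Agent.H52.HilbertIndex (Data)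
open Groth.Agent.H52.HilbertJump
open Groth.Agent.Lib.TensorMod.Invertible (isInvertible_tensorPow isInvertible_tensorMod)
open Groth.Agent.Lib.TensorMod.Basic (comm tensorIso leftUnit rightUnit)

namespace Groth.Agent.H52.HilbertRoots

noncomputable section

variable {K : Type u} [Field K] [IsAlgClosed K]

local notation "S" => Spec (CommRingCat.of K)

variable {A : Over (Spec (CommRingCat.of K))} [GrpObj A] [IsProper A.hom] [GeometricallyIntegral A.hom]
  [Smooth A.hom]

variable {g : ℕ} {L H : A.left.Modules} {Φ : Polynomial ℚ} (D : Data g L H Φ)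

include D

theorem J_nat {n i : ℕ} (h : Conc (CohB1.tensorMod L (CohB1.tensorPow H n)) i) :
    J L H (n : ℝ) i ∧ ev Φ (n : ℝ) ≠ 0 := by
  have h1 : Conc (Tw L H 1 n) i :=
    conc_of_iso (tensorIso (leftUnit L) (Iso.refl (CohB1.tensorPow H n))).symm h
  have e : (n : ℝ) / ((1 : ℕ) : ℝ) = (n : ℝ) := by rw [Nat.cast_one, div_one]
  have hne : ev Φ (n : ℝ) ≠ 0 := e ▸ (rank_eq D (b := 1) (c := n) Nat.one_pos h1).2
  obtain ⟨j, -, hj⟩ := exists_J D (x := (n : ℝ)) (Nat.cast_nonneg n) hne
  have hj2 : J L H ((n : ℝ) / ((1 : ℕ) : ℝ)) j := e.symm ▸ hj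
  have hj' : Conc (Tw L H 1 n) j := conc_of_J D (b := 1) (c := n) Nat.one_pos hj2
  exact ⟨(conc_unique h1 hj') ▸ hj, hne⟩

theorem J_zero {i : ℕ} (h : Conc L i) : J L H 0 i ∧ ev Φ 0 ≠ 0 := by
  simpa using J_nat D (n := 0) (conc_of_iso (rightUnit L).symm h)

theorem ne_zero {i : ℕ} (h : Conc L i) : Φ ≠ 0 := fun h0 => (J_zero D h).2 (by simp [ev, h0])

/-- Far to the right the index is zero. -/
theorem exists_J_top (hΦ : Φ ≠ 0) : ∃ X : ℝ, 0 ≤ X ∧ ∀ x, X ≤ x → ev Φ x ≠ 0 ∧ J L H x 0 := by
  letI : A.left.Over S := ⟨A.hom⟩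
  haveI : IsProper (A.left ↘ S) := ‹IsProper A.hom›
  haveI : IsNoetherian A.left := Groth.Agent.Lib.Curves.GlobalSections.isNoetherian_of_proper K A.left
  let P := Φ.map (algebraMap ℚ ℝ)
  have hP : P ≠ 0 := (Polynomial.map_ne_zero_iff (algebraMap ℚ ℝ).injective).2 hΦ
  obtain ⟨M, hM⟩ := P.roots.toFinset.bddAbove
  have hroot : ∀ x, M < x → ev Φ x ≠ 0 := fun x hx h0 =>
    (hM (Multiset.mem_toFinset.2 ((Polynomial.mem_roots hP).2 h0))).not_gt hx
  obtain ⟨n₀, hn₀⟩ := Groth.Agent.H78.Existence.AmpleVanish.exists_subsingleton K D.ample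
    (Groth.Agent.Lib.Ample.GG.isCoh_of_isInvertible D.inv)
  obtain ⟨n, hn⟩ := exists_nat_gt (max M n₀)
  have hne := hroot n (lt_of_le_of_lt (le_max_left _ _) hn)
  obtain ⟨i, -, hi⟩ := exists_J D (x := (n : ℝ)) (Nat.cast_nonneg n) hne
  have e : (n : ℝ) / ((1 : ℕ) : ℝ) = (n : ℝ) := by rw [Nat.cast_one, div_one]
  have hi2 : J L H ((n : ℝ) / ((1 : ℕ) : ℝ)) i := e.symm ▸ hi
  have hc : Conc (CohB1.tensorMod L (CohB1.tensorPow H n)) i :=
    conc_of_iso (tensorIso (leftUnit L) (Iso.refl (CohB1.tensorPow H n)))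
      (conc_of_J D (b := 1) (c := n) Nat.one_pos hi2)
  obtain rfl : i = 0 := by
    by_contra h
    obtain ⟨q, rfl⟩ : ∃ q, i = q + 1 := ⟨i - 1, by omega⟩
    haveI := hn₀ n (by exact_mod_cast ((le_max_right _ _).trans hn.le)) q
    haveI := hc.2
    exact false_of_nontrivial_of_subsingleton (Coh.HH A.left (CohB1.tensorMod L (CohB1.tensorPow H n)) (q + 1))
  exact ⟨n, Nat.cast_nonneg n, fun x hx =>
    ⟨hroot x ((lt_of_le_of_lt (le_max_left _ _) hn).trans_le hx),
      J_interval D (Nat.cast_nonneg n) hx (fun y hy _ => hroot y ((lt_of_le_of_lt (le_max_left _ _) hn).trans_le hy)) hi⟩⟩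

/-- The index at `x` is at most the number of roots to the right of `x`. -/
theorem index_le_roots (hΦ : Φ ≠ 0) {x : ℝ} {i : ℕ} (hx : 0 ≤ x) (hxne : ev Φ x ≠ 0) (h : J L H x i) :
    i ≤ Multiset.card ((Φ.map (algebraMap ℚ ℝ)).roots.filter (fun t => x < t)) := by
  let P := Φ.map (algebraMap ℚ ℝ)
  have hP : P ≠ 0 := (Polynomial.map_ne_zero_iff (algebraMap ℚ ℝ).injective).2 hΦ
  have hroot : ∀ y, ev Φ y = 0 ↔ y ∈ P.roots := fun y => (Polynomial.mem_roots hP).symm
  induction hn : Multiset.card (P.roots.filter (fun t => x < t)) using Nat.strong_induction_on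
    generalizing x i with
  | _ n ih =>
    rw [← hn]
    by_cases hemp : (P.roots.filter (fun t => x < t)).toFinset.Nonempty
    swap
    · rw [Finset.not_nonempty_iff_eq_empty, Multiset.toFinset_eq_empty, Multiset.filter_eq_nil] at hemp
      obtain ⟨X, hX0, hX⟩ := exists_J_top D hΦ
      have h1 : J L H (max x X) i := J_interval D hx (le_max_left _ _) (fun y hy _ h0 => by
        rcases hy.eq_or_lt with rfl | hlt
        · exact hxne h0
        · exact hemp y ((hroot y).1 h0) hlt) h
      obtain rfl : i = 0 := J_unique D (hx.trans (le_max_left _ _)) h1 (hX _ (le_max_right _ _)).2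
      exact Nat.zero_le _
    let τ := (P.roots.filter (fun t => x < t)).toFinset.min' hemp
    have hτmem := Finset.min'_mem _ hemp
    rw [Multiset.mem_toFinset, Multiset.mem_filter] at hτmem
    obtain ⟨hτr, hτx⟩ := hτmem
    have hmin : ∀ y, y ∈ P.roots → x < y → τ ≤ y := fun y hy hxy =>
      Finset.min'_le _ _ (Multiset.mem_toFinset.2 (Multiset.mem_filter.2 ⟨hy, hxy⟩))
    -- a gap to the right of the root
    obtain ⟨ε, hε, hεx, hgap⟩ : ∃ ε : ℝ, 0 < ε ∧ ε ≤ τ - x ∧ ∀ y, τ < y → y ≤ τ + ε → ev Φ y ≠ 0 := by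
      have hcl : IsClosed {y | y ∈ P.roots ∧ y ≠ τ} :=
        (P.roots.toFinset.finite_toSet.subset fun y hy => Multiset.mem_toFinset.2 hy.1).isClosed
      obtain ⟨r, hr, hball⟩ := Metric.isOpen_iff.1 hcl.isOpen_compl τ (fun h => h.2 rfl)
      refine ⟨min (r / 2) (τ - x), lt_min (half_pos hr) (sub_pos.2 hτx), min_le_right _ _, fun y h1 h2 h0 => ?_⟩
      refine hball (show dist y τ < r by
        rw [Real.dist_eq, abs_lt]
        constructor <;> linarith [min_le_left (r / 2) (τ - x)]) ⟨(hroot y).1 h0, h1.ne'⟩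
    have hleft : ∀ s, τ - ε ≤ s → s < τ → J L H s i := fun s h1 h2 =>
      J_interval D hx (by linarith) (fun y hy hys h0 => by
        rcases hy.eq_or_lt with rfl | hlt
        · exact hxne h0
        · exact absurd (hmin y ((hroot y).1 h0) hlt) (not_le.2 (lt_of_le_of_lt hys h2))) h
    obtain ⟨i', -, hi'⟩ := exists_J D (x := τ + ε) (by linarith) (hgap _ (by linarith) le_rfl)
    have hright : ∀ t, τ < t → t ≤ τ + ε → J L H t i' := fun t h1 h2 => by
      obtain ⟨j, -, hj⟩ := exists_J D (x := t) (by linarith) (hgap t h1 h2)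
      have := J_interval D (by linarith) h2 (fun y hy hy' => hgap y (lt_of_lt_of_le h1 hy) hy') hj
      rwa [J_unique D (by linarith) hi' this]
    have hjump := jump_le D hε (show ε ≤ τ by linarith) hleft hright hΦ
    have hsub : Multiset.replicate (P.rootMultiplicity τ) τ + P.roots.filter (fun t => τ + ε < t) ≤
        P.roots.filter (fun t => x < t) := by
      rw [Multiset.le_iff_count]
      intro a
      rw [Multiset.count_add, Multiset.count_replicate, Multiset.count_filter, Multiset.count_filter]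
      by_cases haτ : τ = a
      · subst haτ
        rw [if_pos rfl, if_neg (show ¬(τ + ε < τ) by linarith), if_pos hτx, Nat.add_zero, Polynomial.count_roots]
      · rw [if_neg haτ, Nat.zero_add]
        split_ifs <;> first | exact le_rfl | exact Nat.zero_le _ | (exfalso; linarith)
    have hcard := Multiset.card_le_card hsub
    rw [Multiset.card_add, Multiset.card_replicate] at hcard
    have hmult : 0 < P.rootMultiplicity τ :=
      (Polynomial.rootMultiplicity_pos hP).2 ((Polynomial.mem_roots hP).1 hτr)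
    have h2 := ih (Multiset.card (P.roots.filter (fun t => τ + ε < t))) (by omega) (x := τ + ε) (i := i')
      (by linarith) (hgap _ (by linarith) le_rfl) hi' rfl
    change i ≤ i' + P.rootMultiplicity τ at hjump
    omega

omit D in
/-- Concentration descends to the inverse, with complementary index, and the polynomial is reflected. -/
theorem data_inverse (D : Data g L H Φ) {i : ℕ} (h : Conc L i) :
    ∃ (L' : A.left.Modules), Conc L' (g - i) ∧ i ≤ g ∧
      Data g L' H (Polynomial.C ((-1 : ℚ) ^ g) * Φ.comp (-Polynomial.X)) := by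
  letI : ∀ Y : Scheme.{u}, PicGrp.Law Y := Groth.Agent.Lib.TensorMod.Invertible.law
  letI : A.left.Over S := ⟨A.hom⟩
  haveI : IsProper (A.left ↘ S) := ‹IsProper A.hom›
  obtain ⟨L', hL', hc, i₀, j, hij, hv₀, hne₀, hvj, hnej⟩ :=
    IndexThm.exists_index_pair g D.dim L D.inv (nondeg_of_conc L D.inv i h)
  obtain rfl : i₀ = i := conc_unique ⟨hv₀, hne₀⟩ h
  obtain rfl : j = g - i₀ := by omega
  refine ⟨L', ⟨hvj, hnej⟩, by omega, D.dim, hL', D.ample, fun n => ?_⟩
  have hHn := isInvertible_tensorPow D.ample.1 n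
  have hM' := isInvertible_tensorMod hL' hHn
  obtain ⟨M, hM, hMc⟩ := PicGrp.exists_eq_cls
    (PicGrp.cls (CohB1.tensorMod L' (CohB1.tensorPow H n)) hM')⁻¹
  rw [HilbertIndex.euler_inverse g D.dim M _ hM hM' (by rw [← hMc, inv_inv])]
  have key : Φ.eval (-(n : ℚ)) = ((Curv2.euler K A.left M : ℤ) : ℚ) := by
    obtain ⟨p, -, hp⟩ := HilbertPoly.exists_poly_twist K D.dim D.ample.1
      (Groth.Agent.Lib.Ample.GG.isCoh_of_isInvertible hM)
    have hpΦ : Φ.comp (Polynomial.X - Polynomial.C (n : ℚ)) = p := by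
      refine Polynomial.eq_of_infinite_eval_eq _ _ ((Set.infinite_range_of_injective
        (f := fun j : ℕ => ((n + j : ℕ) : ℚ)) fun a b h => by simpa using h).mono ?_)
      rintro _ ⟨j, rfl⟩
      show (Φ.comp (Polynomial.X - Polynomial.C (n : ℚ))).eval ((n + j : ℕ) : ℚ) = p.eval ((n + j : ℕ) : ℚ)
      rw [hp, Polynomial.eval_comp, Polynomial.eval_sub, Polynomial.eval_X, Polynomial.eval_C,
        show (((n + j : ℕ) : ℚ) - n) = (j : ℚ) by push_cast; ring, D.poly]
      refine congrArg _ (EulerHomogeneous.euler_congr (isInvertible_tensorMod D.inv (isInvertible_tensorPow D.ample.1 j))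
        (isInvertible_tensorMod (isInvertible_tensorPow D.ample.1 (n + j)) hM) ?_)
      refine Subtype.ext ((Groth.Agent.H3.PicCalc.cl_tensor (a := PicGrp.cls L D.inv) rfl
        (AmpleVanishAV.cl_pow (a := PicGrp.cls H D.ample.1) rfl j)).trans
          (Eq.trans ?_ (Groth.Agent.H3.PicCalc.cl_tensor
            (AmpleVanishAV.cl_pow (a := PicGrp.cls H D.ample.1) rfl (n + j)) (b := PicGrp.cls M hM) rfl).symm))
      rw [← hMc, show PicGrp.cls (CohB1.tensorMod L' (CohB1.tensorPow H n)) hM' =
        (PicGrp.cls L D.inv)⁻¹ * PicGrp.cls H D.ample.1 ^ n from Subtype.ext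
          (Groth.Agent.H3.PicCalc.cl_tensor (a := (PicGrp.cls L D.inv)⁻¹) (hc ▸ rfl)
            (AmpleVanishAV.cl_pow (a := PicGrp.cls H D.ample.1) rfl n))]
      congr 1
      rw [mul_inv, inv_inv, pow_add]
      simp [mul_comm, mul_left_comm]
      try rfl
    have h0 := hp 0
    rw [← hpΦ, Polynomial.eval_comp, Polynomial.eval_sub, Polynomial.eval_X, Polynomial.eval_C,
      Nat.cast_zero, zero_sub] at h0
    exact h0.trans (congrArg _ ((IsogenyEuler.isAdd_euler (k := K)).iso (leftUnit M)))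
  simp only [Polynomial.eval_mul, Polynomial.eval_C, Polynomial.eval_comp, Polynomial.eval_neg, Polynomial.eval_X]
  rw [key]
  push_cast
  rfl

/-- **All roots are real and the index counts the positive ones.** -/
theorem roots_real {i : ℕ} (h : Conc L i) :
    Multiset.card (Φ.map (algebraMap ℚ ℝ)).roots = Φ.natDegree ∧
      i = Multiset.card ((Φ.map (algebraMap ℚ ℝ)).roots.filter (fun t => 0 < t)) := by
  let P := Φ.map (algebraMap ℚ ℝ)
  obtain ⟨h0, hne⟩ := J_zero D h
  have hΦ := ne_zero D h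
  have h1 : i ≤ Multiset.card (P.roots.filter (fun t => 0 < t)) := index_le_roots D hΦ le_rfl hne h0
  obtain ⟨L', hL', hig, D'⟩ := data_inverse D h
  obtain ⟨h0', hne'⟩ := J_zero D' hL'
  have h2 := index_le_roots D' (ne_zero D' hL') le_rfl hne' h0'
  have hroots : ((Polynomial.C ((-1 : ℚ) ^ g) * Φ.comp (-Polynomial.X)).map (algebraMap ℚ ℝ)).roots =
      P.roots.map (fun t => -t) := by
    rw [Polynomial.map_mul, Polynomial.map_C, Polynomial.map_comp, Polynomial.map_neg, Polynomial.map_X,
      Polynomial.roots_C_mul _ (by simp), Polynomial.roots_comp_neg_X]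
  rw [hroots, Multiset.filter_map, Multiset.card_map] at h2
  have hsplit : Multiset.card (P.roots.filter (fun t => 0 < t)) +
      Multiset.card (P.roots.filter ((fun t => 0 < t) ∘ fun t => -t)) ≤ Multiset.card P.roots := by
    rw [← Multiset.card_add]
    refine Multiset.card_le_card (Multiset.le_iff_count.2 fun a => ?_)
    simp only [Multiset.count_add, Multiset.count_filter, Function.comp_apply, Left.neg_pos_iff]
    split_ifs <;> first | omega | (exfalso; linarith)
  have h3 : Multiset.card P.roots ≤ Φ.natDegree := (P.card_roots').trans (Polynomial.natDegree_map_le)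
  have h4 := HilbertIndex.natDegree_le D
  change Multiset.card P.roots = Φ.natDegree ∧ i = Multiset.card (P.roots.filter (fun t => 0 < t))
  omega

end

end Groth.Agent.H52.HilbertRoots
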