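import Groth.Agent.H52.PowIndex
import Groth.Agent.H63.AVBaseChange
import Groth.Agent.Lib.PtClosure98.Basic
import Groth.Agent.Lib.ZarCoh.FlatBC.Equiv

/-!
# Concentrated cohomology on abelian varieties over an arbitrary field: passage to the closure
-/

set_option autoImplicit false
set_option linter.style.haveILetI false
universe u

open CategoryTheory CategoryTheory.Limits MonoidalCategory CartesianMonoidalCategory MonObj AlgebraicGeometry
open Groth.Agent.Lib
open Groth.Agent.H3
open Groth.Agent.H52.NondegAmple (tr)
open Groth.Agent.H63.AVBaseChange (bc F isProper_bc geometricallyIntegral_bc topologicalKrullDim_bc)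
open scoped TensorProduct

namespace Groth.Agent.H52.BaseToClosure

noncomputable section

local instance (Y : Scheme.{u}) : PicGrp.Law Y := Groth.Agent.Lib.TensorMod.Invertible.law Y

/-- Cohomology concentrated in degree `i` and non-zero there. -/
abbrev Conc {Y : Scheme.{u}} (M : Y.Modules) (i : ℕ) : Prop :=
  (∀ j : ℕ, j ≠ i → Subsingleton (Coh.HH Y M j)) ∧ Nontrivial (Coh.HH Y M i)

theorem conc_of_iso {Y : Scheme.{u}} {M N : Y.Modules} (e : M ≅ N) {i : ℕ} (h : Conc M i) : Conc N i := by
  refine ⟨fun j hj => ?_, ?_⟩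
  · obtain ⟨q⟩ := Groth.Agent.S7804.nonempty_of_iso e j
    haveI := h.1 j hj
    exact q.symm.toEquiv.subsingleton
  · obtain ⟨q⟩ := Groth.Agent.S7804.nonempty_of_iso e i
    haveI := h.2
    exact q.symm.toEquiv.nontrivial

section Closed

variable {K : Type u} [Field K] [IsAlgClosed K]

/-- Concentrated non-zero cohomology forces non-degeneracy. -/
theorem nondeg_of_conc {A : Over (Spec (CommRingCat.of K))} [GrpObj A] [IsProper A.hom]
    [GeometricallyIntegral A.hom] (L : A.left.Modules) (hL : PicF.IsInvertible L) (i : ℕ) (h : Conc L i) :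
    IndexInvariance.Nondeg (PicGrp.cls L hL) := by
  letI : A.left.Over (Spec (CommRingCat.of K)) := ⟨A.hom⟩
  haveI : IsProper (A.left ↘ Spec (CommRingCat.of K)) := ‹IsProper A.hom›
  haveI : IsLocallyNoetherian A.left := LocallyOfFiniteType.isLocallyNoetherian A.hom
  by_contra hc
  have h0 := DegenEuler.euler_eq_zero L hL hc
  haveI := Groth.Agent.Lib.Snapper.Finite.cohFinite K A.left L
    (Groth.Agent.Lib.Ample.GG.isCoh_of_isInvertible hL) i
  haveI := h.2
  have hpos : 0 < Module.finrank K (Coh.HH A.left L i) := Module.finrank_pos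
  have hone : Curv2.euler K A.left L = (-1 : ℤ) ^ i * Module.finrank K (Coh.HH A.left L i) :=
    finsum_eq_single _ i fun j hj => by
      haveI := h.1 j hj
      simp [Module.finrank_zero_of_subsingleton]
  rw [hone, mul_eq_zero] at h0
  rcases h0 with h0 | h0
  · exact pow_ne_zero i (show (-1 : ℤ) ≠ 0 by norm_num) h0
  · omega

end Closed

variable {k : Type u} [Field k]

/-- The algebraic closure. -/
abbrev Cl (k : Type u) [Field k] : Type u := AlgebraicClosure k

variable (X : Over (Spec (CommRingCat.of k)))

/-- The projection from the base change to the closure. -/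
abbrev proj : (bc (Cl k) X).left ⟶ X.left := GrpSch.bcProj (GrpSch.extBase k (Cl k)) X

theorem smooth_bc [GrpObj X] [IsProper X.hom] [GeometricallyIntegral X.hom] : Smooth (bc (Cl k) X).hom := by
  haveI := isProper_bc (Cl k) X
  haveI := geometricallyIntegral_bc (Cl k) X
  haveI : IsReduced (bc (Cl k) X).left :=
    haveI : IsIntegral (bc (Cl k) X).left :=
      GeometricallyIntegral.isIntegral_of_subsingleton (bc (Cl k) X).hom
    inferInstance
  exact PtClosure98.Basic.smooth_closed _

theorem exists_dim [IsProper X.hom] [GeometricallyIntegral X.hom] :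
    ∃ g : ℕ, topologicalKrullDim X.left = g := by
  haveI : IsIntegral X.left := GeometricallyIntegral.isIntegral_of_subsingleton X.hom
  exact ⟨_, Groth.Agent.Lib.GenFinite.Basic.topologicalKrullDim_eq_fdelta X.hom⟩

/-- Cohomology is concentrated over `k` iff it is over the closure. -/
theorem conc_iff [IsProper X.hom] {M : X.left.Modules} (hM : PicF.IsInvertible M) (i : ℕ) :
    Conc M i ↔ Conc ((Scheme.Modules.pullback (proj X)).obj M) i := by
  letI : X.left.Over (Spec (CommRingCat.of k)) := ⟨X.hom⟩
  letI : (bc (Cl k) X).left.Over (Spec (CommRingCat.of (Cl k))) := ⟨(bc (Cl k) X).hom⟩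
  haveI : CompactSpace X.left := QuasiCompact.compactSpace_of_compactSpace X.hom
  haveI : QuasiSeparatedSpace X.left := quasiSeparatedSpace_of_quasiSeparated X.hom
  haveI : M.IsQuasicoherent := Groth.Agent.Lib.TensorMod.QCohInv.isQCoh_of_isInvertible hM
  have h : IsPullback (proj X) ((bc (Cl k) X).left ↘ Spec (CommRingCat.of (Cl k)))
      (X.left ↘ Spec (CommRingCat.of k)) (Spec.map (CommRingCat.ofHom (algebraMap k (Cl k)))) :=
    GrpSch.isPullback_bc _ X
  have hs : ∀ n, Subsingleton (Coh.HH X.left M n) ↔
      Subsingleton (Coh.HH (bc (Cl k) X).left ((Scheme.Modules.pullback (proj X)).obj M) n) := fun n => by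
    obtain ⟨e⟩ := ZarCoh.FlatBC.Equiv.nonempty_linearEquiv h M n
    rw [← e.toEquiv.subsingleton_congr]
    exact (Module.FaithfullyFlat.subsingleton_tensorProduct_iff_right k (Cl k)).symm
  refine and_congr (forall₂_congr fun j _ => hs j) ?_
  rw [← not_subsingleton_iff_nontrivial, ← not_subsingleton_iff_nontrivial, hs]

end

end Groth.Agent.H52.BaseToClosure
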