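import Groth.Agent.H4.AxesConst
import Mathlib.CategoryTheory.Monoidal.Cartesian.Grp

/-!
A pointed morphism from a group variety to a proper group is a homomorphism.
-/

set_option autoImplicit false
universe u
open CategoryTheory MonoidalCategory CartesianMonoidalCategory MonObj AlgebraicGeometry CategoryTheory.Limits

namespace Groth.Agent.H52.AffToAV

theorem isMonHom_of_pointed {K : Type u} [Field K] {G A : Over (Spec (CommRingCat.of K))}
    [GrpObj G] [Smooth G.hom] [IsSeparated G.hom] [QuasiCompact G.hom] [GeometricallyIntegral G.hom]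
    [GrpObj A] [IsProper A.hom]
    (f : G ⟶ A) (hf : η[G] ≫ f = η[A]) : IsMonHom f := by
  set a : G ⊗ G ⟶ A := μ[G] ≫ f with ha
  set p : G ⊗ G ⟶ A := fst G G ≫ f with hp
  set q : G ⊗ G ⟶ A := snd G G ≫ f with hq
  have h := Groth.Agent.H4.AxesConst.eq_const_of_axes G G A η[G] η[G] η[A] (a * q⁻¹ * p⁻¹) ?_ ?_
  · have h' : a * q⁻¹ * p⁻¹ = 1 := h.trans Hom.one_def.symm
    have hpq : a = p * q := by rw [mul_inv_eq_one, mul_inv_eq_iff_eq_mul] at h'; exact h'
    refine ⟨hf, ?_⟩
    rw [← ha, hpq, Hom.mul_def]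
    congr 1
  · have h1 : lift (𝟙 G) (toUnit G ≫ η[G]) ≫ a = f := by
      rw [ha, ← Category.assoc, MonObj.lift_comp_one_right, Category.id_comp]
    rw [MonObj.comp_mul, MonObj.comp_mul, GrpObj.comp_inv, GrpObj.comp_inv, h1, hp, hq,
      lift_fst_assoc, lift_snd_assoc, Category.id_comp, Category.assoc, hf, ← Hom.one_def, inv_one,
      _root_.mul_one, mul_inv_cancel]
  · have h1 : lift (toUnit G ≫ η[G]) (𝟙 G) ≫ a = f := by
      rw [ha, ← Category.assoc, MonObj.lift_comp_one_left, Category.id_comp]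
    rw [MonObj.comp_mul, MonObj.comp_mul, GrpObj.comp_inv, GrpObj.comp_inv, h1, hp, hq,
      lift_fst_assoc, lift_snd_assoc, Category.id_comp, Category.assoc, hf, ← Hom.one_def, inv_one,
      _root_.mul_one, mul_inv_cancel]

end Groth.Agent.H52.AffToAV
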