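import Groth.Agent.H30.DerivedSES
import Groth.Agent.H52.RelExtLES
import Mathlib.CategoryTheory.Abelian.FunctorCategory

/-!
# A functorial acyclic complex computes derived functors
-/

set_option autoImplicit false
set_option linter.style.haveILetI false
universe v v' u u'

open CategoryTheory Limits
open Groth.Agent.H30.DerivedSES

namespace Groth.Agent.H52.AcycCx

variable {A : Type u} [Category.{v} A] [Abelian A] [HasInjectiveResolutions A]
  {B : Type u'} [Category.{v'} B] [Abelian B]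
  (T : ℕ → (A ⥤ B)) [∀ j, (T j).Additive]
  (τ : ∀ j, T j ⟶ T (j + 1)) (hτ : ∀ j, τ j ≫ τ (j + 1) = 0)
  (hex : ∀ (j : ℕ) (I : A), Injective I →
    ∀ {W : B} (x : W ⟶ (T (j + 1)).obj I), x ≫ (τ (j + 1)).app I = 0 →
      ∃ (W' : B) (π : W' ⟶ W) (_ : Epi π) (y : W' ⟶ (T j).obj I), π ≫ x = y ≫ (τ j).app I)

/-- The cycles. -/
noncomputable abbrev Z (j : ℕ) : A ⥤ B := kernel (τ j)

instance mono_ι_app (j : ℕ) (M : A) : Mono ((kernel.ι (τ j)).app M) := inferInstance

instance additive_Z (j : ℕ) : (Z T τ j).Additive where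
  map_add {M N f g} := by
    rw [← cancel_mono ((kernel.ι (τ j)).app N), NatTrans.naturality, Preadditive.add_comp,
      NatTrans.naturality, NatTrans.naturality, Functor.map_add, Preadditive.comp_add]

/-- The differential, with values in cycles. -/
noncomputable abbrev q (j : ℕ) : T j ⟶ Z T τ (j + 1) := kernel.lift _ (τ j) (hτ j)

lemma w (j : ℕ) (M : A) : (kernel.ι (τ j)).app M ≫ (q T τ hτ j).app M = 0 := by
  rw [← NatTrans.comp_app, ← cancel_mono ((kernel.ι (τ (j + 1))).app M), ← NatTrans.comp_app,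
    Category.assoc, kernel.lift_ι, kernel.condition, zero_comp]
  rfl

include hex in
lemma shortExact (j : ℕ) (I : A) (hI : Injective I) :
    (ShortComplex.mk ((kernel.ι (τ j)).app I) ((q T τ hτ j).app I) (w T τ hτ j I)).ShortExact where
  exact := by
    rw [ShortComplex.exact_iff_exact_up_to_refinements]
    intro W x hx
    have hk := KernelFork.mapIsLimit _ (kernelIsKernel (τ j)) ((evaluation A B).obj I)
    have hx' : x ≫ (τ j).app I = 0 := by
      refine (congrArg (fun t : T j ⟶ T (j + 1) => x ≫ t.app I)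
        (kernel.lift_ι (τ (j + 1)) (τ j) (hτ j))).symm.trans ?_
      exact (Category.assoc _ _ _).symm.trans ((congrArg (· ≫ _) hx).trans zero_comp)
    obtain ⟨l, hl⟩ := KernelFork.IsLimit.lift' hk x hx'
    exact ⟨W, 𝟙 W, inferInstance, l, by rw [Category.id_comp]; exact hl.symm⟩
  mono_f := inferInstanceAs (Mono ((kernel.ι (τ j)).app I))
  epi_g := by
    rw [epi_iff_surjective_up_to_refinements]
    intro W x
    have h0 : (x ≫ (kernel.ι (τ (j + 1))).app I) ≫ (τ (j + 1)).app I = 0 := by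
      rw [Category.assoc, ← NatTrans.comp_app, kernel.condition]
      exact comp_zero
    obtain ⟨W', π, hπ, y, hy⟩ := hex j I hI _ h0
    refine ⟨W', π, hπ, y, ?_⟩
    rw [← cancel_mono ((kernel.ι (τ (j + 1))).app I), Category.assoc, Category.assoc, ← NatTrans.comp_app,
      kernel.lift_ι]
    exact hy

variable [∀ j, PreservesFiniteLimits (T j)] (M : A)

/-- `T j = R⁰ (T j)`. -/
noncomputable abbrev e₀ (j : ℕ) : (T j).obj M ≅ ((T j).rightDerived 0).obj M :=
  ((T j).rightDerivedZeroIsoSelf.app M).symm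

lemma e₀_naturality (j : ℕ) :
    (τ j).app M ≫ (e₀ T M (j + 1)).hom = (e₀ T M j).hom ≫ (NatTrans.rightDerived (τ j) 0).app M := by
  have := congrArg (fun t => t.app M) (toRightDerivedZero_naturality (τ j))
  simpa [e₀] using this

/-- `R⁰` of the cycles, as cycles. -/
noncomputable abbrev k (j : ℕ) : ((Z T τ j).rightDerived 0).obj M ⟶ (T j).obj M :=
  (NatTrans.rightDerived (kernel.ι (τ j)) 0).app M ≫ (e₀ T M j).inv

include hτ hex

lemma k_comp (j : ℕ) : k T τ M j ≫ (τ j).app M = 0 := by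
  have e : (NatTrans.rightDerived (q T τ hτ j ≫ kernel.ι (τ (j + 1))) 0).app M =
      (NatTrans.rightDerived (τ j) 0).app M :=
    congrArg (fun t : T j ⟶ T (j + 1) => (NatTrans.rightDerived t 0).app M) (kernel.lift_ι _ _ _)
  rw [← cancel_mono (e₀ T M (j + 1)).hom, zero_comp, Category.assoc, Category.assoc, e₀_naturality,
    Iso.inv_hom_id_assoc, ← e, NatTrans.rightDerived_comp, NatTrans.comp_app, ← Category.assoc]
  obtain ⟨h, -⟩ := RelExtLES.exact₂ (kernel.ι (τ j)) (q T τ hτ j) (w T τ hτ j)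
    (fun I hI => shortExact T τ hτ hex j I hI) 0 M
  exact (congrArg (· ≫ _) h).trans zero_comp

lemma mono_k (j : ℕ) : Mono (k T τ M j) := by
  haveI := RelExtLES.mono₀ (kernel.ι (τ j)) (q T τ hτ j) (w T τ hτ j)
    (fun I hI => shortExact T τ hτ hex j I hI) M
  exact mono_comp _ _

lemma exact_k (j : ℕ) :
    (ShortComplex.mk (k T τ M j) ((τ j).app M) (k_comp T τ hτ hex M j)).Exact := by
  haveI := RelExtLES.mono₀ (kernel.ι (τ (j + 1))) (q T τ hτ (j + 1)) (w T τ hτ (j + 1))
    (fun I hI => shortExact T τ hτ hex (j + 1) I hI) M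
  obtain ⟨h, hexact⟩ := RelExtLES.exact₂ (kernel.ι (τ j)) (q T τ hτ j) (w T τ hτ j)
    (fun I hI => shortExact T τ hτ hex j I hI) 0 M
  rw [ShortComplex.exact_iff_exact_up_to_refinements] at hexact ⊢
  intro W x hx
  have hx' : (x ≫ (e₀ T M j).hom) ≫ (NatTrans.rightDerived (q T τ hτ j) 0).app M = 0 := by
    rw [← cancel_mono ((NatTrans.rightDerived (kernel.ι (τ (j + 1))) 0).app M), Category.assoc,
      Category.assoc, ← NatTrans.comp_app, ← NatTrans.rightDerived_comp, kernel.lift_ι,
      ← e₀_naturality, reassoc_of% hx, zero_comp, zero_comp]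
  obtain ⟨W', π, hπ, y, hy⟩ := hexact _ hx'
  refine ⟨W', π, hπ, y, ?_⟩
  dsimp only at hy ⊢
  rw [← cancel_mono (e₀ T M j).hom]
  simp only [k, Category.assoc, Iso.inv_hom_id, Category.comp_id]
  exact hy

/-- `δ` iterated. -/
lemma nonempty_shift (hM : ∀ j n, IsZero (((T j).rightDerived (n + 1)).obj M)) :
    ∀ (j n : ℕ), Nonempty (((Z T τ j).rightDerived (n + 1)).obj M ≅ ((Z T τ 0).rightDerived (j + n + 1)).obj M)
  | 0, n => ⟨eqToIso (by rw [Nat.zero_add])⟩
  | j + 1, n => by
    obtain ⟨e⟩ := nonempty_shift hM j (n + 1)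
    let d := (δ (kernel.ι (τ j)) (q T τ hτ j) (w T τ hτ j)
      (fun I hI => shortExact T τ hτ hex j I hI) (n + 1)).app M
    haveI : Mono d := mono_δ _ _ _ _ _ _ (hM j n)
    haveI : Epi d := epi_δ _ _ _ _ _ _ (hM j (n + 1))
    haveI : IsIso d := isIso_of_mono_of_epi d
    exact ⟨asIso d ≪≫ e ≪≫ eqToIso (by rw [show j + (n + 1) + 1 = j + 1 + n + 1 by omega])⟩

/-- A complex isomorphic to `T_• M` computes the derived functors of the cycles. -/
theorem nonempty_homology_iso (hM : ∀ j n, IsZero (((T j).rightDerived (n + 1)).obj M))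
    (C : CochainComplex B ℕ) (e : ∀ j, C.X j ≅ (T j).obj M)
    (hC : ∀ j, C.d j (j + 1) ≫ (e (j + 1)).hom = (e j).hom ≫ (τ j).app M) (i : ℕ) :
    Nonempty (C.homology i ≅ ((Z T τ 0).rightDerived i).obj M) := by
  cases i with
  | zero =>
    haveI := mono_k T τ hτ hex M 0
    let S' : ShortComplex B := ShortComplex.mk (0 : (T 0).obj M ⟶ (T 0).obj M) ((τ 0).app M) zero_comp
    let eS : C.sc' 0 0 1 ≅ S' := ShortComplex.isoMk (e 0) (e 0) (e 1)
      (by rw [show (C.sc' 0 0 1).f = 0 from C.shape 0 0 (by simp)]; simp [S']) (hC 0).symm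
    let h : S'.LeftHomologyData := ShortComplex.LeftHomologyData.ofIsLimitKernelFork S' rfl _
      (exact_k T τ hτ hex M 0).fIsKernel
    exact ⟨C.homologyIsoSc' 0 0 1 (by simp) (by simp) ≪≫
      ShortComplex.homologyMapIso eS ≪≫ h.homologyIso⟩
  | succ i =>
    haveI := mono_k T τ hτ hex M (i + 1)
    let S' : ShortComplex B := ShortComplex.mk ((τ i).app M) ((τ (i + 1)).app M)
      (by rw [← NatTrans.comp_app, hτ i]; rfl)
    let eS : C.sc' i (i + 1) (i + 2) ≅ S' := ShortComplex.isoMk (e i) (e (i + 1)) (e (i + 2))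
      (hC i).symm (hC (i + 1)).symm
    let qq := (e₀ T M i).hom ≫ (NatTrans.rightDerived (q T τ hτ i) 0).app M
    have hqq : qq ≫ k T τ M (i + 1) = (τ i).app M := by
      simp only [qq, k, Category.assoc]
      rw [← NatTrans.comp_app_assoc, ← NatTrans.rightDerived_comp, kernel.lift_ι,
        ← Category.assoc, ← e₀_naturality, Category.assoc, Iso.hom_inv_id, Category.comp_id]
    let d := (δ (kernel.ι (τ i)) (q T τ hτ i) (w T τ hτ i)
      (fun I hI => shortExact T τ hτ hex i I hI) 0).app M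
    haveI : Epi d := epi_δ _ _ _ _ _ _ (hM i 0)
    have hqd : qq ≫ d = 0 := by
      simp only [qq, Category.assoc]
      exact (congrArg _ (rightDerived_comp_δ _ _ _ _ 0 M)).trans comp_zero
    have hcok : (ShortComplex.mk qq d hqd).Exact := by
      refine ShortComplex.exact_of_iso ?_
        (exact₃ _ _ _ (fun I hI => shortExact T τ hτ hex i I hI) 0 M)
      exact ShortComplex.isoMk (e₀ T M i).symm (Iso.refl _) (Iso.refl _) (by simp [qq]) (by simp [d])
    let hk := (exact_k T τ hτ hex M (i + 1)).fIsKernel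
    have hl : hk.lift (KernelFork.ofι S'.f S'.zero) = qq :=
      Fork.IsLimit.hom_ext hk ((hk.fac _ WalkingParallelPair.zero).trans hqq.symm)
    let h : S'.LeftHomologyData :=
    { K := _
      H := _
      i := k T τ M (i + 1)
      π := d
      wi := k_comp T τ hτ hex M (i + 1)
      hi := hk
      wπ := by erw [hl]; exact hqd
      hπ := by
        refine CokernelCofork.IsColimit.ofπ _ _
          (fun f hf => hcok.desc f ((congrArg (· ≫ f) hl).symm.trans hf))
          (fun f hf => hcok.g_desc _ _) (fun f hf m hm => ?_)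
        exact (cancel_epi d).1 (hm.trans (hcok.g_desc _ _).symm) }
    obtain ⟨e'⟩ := nonempty_shift T τ hτ hex M hM i 0
    exact ⟨C.homologyIsoSc' i (i + 1) (i + 2) (by simp) (by simp) ≪≫
      ShortComplex.homologyMapIso eS ≪≫ h.homologyIso ≪≫ e' ≪≫ eqToIso (by rw [Nat.add_zero])⟩

end Groth.Agent.H52.AcycCx
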