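import Groth.Agent.H52.RelAcyclic
import Groth.Agent.S0030
import Groth.Agent.Lib.Depth.Local
import Groth.Agent.Lib.Depth.SES
import Groth.Agent.Lib.Depth.CM
import Groth.Agent.Lib.GenFinite.Regular
import Groth.Agent.Lib.QCoh.Stalk
import Groth.Agent.Lib.FlatCx.HKer

/-!
# The acyclicity lemma

For a coherent module on a proper scheme over a base, flat over it, whose higher direct images are
supported at finitely many regular points of dimension `g`, they vanish in degrees below `g`.
-/

set_option autoImplicit false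
set_option linter.style.haveILetI false
universe u

open CategoryTheory CategoryTheory.Limits AlgebraicGeometry TopologicalSpace

namespace Groth.Agent.H52.Acyclicity

noncomputable section

open Groth.Agent.Lib Groth.Agent.Lib.FlatCx.Basic
open LocCoh (idealDepth depth)

section Algebra

variable {A : Type u} [CommRing A] [IsNoetherianRing A]

/-- A finite flat module has depth at least that of the ring. -/
theorem le_idealDepth_of_flat {I : Ideal A} {n : ℕ} (h : (n : ℕ∞) ≤ idealDepth I A) (M : Type u)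
    [AddCommGroup M] [Module A M] [Module.Finite A M] [Module.Flat A M] :
    (n : ℕ∞) ≤ idealDepth I M := by
  rw [Depth.Basic.le_idealDepth_iff] at h ⊢
  rcases h with h | ⟨rs, hl, hmem, hr⟩
  · refine Or.inl ?_
    have hI : I = ⊤ := by simpa using h
    rw [hI, Submodule.top_smul]
  · exact Or.inr ⟨rs, hl, hmem,
      ((TensorProduct.lid A M).isWeaklyRegular_congr rs).mp (hr.isWeaklyRegular_rTensor (M₂ := M))⟩

/-- **The acyclicity lemma** for the exchange complex. -/
theorem subsingleton_homology {P : ChainComplex (ModuleCat.{u} A) ℤ} (hP : ZarCoh.Exchange.Grauert.Good P)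
    (T : Set (Ideal A)) (g : ℕ) (hdepth : ∀ p ∈ T, (g : ℕ∞) ≤ idealDepth p A)
    (hsupp : ∀ p : Ideal A, p.IsPrime → p ∉ T → ∀ (k : ℕ) (a : P.homology (-(k : ℤ))), ∃ h ∉ p, h • a = 0)
    (k : ℕ) (hk : k < g) : Subsingleton (P.homology (-(k : ℤ))) := by
  have hfin : ∀ j : ℤ, Module.Finite A (Q P j) := fun j =>
    haveI := (hP.fin j).1
    inferInstance
  have hvan : ∀ k : ℕ, (∀ p ∈ T, (1 : ℕ∞) ≤ idealDepth p (Q P (-(k : ℤ)))) →
      Subsingleton (P.homology (-(k : ℤ))) := by
    intro k hd
    haveI := hfin (-(k : ℤ))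
    let e := FlatCx.HKer.homologyKerEquiv P (p := -(k : ℤ)) (q := -(k : ℤ) - 1) (by omega)
    by_contra hnt
    rw [not_subsingleton_iff_nontrivial] at hnt
    haveI : Module.Finite A (P.homology (-(k : ℤ))) := Module.Finite.equiv e.symm
    obtain ⟨p, hp⟩ := associatedPrimes.nonempty A (P.homology (-(k : ℤ)))
    obtain ⟨hpp, b, hb⟩ := (Submodule.isAssociatedPrime_iff).mp hp
    have hpb : ∀ r : A, r ∈ p ↔ r • b = 0 := fun r => by
      rw [hb, Submodule.mem_colon_singleton, Submodule.mem_bot]
    have hb0 : b ≠ 0 := fun h => hpp.ne_top ((Ideal.eq_top_iff_one p).mpr ((hpb 1).mpr (by rw [h, smul_zero])))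
    by_cases hpT : p ∈ T
    swap
    · obtain ⟨h, hh, hh0⟩ := hsupp p hpp hpT k b
      exact hh ((hpb h).mpr hh0)
    let c : Q P (-(k : ℤ)) := (e b).1
    have hc : ∀ r ∈ p, r • c = 0 := fun r hr => by
      show r • (e b).1 = 0
      rw [← Submodule.coe_smul, ← map_smul, (hpb r).mp hr, map_zero, ZeroMemClass.coe_zero]
    have hc0 : c = 0 := by
      rcases (Depth.Basic.le_idealDepth_iff 1).mp (hd p hpT) with h | ⟨rs, hl, hmem, hr⟩
      · obtain ⟨r, hr1, hr2⟩ :=
          Submodule.exists_mem_and_smul_eq_self_of_fg_of_le_smul p (⊤ : Submodule A (Q P (-(k : ℤ))))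
            (Module.Finite.fg_top) h.ge
        rw [← hr2 c trivial]
        exact hc r hr1
      · obtain ⟨r, rfl⟩ := List.length_eq_one_iff.mp hl
        have hreg := ((RingTheory.Sequence.isWeaklyRegular_cons_iff _ r []).mp hr).1
        exact hreg (show r • c = r • 0 by rw [hc r (hmem r (by simp)), smul_zero])
    exact hb0 (e.injective (Subtype.ext (by rw [map_zero]; exact hc0)))
  have key : ∀ k : ℕ, k ≤ g → ∀ p ∈ T, ((g - k : ℕ) : ℕ∞) ≤ idealDepth p (Q P (-(k : ℤ))) := by
    intro k
    induction k with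
    | zero =>
      intro _ p hp
      haveI := hP.flat_Q_nonneg (-(0 : ℕ)) (by omega)
      haveI := hfin (-(0 : ℕ))
      exact le_idealDepth_of_flat (hdepth p hp) _
    | succ k ih =>
      intro hk p hp
      have hq : (-((k + 1 : ℕ) : ℤ)) + 1 = -(k : ℤ) := by push_cast; ring
      haveI := hvan k fun p hp => le_trans (by norm_cast; omega) (ih (by omega) p hp)
      haveI := hfin (-(k : ℤ))
      haveI := hfin (-((k + 1 : ℕ) : ℤ))
      haveI := (hP.fin (-((k + 1 : ℕ) : ℤ))).1
      haveI := (hP.fin (-((k + 1 : ℕ) : ℤ))).2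
      let d := FlatCx.HKer.Dbar P (-(k : ℤ)) (-((k + 1 : ℕ) : ℤ))
      have hinj : Function.Injective d := by
        rw [← LinearMap.ker_eq_bot, ← Submodule.subsingleton_iff_eq_bot]
        exact (FlatCx.HKer.homologyKerEquiv P hq).symm.toEquiv.subsingleton
      refine Depth.SES.le_idealDepth_right p (f := d) (g := (Bd P (-((k + 1 : ℕ) : ℤ))).mkQ) hinj ?_
        (Submodule.mkQ_surjective _) ?_ ?_
      · rw [LinearMap.exact_iff, Submodule.ker_mkQ, FlatCx.HKer.range_Dbar P hq]
      · exact le_trans (by norm_cast; omega) (le_idealDepth_of_flat (hdepth p hp) _)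
      · rw [show g - (k + 1) + 1 = g - k by omega]
        exact ih (by omega) p hp
  exact hvan k fun p hp => le_trans (by norm_cast; omega) (key k hk.le p hp)

/-- Depth at a maximal ideal with regular localisation. -/
theorem le_idealDepth_of_regular (p : Ideal A) [p.IsMaximal] (g : ℕ)
    [IsRegularLocalRing (Localization.AtPrime p)] (hdim : ringKrullDim (Localization.AtPrime p) = g) :
    (g : ℕ∞) ≤ idealDepth p A := by
  have hne : p • (⊤ : Submodule A A) ≠ ⊤ := by
    rw [smul_eq_mul, Ideal.mul_top]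
    exact ‹p.IsMaximal›.ne_top
  obtain ⟨q, hq, he⟩ := Depth.Local.exists_depth_localization_eq (I := p) (M := A) hne
  obtain ⟨q, hqp⟩ := q
  obtain rfl : p = q := ‹p.IsMaximal›.eq_of_le hqp.ne_top hq
  haveI := GenFinite.Regular.isCohenMacaulayLocalRing (Localization.AtPrime p)
  have h := Depth.CM.ringKrullDim_eq_depth (R := Localization.AtPrime p)
  rw [hdim] at h
  rw [he]
  exact le_of_eq (WithBot.coe_injective h)

end Algebra

section Scheme

variable {X Y : Scheme.{u}} (f : X ⟶ Y) [IsProper f] [IsLocallyNoetherian Y] [JacobsonSpace Y]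
  (F : X.Modules) (hF : Coh.IsCoh F) (hfl : FlatMod.IsFlatOver f F)

include hF hfl

/-- The direct image in one degree has no support where the closed fibres are acyclic in that degree. -/
theorem notMem_support (V : Y.Opens) (O : Y.Opens) (n : ℕ)
    (h : ∀ y ∈ V ⊓ O, IsClosed ({y} : Set Y) → Subsingleton (CohIII.fiberH f F y n))
    (v : (V : Scheme.{u})) (hv : V.ι v ∈ O) :
    v ∉ CohB1.support (((Coh.Rpush f n).obj F).restrict V.ι) := by
  rw [Modules.Support.support_restrict]
  intro hv'
  obtain ⟨y, hy, hyc⟩ := nonempty_inter_closedPoints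
    (Z := closure {V.ι v} ∩ ((V ⊓ O : Y.Opens) : Set Y)) ⟨V.ι v, subset_closure rfl, v.2, hv⟩
    (isClosed_closure.isLocallyClosed.inter (V ⊓ O).2.isLocallyClosed)
  obtain ⟨U, hyU, hU⟩ := Groth.Agent.S2385.result f F hF hfl y n (h y hy.2 hyc)
  rw [← Modules.Support.support_eq_empty_iff, Modules.Support.support_restrict] at hU
  have hvU : V.ι v ∈ U := (specializes_iff_mem_closure.mpr hy.1).mem_open U.2 hyU
  exact Set.eq_empty_iff_forall_notMem.mp hU ⟨V.ι v, hvU⟩ hv'

/-- Acyclicity in one degree of the closed fibres over an affine open. -/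
theorem subsingleton_HU_degree (V : Y.Opens) (hV : IsAffineOpen V) (n : ℕ)
    (h : ∀ y ∈ V, IsClosed ({y} : Set Y) → Subsingleton (CohIII.fiberH f F y n)) :
    Subsingleton (CohTop.HU (Coh.toAb F) n (f ⁻¹ᵁ V)) := by
  haveI : F.IsQuasicoherent := hF.1
  haveI : IsAffine (V : Scheme.{u}) := hV
  have hz : IsZero (((Coh.Rpush f n).obj F).restrict V.ι) := by
    rw [← Modules.Support.support_eq_empty_iff, Set.eq_empty_iff_forall_notMem]
    exact fun v => notMem_support f F hF hfl V ⊤ n (fun y hy => h y hy.1) v trivial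
  obtain ⟨s⟩ := ZarCoh.Exchange.LocalRep.nonempty_sections f V F n
  haveI := Modules.AffineSections.subsingleton_sections hz ⊤
  haveI : Subsingleton (Coh.HH _ (F.restrict (f ⁻¹ᵁ V).ι) n) := s.symm.toEquiv.subsingleton
  exact (ZarCoh.Morph.nonempty_HHon_equiv F (f ⁻¹ᵁ V) n).some.symm.toEquiv.subsingleton

/-- **Vanishing below the dimension**: closed fibres acyclic off finitely many regular points of
dimension `g` kill the cohomology of the preimage of an affine open in degrees below `g`. -/
theorem subsingleton_HU_lt (V : Y.Opens) (hV : IsAffineOpen V) (Z : Set Y) (hZ : Z.Finite) (g : ℕ)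
    (hZc : ∀ y ∈ Z, IsClosed ({y} : Set Y))
    (hreg : ∀ y ∈ Z, IsRegularLocalRing (Y.presheaf.stalk y) ∧ ringKrullDim (Y.presheaf.stalk y) = g)
    (h : ∀ y ∈ V, y ∉ Z → IsClosed ({y} : Set Y) → ∀ n, Subsingleton (CohIII.fiberH f F y n))
    (n : ℕ) (hn : n < g) : Subsingleton (CohTop.HU (Coh.toAb F) n (f ⁻¹ᵁ V)) := by
  haveI : F.IsQuasicoherent := hF.1
  haveI : IsAffine (V : Scheme.{u}) := hV
  obtain ⟨b, P, h1, h2, h3, h4, h5⟩ := ZarCoh.Exchange.LocalRep.exists_rep f V F hF hfl
  have hP : ZarCoh.Exchange.Grauert.Good P := by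
    refine ⟨fun j => ⟨h2 j, ?_⟩, ⟨b, h1⟩, h4⟩
    haveI := h3 j
    infer_instance
  have htop : IsAffineOpen (⊤ : (V : Scheme.{u}).Opens) := isAffineOpen_top _
  let O : Y.Opens := ⟨Zᶜ, IsClosed.isOpen_compl (self := by
    rw [← Set.biUnion_of_singleton Z]
    exact hZ.isClosed_biUnion fun y hy => hZc y hy)⟩
  let T : Set (Ideal Γ((V : Scheme.{u}), ⊤)) :=
    (fun v => (htop.primeIdealOf ⟨v, trivial⟩).asIdeal) '' (V.ι ⁻¹' Z)
  suffices Subsingleton (P.homology (-(n : ℤ))) by
    obtain ⟨⟨s⟩, -⟩ := h5 n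
    obtain ⟨e⟩ := ZarCoh.Exchange.LocalRep.nonempty_sections f V F n
    haveI : Subsingleton (Coh.HH _ (F.restrict (f ⁻¹ᵁ V).ι) n) := (e.symm.trans s).toEquiv.subsingleton
    exact (ZarCoh.Morph.nonempty_HHon_equiv F (f ⁻¹ᵁ V) n).some.symm.toEquiv.subsingleton
  refine subsingleton_homology hP T g ?_ ?_ n hn
  · rintro p ⟨v, hv, rfl⟩
    let p := (htop.primeIdealOf ⟨v, trivial⟩).asIdeal
    haveI : p.IsMaximal := by
      rw [← PrimeSpectrum.isClosed_singleton_iff_isMaximal]
      have hvc : IsClosed ({v} : Set (V : Scheme.{u})) := by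
        rw [← Set.preimage_image_eq {v} V.ι.isOpenEmbedding.injective, Set.image_singleton]
        exact (hZc _ hv).preimage V.ι.continuous
      have : ({htop.primeIdealOf ⟨v, trivial⟩} : Set _) = htop.fromSpec ⁻¹' {v} := by
        ext q
        simp only [Set.mem_singleton_iff, Set.mem_preimage]
        constructor
        · rintro rfl; exact htop.fromSpec_primeIdealOf ⟨v, trivial⟩
        · intro hq
          exact htop.fromSpec.isOpenEmbedding.injective
            (hq.trans (htop.fromSpec_primeIdealOf ⟨v, trivial⟩).symm)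
      rw [this]
      exact hvc.preimage htop.fromSpec.continuous
    letI := TopCat.Presheaf.algebra_section_stalk (V : Scheme.{u}).presheaf (U := ⊤) ⟨v, trivial⟩
    haveI := htop.isLocalization_stalk ⟨v, trivial⟩
    let e : (Y.presheaf.stalk (V.ι v)) ≃+* Localization.AtPrime p :=
      ((V.stalkIso v).symm.commRingCatIsoToRingEquiv).trans
        (IsLocalization.algEquiv p.primeCompl ((V : Scheme.{u}).presheaf.stalk v)
          (Localization.AtPrime p)).toRingEquiv
    haveI := (hreg _ hv).1
    haveI : IsRegularLocalRing (Localization.AtPrime p) := IsRegularLocalRing.of_ringEquiv e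
    exact le_idealDepth_of_regular p g (by rw [← ringKrullDim_eq_of_ringEquiv e, (hreg _ hv).2])
  · intro p hp hpT k a
    let q : PrimeSpectrum Γ((V : Scheme.{u}), ⊤) := ⟨p, hp⟩
    let v : (V : Scheme.{u}) := htop.fromSpec q
    have hq : htop.primeIdealOf ⟨v, trivial⟩ = q :=
      htop.fromSpec.isOpenEmbedding.injective (htop.fromSpec_primeIdealOf ⟨v, trivial⟩)
    have hvZ : V.ι v ∉ Z := fun hz => hpT ⟨v, hz, congrArg PrimeSpectrum.asIdeal hq⟩
    obtain ⟨⟨s⟩, -⟩ := h5 k
    let G := ((Coh.Rpush f k).obj F).restrict V.ι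
    haveI : ((Coh.Rpush f k).obj F).IsQuasicoherent := Groth.Agent.S0030.result f F k
    have hns : v ∉ CohB1.support G :=
      notMem_support f F hF hfl V O k (fun y hy hyc => h y hy.1 hy.2 hyc k) v hvZ
    haveI : Subsingleton (G.presheaf.stalk v) := by
      by_contra hc; exact hns hc
    obtain ⟨r, hr, hr0⟩ := (QCoh.Stalk.germ_eq_zero_iff G htop (x := v) trivial (s.symm a)).mp
      (Subsingleton.elim _ _)
    refine ⟨r, ?_, s.symm.injective (by rw [map_smul, map_zero]; exact hr0)⟩
    have h := SetLike.ext_iff.mp (htop.fromSpec_preimage_basicOpen r) q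
    exact h.mp hr

end Scheme

end

end Groth.Agent.H52.Acyclicity
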