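import Groth.Prelude.Def_Adeq
import Mathlib.Algebra.Category.ModuleCat.Presheaf
import Mathlib.Algebra.Category.ModuleCat.Presheaf.Abelian
import Mathlib.CategoryTheory.Preadditive.Injective.Basic
import Mathlib.Algebra.Category.Grp.EpiMono

/-!
# Free module-valued functors on an algebra; injective functors turn surjections into surjections
-/

universe u

open CategoryTheory Opposite Limits

noncomputable section

namespace Groth.Agent.H52.AdeqFree

variable {A : Type u} [CommRing A] (C : Adeq.Alg A)

/-- Values of the free functor on `C`. -/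
abbrev V (D : Adeq.Alg A) : Type (u + 1) := ULift.{u + 1} ((C ⟶ D) →₀ (D : Type u))

/-- Transition maps. -/
def res {D D' : Adeq.Alg A} (f : D ⟶ D') : V C D →+ V C D' :=
  (AddEquiv.ulift.symm.toAddMonoidHom.comp
    ((Finsupp.mapDomain.addMonoidHom (fun φ : C ⟶ D => φ ≫ f)).comp
      (Finsupp.mapRange.addMonoidHom f.hom.toRingHom.toAddMonoidHom))).comp AddEquiv.ulift.toAddMonoidHom

theorem res_single {D D' : Adeq.Alg A} (f : D ⟶ D') (φ : C ⟶ D) (r : D) :
    res C f (ULift.up (Finsupp.single φ r)) = ULift.up (Finsupp.single (φ ≫ f) (f.hom r)) := by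
  refine congrArg ULift.up ?_
  change Finsupp.mapDomain (fun φ : C ⟶ D => φ ≫ f) (Finsupp.mapRange (fun d : (D : Type u) => f.hom d) (map_zero f.hom) (Finsupp.single φ r)) = _
  rw [Finsupp.mapRange_single, Finsupp.mapDomain_single]

theorem hom_ext' {D : Adeq.Alg A} {G : Type*} [AddCommMonoid G] {f g : V C D →+ G}
    (h : ∀ (φ : C ⟶ D) (r : D), f (ULift.up (Finsupp.single φ r)) = g (ULift.up (Finsupp.single φ r))) :
    f = g := by
  have : f.comp AddEquiv.ulift.symm.toAddMonoidHom = g.comp AddEquiv.ulift.symm.toAddMonoidHom :=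
    Finsupp.addHom_ext h
  exact AddMonoidHom.ext fun x => DFunLike.congr_fun this x.down

/-- The underlying functor to abelian groups. -/
abbrev PAb : (Adeq.Alg A)ᵒᵖᵒᵖ ⥤ Ab.{u + 1} where
  obj X := AddCommGrpCat.of (V C X.unop.unop)
  map f := AddCommGrpCat.ofHom (res C f.unop.unop)
  map_id X := AddCommGrpCat.hom_ext (hom_ext' C fun φ r => by
    refine (res_single C _ φ r).trans ?_
    simp)
  map_comp f g := AddCommGrpCat.hom_ext (hom_ext' C fun φ r => by
    refine (res_single C _ φ r).trans ?_
    simp [res_single])

/-- The free module-valued functor on `C`. -/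
def P : Adeq.MVF A :=
  PresheafOfModules.ofPresheaf (PAb C) (by
    intro X Y f r m
    obtain ⟨m⟩ := m
    induction m using Finsupp.induction_linear with
    | zero =>
      change res C f.unop.unop (r • (0 : V C X.unop.unop)) = _ • res C f.unop.unop 0
      rw [smul_zero, map_zero, smul_zero]
    | add x y hx hy =>
      change res C f.unop.unop (r • (ULift.up x + ULift.up y : V C X.unop.unop)) =
        f.unop.unop.hom r • res C f.unop.unop (ULift.up x + ULift.up y)
      rw [smul_add, map_add, map_add, smul_add]
      exact congrArg₂ (· + ·) hx hy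
    | single φ a =>
      change res C f.unop.unop (ULift.up (r • Finsupp.single φ a)) =
        f.unop.unop.hom r • res C f.unop.unop (ULift.up (Finsupp.single φ a))
      rw [Finsupp.smul_single, res_single, res_single]
      change _ = ULift.up (f.unop.unop.hom r • Finsupp.single _ _)
      rw [Finsupp.smul_single, smul_eq_mul, smul_eq_mul, map_mul])

variable {C}

/-- The component of the map attached to an element. -/
def descApp {I : Adeq.MVF A} (x : I.obj (Adeq.pt C)) (D : Adeq.Alg A) : V C D →+ I.obj (Adeq.pt D) :=
  (Finsupp.liftAddHom fun φ : C ⟶ D => (smulAddHom (D : Type u)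
    (I.obj (Adeq.pt D))).flip (I.map (Adeq.ptHom φ) x)).comp AddEquiv.ulift.toAddMonoidHom

theorem descApp_single {I : Adeq.MVF A} (x : I.obj (Adeq.pt C)) (D : Adeq.Alg A) (φ : C ⟶ D) (r : D) :
    descApp x D (ULift.up (Finsupp.single φ r)) = r • I.map (Adeq.ptHom φ) x := by
  exact Finsupp.liftAddHom_apply_single _ φ r

/-- The map attached to an element. -/
def desc {I : Adeq.MVF A} (x : I.obj (Adeq.pt C)) : P C ⟶ I :=
  PresheafOfModules.homMk
    { app := fun X => AddCommGrpCat.ofHom (descApp x X.unop.unop)
      naturality := fun X Y f => AddCommGrpCat.hom_ext (hom_ext' C fun φ r => by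
        change descApp x _ (res C f.unop.unop (ULift.up (Finsupp.single φ r))) =
          I.map f (descApp x _ (ULift.up (Finsupp.single φ r)))
        rw [res_single, descApp_single, descApp_single]
        refine Eq.trans ?_ (I.map_smul f r _).symm
        congr 1
        exact (I.congr_map_apply (show Adeq.ptHom (φ ≫ f.unop.unop) = Adeq.ptHom φ ≫ f from rfl) x).trans
          (I.map_comp_apply _ _ x)) }
    (by
      intro X r m
      obtain ⟨m⟩ := m
      induction m using Finsupp.induction_linear with
      | zero =>
        change descApp x _ (r • (0 : V C X.unop.unop)) = r • descApp x _ 0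
        rw [smul_zero, map_zero]
        exact (smul_zero _).symm
      | add a b ha hb =>
        change descApp x _ (r • (ULift.up a + ULift.up b : V C X.unop.unop)) =
          r • descApp x _ (ULift.up a + ULift.up b)
        rw [smul_add, map_add, map_add, smul_add]
        exact congrArg₂ (· + ·) ha hb
      | single φ a =>
        change descApp x _ (ULift.up (r • Finsupp.single φ a)) = r • descApp x _ (ULift.up (Finsupp.single φ a))
        rw [Finsupp.smul_single, descApp_single, descApp_single, smul_eq_mul, mul_smul]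
        rfl)

/-- The canonical element. -/
def gen : (P C).obj (Adeq.pt C) := ULift.up (Finsupp.single (𝟙 C) (1 : (C : Type u)))

/-- Functoriality in the algebra. -/
def precomp {C' : Adeq.Alg A} (h : C ⟶ C') : P C' ⟶ P C :=
  desc (C := C') ((P C).map (Adeq.ptHom h) gen)

theorem desc_gen {I : Adeq.MVF A} (x : I.obj (Adeq.pt C)) : (desc x).app (Adeq.pt C) gen = x := by
  refine (descApp_single x C (𝟙 C) 1).trans ?_
  refine (one_smul _ _).trans ?_
  exact (I.congr_map_apply (show Adeq.ptHom (𝟙 C) = 𝟙 _ from rfl) x).trans (by simp; rfl)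

theorem precomp_gen {C' : Adeq.Alg A} (h : C ⟶ C') :
    (precomp h).app (Adeq.pt C') gen = (P C).map (Adeq.ptHom h) gen := desc_gen _

theorem precomp_app {C' : Adeq.Alg A} (h : C ⟶ C') (D : Adeq.Alg A) (m : V C' D) :
    (descApp (C := C') (I := P C) ((P C).map (Adeq.ptHom h) gen) D m : V C D) =
      ULift.up (m.down.mapDomain fun φ => h ≫ φ) := by
  let R : V C' D →+ V C D := (AddEquiv.ulift.symm.toAddMonoidHom.comp
    (Finsupp.mapDomain.addMonoidHom (fun φ : C' ⟶ D => h ≫ φ))).comp AddEquiv.ulift.toAddMonoidHom
  have hR : (descApp (C := C') (I := P C) ((P C).map (Adeq.ptHom h) gen) D : V C' D →+ V C D) = R := by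
    refine hom_ext' C' fun φ r => ?_
    refine (descApp_single (C := C') (I := P C) _ D φ r).trans ?_
    show r • (res C φ (res C h (ULift.up (Finsupp.single (𝟙 C) (1 : (C : Type u))))) : V C D) =
      ULift.up (Finsupp.mapDomain (fun φ : C' ⟶ D => h ≫ φ) (Finsupp.single φ r))
    rw [res_single, res_single, Finsupp.mapDomain_single, map_one, map_one]
    refine congrArg ULift.up ?_
    show r • Finsupp.single _ _ = _
    rw [Finsupp.smul_single, smul_eq_mul, mul_one, Category.id_comp]
  exact congr($hR m)

theorem mono_precomp {C' : Adeq.Alg A} (h : C ⟶ C') (hh : Function.Surjective h.hom) : Mono (precomp h) := by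
  have hinj : ∀ D : Adeq.Alg A, Function.Injective (fun φ : C' ⟶ D => h ≫ φ) := fun D φ ψ e =>
    CommAlgCat.hom_ext (AlgHom.ext fun c => by
      obtain ⟨b, rfl⟩ := hh c
      exact congr($(congrArg CommAlgCat.Hom.hom e) b))
  refine (PresheafOfModules.toPresheaf _).mono_of_mono_map ?_
  refine @NatTrans.mono_of_mono_app _ _ _ _ _ _ _ fun X => ?_
  rw [AddCommGrpCat.mono_iff_injective]
  intro a b hab
  have hab' : descApp (C := C') (I := P C) ((P C).map (Adeq.ptHom h) gen) X.unop.unop a =
      descApp (C := C') (I := P C) ((P C).map (Adeq.ptHom h) gen) X.unop.unop b := hab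
  have ha := precomp_app h X.unop.unop a
  have hb := precomp_app h X.unop.unop b
  exact ULift.ext _ _ (Finsupp.mapDomain_injective (hinj _)
    (congrArg ULift.down ((ha.symm.trans hab').trans hb)))

theorem surjective_map {I : Adeq.MVF A} [Injective I] {C' : Adeq.Alg A} (h : C ⟶ C')
    (hh : Function.Surjective h.hom) : Function.Surjective (I.map (Adeq.ptHom h)) := fun y => by
  haveI := mono_precomp h hh
  let y' : I.obj (Adeq.pt C') := y
  let z : P C ⟶ I := Injective.factorThru (desc (C := C') y') (precomp h)
  have hz : precomp h ≫ z = desc (C := C') y' := Injective.comp_factorThru _ _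
  refine ⟨z.app (Adeq.pt C) gen, ?_⟩
  refine (PresheafOfModules.naturality_apply z (Adeq.ptHom h) gen).symm.trans ?_
  refine (congrArg (z.app (Adeq.pt C')) (precomp_gen h)).symm.trans ?_
  exact (congr($(congrArg (fun t => PresheafOfModules.Hom.app t (Adeq.pt C')) hz) (gen (C := C')))).trans
    (desc_gen y')

end Groth.Agent.H52.AdeqFree
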