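import Groth.Agent.Lib.GrpQ.AffineQuot
import Groth.Agent.Lib.GrpQ.Kernel
import Groth.Agent.Lib.GrpQ.MonoClosed
import Groth.Agent.Lib.GrpQ.DomFF
import Groth.Agent.Lib.GrpQ.FlatInj
import Groth.Agent.H1.Hopf
import Groth.Agent.H1.GrpIrred
import Mathlib.AlgebraicGeometry.Morphisms.Proper
import Mathlib.FieldTheory.IsAlgClosed.Basic

/-!
A homomorphism from an integral affine algebraic group to a proper group is trivial.
-/

set_option autoImplicit false
set_option linter.style.haveILetI false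
universe u

open CategoryTheory Limits MonoidalCategory CartesianMonoidalCategory MonObj AlgebraicGeometry

namespace Groth.Agent.H52.AffToAV

open Groth.Agent.Lib Groth.Agent.Lib.GrpQ Groth.Agent.Lib.GrpQ.DomFlat

variable {k : Type u} [Field k]

/-- An affine proper scheme with integral ring of functions over an algebraically closed field is
a point. -/
theorem isIso_hom [IsAlgClosed k] {Q : Over (Spec (CommRingCat.of k))} [IsAffine Q.left]
    [IsProper Q.hom] [IsDomain Γ(Q.left, ⊤)] : IsIso Q.hom := by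
  haveI : IsAffineHom Q.hom := inferInstance
  haveI hfin : IsFinite Q.hom := IsFinite.iff_isProper_and_isAffineHom.mpr ⟨inferInstance, inferInstance⟩
  let φ : k →+* Γ(Q.left, ⊤) := ((Scheme.ΓSpecIso (CommRingCat.of k)).inv ≫ Q.hom.appTop).hom
  have h1 : φ.Finite := by
    refine RingHom.Finite.comp (hfin.finite_app ⊤ (isAffineOpen_top _))
      (RingHom.Finite.of_surjective _ ?_)
    exact (ConcreteCategory.bijective_of_isIso (Scheme.ΓSpecIso (CommRingCat.of k)).inv).2
  algebraize [φ]
  have hb : Function.Bijective φ := IsAlgClosed.algebraMap_bijective_of_isIntegral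
  haveI : IsIso Q.hom.appTop := by
    haveI : IsIso ((Scheme.ΓSpecIso (CommRingCat.of k)).inv ≫ Q.hom.appTop) :=
      (ConcreteCategory.isIso_iff_bijective _).mpr hb
    exact IsIso.of_isIso_comp_left (Scheme.ΓSpecIso (CommRingCat.of k)).inv _
  haveI : IsIso (Spec.map Q.hom.appTop) := inferInstance
  have h2 : Q.hom = Q.left.isoSpec.hom ≫ Spec.map Q.hom.appTop ≫ (Spec (CommRingCat.of k)).isoSpec.inv := by
    simp [Scheme.isoSpec_hom_naturality_assoc]
  rw [h2]; infer_instance

variable (A : Type u) [CommRing A] [HopfAlgebra k A] [Algebra.FiniteType k A]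

theorem trivial_sp [IsAlgClosed k] [IsDomain A] {B : Over (Spec (CommRingCat.of k))} [GrpObj B]
    [IsProper B.hom] (f : AffQ.sp k A ⟶ B) [IsMonHom f] : f = 1 := by
  obtain ⟨N, _, i, _, hi, hK, hN⟩ := exists_kernel f
  obtain ⟨Q, _, q, _, _, _, hqf, hqs, hqK⟩ := AffQ.exists_quotient N i hN
  haveI : LocallyOfFiniteType (AffQ.sp k A).hom := locallyOfFiniteType_of_finiteType A
  haveI : QuasiCompact (AffQ.sp k A).hom := quasiCompact_sp A
  have hcov : IsCover q := isCover_hom q
  have hf0 : i ≫ f = toUnit N ≫ η[B] := by rw [kernel_comp hK, Hom.one_def]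
  obtain ⟨ψ, hψ⟩ := exists_desc hcov f fun T x y h => comp_eq_of_kernel hqK f hf0 x y h
  haveI : IsMonHom (q ≫ ψ) := hψ.symm ▸ ‹IsMonHom f›
  haveI : IsMonHom ψ := isMonHom_of_cover hcov ψ
  haveI : Mono ψ := by
    refine ⟨fun {T} a b hab => ?_⟩
    obtain ⟨T', p, x, hp, hx⟩ := exists_lift hcov (a⁻¹ * b)
    have h1 : x ≫ f = 1 := by
      rw [← hψ, ← Category.assoc, hx, Category.assoc, MonObj.mul_comp, GrpObj.inv_comp, hab,
        inv_mul_cancel, MonObj.comp_one]
    obtain ⟨n, rfl⟩ := (mem_kernel hK x).2 h1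
    have h2 : p ≫ (a⁻¹ * b) = 1 := by
      rw [← hx, Category.assoc, kernel_comp hqK, MonObj.comp_one]
    exact (inv_mul_eq_one.mp (cancel_cover hp (h2.trans (MonObj.comp_one p).symm)))
  haveI : QuasiCompact Q.hom := inferInstance
  haveI : QuasiCompact ψ.left := quasiCompact_left ψ
  haveI : IsClosedImmersion ψ.left := MonoClosed.isClosedImmersion_of_mono ψ
  haveI : IsProper Q.hom := by rw [← Over.w ψ]; infer_instance
  haveI : IsDomain Γ((AffQ.sp k A).left, ⊤) :=
    (Scheme.ΓSpecIso (CommRingCat.of A)).commRingCatIsoToRingEquiv.toMulEquiv.isDomain A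
  haveI : IsDomain Γ(Q.left, ⊤) := by
    let g : Γ(Q.left, ⊤) →+* Γ((AffQ.sp k A).left, ⊤) := q.left.appTop.hom
    exact @Function.Injective.isDomain _ _ _ ‹IsDomain Γ((AffQ.sp k A).left, ⊤)› _ _ _ _ g (FlatInj.app_injective q.left ⊤)
  haveI := isIso_hom (Q := Q)
  have hq : q = 1 := by
    refine Over.OverMorphism.ext ((cancel_mono Q.hom).mp ?_)
    rw [Over.w, Over.w]
  rw [← hψ, hq, MonObj.one_comp]

theorem trivial [IsAlgClosed k] {G B : Over (Spec (CommRingCat.of k))} [GrpObj G] [GrpObj B]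
    [IsAffine G.left] [IsIntegral G.left] [LocallyOfFiniteType G.hom] [IsProper B.hom]
    (f : G ⟶ B) [IsMonHom f] : f = 1 := by
  obtain ⟨A, _, _, e, he⟩ := H1.Hopf.exists_iso G
  haveI : IsIso e.hom.left := ((Over.forget _).mapIso e).isIso_hom
  haveI : LocallyOfFiniteType (AffQ.sp k A).hom := by
    rw [show (AffQ.sp k A).hom = inv e.hom.left ≫ G.hom from by rw [IsIso.eq_inv_comp, Over.w]]
    infer_instance
  haveI : Algebra.FiniteType k A := finiteType_of_locallyOfFiniteType inferInstance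
  haveI : IsIntegral (AffQ.sp k A).left := @isIntegral_of_isOpenImmersion _ _ e.inv.left (inferInstance) ‹_› ⟨e.hom.left (Classical.arbitrary G.left)⟩
  haveI : IsIntegral (Spec (CommRingCat.of A)) := ‹IsIntegral (AffQ.sp k A).left›
  haveI : IsDomain A := (affine_isIntegral_iff (CommRingCat.of A)).mp inferInstance
  haveI := he
  have h := trivial_sp A (e.inv ≫ f)
  rw [← Category.id_comp f, ← e.hom_inv_id, Category.assoc, h, MonObj.comp_one]

end Groth.Agent.H52.AffToAV
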