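import Groth.Agent.H52.SimpleAmple
import Groth.Agent.H52.PicZeroTranslate
import Groth.Agent.Lib.ExchangeFP29.Main
import Groth.Agent.Lib.ZarCoh.FP
import Groth.Prelude.Def_CurvBase

/-!
# The Euler characteristic of a degenerate class vanishes
-/

set_option autoImplicit false
set_option linter.style.haveILetI false
universe u

open CategoryTheory CategoryTheory.Limits MonoidalCategory CartesianMonoidalCategory MonObj AlgebraicGeometry
open Groth.Agent.H3
open Groth.Agent.Lib.GrpQ.MonoClosed (ptOf exists_ptOf)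
open Groth.Agent.H52.NondegAmple (tr tr_mul ptOf_tr)
open scoped TensorProduct

namespace Groth.Agent.H52.DegenEuler

noncomputable section

local instance (Y : Scheme.{u}) : PicGrp.Law Y := Groth.Agent.Lib.TensorMod.Invertible.law Y

variable {K : Type u} [Field K] [IsAlgClosed K]

local notation "S" => Spec (CommRingCat.of K)

/-- The dimensions of the cohomology of a slice are those of the fibre. -/
theorem betti_slice {A P : Over (Spec (CommRingCat.of K))} [IsProper A.hom] (q : P ⟶ A) (D : P.left.Modules)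
    (hD : PicF.IsInvertible D) (y : A.left) (hy : IsClosed ({y} : Set A.left)) (s : A ⟶ P)
    (hs : IsPullback s.left A.hom q.left (pointOfClosedPoint A.hom y hy)) (n : ℕ) :
    @Module.finrank K (Coh.HH A.left ((Scheme.Modules.pullback s.left).obj D) n) _ _
        (@Coh.moduleOver K _ A.left ⟨A.hom⟩ ((Scheme.Modules.pullback s.left).obj D) n) =
      PerfAux.betti q.left D y n := by
  letI : A.left.Over S := ⟨A.hom⟩
  haveI : IsProper (A.left ↘ S) := ‹IsProper A.hom›
  let r₀ := residueFieldIsoBase A.hom y hy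
  let θ : Spec (CommRingCat.of K) ⟶ Spec (A.left.residueField y) := Spec.map r₀.hom
  haveI : IsIso θ := inferInstance
  have h' : IsPullback s.left (A.hom ≫ θ) q.left (A.left.fromSpecResidueField y) :=
    hs.of_iso (Iso.refl _) (Iso.refl _) (asIso θ) (Iso.refl _) (by simp) (by simp) (by simp)
      (by simp [θ, r₀, pointOfClosedPoint])
  let σ : q.left.fiber y ⟶ A.left := h'.isoPullback.inv
  haveI : IsIso σ := inferInstanceAs (IsIso h'.isoPullback.inv)
  have hσ : σ ≫ s.left = q.left.fiberι y := h'.isoPullback_inv_fst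
  have hw : σ ≫ A.hom = q.left.fiberToSpecResidueField y ≫ Spec.map r₀.inv := by
    rw [show q.left.fiberToSpecResidueField y = σ ≫ A.hom ≫ θ from h'.isoPullback_inv_snd.symm,
      Category.assoc, Category.assoc, ← Spec.map_comp, Iso.inv_hom_id, Spec.map_id, Category.comp_id]
  letI : (q.left.fiber y).Over S := ⟨σ ≫ A.hom⟩
  haveI : CompactSpace A.left := QuasiCompact.compactSpace_of_compactSpace A.hom
  haveI : QuasiSeparatedSpace A.left := quasiSeparatedSpace_of_quasiSeparated A.hom
  let M := (Scheme.Modules.pullback s.left).obj D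
  haveI : Coh.IsQCoh M :=
    Groth.Agent.Lib.TensorMod.QCohInv.isQCoh_of_isInvertible (PicLoc.isInvertible_pullback s.left hD)
  have h : IsPullback σ (q.left.fiber y ↘ S) (A.left ↘ S)
      (Spec.map (CommRingCat.ofHom (algebraMap K K))) :=
    haveI : IsIso (Spec.map (CommRingCat.ofHom (algebraMap K K))) := by
      rw [show (CommRingCat.ofHom (algebraMap K K)) = 𝟙 _ from rfl, Spec.map_id]; infer_instance
    IsPullback.of_horiz_isIso ⟨by
      rw [show (CommRingCat.ofHom (algebraMap K K)) = 𝟙 _ from rfl, Spec.map_id, Category.comp_id]; rfl⟩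
  obtain ⟨e⟩ := ZarCoh.FlatBC.Equiv.nonempty_linearEquiv h M n
  let i : (Scheme.Modules.pullback σ).obj M ≅ (Scheme.Modules.pullback (q.left.fiberι y)).obj D :=
    (Scheme.Modules.pullbackComp σ s.left).app D ≪≫ (Scheme.Modules.pullbackCongr hσ).app D
  rw [((TensorProduct.lid K _).symm.trans (e.trans (Groth.Agent.Lib.Curves.LES.isoK K i n))).finrank_eq]
  refine (congrArg Cardinal.toNat (rank_eq_of_equiv_equiv r₀.hom
    (AddEquiv.refl (PerfAux.fiberH q.left D y n))
    (r₀.commRingCatIsoToRingEquiv.bijective) ?_)).symm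
  intro r m
  show Coh.toGlobal (X := q.left.fiber y) (q.left.fiberToSpecResidueField y) r • m =
    Coh.toGlobal (X := q.left.fiber y) (σ ≫ A.hom) (r₀.hom r) • m
  rw [hw, ZarCoh.Exchange.LocalRep.toGlobal_comp, Iso.hom_inv_id_apply]
  rfl

variable {A : Over (Spec (CommRingCat.of K))} [GrpObj A] [IsProper A.hom] [GeometricallyIntegral A.hom]

/-- Twisting by a defect of a translation does not change the Euler characteristic. -/
theorem euler_twist (ℓ μ₀ : PicLoc.PicSet A.left) (x : 𝟙_ (Over S) ⟶ A) (L L' : A.left.Modules)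
    (hL : PicF.IsInvertible L) (hL' : PicF.IsInvertible L') (h : PicGrp.cls L hL = ℓ)
    (h' : PicGrp.cls L' hL' = ℓ * (PicCalc.ph (tr x) μ₀ * μ₀⁻¹)) :
    @Curv2.euler K _ A.left ⟨A.hom⟩ L = @Curv2.euler K _ A.left ⟨A.hom⟩ L' := by
  letI : A.left.Over S := ⟨A.hom⟩
  haveI : IsIntegral A.left := GeometricallyIntegral.isIntegral_of_subsingleton A.hom
  haveI : IsLocallyNoetherian A.left := LocallyOfFiniteType.isLocallyNoetherian A.hom
  haveI : Flat A.hom := inferInstance
  let f := (snd A A).left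
  haveI : IsProper f := inferInstanceAs (IsProper (pullback.snd A.hom A.hom))
  haveI : Flat f := inferInstanceAs (Flat (pullback.snd A.hom A.hom))
  haveI : LocallyOfFinitePresentation f := inferInstance
  haveI : IsLocallyNoetherian (A ⊗ A).left := LocallyOfFiniteType.isLocallyNoetherian f
  obtain ⟨D, hD, hDc⟩ := PicGrp.exists_eq_cls (PicCalc.ph (fst A A) ℓ *
    (PicCalc.ph (fst A A * snd A A) μ₀ * (PicCalc.ph (fst A A) μ₀)⁻¹))
  have hcoh := Groth.Agent.Lib.Ample.GG.isCoh_of_isInvertible hD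
  haveI : D.IsQuasicoherent := hcoh.1
  have hc := Groth.Agent.Lib.ExchangeFP29.Main.isLocallyConstant_eulerChar f D
    (Groth.Agent.Lib.ZarCoh.FP.isFP_of_isCoh D hcoh)
    (Groth.Agent.Lib.Cube.FamCx.isFlatOver_of_isInvertible f hD)
  have hid : IsPullback (𝟙 A.left) A.hom A.hom (𝟙 _) := IsPullback.of_horiz_isIso ⟨by simp⟩
  have key : ∀ (z : 𝟙_ (Over S) ⟶ A) (M : A.left.Modules) (hM : PicF.IsInvertible M),
      PicGrp.cls M hM = ℓ * (PicCalc.ph (tr z) μ₀ * μ₀⁻¹) →
      Curv2.euler K A.left M = PerfAux.eulerChar f D (ptOf z) := by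
    intro z M hM hMc
    have hy : IsClosed ({ptOf z} : Set A.left) := (pointEquivClosedPoint A.hom ⟨z.left, Over.w z⟩).2
    have hz : z.left = pointOfClosedPoint A.hom (ptOf z) hy :=
      ext_of_apply_closedPoint_eq A.hom (Over.w z) (pointOfClosedPoint_comp A.hom _ hy)
        (pointOfClosedPoint_apply A.hom _ hy _).symm
    have hs : IsPullback (lift (𝟙 A) (toUnit A ≫ z)).left A.hom f z.left := by
      have hr : IsPullback (fst A A).left (snd A A).left A.hom A.hom :=
        IsPullback.of_hasPullback A.hom A.hom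
      refine IsPullback.of_right ?_ ?_ hr
      · rw [← Over.comp_left, lift_fst, show z.left ≫ A.hom = 𝟙 _ from Over.w z]
        exact hid
      · rw [← Over.comp_left, lift_snd]
        rfl
    rw [hz] at hs
    obtain ⟨i⟩ : Nonempty (M ≅ (Scheme.Modules.pullback (lift (𝟙 A) (toUnit A ≫ z)).left).obj D) :=
      (PicCalc.iso_iff (a := PicGrp.cls M hM) rfl
        (PicCalc.cl_pullback (lift (𝟙 A) (toUnit A ≫ z)) (a := PicGrp.cls D hD) rfl)).mpr (by
          rw [hMc, ← hDc]
          simp only [map_mul, map_inv, ← PicCalc.ph_comp, MonObj.comp_mul, lift_fst, lift_snd, PicCalc.ph_id])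
    refine finsum_congr fun n => ?_
    rw [← betti_slice (snd A A) D hD (ptOf z) hy _ hs n, (Groth.Agent.Lib.Curves.LES.isoK K i n).finrank_eq]
  haveI : ConnectedSpace A.left := inferInstance
  rw [key 1 L hL (by simp [h, tr, PicCalc.ph_id]), key x L' hL' h']
  exact hc.apply_eq_of_preconnectedSpace _ _

/-- A class fixed by an abelian subvariety to which it restricts non-trivially has no cohomology. -/
theorem vanish_of_sub {B : Over S} [GrpObj B] [IsProper B.hom] [GeometricallyIntegral B.hom]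
    (i : B ⟶ A) [IsMonHom i] (L : A.left.Modules) (hL : PicF.IsInvertible L)
    (hfix : ∀ b : 𝟙_ (Over S) ⟶ B, PicCalc.ph (tr (b ≫ i)) (PicGrp.cls L hL) = PicGrp.cls L hL)
    (hne : PicCalc.ph i (PicGrp.cls L hL) ≠ 1) (n : ℕ) : Subsingleton (Coh.HH A.left L n) := by
  letI : A.left.Over S := ⟨A.hom⟩
  letI : B.left.Over S := ⟨B.hom⟩
  haveI : IsProper (A.left ↘ S) := ‹IsProper A.hom›
  haveI : IsProper (B.left ↘ S) := ‹IsProper B.hom›
  haveI : IsCommMonObj A := isCommMonObj_of_isProper_of_geometricallyIntegral A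
  haveI : IsIntegral B.left := GeometricallyIntegral.isIntegral_of_subsingleton B.hom
  haveI : Flat A.hom := inferInstance
  let ℓ := PicGrp.cls L hL
  let M : B ⊗ A ⟶ A := (fst B A ≫ i) * snd B A
  have hsl : ∀ z : 𝟙_ (Over S) ⟶ B,
      PicCalc.ph (lift (toUnit A ≫ z) (𝟙 A)) (PicCalc.ph M ℓ * (PicCalc.ph (snd B A) ℓ)⁻¹) = 1 := fun z => by
    have e : lift (toUnit A ≫ z) (𝟙 A) ≫ M = tr (z ≫ i) := by
      simp [M, tr, MonObj.comp_mul, _root_.mul_comm]
    rw [map_mul, map_inv, ← PicCalc.ph_comp, ← PicCalc.ph_comp, e, lift_snd, PicCalc.ph_id, hfix z, mul_inv_cancel]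
  haveI : IsReduced B.left := inferInstance
  haveI : JacobsonSpace B.left := LocallyOfFiniteType.jacobsonSpace B.hom
  obtain ⟨m, hm⟩ := CubeCore.seesaw (PicCalc.ph M ℓ * (PicCalc.ph (snd B A) ℓ)⁻¹) (closedPoints B.left)
    (dense_iff_closure_eq.mpr closure_closedPoints) fun y hy =>
      ⟨Over.homMk (pointOfClosedPoint B.hom y hy) (pointOfClosedPoint_comp B.hom y hy),
        ⟨IsLocalRing.closedPoint K, pointOfClosedPoint_apply B.hom y hy _⟩, hsl _⟩
  have hmi : m = PicCalc.ph i ℓ := by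
    have h := congrArg (PicCalc.ph (lift (𝟙 B) (1 : B ⟶ A))) hm
    simp only [M, map_mul, map_inv, ← PicCalc.ph_comp, MonObj.comp_mul, lift_fst_assoc, Category.id_comp,
      lift_snd, lift_fst, PicCalc.ph_id, _root_.mul_one, CubeRel.ph_one, inv_one] at h
    exact h.symm
  let N := (Scheme.Modules.pullback i.left).obj L
  have hN : PicF.IsInvertible N := PicLoc.isInvertible_pullback _ hL
  have hNc : PicGrp.cls N hN = PicCalc.ph i ℓ := Subtype.ext (PicCalc.cl_pullback i (a := ℓ) rfl)
  have hNvan : ∀ p, Subsingleton (Coh.HH B.left N p) := fun p => by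
    refine PicZeroTranslate.acyclic N hN (fun b => ?_) (by rwa [hNc]) p
    rw [hNc, ← PicCalc.ph_comp, show (𝟙 B * (toUnit B ≫ b)) ≫ i = i ≫ tr (b ≫ i) by
      simp [tr, MonObj.comp_mul, MonObj.mul_comp], PicCalc.ph_comp, hfix b]
  -- the shear
  let σ : B ⊗ A ⟶ B ⊗ A := lift (fst B A) M
  let τ : B ⊗ A ⟶ B ⊗ A := lift (fst B A) ((fst B A ≫ i)⁻¹ * snd B A)
  have hστ : σ ≫ τ = 𝟙 _ := by
    ext1 <;> simp [σ, τ, M, MonObj.comp_mul, GrpObj.comp_inv]
  have hτσ : τ ≫ σ = 𝟙 _ := by
    ext1 <;> simp [σ, τ, M, MonObj.comp_mul, GrpObj.comp_inv]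
  haveI : IsIso σ.left :=
    ⟨τ.left, by rw [← Over.comp_left, hστ]; rfl, by rw [← Over.comp_left, hτσ]; rfl⟩
  let O := Coh.structureModule B.left
  have hO : PicF.IsInvertible O := PicLoc.isInvertible_structureModule B.left
  haveI : Coh.IsQCoh N := Groth.Agent.Lib.TensorMod.QCohInv.isQCoh_of_isInvertible hN
  haveI : Coh.IsQCoh O := Groth.Agent.Lib.TensorMod.QCohInv.isQCoh_of_isInvertible hO
  haveI : Coh.IsQCoh L := Groth.Agent.Lib.TensorMod.QCohInv.isQCoh_of_isInvertible hL
  haveI : IsProper (B ⊗ A).hom :=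
    inferInstanceAs (IsProper (pullback.fst B.hom A.hom ≫ B.hom))
  let p := pullback.fst B.hom A.hom
  let q := pullback.snd B.hom A.hom
  obtain ⟨eN⟩ := ZarCoh.Exchange.Kunneth.nonempty_kunneth K B.left A.left N L
    (Groth.Agent.Lib.IntTheory.BaseChange.isFlatOver (k := K) (X := B.left) N) (fun _ => inferInstance) n
  obtain ⟨eO⟩ := ZarCoh.Exchange.Kunneth.nonempty_kunneth K B.left A.left O L
    (Groth.Agent.Lib.IntTheory.BaseChange.isFlatOver (k := K) (X := B.left) O) (fun _ => inferInstance) n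
  obtain ⟨e₁⟩ := Groth.Agent.S7804.nonempty_of_isIso σ.left (B ⊗ A).hom
    ((Scheme.Modules.pullback (snd B A).left).obj L) (PicLoc.isInvertible_pullback _ hL) n
  obtain ⟨i₂⟩ : Nonempty ((Scheme.Modules.pullback σ.left).obj ((Scheme.Modules.pullback (snd B A).left).obj L) ≅
      CohB1.tensorMod ((Scheme.Modules.pullback (fst B A).left).obj N)
        ((Scheme.Modules.pullback (snd B A).left).obj L)) :=
    (PicCalc.iso_iff (PicCalc.cl_pullback σ (PicCalc.cl_pullback (snd B A) (a := ℓ) rfl))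
      (PicCalc.cl_tensor (PicCalc.cl_pullback (fst B A) (a := PicGrp.cls N hN) rfl)
        (PicCalc.cl_pullback (snd B A) (a := ℓ) rfl))).mpr (by
      rw [← PicCalc.ph_comp, show σ ≫ snd B A = M from lift_snd _ _, hNc, ← hmi, ← hm, inv_mul_cancel_right])
  obtain ⟨e₂⟩ := Groth.Agent.S7804.nonempty_of_iso (X := (B ⊗ A).left) i₂ n
  obtain ⟨e₃⟩ := Groth.Agent.S7804.nonempty_of_iso (X := pullback B.hom A.hom)
    ((Groth.Agent.Lib.TensorMod.Basic.leftUnit ((Scheme.Modules.pullback q).obj L)).symm ≪≫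
      Groth.Agent.Lib.TensorMod.Basic.tensorIso (PicLoc.pullbackStructureIso p).symm (Iso.refl _)) n
  let E := eN.symm.trans (e₂.symm.trans (e₁.symm.trans (e₃.trans eO)))
  classical
  have hsub : Subsingleton (DirectSum (Finset.HasAntidiagonal.antidiagonal n) fun pq =>
      Coh.HH B.left N pq.1.1 ⊗[K] Coh.HH A.left L pq.1.2) := by
    haveI : ∀ pq : Finset.HasAntidiagonal.antidiagonal n,
        Subsingleton (Coh.HH B.left N pq.1.1 ⊗[K] Coh.HH A.left L pq.1.2) := fun pq => by
      haveI := hNvan pq.1.1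
      infer_instance
    exact ⟨fun x y => DFinsupp.ext fun i => Subsingleton.elim _ _⟩
  haveI := hsub
  haveI := E.symm.injective.subsingleton
  by_contra hnt
  rw [not_subsingleton_iff_nontrivial] at hnt
  haveI : Nontrivial (Coh.HH B.left O 0) := by
    have : Nontrivial (O.val.obj (Opposite.op ⊤) : Type u) := inferInstanceAs (Nontrivial Γ(B.left, ⊤))
    exact (Groth.Agent.Lib.Curves.GlobalSections.h0Equiv O).toEquiv.nontrivial
  haveI := Module.Free.of_divisionRing K (Coh.HH B.left O 0)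
  haveI : Module.FaithfullyFlat K (Coh.HH B.left O 0) := inferInstance
  haveI : Nontrivial (Coh.HH B.left O 0 ⊗[K] Coh.HH A.left L n) :=
    Module.FaithfullyFlat.lTensor_nontrivial K (Coh.HH B.left O 0) (Coh.HH A.left L n)
  haveI : Subsingleton (Coh.HH B.left O 0 ⊗[K] Coh.HH A.left L n) :=
    (DirectSum.of_injective (β := fun pq : Finset.HasAntidiagonal.antidiagonal n =>
      Coh.HH B.left O pq.1.1 ⊗[K] Coh.HH A.left L pq.1.2)
      ⟨(0, n), by simp⟩).subsingleton
  exact false_of_nontrivial_of_subsingleton (Coh.HH B.left O 0 ⊗[K] Coh.HH A.left L n)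

/-- **The Euler characteristic of a degenerate class vanishes.** -/
theorem euler_eq_zero (L : A.left.Modules) (hL : PicF.IsInvertible L)
    (hinf : ¬ Set.Finite {a : 𝟙_ (Over S) ⟶ A | PicCalc.ph (tr a) (PicGrp.cls L hL) = PicGrp.cls L hL}) :
    @Curv2.euler K _ A.left ⟨A.hom⟩ L = 0 := by
  letI : A.left.Over S := ⟨A.hom⟩
  obtain ⟨B, hG, i, hGI, hmon, hi, hns, hfix⟩ := SimpleAmple.exists_sub _ hinf
  haveI : IsProper B.hom := by rw [← Over.w i]; infer_instance
  have hzero : ∀ (M : A.left.Modules), (∀ p, Subsingleton (Coh.HH A.left M p)) → Curv2.euler K A.left M = 0 :=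
    fun M h => finsum_eq_zero_of_forall_eq_zero fun p => by
      haveI := h p
      have e : Module.finrank K (Coh.HH A.left M p) = 0 := Module.finrank_zero_of_subsingleton
      rw [e, Nat.cast_zero, mul_zero]
  by_cases hne : PicCalc.ph i (PicGrp.cls L hL) = 1
  swap
  · exact hzero L (vanish_of_sub i L hL hfix hne)
  -- twist by an invariant class restricting non-trivially
  obtain ⟨L₀, hL₀⟩ := H63.AVProjective.exists_isAmple A
  let μ₀ := PicGrp.cls L₀ hL₀.1
  have hamp : CohB1.IsAmple ((Scheme.Modules.pullback i.left).obj L₀) :=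
    Groth.Agent.Lib.Ample.Pullback.isAmple_pullback _
      (Groth.Agent.Lib.Ample.Pullback.isQuasiAffine_of_isAffineHom _) hL₀
  have hfinB := AmpleNondeg.finite_translationFixing B _ hamp
  obtain ⟨b, hb⟩ : ∃ b : 𝟙_ (Over S) ⟶ B, PicCalc.ph (tr b) (PicCalc.ph i μ₀) ≠ PicCalc.ph i μ₀ := by
    by_contra! hall
    refine hns ?_
    haveI : IsIntegral B.left := GeometricallyIntegral.isIntegral_of_subsingleton B.hom
    haveI : JacobsonSpace B.left := LocallyOfFiniteType.jacobsonSpace B.hom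
    have hfin : (Set.univ : Set (𝟙_ (Over S) ⟶ B)).Finite := hfinB.subset fun b _ =>
      (PicCalc.iso_iff (PicCalc.cl_pullback _ (PicCalc.cl_pullback i (a := μ₀) rfl))
        (PicCalc.cl_pullback i (a := μ₀) rfl)).mpr (hall b)
    have hclosed : (closedPoints B.left).Finite := (hfin.image ptOf).subset fun z hz =>
      ⟨Over.homMk (pointOfClosedPoint B.hom z hz) (pointOfClosedPoint_comp B.hom z hz), trivial,
        pointOfClosedPoint_apply B.hom z hz _⟩
    have huniv : closedPoints B.left = Set.univ := by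
      have h1 : IsClosed (closedPoints B.left) := by
        rw [← Set.biUnion_of_singleton (closedPoints B.left)]
        exact hclosed.isClosed_biUnion fun z hz => hz
      rw [← h1.closure_eq, closure_closedPoints]
    haveI : T1Space B.left := ⟨fun z => (huniv.ge (Set.mem_univ z) : z ∈ closedPoints B.left)⟩
    refine ⟨fun z w => ?_⟩
    by_contra hzw
    haveI : Finite B.left := Set.finite_univ_iff.mp (huniv ▸ hclosed)
    haveI : DiscreteTopology B.left := inferInstance
    obtain ⟨v, -, hv1, hv2⟩ := (IrreducibleSpace.isIrreducible_univ B.left).2 {z} {w} (isOpen_discrete _)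
      (isOpen_discrete _) ⟨z, trivial, rfl⟩ ⟨w, trivial, rfl⟩
    exact hzw ((Set.mem_singleton_iff.mp hv1).symm.trans (Set.mem_singleton_iff.mp hv2))
  let x := b ≫ i
  obtain ⟨L', hL', hL'c⟩ := PicGrp.exists_eq_cls (PicGrp.cls L hL * (PicCalc.ph (tr x) μ₀ * μ₀⁻¹))
  rw [euler_twist (PicGrp.cls L hL) μ₀ x L L' hL hL' rfl hL'c.symm]
  refine hzero L' (vanish_of_sub i L' hL' (fun c => ?_) ?_)
  · rw [← hL'c, map_mul, hfix c, show PicCalc.ph (tr (c ≫ i)) (PicCalc.ph (tr x) μ₀ * μ₀⁻¹) =
      PicCalc.ph (tr x) μ₀ * μ₀⁻¹ from TransInv.inv_defect μ₀ x _]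
  · rw [← hL'c, map_mul, hne, _root_.one_mul, map_mul, map_inv, ← PicCalc.ph_comp,
      show i ≫ tr x = tr b ≫ i by simp [x, tr, MonObj.comp_mul, MonObj.mul_comp], PicCalc.ph_comp]
    exact fun h => hb (mul_inv_eq_one.mp h)

end

end Groth.Agent.H52.DegenEuler
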