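import Groth.Agent.H52.Acyclicity
import Groth.Agent.H52.DegenEuler
import Groth.Agent.Lib.AffineCompl.Dim
import Groth.Agent.Lib.WeilRep.GrpAffine
import Groth.Agent.S0458

/-!
# The index theorem
-/

set_option autoImplicit false
set_option linter.style.haveILetI false
universe u

open CategoryTheory CategoryTheory.Limits MonoidalCategory CartesianMonoidalCategory MonObj AlgebraicGeometry
open Groth.Agent.H3
open Groth.Agent.Lib.GrpQ.MonoClosed (ptOf exists_ptOf)
open Groth.Agent.H52.NondegAmple (tr tr_mul ptOf_tr)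
open scoped TensorProduct

namespace Groth.Agent.H52.IndexThm

noncomputable section

local instance (Y : Scheme.{u}) : PicGrp.Law Y := Groth.Agent.Lib.TensorMod.Invertible.law Y

variable {K : Type u} [Field K] [IsAlgClosed K]

local notation "S" => Spec (CommRingCat.of K)

/-- **The index theorem**, for a class and its inverse: the cohomology of each is concentrated in one
degree, and the two degrees add up to the dimension. -/
theorem exists_index_pair {A : Over (Spec (CommRingCat.of K))} [GrpObj A] [IsProper A.hom] [Smooth A.hom]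
    [GeometricallyIntegral A.hom] (g : ℕ) (hg : topologicalKrullDim A.left = g) (L : A.left.Modules)
    (hL : PicF.IsInvertible L)
    (hnd : Set.Finite {x : 𝟙_ (Over S) ⟶ A | PicCalc.ph (tr x) (PicGrp.cls L hL) = PicGrp.cls L hL}) :
    ∃ (L' : A.left.Modules) (hL' : PicF.IsInvertible L'), PicGrp.cls L' hL' = (PicGrp.cls L hL)⁻¹ ∧
      ∃ i j : ℕ, i + j = g ∧ (∀ p : ℕ, p ≠ i → Subsingleton (Coh.HH A.left L p)) ∧
        Nontrivial (Coh.HH A.left L i) ∧ (∀ p : ℕ, p ≠ j → Subsingleton (Coh.HH A.left L' p)) ∧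
        Nontrivial (Coh.HH A.left L' j) := by
  letI : A.left.Over S := ⟨A.hom⟩
  haveI : IsProper (A.left ↘ S) := ‹IsProper A.hom›
  haveI : IsIntegral A.left := GeometricallyIntegral.isIntegral_of_subsingleton A.hom
  haveI : IsLocallyNoetherian A.left := LocallyOfFiniteType.isLocallyNoetherian A.hom
  haveI : JacobsonSpace A.left := LocallyOfFiniteType.jacobsonSpace A.hom
  haveI : CompactSpace A.left := QuasiCompact.compactSpace_of_compactSpace A.hom
  haveI : IsNoetherian A.left := {}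
  haveI : Flat A.hom := inferInstance
  haveI : IsCommMonObj A := isCommMonObj_of_isProper_of_geometricallyIntegral A
  haveI : IsProper (fst A A).left := inferInstanceAs (IsProper (pullback.fst A.hom A.hom))
  haveI : Flat (fst A A).left := inferInstanceAs (Flat (pullback.fst A.hom A.hom))
  haveI : IsProper (A ⊗ A).hom := inferInstanceAs (IsProper (pullback.fst A.hom A.hom ≫ A.hom))
  let ℓ := PicGrp.cls L hL
  let d : PicLoc.PicSet (A ⊗ A).left :=
    PicCalc.ph (fst A A * snd A A) ℓ * (PicCalc.ph (snd A A) ℓ)⁻¹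
  obtain ⟨D, hD, hDc⟩ := PicGrp.exists_eq_cls d
  have hcoh := Groth.Agent.Lib.Ample.GG.isCoh_of_isInvertible hD
  have hfl := Groth.Agent.Lib.Cube.FamCx.isFlatOver_of_isInvertible (fst A A).left hD
  let f := (fst A A).left
  let Z : Set A.left := ptOf '' {x : 𝟙_ (Over S) ⟶ A | PicCalc.ph (tr x) ℓ = ℓ}
  have hclosed : ∀ x : 𝟙_ (Over S) ⟶ A, IsClosed ({ptOf x} : Set A.left) := fun x =>
    (pointEquivClosedPoint A.hom ⟨x.left, Over.w x⟩).2
  have hpt : ∀ y (hy : IsClosed ({y} : Set A.left)), ∃ x : 𝟙_ (Over S) ⟶ A,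
      x.left = pointOfClosedPoint A.hom y hy ∧ ptOf x = y := fun y hy =>
    ⟨Over.homMk (pointOfClosedPoint A.hom y hy) (pointOfClosedPoint_comp A.hom y hy), rfl,
      pointOfClosedPoint_apply A.hom y hy _⟩
  have hid : IsPullback (𝟙 A.left) A.hom A.hom (𝟙 _) := IsPullback.of_horiz_isIso ⟨by simp⟩
  have hs : ∀ x : 𝟙_ (Over S) ⟶ A,
      IsPullback (lift (toUnit A ≫ x) (𝟙 A)).left A.hom f x.left := fun x => by
    have hr : IsPullback (snd A A).left (fst A A).left A.hom A.hom :=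
      (IsPullback.of_hasPullback A.hom A.hom).flip
    refine IsPullback.of_right ?_ ?_ hr
    · rw [← Over.comp_left, lift_snd, show x.left ≫ A.hom = 𝟙 _ from Over.w x]
      exact hid
    · rw [← Over.comp_left, lift_fst]
      rfl
  have hcls : ∀ x : 𝟙_ (Over S) ⟶ A, PicGrp.cls
      ((Scheme.Modules.pullback (lift (toUnit A ≫ x) (𝟙 A)).left).obj D)
      (PicLoc.isInvertible_pullback _ hD) = PicCalc.ph (tr x) ℓ * ℓ⁻¹ := fun x => by
    refine (Subtype.ext (PicCalc.cl_pullback _ (a := PicGrp.cls D hD) rfl)).trans ?_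
    rw [← hDc]
    simp only [d, map_mul, map_inv, ← PicCalc.ph_comp, MonObj.comp_mul, lift_fst, lift_snd,
      PicCalc.ph_id, tr]
    rw [_root_.mul_comm (toUnit A ≫ x)]
  -- closed fibres
  have hoff : ∀ y, y ∉ Z → IsClosed ({y} : Set A.left) → ∀ n, Subsingleton (CohIII.fiberH f D y n) := by
    intro y hyZ hy n
    obtain ⟨x, hx, hxy⟩ := hpt y hy
    obtain ⟨e⟩ := PicZeroTranslate.exists_fiber_iso (fst A A) D hD y hy _ (hx ▸ hs x) n
    haveI := PicZeroTranslate.acyclic _ (PicLoc.isInvertible_pullback _ hD)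
      (show TransInv.Inv (PicGrp.cls ((Scheme.Modules.pullback (lift (toUnit A ≫ x) (𝟙 A)).left).obj D)
        (PicLoc.isInvertible_pullback _ hD)) by
        rw [hcls]
        exact TransInv.inv_defect ℓ x)
      (by
        rw [hcls]
        exact fun h => hyZ ⟨x, mul_inv_eq_one.mp h, hxy⟩) n
    exact e.symm.toEquiv.subsingleton
  have habove : ∀ n, g < n → ∀ y, IsClosed ({y} : Set A.left) → Subsingleton (CohIII.fiberH f D y n) := by
    intro n hn y hy
    obtain ⟨x, hx, -⟩ := hpt y hy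
    obtain ⟨e⟩ := PicZeroTranslate.exists_fiber_iso (fst A A) D hD y hy _ (hx ▸ hs x) n
    haveI : Subsingleton (Coh.HH A.left _ n) := Groth.Agent.S0458.result g hg.le
      (Coh.toAb ((Scheme.Modules.pullback (lift (toUnit A ≫ x) (𝟙 A)).left).obj D)) n hn
    exact e.symm.toEquiv.subsingleton
  -- an affine neighbourhood of the kernel
  obtain ⟨V, hV, hZV⟩ := Groth.Agent.Lib.WeilRep.GrpAffine.exists_isAffineOpen_finite A Z (hnd.image _)
  have hZc : ∀ y ∈ Z, IsClosed ({y} : Set A.left) := by rintro _ ⟨x, -, rfl⟩; exact hclosed x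
  let U : A.left.Opens := ⟨Zᶜ, IsClosed.isOpen_compl (self := by
    rw [← Set.biUnion_of_singleton Z]
    exact (hnd.image _).isClosed_biUnion fun y hy => hZc y hy)⟩
  have hU : ∀ W : A.left.Opens, W ≤ U → ∀ n, Subsingleton (CohTop.HU (Coh.toAb D) n (f ⁻¹ᵁ W)) :=
    fun W hW n => RelAcyclic.subsingleton_HU_of_affine f D U (fun W' hW' hW'a => RelAcyclic.subsingleton_HU
      f D hcoh hfl W' hW'a fun y hyW hy => hoff y (hW' hyW) hy) W hW
        (TopologicalSpace.NoetherianSpace.isCompact _) n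
  have hreg : ∀ y ∈ Z, IsRegularLocalRing (A.left.presheaf.stalk y) ∧
      ringKrullDim (A.left.presheaf.stalk y) = g := fun y hy =>
    ⟨Groth.Agent.Lib.Cyc.SmoothReg.isRegularLocalRing_stalk A.hom y,
      (Groth.Agent.Lib.AffineCompl.Dim.ringKrullDim_stalk_of_isClosed A.hom (hZc y hy)).trans hg⟩
  have hVne : ∀ n, n ≠ g → Subsingleton (CohTop.HU (Coh.toAb D) n (f ⁻¹ᵁ V)) := fun n hn => by
    rcases lt_or_gt_of_ne hn with h | h
    · exact Acyclicity.subsingleton_HU_lt f D hcoh hfl V hV Z (hnd.image _) g hZc hreg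
        (fun y _ => hoff y) n h
    · exact Acyclicity.subsingleton_HU_degree f D hcoh hfl V hV n fun y _ => habove n h y
  have htop : f ⁻¹ᵁ V ⊔ f ⁻¹ᵁ U = ⊤ := by
    rw [← Scheme.Hom.preimage_sup, ← Scheme.Hom.preimage_top (f := f)]
    congr 1
    ext y
    simp only [TopologicalSpace.Opens.coe_sup, Set.mem_union, TopologicalSpace.Opens.coe_top,
      Set.mem_univ, iff_true]
    exact (em (y ∈ Z)).imp (fun h => hZV h) id
  have htot : ∀ n, n ≠ g → Subsingleton (CohTop.HU (Coh.toAb D) n ⊤) := fun n hn => by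
    rw [← htop]
    haveI := hVne n hn
    haveI := hU U le_rfl n
    cases n with
    | zero => exact RelAcyclic.subsingleton_HU_zero _ _ _
    | succ n =>
      haveI : Subsingleton (CohTop.HU (Coh.toAb D) n (f ⁻¹ᵁ V ⊓ f ⁻¹ᵁ U)) := hU (V ⊓ U) inf_le_right n
      exact Groth.Agent.Lib.Cech.MV.subsingleton_HU_sup _ _ _ n
  have hnt : Nontrivial (CohTop.HU (Coh.toAb D) g ⊤) := by
    by_contra hc
    rw [not_nontrivial_iff_subsingleton] at hc
    have hVall : ∀ n, Subsingleton (CohTop.HU (Coh.toAb D) n (f ⁻¹ᵁ V)) := fun n => by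
      by_cases hn : n = g
      swap
      · exact hVne n hn
      subst hn
      refine subsingleton_of_forall_eq 0 fun z => ?_
      haveI : Subsingleton (CohTop.HU (Coh.toAb D) n (f ⁻¹ᵁ V ⊓ f ⁻¹ᵁ U)) := hU (V ⊓ U) inf_le_right n
      obtain ⟨w, hw, -⟩ := Groth.Agent.Lib.Cech.MV.exists_res_eq (Coh.toAb D) _ _ n z
        (0 : CohTop.HU (Coh.toAb D) n (f ⁻¹ᵁ U)) (Subsingleton.elim _ _)
      haveI : Subsingleton (CohTop.HU (Coh.toAb D) n (f ⁻¹ᵁ V ⊔ f ⁻¹ᵁ U)) := by rw [htop]; exact hc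
      rw [← hw, Subsingleton.elim w 0, map_zero]
    let y₀ : A.left := ptOf (1 : 𝟙_ (Over S) ⟶ A)
    have h1Z : y₀ ∈ Z := ⟨1, by simp [tr, PicCalc.ph_id], rfl⟩
    obtain ⟨x, hx, hxy⟩ := hpt y₀ (hclosed 1)
    have hx1 : x = 1 :=
      Over.OverMorphism.ext (ext_of_apply_closedPoint_eq A.hom (Over.w x) (Over.w _) hxy)
    obtain ⟨e⟩ := PicZeroTranslate.exists_fiber_iso (fst A A) D hD y₀ (hclosed 1) _ (hx ▸ hs x) 0
    haveI := RelAcyclic.subsingleton_fiberH f D hcoh y₀ 0
      (RelAcyclic.fiberRank_eq_zero f D hcoh hfl V hV hVall y₀ (hZV h1Z) 0)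
    haveI : Subsingleton (Coh.HH A.left _ 0) := e.toEquiv.subsingleton
    obtain ⟨i⟩ := (PicGrp.cls_eq_one_iff (PicLoc.isInvertible_pullback
      (lift (toUnit A ≫ x) (𝟙 A)).left hD)).mp (by rw [hcls, hx1]; simp [tr, PicCalc.ph_id])
    obtain ⟨i'⟩ := Groth.Agent.S7804.nonempty_of_iso i 0
    haveI : Nontrivial (Coh.HH A.left (Coh.structureModule A.left) 0) := by
      have : Nontrivial ((Coh.structureModule A.left).val.obj (Opposite.op ⊤) : Type u) :=
        inferInstanceAs (Nontrivial Γ(A.left, ⊤))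
      exact (Groth.Agent.Lib.Curves.GlobalSections.h0Equiv _).toEquiv.nontrivial
    haveI : Subsingleton (Coh.HH A.left (Coh.structureModule A.left) 0) := i'.symm.toEquiv.subsingleton
    exact false_of_nontrivial_of_subsingleton (Coh.HH A.left (Coh.structureModule A.left) 0)
  -- the shear and Künneth
  obtain ⟨L', hL', hL'c⟩ := PicGrp.exists_eq_cls ℓ⁻¹
  let σ : A ⊗ A ⟶ A ⊗ A := lift (fst A A * snd A A) (snd A A)
  let τ : A ⊗ A ⟶ A ⊗ A := lift (fst A A * (snd A A)⁻¹) (snd A A)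
  have hστ : σ ≫ τ = 𝟙 _ := by
    ext1 <;> simp [σ, τ, MonObj.comp_mul, GrpObj.comp_inv]
  have hτσ : τ ≫ σ = 𝟙 _ := by
    ext1 <;> simp [σ, τ, MonObj.comp_mul, GrpObj.comp_inv]
  haveI : IsIso σ.left :=
    ⟨τ.left, by rw [← Over.comp_left, hστ]; rfl, by rw [← Over.comp_left, hτσ]; rfl⟩
  haveI : Coh.IsQCoh L := Groth.Agent.Lib.TensorMod.QCohInv.isQCoh_of_isInvertible hL
  haveI : Coh.IsQCoh L' := Groth.Agent.Lib.TensorMod.QCohInv.isQCoh_of_isInvertible hL'
  let M₂ := CohB1.tensorMod ((Scheme.Modules.pullback (fst A A).left).obj L)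
    ((Scheme.Modules.pullback (snd A A).left).obj L')
  obtain ⟨iσ⟩ : Nonempty ((Scheme.Modules.pullback σ.left).obj M₂ ≅ D) :=
    (PicCalc.iso_iff (PicCalc.cl_pullback σ (PicCalc.cl_tensor
      (PicCalc.cl_pullback (fst A A) (a := PicGrp.cls L hL) rfl)
      (PicCalc.cl_pullback (snd A A) (a := PicGrp.cls L' hL') rfl))) (b := PicGrp.cls D hD) rfl).mpr (by
      rw [← hDc, ← hL'c]
      simp only [d, σ, map_mul, map_inv, ← PicCalc.ph_comp, MonObj.comp_mul, lift_fst, lift_snd]
      rfl)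
  have hsum : ∀ n, Nonempty (CohTop.HU (Coh.toAb D) n ⊤ ≃
      DirectSum (Finset.HasAntidiagonal.antidiagonal n) fun pq =>
        Coh.HH A.left L pq.1.1 ⊗[K] Coh.HH A.left L' pq.1.2) := fun n => by
    obtain ⟨eK⟩ := ZarCoh.Exchange.Kunneth.nonempty_kunneth K A.left A.left L L'
      (Groth.Agent.Lib.IntTheory.BaseChange.isFlatOver (k := K) (X := A.left) L) (fun _ => inferInstance) n
    obtain ⟨e₁⟩ := Groth.Agent.S7804.nonempty_of_isIso σ.left (A ⊗ A).hom M₂
      (Groth.Agent.Lib.TensorMod.Invertible.isInvertible_tensorMod (PicLoc.isInvertible_pullback _ hL) (PicLoc.isInvertible_pullback _ hL')) n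
    obtain ⟨e₂⟩ := Groth.Agent.S7804.nonempty_of_iso (X := (A ⊗ A).left) iσ n
    let e₀ := Groth.Agent.Lib.ZarCoh.Compare.hTop (Coh.toAb D) n
    exact ⟨e₀.symm.toEquiv.trans ((e₂.symm.trans e₁.symm).toEquiv.trans eK.toEquiv)⟩
  have hpair : ∀ p q, p + q ≠ g → Nontrivial (Coh.HH A.left L p) → Subsingleton (Coh.HH A.left L' q) := by
    intro p q hpq hp
    by_contra hq
    rw [not_subsingleton_iff_nontrivial] at hq
    obtain ⟨e⟩ := hsum (p + q)
    haveI := htot (p + q) hpq
    haveI := e.symm.subsingleton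
    haveI : Subsingleton (Coh.HH A.left L p ⊗[K] Coh.HH A.left L' q) :=
      (DirectSum.of_injective (β := fun pq : Finset.HasAntidiagonal.antidiagonal (p + q) =>
        Coh.HH A.left L pq.1.1 ⊗[K] Coh.HH A.left L' pq.1.2) ⟨(p, q), by simp⟩).subsingleton
    haveI := Module.Free.of_divisionRing K (Coh.HH A.left L p)
    haveI : Module.FaithfullyFlat K (Coh.HH A.left L p) := inferInstance
    haveI := Module.FaithfullyFlat.lTensor_nontrivial K (Coh.HH A.left L p) (Coh.HH A.left L' q)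
    exact false_of_nontrivial_of_subsingleton (Coh.HH A.left L p ⊗[K] Coh.HH A.left L' q)
  obtain ⟨e⟩ := hsum g
  haveI := hnt
  haveI := e.symm.nontrivial
  classical
  obtain ⟨⟨⟨i, j⟩, hij⟩, hne⟩ : ∃ pq : Finset.HasAntidiagonal.antidiagonal g,
      Nontrivial (Coh.HH A.left L pq.1.1 ⊗[K] Coh.HH A.left L' pq.1.2) := by
    by_contra! h
    haveI : Subsingleton (DirectSum (Finset.HasAntidiagonal.antidiagonal g) fun pq =>
        Coh.HH A.left L pq.1.1 ⊗[K] Coh.HH A.left L' pq.1.2) :=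
      ⟨fun x y => DFinsupp.ext fun pq => haveI := h pq; Subsingleton.elim _ _⟩
    exact false_of_nontrivial_of_subsingleton (DirectSum (Finset.HasAntidiagonal.antidiagonal g) fun pq =>
      Coh.HH A.left L pq.1.1 ⊗[K] Coh.HH A.left L' pq.1.2)
  have hij' : i + j = g := by simpa using hij
  have hi : Nontrivial (Coh.HH A.left L i) := by
    by_contra h
    rw [not_nontrivial_iff_subsingleton] at h
    exact false_of_nontrivial_of_subsingleton (Coh.HH A.left L i ⊗[K] Coh.HH A.left L' j)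
  have hj : Nontrivial (Coh.HH A.left L' j) := by
    by_contra h
    rw [not_nontrivial_iff_subsingleton] at h
    exact false_of_nontrivial_of_subsingleton (Coh.HH A.left L i ⊗[K] Coh.HH A.left L' j)
  refine ⟨L', hL', hL'c.symm, i, j, hij', fun p hp => ?_, hi, fun p hp => ?_, hj⟩
  · by_contra hps
    rw [not_subsingleton_iff_nontrivial] at hps
    haveI := hpair p j (by omega) hps
    exact false_of_nontrivial_of_subsingleton (Coh.HH A.left L' j)
  · exact hpair i p (by omega) hi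

/-- **The index theorem**: the cohomology of a non-degenerate class is concentrated in one degree. -/
theorem exists_index {A : Over (Spec (CommRingCat.of K))} [GrpObj A] [IsProper A.hom] [Smooth A.hom]
    [GeometricallyIntegral A.hom] (g : ℕ) (hg : topologicalKrullDim A.left = g) (L : A.left.Modules)
    (hL : PicF.IsInvertible L)
    (hnd : Set.Finite {x : 𝟙_ (Over S) ⟶ A | PicCalc.ph (tr x) (PicGrp.cls L hL) = PicGrp.cls L hL}) :
    ∃ i : ℕ, i ≤ g ∧ (∀ j : ℕ, j ≠ i → Subsingleton (Coh.HH A.left L j)) ∧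
      Nontrivial (Coh.HH A.left L i) := by
  obtain ⟨-, -, -, i, j, hij, hv, hne, -⟩ := exists_index_pair g hg L hL hnd
  exact ⟨i, by omega, hv, hne⟩

end

end Groth.Agent.H52.IndexThm
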