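import Groth.Agent.H52.CoverRetract
import Groth.Agent.H52.IndexThm
import Groth.Agent.S1842
import Groth.Agent.H63.CubePow
import Groth.Agent.H78.Existence.AmpleVanish
import Groth.Agent.Lib.GenFinite.Basic
import Groth.Agent.Lib.Ample.Pow

/-!
# Vanishing for ample classes on abelian varieties
-/

set_option autoImplicit false
set_option linter.style.haveILetI false
universe u

open CategoryTheory CategoryTheory.Limits MonoidalCategory CartesianMonoidalCategory MonObj AlgebraicGeometry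
open Groth.Agent.H3
open Groth.Agent.H52.NondegAmple (tr)

namespace Groth.Agent.H52.AmpleVanishAV

noncomputable section

local instance (Y : Scheme.{u}) : PicGrp.Law Y := Groth.Agent.Lib.TensorMod.Invertible.law Y

variable {K : Type u} [Field K] [IsAlgClosed K]

local notation "S" => Spec (CommRingCat.of K)

variable {A : Over (Spec (CommRingCat.of K))} [GrpObj A] [IsProper A.hom] [GeometricallyIntegral A.hom]

omit [IsAlgClosed K] [IsProper A.hom] [GeometricallyIntegral A.hom] [GrpObj A] in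
theorem cl_pow {M : A.left.Modules} {a : PicLoc.PicSet A.left} (ha : PicF.cl M = a.1) (m : ℕ) :
    PicF.cl (CohB1.tensorPow M m) = (a ^ m).1 := by
  induction m with
  | zero => rw [pow_zero, PicGrp.one_val]; rfl
  | succ m ih => rw [pow_succ]; exact PicCalc.cl_tensor ih ha

/-- The inversion preserves a class up to an invariant one. -/
theorem inv_div_inv (ℓ : PicLoc.PicSet A.left) :
    TransInv.Inv (PicCalc.ph (𝟙 A)⁻¹ ℓ * ℓ⁻¹) := fun a => by
  have h := TransInv.phi_inv ℓ a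
  rw [map_mul, map_inv, mul_inv_eq_iff_eq_mul, mul_right_comm, ← h, mul_inv_cancel_right]

theorem choose_add (n : ℕ) : (n + 1).choose 2 + n.choose 2 = n * n := by
  induction n with
  | zero => rfl
  | succ m ih =>
    have h1 : (m + 2).choose 2 = (m + 1) + (m + 1).choose 2 := by
      rw [Nat.choose_succ_succ' (m + 1) 1, Nat.choose_one_right]
    have h2 : (m + 1).choose 2 = m + m.choose 2 := by rw [Nat.choose_succ_succ' m 1, Nat.choose_one_right]
    rw [show m + 1 + 1 = m + 2 from rfl, h1]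
    linarith

/-- Large enough multiples by numbers prime to the characteristic. -/
theorem exists_large (N : ℕ) : ∃ n : ℕ, N ≤ n ∧ 1 ≤ n ∧ (n : K) ≠ 0 := by
  by_cases h : ((N + 1 : ℕ) : K) = 0
  · refine ⟨N + 2, by omega, by omega, fun h2 => one_ne_zero (α := K) ?_⟩
    calc (1 : K) = ((N + 2 : ℕ) : K) - ((N + 1 : ℕ) : K) := by push_cast; ring
      _ = 0 := by rw [h, h2, sub_zero]
  · exact ⟨N + 1, by omega, by omega, h⟩

/-- **Vanishing**: an ample class has no higher cohomology. -/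
theorem subsingleton_of_isAmple (L : A.left.Modules) (hLa : CohB1.IsAmple L) (j : ℕ) (hj : 0 < j) :
    Subsingleton (Coh.HH A.left L j) := by
  letI : A.left.Over S := ⟨A.hom⟩
  haveI : IsProper (A.left ↘ S) := ‹IsProper A.hom›
  haveI : IsIntegral A.left := GeometricallyIntegral.isIntegral_of_subsingleton A.hom
  haveI : IsLocallyNoetherian A.left := LocallyOfFiniteType.isLocallyNoetherian A.hom
  obtain ⟨g, hg⟩ : ∃ g : ℕ, topologicalKrullDim A.left = g :=
    ⟨_, Groth.Agent.Lib.GenFinite.Basic.topologicalKrullDim_eq_fdelta A.hom⟩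
  have hO : Coh.IsCoh (Coh.structureModule A.left) :=
    Groth.Agent.Lib.Ample.GG.isCoh_of_isInvertible (PicLoc.isInvertible_structureModule A.left)
  obtain ⟨N, hN⟩ := Groth.Agent.H78.Existence.AmpleVanish.exists_subsingleton K hLa hO
  obtain ⟨n, hNn, hn1, hnK⟩ := exists_large (K := K) N
  let ℓ := PicGrp.cls L hLa.1
  let f := (𝟙 A ^ n).left
  -- `[n]` is a cover of invertible degree
  obtain ⟨h1, h2, h3⟩ := Groth.Agent.S1842.result K A g hg (n : ℤ) (by omega)
  simp only [zpow_natCast, Int.natAbs_natCast] at h1 h2 h3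
  haveI := h1; haveI := h2
  haveI : LocallyOfFinitePresentation f := inferInstance
  have hf : FinCov.IsCover f (n ^ (2 * g)) := ⟨⟨h1, h2, inferInstance⟩, h3⟩
  have hd : IsUnit (((n ^ (2 * g) : ℕ) : Γ(A.left, ⊤))) := by
    let φ : K →+* Γ(A.left, ⊤) := A.hom.appTop.hom.comp (Scheme.ΓSpecIso (CommRingCat.of K)).inv.hom
    have h' := ((Ne.isUnit hnK).pow (2 * g)).map φ
    rwa [map_pow, map_natCast, ← Nat.cast_pow] at h'
  refine @CoverRetract.subsingleton_HH_of_cover _ _ f _ hf hd L hLa.1 j ?_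
  -- the pullback is a translate of a high power
  let ℓ' := ℓ ^ (n * n)
  have hL' := Groth.Agent.Lib.TensorMod.Invertible.isInvertible_tensorPow hLa.1 (n * n)
  have hamp : CohB1.IsAmple (CohB1.tensorPow L (n * n)) :=
    (Groth.Agent.Lib.Ample.Pow.isAmple_tensorPow_iff hLa.1 (Nat.mul_pos hn1 hn1)).mp hLa
  have hnd : Set.Finite {x : 𝟙_ (Over S) ⟶ A | PicCalc.ph (tr x) ℓ' = ℓ'} :=
    (AmpleNondeg.finite_translationFixing A _ hamp).subset fun x hx =>
      (PicCalc.iso_iff (PicCalc.cl_pullback _ (a := ℓ') (cl_pow (a := ℓ) rfl _))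
        (b := ℓ') (cl_pow (a := ℓ) rfl _)).mpr hx
  have hcube : Groth.Agent.H63.CubePow.CubeRel A := fun V f g h c => CubeRel.cube_rel f g h c
  have key := Groth.Agent.H63.CubePow.ph_pow hcube (𝟙 A) ℓ n
  rw [PicCalc.ph_id] at key
  have hm : TransInv.Inv (PicCalc.ph (𝟙 A ^ n) ℓ * ℓ'⁻¹) := by
    have e := choose_add n
    intro a
    rw [key, show ℓ' = ℓ ^ (n + 1).choose 2 * ℓ ^ n.choose 2 by rw [← pow_add, e],
      show ℓ ^ (n + 1).choose 2 * PicCalc.ph (𝟙 A)⁻¹ ℓ ^ n.choose 2 *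
          (ℓ ^ (n + 1).choose 2 * ℓ ^ n.choose 2)⁻¹ = (PicCalc.ph (𝟙 A)⁻¹ ℓ * ℓ⁻¹) ^ n.choose 2 by
        rw [mul_pow, inv_pow, mul_inv, _root_.mul_mul_mul_comm, mul_inv_cancel, _root_.one_mul],
      map_pow, inv_div_inv ℓ a]
  obtain ⟨x, hx⟩ := PicZeroTranslate.exists_translate ℓ' _ hm hnd
  have hpb : PicCalc.ph (tr x) ℓ' = PicCalc.ph (𝟙 A ^ n) ℓ := mul_right_cancel hx
  obtain ⟨i⟩ : Nonempty ((Scheme.Modules.pullback f).obj L ≅
      (Scheme.Modules.pullback (tr x).left).obj (CohB1.tensorPow L (n * n))) :=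
    (PicCalc.iso_iff (PicCalc.cl_pullback (𝟙 A ^ n) (a := ℓ) rfl)
      (PicCalc.cl_pullback (tr x) (a := ℓ') (cl_pow (a := ℓ) rfl _))).mpr hpb.symm
  haveI : IsIso (tr x) := ⟨tr x⁻¹, by
    rw [NondegAmple.tr_mul, mul_inv_cancel]; simp [tr], by
    rw [NondegAmple.tr_mul, inv_mul_cancel]; simp [tr]⟩
  haveI : IsIso (tr x).left := inferInstanceAs (IsIso ((Over.forget S).map (tr x)))
  obtain ⟨e₁⟩ := Groth.Agent.S7804.nonempty_of_iso i j
  obtain ⟨e₂⟩ := Groth.Agent.S7804.nonempty_of_isIso (tr x).left A.hom (CohB1.tensorPow L (n * n)) hL' j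
  obtain ⟨q, rfl⟩ : ∃ q, j = q + 1 := ⟨j - 1, by omega⟩
  obtain ⟨e₃⟩ := Groth.Agent.S7804.nonempty_of_iso
    (Groth.Agent.Lib.TensorMod.Basic.leftUnit (CohB1.tensorPow L (n * n))) (q + 1)
  haveI := hN (n * n) (hNn.trans (Nat.le_mul_self n)) q
  exact (e₁.trans (e₂.symm.trans e₃.symm)).toEquiv.subsingleton

end

end Groth.Agent.H52.AmpleVanishAV
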