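import Groth.Agent.Lib.GrpQ.MonoClosed

/-! A rational point moving a point into a nonempty open subset in both directions. -/

set_option autoImplicit false
set_option linter.style.haveILetI false
universe u
open CategoryTheory MonoidalCategory CartesianMonoidalCategory MonObj GrpObj AlgebraicGeometry

namespace Groth.Agent.H52.AvoidTrans

open Groth.Agent.Lib.GrpQ.MonoClosed

variable {k : Type u} [Field k] [IsAlgClosed k] {A : Over (Spec (CommRingCat.of k))} [GrpObj A]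
  [LocallyOfFiniteType A.hom]

theorem exists_point [IrreducibleSpace A.left] (U : A.left.Opens) (hU : (U : Set A.left).Nonempty)
    (z : 𝟙_ (Over (Spec (CommRingCat.of k))) ⟶ A) :
    ∃ x : 𝟙_ (Over (Spec (CommRingCat.of k))) ⟶ A, ptOf (z * x) ∈ U ∧ ptOf (z * x⁻¹) ∈ U := by
  obtain ⟨u, hu⟩ := exists_ptOf (X := A) U.isOpen.isLocallyClosed hU
  let ψ₁ : A ⟶ A := (toUnit A ≫ z) * 𝟙 A
  let ψ₂ : A ⟶ A := (toUnit A ≫ z) * (𝟙 A)⁻¹
  have e₁ : ∀ x, ψ₁.left (ptOf x) = ptOf (z * x) := fun x => by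
    rw [ptOf_comp]
    simp only [ψ₁, MonObj.comp_mul, Category.comp_id, comp_toUnit_assoc,
      toUnit_unique (toUnit _) (𝟙 _), Category.id_comp]
  have e₂ : ∀ x, ψ₂.left (ptOf x) = ptOf (z * x⁻¹) := fun x => by
    rw [ptOf_comp]
    simp only [ψ₂, MonObj.comp_mul, GrpObj.comp_inv, Category.comp_id, comp_toUnit_assoc,
      toUnit_unique (toUnit _) (𝟙 _), Category.id_comp]
  have n₁ : (ψ₁.left ⁻¹' (U : Set A.left)).Nonempty :=
    ⟨ptOf (z⁻¹ * u), by rw [Set.mem_preimage, e₁, mul_inv_cancel_left]; exact hu⟩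
  have n₂ : (ψ₂.left ⁻¹' (U : Set A.left)).Nonempty :=
    ⟨ptOf (u⁻¹ * z), by rw [Set.mem_preimage, e₂, _root_.mul_inv_rev, _root_.inv_inv, mul_inv_cancel_left]; exact hu⟩
  have o₁ := U.isOpen.preimage ψ₁.left.continuous
  have o₂ := U.isOpen.preimage ψ₂.left.continuous
  obtain ⟨x, hx⟩ := exists_ptOf (X := A) (o₁.inter o₂).isLocallyClosed
    (nonempty_preirreducible_inter o₁ o₂ n₁ n₂)
  exact ⟨x, by rw [← e₁]; exact hx.1, by rw [← e₂]; exact hx.2⟩

theorem transl_apply (x z : 𝟙_ (Over (Spec (CommRingCat.of k))) ⟶ A) :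
    (𝟙 A * (toUnit A ≫ x)).left (ptOf z) = ptOf (z * x) := by
  rw [ptOf_comp]
  simp only [MonObj.comp_mul, Category.comp_id, comp_toUnit_assoc,
    toUnit_unique (toUnit _) (𝟙 _), Category.id_comp]

end Groth.Agent.H52.AvoidTrans
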