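import Groth.Agent.H52.OpenRange
import Groth.Agent.H4.NPowEtale
import Groth.Agent.Lib.GrpQ.MonoClosed
import Groth.Agent.Lib.ActSep.GrpCM
import Groth.Agent.Lib.GrpQ.Desc

/-!
# Lifting elements of the component group of a commutative algebraic group
-/

set_option autoImplicit false
set_option linter.style.haveILetI false
universe u
open CategoryTheory MonoidalCategory CartesianMonoidalCategory MonObj GrpObj AlgebraicGeometry

namespace Groth.Agent.H52.CompDiv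

open Groth.Agent.Lib.GrpQ.MonoClosed

noncomputable section

variable {k : Type u} [Field k]
  (G : Over (Spec (CommRingCat.of k))) [GrpObj G]

/-- The connected component of a rational point, as an element of `ConnectedComponents`. -/
def comp (x : 𝟙_ (Over (Spec (CommRingCat.of k))) ⟶ G) : ConnectedComponents G.left :=
  ConnectedComponents.mk (ptOf x)

variable {G}

theorem comp_mul {x y : 𝟙_ (Over (Spec (CommRingCat.of k))) ⟶ G} (h : comp G x = comp G y)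
    (r : 𝟙_ (Over (Spec (CommRingCat.of k))) ⟶ G) : comp G (x * r) = comp G (y * r) := by
  rw [comp, comp, ConnectedComponents.coe_eq_coe'] at *
  rw [← ptOf_rmul, ← ptOf_rmul]
  exact ((rmul r).left.continuous.image_connectedComponent_subset (ptOf y)) ⟨_, h, rfl⟩

variable (G)

/-- The rational points of the identity component. -/
def idComp : Subgroup (𝟙_ (Over (Spec (CommRingCat.of k))) ⟶ G) where
  carrier := {x | comp G x = comp G 1}
  one_mem' := rfl
  mul_mem' {x y} hx hy := by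
    change comp G (x * y) = comp G 1
    rw [comp_mul hx y, _root_.one_mul]
    exact hy
  inv_mem' {x} hx := by
    change comp G x⁻¹ = comp G 1
    have := comp_mul hx x⁻¹
    rwa [_root_.one_mul, mul_inv_cancel, eq_comm] at this

variable {G}

theorem comp_eq_iff (x y : 𝟙_ (Over (Spec (CommRingCat.of k))) ⟶ G) :
    comp G x = comp G y ↔ x * y⁻¹ ∈ idComp G := by
  refine ⟨fun h => ?_, fun h => ?_⟩
  · have := comp_mul h y⁻¹
    rwa [mul_inv_cancel] at this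
  · have := comp_mul (h : comp G (x * y⁻¹) = comp G 1) y
    rwa [inv_mul_cancel_right, _root_.one_mul] at this

theorem mem_connectedComponent_iff (x y : 𝟙_ (Over (Spec (CommRingCat.of k))) ⟶ G) :
    ptOf x ∈ connectedComponent (ptOf y) ↔ x * y⁻¹ ∈ idComp G := by
  rw [← comp_eq_iff, comp, comp, ConnectedComponents.coe_eq_coe']

theorem mem_idComp_iff (x : 𝟙_ (Over (Spec (CommRingCat.of k))) ⟶ G) :
    ptOf x ∈ connectedComponent (ptOf η[G]) ↔ x ∈ idComp G := by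
  rw [mem_connectedComponent_iff, show η[G] = (1 : 𝟙_ (Over (Spec (CommRingCat.of k))) ⟶ G) by
    rw [Hom.one_def, toUnit_unique (toUnit _) (𝟙 _), Category.id_comp], inv_one, _root_.mul_one]

variable [IsCommMonObj G]

theorem mk_eq_mk (x y : 𝟙_ (Over (Spec (CommRingCat.of k))) ⟶ G) :
    (QuotientGroup.mk x : (𝟙_ (Over (Spec (CommRingCat.of k))) ⟶ G) ⧸ idComp G) = QuotientGroup.mk y ↔
      comp G x = comp G y := by
  rw [comp_eq_iff, QuotientGroup.eq, _root_.mul_comm x, ← (idComp G).inv_mem_iff,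
    _root_.mul_inv_rev, _root_.inv_inv]

variable (G) [LocallyOfFiniteType G.hom] [QuasiCompact G.hom]

theorem finite_quotient : Finite ((𝟙_ (Over (Spec (CommRingCat.of k))) ⟶ G) ⧸ idComp G) := by
  haveI : IsLocallyNoetherian G.left := LocallyOfFiniteType.isLocallyNoetherian G.hom
  haveI : CompactSpace G.left := QuasiCompact.compactSpace_of_compactSpace G.hom
  haveI : IsNoetherian G.left := { }
  haveI : Finite (irreducibleComponents G.left) :=
    TopologicalSpace.NoetherianSpace.finite_irreducibleComponents.to_subtype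
  haveI : Finite (ConnectedComponents G.left) := by
    refine Finite.of_surjective
      (fun Z : irreducibleComponents G.left => ConnectedComponents.mk (Z.2.1.nonempty.some)) fun c => ?_
    obtain ⟨x, rfl⟩ := ConnectedComponents.surjective_coe c
    refine ⟨⟨irreducibleComponent x, irreducibleComponent_mem_irreducibleComponents x⟩, ?_⟩
    exact ConnectedComponents.coe_eq_coe'.mpr
      (isIrreducible_irreducibleComponent.isConnected.isPreconnected.subset_connectedComponent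
        mem_irreducibleComponent (Set.Nonempty.some_mem _))
  refine Finite.of_injective (Quotient.lift (comp G) fun x y h => (mk_eq_mk x y).1 (Quotient.sound h)) ?_
  rintro ⟨x⟩ ⟨y⟩ h
  exact (mk_eq_mk x y).2 h

omit [GrpObj G] [IsCommMonObj G] [LocallyOfFiniteType G.hom] [QuasiCompact G.hom] in
theorem dvd_pow_bound {d n m N : ℕ} (hd : d ≠ 0) (hn : n ≠ 0) (hN : d ≤ N) (h : d ∣ n ^ m) : d ∣ n ^ N := by
  rw [← Nat.factorization_le_iff_dvd hd (pow_ne_zero _ hn)] at h ⊢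
  intro q
  have hq := h q
  simp only [Nat.factorization_pow, Finsupp.smul_apply, smul_eq_mul] at hq ⊢
  rcases Nat.eq_zero_or_pos (n.factorization q) with h0 | h0
  · simpa [h0] using hq
  · exact le_trans ((Nat.factorization_lt q hd).le.trans hN) (Nat.le_mul_of_pos_right N h0)

/-- Classes killed by a power of `n` are killed by `n ^ card`. -/
theorem pow_bound_mem {w : 𝟙_ (Over (Spec (CommRingCat.of k))) ⟶ G} {n m : ℕ} (hn : n ≠ 0)
    (h : w ^ (n ^ m) ∈ idComp G) :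
    w ^ (n ^ Nat.card ((𝟙_ (Over (Spec (CommRingCat.of k))) ⟶ G) ⧸ idComp G)) ∈ idComp G := by
  haveI := finite_quotient G
  rw [← QuotientGroup.eq_one_iff, QuotientGroup.mk_pow, ← orderOf_dvd_iff_pow_eq_one] at h ⊢
  exact dvd_pow_bound (orderOf_pos _).ne' hn orderOf_le_card h

variable [IsAlgClosed k]

omit [QuasiCompact G.hom] in
theorem exists_pow_eq_of_mem_range {n : ℕ} {g : 𝟙_ (Over (Spec (CommRingCat.of k))) ⟶ G}
    (h : ptOf g ∈ Set.range ((𝟙 G : G ⟶ G) ^ n).left) : ∃ w, w ^ n = g := by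
  haveI := H4.NPowEtale.isMonHom_pow_id G n
  obtain ⟨x, hx⟩ := h
  have hc : IsClosed ({ptOf g} : Set G.left) :=
    Groth.Agent.H52.OpenRange.isClosed_range_of_isOpen_algClosed.isClosed_ptOf g
  obtain ⟨w, hw⟩ := exists_ptOf (X := G) (s := ((𝟙 G : G ⟶ G) ^ n).left ⁻¹' {ptOf g})
    (hc.preimage ((𝟙 G : G ⟶ G) ^ n).left.continuous).isLocallyClosed ⟨x, hx⟩
  refine ⟨w, ?_⟩
  rw [eq_comp_of_ptOf_eq ((𝟙 G : G ⟶ G) ^ n) w g hw, MonObj.comp_pow, Category.comp_id]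

/-- The identity component is divisible by integers prime to the characteristic. -/
theorem exists_root {n : ℕ} (hn : (n : k) ≠ 0) {g : 𝟙_ (Over (Spec (CommRingCat.of k))) ⟶ G}
    (hg : g ∈ idComp G) : ∃ z ∈ idComp G, z ^ n = g := by
  let N := Nat.card ((𝟙_ (Over (Spec (CommRingCat.of k))) ⟶ G) ⧸ idComp G)
  have hn0 : n ≠ 0 := by rintro rfl; simp at hn
  have hnN : ((n ^ (N + 1) : ℕ) : k) ≠ 0 := by rw [Nat.cast_pow]; exact pow_ne_zero _ hn
  haveI := H4.NPowEtale.etale_pow (G := G) hnN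
  haveI := H4.NPowEtale.isMonHom_pow_id G (n ^ (N + 1))
  have ho : IsOpen (Set.range ((𝟙 G : G ⟶ G) ^ (n ^ (N + 1))).left) :=
    ((𝟙 G : G ⟶ G) ^ (n ^ (N + 1))).left.isOpenMap.isOpen_range
  have hC : IsClopen (Set.range ((𝟙 G : G ⟶ G) ^ (n ^ (N + 1))).left) :=
    ⟨OpenRange.isClosed_range_of_isOpen _ ho, ho⟩
  obtain ⟨w, hw⟩ := exists_pow_eq_of_mem_range G (n := n ^ (N + 1))
    (hC.connectedComponent_subset ⟨ptOf η[G], (ptOf_comp _ _).trans (congrArg ptOf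
      (IsMonHom.one_hom _))⟩ ((mem_idComp_iff g).2 hg))
  exact ⟨w ^ (n ^ N), pow_bound_mem G hn0 (hw.symm ▸ hg),
    by rw [← pow_mul, ← pow_succ, hw]⟩

/-- An element of `p`-power order in the component group lifts to a point of `p`-power order. -/
theorem exists_torsion_lift {p r : ℕ} (hp : p ≠ 0) {x : 𝟙_ (Over (Spec (CommRingCat.of k))) ⟶ G}
    (hx : x ^ (p ^ r) ∈ idComp G) : ∃ y, y * x⁻¹ ∈ idComp G ∧ ∃ s : ℕ, y ^ (p ^ s) = 1 := by
  haveI : IsLocallyNoetherian G.left := LocallyOfFiniteType.isLocallyNoetherian G.hom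
  haveI : CompactSpace G.left := QuasiCompact.compactSpace_of_compactSpace G.hom
  haveI : IsNoetherian G.left := { }
  let N := Nat.card ((𝟙_ (Over (Spec (CommRingCat.of k))) ⟶ G) ⧸ idComp G)
  let R : ℕ → TopologicalSpace.Closeds G.left := fun j =>
    haveI := H4.NPowEtale.isMonHom_pow_id G (p ^ j)
    haveI : QuasiCompact ((𝟙 G : G ⟶ G) ^ (p ^ j)).left := Groth.Agent.Lib.GrpQ.quasiCompact_left _
    ⟨Set.range ((𝟙 G : G ⟶ G) ^ (p ^ j)).left, Groth.Agent.Lib.GrpQ.MonoClosed.isClosed_range _⟩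
  obtain ⟨-, ⟨J, rfl⟩, hJ⟩ := (wellFounded_lt (α := TopologicalSpace.Closeds G.left)).has_min
    (Set.range R) (Set.range_nonempty R)
  have hle : R (J + N) ≤ R J := by
    change Set.range ((𝟙 G : G ⟶ G) ^ (p ^ (J + N))).left ⊆ Set.range ((𝟙 G : G ⟶ G) ^ (p ^ J)).left
    rw [show (𝟙 G : G ⟶ G) ^ (p ^ (J + N)) = ((𝟙 G : G ⟶ G) ^ (p ^ N)) ≫ ((𝟙 G : G ⟶ G) ^ (p ^ J)) by
      rw [MonObj.comp_pow, Category.comp_id, ← pow_mul, ← pow_add, _root_.add_comm N J]]
    rintro _ ⟨a, rfl⟩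
    exact ⟨_, rfl⟩
  have heq : R (J + N) = R J := hle.eq_of_not_lt (hJ _ ⟨_, rfl⟩)
  obtain ⟨w, hw⟩ := exists_pow_eq_of_mem_range G (n := p ^ (J + N)) (g := x ^ (p ^ J)) (by
    change ptOf (x ^ (p ^ J)) ∈ (R (J + N) : Set G.left)
    rw [heq]
    exact ⟨ptOf x, by rw [ptOf_comp, MonObj.comp_pow, Category.comp_id]⟩)
  have hz : w ^ (p ^ N) ∈ idComp G := pow_bound_mem G (m := (J + N) + r) hp (by
    rw [pow_add, pow_mul, hw, ← pow_mul, _root_.mul_comm (p ^ J), pow_mul]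
    exact Subgroup.pow_mem _ hx _)
  refine ⟨x * (w ^ (p ^ N))⁻¹, ?_, J, ?_⟩
  · rw [mul_inv_cancel_comm]
    exact Subgroup.inv_mem _ hz
  · rw [mul_pow, inv_pow, ← pow_mul w, ← pow_add, _root_.add_comm N J, hw, mul_inv_cancel]

/-- For `J` large, `n ^ J`-th powers are `n ^ (J + 1)`-th powers. -/
theorem exists_pow_stable (n : ℕ) :
    ∃ J : ℕ, ∀ x : 𝟙_ (Over (Spec (CommRingCat.of k))) ⟶ G, ∃ w, w ^ (n ^ (J + 1)) = x ^ (n ^ J) := by
  haveI : IsLocallyNoetherian G.left := LocallyOfFiniteType.isLocallyNoetherian G.hom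
  haveI : CompactSpace G.left := QuasiCompact.compactSpace_of_compactSpace G.hom
  haveI : IsNoetherian G.left := { }
  let R : ℕ → TopologicalSpace.Closeds G.left := fun j =>
    haveI := H4.NPowEtale.isMonHom_pow_id G (n ^ j)
    haveI : QuasiCompact ((𝟙 G : G ⟶ G) ^ (n ^ j)).left := Groth.Agent.Lib.GrpQ.quasiCompact_left _
    ⟨Set.range ((𝟙 G : G ⟶ G) ^ (n ^ j)).left, Groth.Agent.Lib.GrpQ.MonoClosed.isClosed_range _⟩
  obtain ⟨-, ⟨J, rfl⟩, hJ⟩ := (wellFounded_lt (α := TopologicalSpace.Closeds G.left)).has_min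
    (Set.range R) (Set.range_nonempty R)
  have hle : R (J + 1) ≤ R J := by
    change Set.range ((𝟙 G : G ⟶ G) ^ (n ^ (J + 1))).left ⊆ Set.range ((𝟙 G : G ⟶ G) ^ (n ^ J)).left
    rw [show (𝟙 G : G ⟶ G) ^ (n ^ (J + 1)) = ((𝟙 G : G ⟶ G) ^ n) ≫ ((𝟙 G : G ⟶ G) ^ (n ^ J)) by
      rw [MonObj.comp_pow, Category.comp_id, ← pow_mul, _root_.mul_comm n, ← pow_succ]]
    rintro _ ⟨a, rfl⟩
    exact ⟨_, rfl⟩
  refine ⟨J, fun x => exists_pow_eq_of_mem_range G ?_⟩
  change ptOf (x ^ (n ^ J)) ∈ (R (J + 1) : Set G.left)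
  rw [hle.eq_of_not_lt (hJ _ ⟨_, rfl⟩)]
  exact ⟨ptOf x, by rw [ptOf_comp, MonObj.comp_pow, Category.comp_id]⟩

/-- Lifting with the exact order, given the lifts of elements of `p`-power order. -/
theorem exists_exact_lift {p : ℕ} [Fact p.Prime] [CharP k p]
    (H : ∀ x : 𝟙_ (Over (Spec (CommRingCat.of k))) ⟶ G, (∃ r : ℕ, x ^ (p ^ r) ∈ idComp G) →
      ∃ y, y * x⁻¹ ∈ idComp G ∧ ∀ n : ℕ, y ^ n = 1 ↔ x ^ n ∈ idComp G)
    (x : 𝟙_ (Over (Spec (CommRingCat.of k))) ⟶ G) :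
    ∃ y, y * x⁻¹ ∈ idComp G ∧ ∀ n : ℕ, y ^ n = 1 ↔ x ^ n ∈ idComp G := by
  haveI := finite_quotient G
  let Q := (𝟙_ (Over (Spec (CommRingCat.of k))) ⟶ G) ⧸ idComp G
  obtain ⟨r, m', hm', hm⟩ := Nat.exists_eq_pow_mul_and_not_dvd (orderOf_pos (x : Q)).ne' p
    (Fact.out : p.Prime).ne_one
  have hcop : Nat.Coprime (p ^ r) m' :=
    Nat.Coprime.pow_left r ((Fact.out : p.Prime).coprime_iff_not_dvd.2 hm')
  have hbez := Nat.gcd_eq_gcd_ab (p ^ r) m'
  rw [hcop.gcd_eq_one, Nat.cast_one] at hbez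
  set a := Nat.gcdA (p ^ r) m'
  set b := Nat.gcdB (p ^ r) m'
  have hord : ∀ e : ℤ, ((orderOf (x : Q) : ℕ) : ℤ) ∣ e → x ^ e ∈ idComp G := fun e he => by
    rw [← QuotientGroup.eq_one_iff, QuotientGroup.mk_zpow]
    exact orderOf_dvd_iff_zpow_eq_one.1 he
  obtain ⟨y₂, h2, h2'⟩ := H (x ^ ((m' : ℤ) * b)) ⟨r, by
    rw [← zpow_natCast, ← zpow_mul]
    exact hord _ ⟨b, by rw [hm]; push_cast; ring⟩⟩
  have hm'k : ((m' : ℕ) : k) ≠ 0 := fun h => hm' ((CharP.cast_eq_zero_iff k p m').1 h)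
  obtain ⟨z, hz, hz'⟩ := exists_root G hm'k (g := (x ^ (((p ^ r : ℕ) : ℤ) * a)) ^ m') (by
    rw [← zpow_natCast, ← zpow_mul]
    exact hord _ ⟨a, by rw [hm]; push_cast; ring⟩)
  have hx : x = x ^ (((p ^ r : ℕ) : ℤ) * a) * x ^ ((m' : ℤ) * b) := by
    rw [← zpow_add, ← hbez, zpow_one]
  have hcomp : x ^ (((p ^ r : ℕ) : ℤ) * a) * z⁻¹ * y₂ * x⁻¹ ∈ idComp G := by
    have e : x ^ (((p ^ r : ℕ) : ℤ) * a) * z⁻¹ * y₂ * x⁻¹ = z⁻¹ * (y₂ * (x ^ ((m' : ℤ) * b))⁻¹) := by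
      nth_rewrite 2 [hx]
      generalize x ^ (((p ^ r : ℕ) : ℤ) * a) = u₁
      generalize x ^ ((m' : ℤ) * b) = u₂
      rw [_root_.mul_inv_rev, _root_.mul_comm u₁ z⁻¹, _root_.mul_comm u₂⁻¹ u₁⁻¹]
      simp only [← _root_.mul_assoc]
      rw [_root_.mul_right_comm (z⁻¹ * u₁) y₂ u₁⁻¹, mul_inv_cancel_right]
    rw [e]
    exact Subgroup.mul_mem _ (Subgroup.inv_mem _ hz) h2
  refine ⟨_, hcomp, fun n => ⟨fun h => ?_, fun h => ?_⟩⟩
  · have := Subgroup.pow_mem _ hcomp n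
    rwa [mul_pow, h, _root_.one_mul, inv_pow, Subgroup.inv_mem_iff] at this
  · have hdvd : orderOf (x : Q) ∣ n := orderOf_dvd_iff_pow_eq_one.2
      (by rw [← QuotientGroup.mk_pow, QuotientGroup.eq_one_iff]; exact h)
    have h1 : (x ^ (((p ^ r : ℕ) : ℤ) * a) * z⁻¹) ^ n = 1 := by
      obtain ⟨c, rfl⟩ := (hm ▸ Dvd.intro_left _ rfl : m' ∣ orderOf (x : Q)).trans hdvd
      rw [pow_mul, mul_pow, inv_pow, hz', mul_inv_cancel, one_pow]
    have h2n : y₂ ^ n = 1 := (h2' n).2 (by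
      rw [← zpow_natCast, ← zpow_mul]
      exact hord _ (((Int.natCast_dvd_natCast.2 hdvd).mul_left _)))
    rw [mul_pow, h1, h2n, _root_.one_mul]

end

end Groth.Agent.H52.CompDiv
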