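import Groth.Agent.S19692
import Groth.Agent.S19694
import Groth.Agent.S19696
import Groth.Agent.Lib.Curves.TraceDual
import Groth.Agent.Lib.Modules.ProjFormula
import Groth.Agent.Lib.ZarCoh.Morph

/-!
# Cohomology along a cover of invertible degree
-/

set_option autoImplicit false
set_option linter.style.haveILetI false
universe u

open CategoryTheory CategoryTheory.Limits AlgebraicGeometry Opposite

namespace Groth.Agent.H52.CoverRetract

noncomputable section

open Groth.Agent.Lib
open Groth.Agent.Lib.TensorMod.Basic (tmap tmap_comp tmap_id rightUnit tensorIso)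

/-- Vanishing passes to a retract. -/
theorem subsingleton_HH_of_retract {X : Scheme.{u}} {L M : X.Modules} (i : L ⟶ M) (r : M ⟶ L)
    (h : i ≫ r = 𝟙 L) (n : ℕ) [Subsingleton (Coh.HH X M n)] : Subsingleton (Coh.HH X L n) := by
  refine subsingleton_of_forall_eq 0 fun (x : Abelian.Ext _ (Coh.toAb L) n) => ?_
  let F := SheafOfModules.toSheaf X.ringCatSheaf
  have h' : F.map i ≫ F.map r = 𝟙 _ := (F.map_comp i r).symm.trans ((congrArg F.map h).trans (F.map_id L))
  have e : (x.comp (Abelian.Ext.mk₀ (F.map i)) (add_zero n)).comp (Abelian.Ext.mk₀ (F.map r)) (add_zero n) = x :=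
    (Abelian.Ext.comp_assoc_of_second_deg_zero _ _ _ _).trans
      ((congrArg (fun z => x.comp z (add_zero n))
        ((Abelian.Ext.mk₀_comp_mk₀ _ _).trans (congrArg Abelian.Ext.mk₀ h'))).trans
        (Abelian.Ext.comp_mk₀_id x))
  have hz : x.comp (Abelian.Ext.mk₀ (F.map i)) (add_zero n) = 0 := Subsingleton.elim (α := Coh.HH X M n) _ _
  exact e.symm.trans ((congrArg (fun z => z.comp (Abelian.Ext.mk₀ (F.map r)) (add_zero n)) hz).trans
    (Abelian.Ext.zero_comp _ _ _ _ _))

/-- Vanishing descends along a cover of invertible degree. -/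
theorem subsingleton_HH_of_cover {X Y : Scheme.{u}} (f : X ⟶ Y) (d : ℕ) (hf : FinCov.IsCover f d)
    (hd : IsUnit ((d : Γ(Y, ⊤)))) (L : Y.Modules) (hL : PicF.IsInvertible L) (n : ℕ)
    [Subsingleton (Coh.HH X ((Scheme.Modules.pullback f).obj L) n)] : Subsingleton (Coh.HH Y L n) := by
  obtain ⟨haff, hfree⟩ := (Groth.Agent.S19692.result f d).mp hf
  haveI := haff
  haveI : IsFinite f := hf.1.1
  let A := RelSpec.QCAlg.directImage f
  let e : A.toModule ≅ (Coh.push f).obj (Coh.structureModule X) := Curves.TraceDual.algPushIso f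
  have hA : FlatMod.IsFinLocFreeOfRank d A.toModule := fun y => by
    obtain ⟨U, hy, ⟨i⟩⟩ := hfree y
    exact ⟨U, hy, ⟨(Scheme.Modules.restrictFunctor U.ι).mapIso e ≪≫ i⟩⟩
  obtain ⟨τ, hτ, -⟩ := Groth.Agent.S19694.result A fun y =>
    let ⟨U, hy, i⟩ := hA y; ⟨U, d, hy, i⟩
  obtain ⟨hsplit, -⟩ := Groth.Agent.S19696.result A d hA τ hτ hd
  haveI := hsplit
  have hdb : Modules.DualBasis.HasDBases L :=
    Modules.DualBasis.hasDBases_of_isFinLocFree (TensorMod.LocFree.of_rank (TensorMod.LocFree.of_isInvertible hL))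
  haveI := Modules.ProjFormula.isIso_theta f hdb (Coh.structureModule X)
  let β : CohB1.tensorMod L ((Coh.push f).obj (Coh.structureModule X)) ≅
      (Coh.push f).obj ((Scheme.Modules.pullback f).obj L) :=
    asIso (Modules.ProjFormula.theta f L (Coh.structureModule X)) ≪≫ (Coh.push f).mapIso (rightUnit _)
  let i : L ⟶ (Coh.push f).obj ((Scheme.Modules.pullback f).obj L) :=
    (rightUnit L).inv ≫ tmap (𝟙 L) (section_ τ ≫ e.hom) ≫ β.hom
  let r : (Coh.push f).obj ((Scheme.Modules.pullback f).obj L) ⟶ L :=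
    β.inv ≫ tmap (𝟙 L) (e.inv ≫ τ) ≫ (rightUnit L).hom
  have h : i ≫ r = 𝟙 L := by
    simp only [i, r, Category.assoc, Iso.hom_inv_id_assoc, ← TensorMod.Basic.tmap_comp_assoc,
      IsSplitEpi.id, Category.comp_id, tmap_id, Category.id_comp, Iso.inv_hom_id]
  haveI : ((Scheme.Modules.pullback f).obj L).IsQuasicoherent :=
    TensorMod.QCohInv.isQCoh_of_isInvertible (PicLoc.isInvertible_pullback f hL)
  haveI : Subsingleton (Coh.HH Y ((Coh.push f).obj ((Scheme.Modules.pullback f).obj L)) n) :=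
    (ZarCoh.Morph.affineEquiv f ((Scheme.Modules.pullback f).obj L) n).toEquiv.subsingleton
  exact subsingleton_HH_of_retract i r h n

end

end Groth.Agent.H52.CoverRetract
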