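import Groth.Agent.H4.PicZero.CubeBase
import Groth.Agent.Lib.Cube.NN.Core

/-! The theorem of the cube over an arbitrary base. -/

set_option autoImplicit false
set_option linter.style.haveILetI false

universe u

open CategoryTheory CategoryTheory.Limits MonoidalCategory CartesianMonoidalCategory AlgebraicGeometry
open Groth.Agent.H3 Groth.Agent.H4.PicZero
open IsLocalRing (closedPoint)

namespace Groth.Agent.H52.CubeAll

noncomputable section

local instance (Y : Scheme.{u}) : PicGrp.Law Y := Groth.Agent.Lib.TensorMod.Invertible.law Y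

variable {S : Scheme.{u}}

section aux

open Groth.Agent.Lib.Cube

variable {X Y Z : Over S} [IsProper X.hom] [Flat X.hom] [GeometricallyIntegral X.hom]
  [LocallyOfFinitePresentation X.hom] [IsProper Y.hom] [Flat Y.hom] [GeometricallyIntegral Y.hom]
  [LocallyOfFinitePresentation Y.hom]
  (x₀ : 𝟙_ (Over S) ⟶ X) (y₀ : 𝟙_ (Over S) ⟶ Y)

/-- The data of the theorem of the cube with base `Z`. -/
def relCtx {ι : Type u} {U : ι → (X ⊗ Y ⊗ Z).left.Opens} (hU : ∀ a, IsAffineOpen (U a))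
    (hUc : iSup U = ⊤) (c : Groth.Agent.H97.GlueLine.Cocycle U)
    (hx : Triv.TrivAlong c (lift (toUnit (Y ⊗ Z) ≫ x₀) (𝟙 (Y ⊗ Z))).left)
    (hy : Triv.TrivAlong c (lift (fst X Z) (lift (toUnit (X ⊗ Z) ≫ y₀) (snd X Z))).left) :
    Ctx Z.left where
  X := (X ⊗ Z).left
  Y := (Y ⊗ Z).left
  W := (X ⊗ Y ⊗ Z).left
  px := (snd X Z).left
  py := (snd Y Z).left
  fx := (lift (fst X (Y ⊗ Z)) (snd X (Y ⊗ Z) ≫ snd Y Z)).left
  fy := (snd X (Y ⊗ Z)).left
  H := Groth.Agent.H4.PicZero.isPullback_slices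
  isProper_px := inferInstanceAs (IsProper (pullback.snd X.hom Z.hom))
  flat_px := inferInstanceAs (Flat (pullback.snd X.hom Z.hom))
  isProper_py := inferInstanceAs (IsProper (pullback.snd Y.hom Z.hom))
  flat_py := inferInstanceAs (Flat (pullback.snd Y.hom Z.hom))
  hx := by
    haveI : GeometricallyConnected X.hom := H2.Rigid.GeomIrred.geometricallyConnected X.hom
    exact (H2.Rigid.H0.of_geometrically X.hom).pullback_snd X.hom Z.hom
  hy := by
    haveI : GeometricallyConnected Y.hom := H2.Rigid.GeomIrred.geometricallyConnected Y.hom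
    exact (H2.Rigid.H0.of_geometrically Y.hom).pullback_snd Y.hom Z.hom
  x₀ := (lift (toUnit Z ≫ x₀) (𝟙 Z)).left
  hx₀ := by rw [← Over.comp_left, lift_snd, Over.id_left]
  y₀ := (lift (toUnit Z ≫ y₀) (𝟙 Z)).left
  hy₀ := by rw [← Over.comp_left, lift_snd, Over.id_left]
  i := (lift (toUnit (Y ⊗ Z) ≫ x₀) (𝟙 (Y ⊗ Z))).left
  hi₁ := by
    rw [← Over.comp_left, ← Over.comp_left]
    congr 1
    apply CartesianMonoidalCategory.hom_ext <;>
      simp only [Category.assoc, lift_fst, lift_snd, lift_fst_assoc, lift_snd_assoc, comp_toUnit_assoc,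
        Category.id_comp, Category.comp_id, comp_lift_assoc, comp_lift]
  hi₂ := by rw [← Over.comp_left, lift_snd, Over.id_left]
  j := (lift (fst X Z) (lift (toUnit (X ⊗ Z) ≫ y₀) (snd X Z))).left
  hj₁ := by
    rw [← Over.comp_left, ← Over.id_left]
    congr 1
    apply CartesianMonoidalCategory.hom_ext <;>
      simp only [Category.assoc, lift_fst, lift_snd, lift_fst_assoc, lift_snd_assoc, comp_toUnit_assoc,
        Category.id_comp, Category.comp_id, comp_lift_assoc, comp_lift]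
  hj₂ := by
    rw [← Over.comp_left, ← Over.comp_left]
    congr 1
    apply CartesianMonoidalCategory.hom_ext <;>
      simp only [Category.assoc, lift_fst, lift_snd, lift_fst_assoc, lift_snd_assoc, comp_toUnit_assoc,
        Category.id_comp, Category.comp_id, comp_lift_assoc, comp_lift]
  ι := ι
  U := U
  hU := hU
  hUc := hUc
  c := c
  hi := hx
  hj := hy

variable {c : PicLoc.PicSet (X ⊗ Y ⊗ Z).left}

/-- The theorem of the cube over `Z`: a class trivial on both slices is trivial as soon as it is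
trivial on one fibre in every connected component; here in two forms at once. -/
theorem eq_one_aux
    (hx : PicCalc.ph (lift (toUnit (Y ⊗ Z) ≫ x₀) (𝟙 (Y ⊗ Z))) c = 1)
    (hy : PicCalc.ph (lift (fst X Z) (lift (toUnit (X ⊗ Z) ≫ y₀) (snd X Z))) c = 1)
    (h : ∀ s : Z.left, ∃ z : Z.left, s ∈ connectedComponent z ∧
      ∃ (K : Type u) (_ : Field K) (ψ : Spec (CommRingCat.of K) ⟶ Z.left),
        ψ (closedPoint K) = z ∧ PicCalc.ph (X ◁ (Y ◁ fieldPtHom ψ)) c = 1) :
    c = 1 := by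
  obtain ⟨L, hL, rfl⟩ := PicGrp.exists_eq_cls c
  rw [PicGrp.cls_eq_one_iff hL]
  have hph : ∀ {V : Over S} (s : V ⟶ X ⊗ Y ⊗ Z), PicCalc.ph s (PicGrp.cls L hL) = 1 →
      Nonempty ((Scheme.Modules.pullback s.left).obj L ≅ Coh.structureModule V.left) := fun s hs =>
    (PicCalc.iso_iff (PicCalc.cl_pullback s (a := PicGrp.cls L hL) rfl)
      (b := (1 : PicLoc.PicSet _)) PicGrp.one_val.symm).2 hs
  obtain ⟨ι, U, hU, hUc, e, he, c, hc⟩ := Triv.exists_cocycle hL
  have iff := fun {P : Scheme.{u}} (f : P ⟶ (X ⊗ Y ⊗ Z).left) => Triv.trivAlong_iff e he c hc hUc f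
  let C := relCtx x₀ y₀ hU hUc c ((iff _).2 (hph _ hx)) ((iff _).2 (hph _ hy))
  haveI : GeometricallyIntegral C.px := inferInstanceAs (GeometricallyIntegral (pullback.snd X.hom Z.hom))
  haveI : GeometricallyIntegral C.py := inferInstanceAs (GeometricallyIntegral (pullback.snd Y.hom Z.hom))
  haveI : LocallyOfFinitePresentation C.px := inferInstanceAs (LocallyOfFinitePresentation (pullback.snd X.hom Z.hom))
  haveI : LocallyOfFinitePresentation C.py := inferInstanceAs (LocallyOfFinitePresentation (pullback.snd Y.hom Z.hom))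
  -- the given fibres
  have hgiven : ∀ (K : Type u) [Field K] (ψ : Spec (CommRingCat.of K) ⟶ Z.left),
      PicCalc.ph (X ◁ (Y ◁ fieldPtHom ψ)) (PicGrp.cls L hL) = 1 → Global.Fib C (ψ (closedPoint K)) := by
    intro K _ ψ hψ
    let T : Over S := Over.mk (C.bcBase ψ ≫ ψ ≫ Z.hom)
    have e1 : C.pw ≫ Z.hom = (X ⊗ Y ⊗ Z).hom := by
      show ((lift (fst X (Y ⊗ Z)) (snd X (Y ⊗ Z) ≫ snd Y Z)).left ≫ (snd X Z).left) ≫ Z.hom = _
      rw [← Over.comp_left, Over.w]
    let b : T ⟶ X ⊗ Y ⊗ Z := Over.homMk (C.bcMap ψ) (by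
      show C.bcMap ψ ≫ (X ⊗ Y ⊗ Z).hom = C.bcBase ψ ≫ ψ ≫ Z.hom
      rw [← e1, ← Category.assoc, pullback.condition, Category.assoc])
    let p : T ⟶ fieldPt ψ := Over.homMk (C.bcBase ψ) rfl
    let b' : T ⟶ X ⊗ Y ⊗ fieldPt ψ :=
      lift (b ≫ fst _ _) (lift (b ≫ snd _ _ ≫ fst _ _) p)
    have hbp : b ≫ snd X (Y ⊗ Z) ≫ snd Y Z = p ≫ fieldPtHom ψ := by
      apply Over.OverMorphism.ext
      show C.bcMap ψ ≫ (snd X (Y ⊗ Z)).left ≫ C.py = C.bcBase ψ ≫ ψ
      exact (congrArg (C.bcMap ψ ≫ ·) (Ctx.pw_eq C).symm).trans pullback.condition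
    have hb : b' ≫ (X ◁ (Y ◁ fieldPtHom ψ)) = b := by
      apply CartesianMonoidalCategory.hom_ext
      · simp [b']
      · apply CartesianMonoidalCategory.hom_ext
        · simp [b']
        · simp only [b', Category.assoc, whiskerLeft_snd_assoc, whiskerLeft_snd, lift_snd_assoc,
            lift_snd]
          exact hbp.symm
    have h2 : PicCalc.ph b (PicGrp.cls L hL) = 1 := by
      rw [← hb, PicCalc.ph_comp, hψ, map_one]
    exact Global.fib_of (C := C) rfl ((iff (C.bcMap ψ)).2 (hph b h2))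
  obtain ⟨T, hT, hfib, htriv⟩ := Groth.Agent.Lib.Cube.NN.exists_clopen_fib C
  have hall : ∀ s, s ∈ T := fun s => by
    obtain ⟨z, hz, K, _, ψ, rfl, hψ⟩ := h s
    exact (IsClopen.connectedComponent_subset ⟨hT, T.isOpen⟩ (hfib _ (hgiven K ψ hψ))) hz
  have key : Triv.TrivAlong c (𝟙 (X ⊗ Y ⊗ Z).left) :=
    (htriv.comp (IsOpenImmersion.lift (C.pw ⁻¹ᵁ T).ι (𝟙 _) (by
      rw [Scheme.Opens.range_ι]; exact fun x _ => hall _))).of_eq (IsOpenImmersion.lift_fac _ _ _)
  obtain ⟨i⟩ := (iff (𝟙 _)).1 key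
  exact ⟨(Scheme.Modules.pullbackId _).symm.app L ≪≫ i⟩

end aux

open MonObj

variable {X : Over S} [GrpObj X] [IsProper X.hom] [Flat X.hom] [GeometricallyIntegral X.hom]
  [LocallyOfFinitePresentation X.hom]

/-- The theorem of the cube over an arbitrary base. -/
theorem defect3_eq_one {V : Over S} (f g h : V ⟶ X) (c : PicLoc.PicSet X.left) :
    defect3 f g h c = 1 := by
  let p : X ⊗ X ⊗ X ⟶ X := fst X (X ⊗ X)
  let q : X ⊗ X ⊗ X ⟶ X := snd X (X ⊗ X) ≫ fst X X
  let r : X ⊗ X ⊗ X ⟶ X := snd X (X ⊗ X) ≫ snd X X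
  suffices huniv : defect3 p q r c = 1 by
    have e := ph_defect3 (lift f (lift g h)) p q r c
    rw [huniv, map_one] at e
    simp only [p, q, r, lift_fst, lift_snd_assoc, lift_snd] at e
    exact e.symm
  haveI : GeometricallyConnected X.hom := H2.Rigid.GeomIrred.geometricallyConnected X.hom
  haveI : UniversallyOpen X.hom := UniversallyOpen.of_flat X.hom
  have hone : ∀ W : Over S, toUnit W ≫ η[X] = 1 := fun W => Hom.one_def.symm
  refine eq_one_aux η[X] η[X] ?_ ?_ fun x => ?_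
  · rw [ph_defect3]
    simp only [p, q, r, lift_fst, lift_snd_assoc, hone, Category.id_comp]
    exact defect3_one_left _ _ c
  · rw [ph_defect3]
    simp only [p, q, r, lift_fst, lift_snd_assoc, lift_snd, hone]
    exact defect3_one_mid _ _ c
  let K := S.residueField (X.hom x)
  let ψ : Spec (CommRingCat.of K) ⟶ X.left := S.fromSpecResidueField (X.hom x) ≫ η[X].left
  have hψ : ψ (closedPoint K) = η[X].left (X.hom x) := by
    exact (Scheme.Hom.comp_apply _ _ _).trans (congrArg η[X].left (S.fromSpecResidueField_apply _ _))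
  have hsec : X.hom (η[X].left (X.hom x)) = X.hom x := congr($(Over.w η[X]) (X.hom x))
  refine ⟨η[X].left (X.hom x), ?_, K, inferInstance, ψ, hψ, ?_⟩
  · exact (X.hom.isConnected_preimage_singleton (X.hom x)).isPreconnected.subset_connectedComponent
      hsec rfl
  rw [ph_defect3]
  have hw : (fieldPtHom ψ : fieldPt ψ ⟶ X) = 1 := by
    rw [← hone]
    apply Over.OverMorphism.ext
    rw [Over.comp_left, Over.toUnit_left]
    show S.fromSpecResidueField _ ≫ η[X].left =
      ((S.fromSpecResidueField _ ≫ η[X].left) ≫ X.hom) ≫ η[X].left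
    rw [Category.assoc _ η[X].left X.hom, Over.w η[X]]
    congr 1
  have e : (X ◁ (X ◁ fieldPtHom ψ)) ≫ r = 1 := by
    have e' : (X ◁ (X ◁ fieldPtHom ψ)) ≫ r =
        (snd X (X ⊗ fieldPt ψ) ≫ snd X (fieldPt ψ)) ≫ fieldPtHom ψ := by simp [r]
    rw [e', hw, MonObj.comp_one]
  rw [e]
  exact defect3_one_right _ _ c

theorem cube_rel3 {V : Over S} (f g h : V ⟶ X) (c : PicLoc.PicSet X.left) :
    PicCalc.ph (f * g * h) c * PicCalc.ph f c * PicCalc.ph g c * PicCalc.ph h c =
      PicCalc.ph (f * g) c * PicCalc.ph (f * h) c * PicCalc.ph (g * h) c * PicCalc.ph 1 c :=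
  mul_inv_eq_one.1 (defect3_eq_one f g h c)

/-- Pullback by `n`, for `n : ℕ`. -/
theorem ph_pow_base {V : Over S} (x : V ⟶ X) (c : PicLoc.PicSet X.left) (n : ℕ) :
    PicCalc.ph (x ^ n) c * PicCalc.ph (1 : V ⟶ X) c ^ (n * n) =
      PicCalc.ph x c ^ (n + 1).choose 2 * PicCalc.ph x⁻¹ c ^ n.choose 2 * PicCalc.ph (1 : V ⟶ X) c := by
  set o := PicCalc.ph (1 : V ⟶ X) c with ho
  set a := PicCalc.ph x c with ha
  set b := PicCalc.ph x⁻¹ c with hb
  induction n using Nat.strong_induction_on with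
  | _ n ih =>
    match n with
    | 0 => simp [ho]
    | 1 => simp [ha]
    | m + 2 =>
      have h := cube_rel3 (x ^ (m + 1)) x x⁻¹ c
      rw [show x ^ (m + 1) * x * x⁻¹ = x ^ (m + 1) from mul_inv_cancel_right _ _,
        show x ^ (m + 1) * x = x ^ (m + 2) from (pow_succ x (m + 1)).symm,
        show x ^ (m + 1) * x⁻¹ = x ^ m by rw [pow_succ, mul_inv_cancel_right],
        mul_inv_cancel, ← ho, ← ha, ← hb] at h
      have h1 := ih (m + 1) (by omega)
      have h0 := ih m (by omega)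
      have e : ∀ j : ℕ, (j + 1).choose 2 = j + j.choose 2 := fun j => by
        rw [Nat.choose_succ_succ, Nat.choose_one_right]
      have e2 := e (m + 2); have e1 := e (m + 1); have e0 := e m
      have e1' : (m + 2).choose 2 = m + 1 + (m + 1).choose 2 := e1
      exact pow_recur h h1 h0 (by ring) (by omega) (by omega)

end

end Groth.Agent.H52.CubeAll
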