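import Groth.Agent.H4.CurveThrough
import Groth.Agent.H75.RedSub
import Groth.Agent.H4.AxesConst
import Groth.Agent.Lib.GrpQ.MonoClosed

/-!
# The rational points of a connected scheme of finite type are linked by smooth varieties
-/

set_option autoImplicit false
set_option linter.style.haveILetI false
universe u

open CategoryTheory CategoryTheory.Limits MonoidalCategory CartesianMonoidalCategory AlgebraicGeometry
open Groth.Agent.H4
open Groth.Agent.Lib.GrpQ.MonoClosed (ptOf exists_ptOf)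

namespace Groth.Agent.H52.SmoothChain

variable {K : Type u} [Field K] [IsAlgClosed K]

local notation "S" => Spec (CommRingCat.of K)

/-- An irreducible smooth scheme over an algebraically closed field is geometrically integral. -/
theorem geometricallyIntegral (W : Over S) [Smooth W.hom] [IrreducibleSpace W.left] :
    GeometricallyIntegral W.hom := by
  haveI := S2500.result W.hom
  haveI := Lib.GrpSch.geometricallyReduced_of_smooth_field W.hom
  exact GeometricallyIntegral.of_geometricallyReduced_of_geometricallyIrreducible (f := W.hom)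

/-- A function on rational points which is constant along smooth varieties. -/
def ConstAlong {T : Over S} {α : Type*} (F : (𝟙_ (Over S) ⟶ T) → α) : Prop :=
  ∀ (W : Over S) [Smooth W.hom] [IsSeparated W.hom] [QuasiCompact W.hom]
    [GeometricallyIntegral W.hom] (φ : W ⟶ T) (w w' : 𝟙_ (Over S) ⟶ W), F (w ≫ φ) = F (w' ≫ φ)

theorem exists_point_over {T : Over S} [LocallyOfFiniteType T.hom] {X : Over S}
    [LocallyOfFiniteType X.hom] (φ : X ⟶ T) (t : 𝟙_ (Over S) ⟶ T)
    (x : X.left) (hx : IsClosed ({x} : Set X.left)) (hxt : φ.left x = ptOf t) :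
    ∃ y : 𝟙_ (Over S) ⟶ X, ptOf y = x ∧ y ≫ φ = t := by
  let y : 𝟙_ (Over S) ⟶ X :=
    Over.homMk (pointOfClosedPoint X.hom x hx) (pointOfClosedPoint_comp X.hom x hx)
  have hy : ptOf y = x := pointOfClosedPoint_apply X.hom x hx _
  refine ⟨y, hy, Over.OverMorphism.ext
    (ext_of_apply_closedPoint_eq T.hom (Over.w (y ≫ φ)) (Over.w t) ?_)⟩
  show φ.left (ptOf y) = _
  rw [hy]
  exact hxt

set_option maxHeartbeats 400000 in
/-- Constancy on an integral scheme. -/
theorem const_of_isIntegral {X : Over S} [LocallyOfFiniteType X.hom] [IsIntegral X.left]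
    {α : Type*} {F : (𝟙_ (Over S) ⟶ X) → α} (hF : ConstAlong F) (x x' : 𝟙_ (Over S) ⟶ X) :
    F x = F x' := by
  haveI : LocallyOfFinitePresentation X.hom :=
    Groth.Agent.Lib.JacCrit.OverField.locallyOfFinitePresentation X.hom
  have hgen : genericPoint X.left ∈ X.hom.smoothLocus := by
    refine Groth.Agent.Lib.JacCrit.OverField.mem_smoothLocus_of_isRegular X.hom _ ?_
    exact (inferInstance : IsRegularLocalRing X.left.functionField)
  obtain ⟨_, ⟨(O : X.left.Opens), hO, rfl⟩, hηO, hOs⟩ :=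
    X.left.isBasis_affineOpens.exists_subset_of_mem_open hgen X.hom.smoothLocus.2
  let W : Over S := Over.mk (O.ι ≫ X.hom)
  let φ : W ⟶ X := Over.homMk O.ι rfl
  haveI : IsAffine (O : Scheme.{u}) := hO
  haveI : Smooth W.hom := by
    show Smooth (O.ι ≫ X.hom)
    rw [← Scheme.Hom.smoothLocus_eq_top_iff]
    refine top_le_iff.mp fun z _ => ?_
    rw [← Scheme.Hom.preimage_smoothLocus_eq]
    exact hOs z.2
  haveI : Nonempty (O : Scheme.{u}) := ⟨⟨_, hηO⟩⟩
  haveI : IrreducibleSpace ↥W.left := inferInstanceAs (IrreducibleSpace ↥(O : Scheme.{u}))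
  haveI := geometricallyIntegral W
  haveI : IsSeparated W.hom := by
    show IsSeparated (O.ι ≫ X.hom)
    infer_instance
  haveI : QuasiCompact W.hom := by
    show QuasiCompact (O.ι ≫ X.hom)
    infer_instance
  obtain ⟨o, -⟩ := exists_ptOf (X := W) isOpen_univ.isLocallyClosed Set.univ_nonempty
  suffices h : ∀ x : 𝟙_ (Over S) ⟶ X, F x = F (o ≫ φ) from (h x).trans (h x').symm
  have hclosed : ∀ x : 𝟙_ (Over S) ⟶ X, IsClosed ({ptOf x} : Set X.left) := fun x => by
    let p : {p : S ⟶ X.left // p ≫ X.hom = 𝟙 _} := ⟨x.left, Over.w x⟩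
    exact (pointEquivClosedPoint X.hom p).2
  have hin : ∀ x : 𝟙_ (Over S) ⟶ X, ptOf x ∈ O → F x = F (o ≫ φ) := by
    intro x hx
    have hc : IsClosed ({⟨ptOf x, hx⟩} : Set (O : Scheme.{u})) := by
      have := (hclosed x).preimage O.ι.continuous
      rwa [show O.ι ⁻¹' {ptOf x} = {⟨ptOf x, hx⟩} from
        Set.ext fun w => (Subtype.ext_iff (a1 := w) (a2 := ⟨ptOf x, hx⟩)).symm] at this
    obtain ⟨y, -, hy⟩ := exists_point_over φ x ⟨ptOf x, hx⟩ hc rfl
    rw [← hy]
    exact hF W φ y o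
  intro x
  by_cases hx : ptOf x ∈ O
  · exact hin x hx
  obtain ⟨_, ⟨(A : X.left.Opens), (hA : IsAffineOpen A), rfl⟩, hxA, -⟩ :=
    X.left.isBasis_affineOpens.exists_subset_of_mem_open (Set.mem_univ (ptOf x)) isOpen_univ
  haveI : Nonempty (A : Scheme.{u}) := ⟨⟨_, hxA⟩⟩
  let e := hA.fromSpec
  let R := Γ(X.left, A)
  haveI : IsDomain R := inferInstance
  let str : S ⟶ S := 𝟙 _
  let c : CommRingCat.of K ⟶ R := Spec.preimage (e ≫ X.hom)
  have hc : Spec.map c = e ≫ X.hom := Spec.map_preimage _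
  letI : Algebra K R := c.hom.toAlgebra
  haveI : Algebra.FiniteType K R := (HasRingHomProperty.Spec_iff (P := @LocallyOfFiniteType)).1
    (hc ▸ inferInstance : LocallyOfFiniteType (Spec.map c))
  let p₀ : Spec R := hA.primeIdealOf ⟨ptOf x, hxA⟩
  have hp₀ : e p₀ = ptOf x := hA.fromSpec_primeIdealOf ⟨_, hxA⟩
  have hp₀c : IsClosed ({p₀} : Set (Spec R)) := by
    have := (hclosed x).preimage e.continuous
    rwa [show e ⁻¹' {ptOf x} = {p₀} from Set.ext fun z =>
      ⟨fun h => e.isOpenEmbedding.injective (h.trans hp₀.symm), fun h => h ▸ hp₀⟩] at this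
  haveI : p₀.asIdeal.IsMaximal := (PrimeSpectrum.isClosed_singleton_iff_isMaximal _).mp hp₀c
  let J := PrimeSpectrum.vanishingIdeal ((e ⁻¹' (O : Set X.left))ᶜ)
  have hJz : PrimeSpectrum.zeroLocus (J : Set R) = (e ⁻¹' (O : Set X.left))ᶜ :=
    (PrimeSpectrum.zeroLocus_vanishingIdeal_eq_closure _).trans
      (O.2.preimage e.continuous).isClosed_compl.closure_eq
  have hJ : J ≠ ⊥ := by
    intro hJ
    have hne : (e ⁻¹' (O : Set X.left)).Nonempty := by
      obtain ⟨z, hzA, hzO⟩ := nonempty_preirreducible_inter A.2 O.2 ⟨_, hxA⟩ ⟨_, hηO⟩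
      obtain ⟨w, hw⟩ : z ∈ Set.range e := by rw [hA.range_fromSpec]; exact hzA
      exact ⟨w, show e w ∈ O by rw [hw]; exact hzO⟩
    obtain ⟨w, hw⟩ := hne
    have : w ∈ PrimeSpectrum.zeroLocus (J : Set R) := by
      rw [hJ]; exact fun a ha => by rw [show a = 0 from ha]; exact w.asIdeal.zero_mem
    rw [hJz] at this
    exact this hw
  have hJm : J ≤ p₀.asIdeal := by
    have : p₀ ∈ PrimeSpectrum.zeroLocus (J : Set R) := by
      rw [hJz]; show ¬ e p₀ ∈ O; rw [hp₀]; exact hx
    exact this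
  obtain ⟨C, U, v, c₀, c₁, hsm, hpr, hgiC, hvw, hc₀, hc₁, hvc₀, hvc₁⟩ :=
    CurveThrough.exists_curve K R p₀.asIdeal J hJ hJm
  haveI := hsm
  haveI := hpr
  haveI := hgiC
  let C₀ : Over S := Over.mk (U.ι ≫ C.hom)
  let ψ : C₀ ⟶ X := Over.homMk (v ≫ e) (by
    change (v ≫ e) ≫ X.hom = U.ι ≫ C.hom
    rw [Category.assoc, ← hc, ← hvw]
    rfl)
  haveI : IsLocallyNoetherian C.left := LocallyOfFiniteType.isLocallyNoetherian C.hom
  haveI : IsIntegral C.left := GeometricallyIntegral.isIntegral_of_subsingleton C.hom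
  haveI : CompactSpace C.left := QuasiCompact.compactSpace_of_compactSpace C.hom
  haveI : Smooth C₀.hom := inferInstanceAs (Smooth (U.ι ≫ C.hom))
  haveI : IsSeparated C₀.hom := inferInstanceAs (IsSeparated (U.ι ≫ C.hom))
  haveI : IsNoetherian C.left := {}
  haveI : QuasiCompact C₀.hom := inferInstanceAs (QuasiCompact (U.ι ≫ C.hom))
  haveI : Nonempty (U : Scheme.{u}) := ⟨c₀⟩
  haveI : IrreducibleSpace ↥C₀.left := inferInstanceAs (IrreducibleSpace ↥(U : Scheme.{u}))
  haveI := geometricallyIntegral C₀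
  have hcl : ∀ z : (U : Scheme.{u}), IsClosed ({z.1} : Set C.left) →
      IsClosed ({z} : Set (U : Scheme.{u})) := fun z hz => by
    have := hz.preimage U.ι.continuous
    rwa [show U.ι ⁻¹' {z.1} = {z} from Set.ext fun w => Subtype.ext_iff.symm] at this
  obtain ⟨y₀, -, hy₀⟩ := exists_point_over ψ x c₀ (hcl c₀ hc₀) (by
    show e (v c₀) = _
    rw [show v c₀ = p₀ from PrimeSpectrum.ext hvc₀, hp₀])
  let y₁ : 𝟙_ (Over S) ⟶ C₀ := Over.homMk (pointOfClosedPoint C₀.hom c₁ (hcl c₁ hc₁))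
    (pointOfClosedPoint_comp C₀.hom c₁ (hcl c₁ hc₁))
  have hy₁ : ptOf (y₁ ≫ ψ) ∈ O := by
    show e (v (pointOfClosedPoint C₀.hom c₁ (hcl c₁ hc₁) _)) ∈ O
    refine (congrArg (fun z => e (v z)) (pointOfClosedPoint_apply C₀.hom c₁ (hcl c₁ hc₁) _)).symm ▸ ?_
    by_contra h
    have : v c₁ ∈ PrimeSpectrum.zeroLocus (J : Set R) := by rw [hJz]; exact h
    exact hvc₁ this
  exact (hy₀ ▸ hF C₀ ψ y₀ y₁ : F x = F (y₁ ≫ ψ)).trans (hin _ hy₁)

/-- A function constant along smooth varieties is constant on a connected scheme of finite type. -/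
theorem const_of_connected {T : Over S} [LocallyOfFiniteType T.hom] [QuasiCompact T.hom]
    [ConnectedSpace T.left] {α : Type*} {F : (𝟙_ (Over S) ⟶ T) → α} (hF : ConstAlong F)
    (t t' : 𝟙_ (Over S) ⟶ T) : F t = F t' := by
  classical
  haveI : IsLocallyNoetherian T.left := LocallyOfFiniteType.isLocallyNoetherian T.hom
  haveI : CompactSpace T.left := QuasiCompact.compactSpace_of_compactSpace T.hom
  haveI : IsNoetherian T.left := {}
  have hfin : (irreducibleComponents T.left).Finite :=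
    TopologicalSpace.NoetherianSpace.finite_irreducibleComponents
  have hclosed : ∀ x : 𝟙_ (Over S) ⟶ T, IsClosed ({ptOf x} : Set T.left) := fun x =>
    (pointEquivClosedPoint T.hom ⟨x.left, Over.w x⟩).2
  have hcomp : ∀ Z ∈ irreducibleComponents T.left, ∀ x x' : 𝟙_ (Over S) ⟶ T,
      ptOf x ∈ Z → ptOf x' ∈ Z → F x = F x' := by
    intro Z hZ x x' hx hx'
    let Zc : TopologicalSpace.Closeds T.left := ⟨Z, isClosed_of_mem_irreducibleComponents Z hZ⟩
    let I := Scheme.IdealSheafData.vanishingIdeal (X := T.left) Zc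
    haveI : IsReduced I.subscheme := H75.RedSub.isReduced_vanishingIdeal Zc
    have hr : Set.range I.subschemeι = Z := by
      rw [Scheme.IdealSheafData.range_subschemeι, Scheme.IdealSheafData.coe_support_vanishingIdeal]
      rfl
    haveI : IrreducibleSpace ↥I.subscheme := by
      haveI : IrreducibleSpace ↥Z := isIrreducible_iff_irreducibleSpace.mp hZ.1
      exact ((I.subschemeι.isEmbedding.toHomeomorph.trans (Homeomorph.setCongr hr))).irreducibleSpace_iff.2
        inferInstance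
    haveI : IsIntegral I.subscheme := isIntegral_of_irreducibleSpace_of_isReduced _
    let X : Over S := Over.mk (I.subschemeι ≫ T.hom)
    let i : X ⟶ T := Over.homMk I.subschemeι rfl
    haveI : LocallyOfFiniteType X.hom := inferInstanceAs (LocallyOfFiniteType (I.subschemeι ≫ T.hom))
    haveI : IsIntegral X.left := inferInstanceAs (IsIntegral I.subscheme)
    have hlift : ∀ y : 𝟙_ (Over S) ⟶ T, ptOf y ∈ Z → ∃ z : 𝟙_ (Over S) ⟶ X, z ≫ i = y := by
      intro y hy
      obtain ⟨w, hw⟩ : ptOf y ∈ Set.range I.subschemeι := hr.ge hy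
      have hwc : IsClosed ({w} : Set I.subscheme) := by
        have := (hclosed y).preimage I.subschemeι.continuous
        rwa [show I.subschemeι ⁻¹' {ptOf y} = {w} from Set.ext fun v =>
          ⟨fun h => I.subschemeι.isEmbedding.injective (h.trans hw.symm), fun h => h ▸ hw⟩] at this
      obtain ⟨z, -, hz⟩ := exists_point_over i y w hwc hw
      exact ⟨z, hz⟩
    obtain ⟨z, rfl⟩ := hlift x hx
    obtain ⟨z', rfl⟩ := hlift x' hx'
    exact const_of_isIntegral (F := fun z => F (z ≫ i))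
      (fun W _ _ _ _ φ w w' => by simpa using hF W (φ ≫ i) w w') z z'
  let P : Set T.left → Prop := fun Z => ∃ x : 𝟙_ (Over S) ⟶ T, ptOf x ∈ Z ∧ F x = F t
  let A : Set T.left := ⋃ Z ∈ {Z ∈ irreducibleComponents T.left | P Z}, Z
  let B : Set T.left := ⋃ Z ∈ {Z ∈ irreducibleComponents T.left | ¬ P Z}, Z
  have hA : IsClosed A := (hfin.subset fun Z h => h.1).isClosed_biUnion
    fun Z h => isClosed_of_mem_irreducibleComponents Z h.1
  have hB : IsClosed B := (hfin.subset fun Z h => h.1).isClosed_biUnion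
    fun Z h => isClosed_of_mem_irreducibleComponents Z h.1
  have hAB : A ∪ B = Set.univ := Set.eq_univ_of_forall fun z => by
    by_cases h : P (irreducibleComponent z)
    · exact Or.inl (Set.mem_biUnion ⟨irreducibleComponent_mem_irreducibleComponents z, h⟩ mem_irreducibleComponent)
    · exact Or.inr (Set.mem_biUnion ⟨irreducibleComponent_mem_irreducibleComponents z, h⟩ mem_irreducibleComponent)
  have hdisj : A ∩ B = ∅ := by
    by_contra h
    obtain ⟨x, hxA, hxB⟩ := exists_ptOf (X := T) (hA.inter hB).isLocallyClosed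
      (Set.nonempty_iff_ne_empty.mpr h)
    obtain ⟨Z, ⟨hZ, y, hy, hyt⟩, hxZ⟩ := Set.mem_iUnion₂.mp hxA
    obtain ⟨Z', ⟨hZ', hnP⟩, hxZ'⟩ := Set.mem_iUnion₂.mp hxB
    exact hnP ⟨x, hxZ', (hcomp Z hZ x y hxZ hy).trans hyt⟩
  have hAo : IsClopen A := ⟨hA, by
    rw [show A = Bᶜ from Set.Subset.antisymm
      (fun z hz hz' => (Set.eq_empty_iff_forall_notMem.mp hdisj) z ⟨hz, hz'⟩)
      (fun z hz => ((hAB.ge (Set.mem_univ z)).resolve_right hz))]
    exact hB.isOpen_compl⟩
  have hAne : A.Nonempty := ⟨ptOf t, Set.mem_biUnion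
    ⟨irreducibleComponent_mem_irreducibleComponents _, t, mem_irreducibleComponent, rfl⟩ mem_irreducibleComponent⟩
  obtain ⟨Z, ⟨hZ, y, hy, hyt⟩, ht'Z⟩ := Set.mem_iUnion₂.mp
    ((hAo.eq_univ hAne).ge (Set.mem_univ (ptOf t')))
  exact (hyt.symm.trans (hcomp Z hZ y t' hy ht'Z))

end Groth.Agent.H52.SmoothChain
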