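import Groth.Agent.H52.PencilCurve
import Groth.Agent.Lib.CurveCompl53.Basic
import Groth.Agent.Lib.Cyc.TorPD
import Groth.Agent.H2.Rigid.SmoothDense
import Groth.Agent.H2.Rigid.GeomIrred
import Groth.Agent.S4991

/-!
# Regular proper models of pencil curves over an arbitrary field
-/

set_option autoImplicit false
set_option linter.style.haveILetI false
universe u

open CategoryTheory CategoryTheory.Limits AlgebraicGeometry TopologicalSpace

namespace Groth.Agent.H52.RegularModel

/-- A variety with a dense open that is geometrically irreducible is geometrically irreducible. -/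
theorem geometricallyIrreducible_of_dense {k : Type u} [Field k] {X : Scheme.{u}}
    (f : X ⟶ Spec (CommRingCat.of k)) (U : X.Opens) (hU : Dense (U : Set X))
    [GeometricallyIrreducible (U.ι ≫ f)] : GeometricallyIrreducible f := by
  refine ⟨fun K _ y P p₁ p₂ hP => ?_⟩
  haveI : UniversallyOpen y := inferInstance
  haveI : UniversallyOpen p₁ := MorphismProperty.of_isPullback hP.flip ‹_›
  haveI : IrreducibleSpace ↥(pullback U.ι p₁) :=
    GeometricallyIrreducible.geometrically_irreducibleSpace (f := U.ι ≫ f) y _ _
      ((IsPullback.of_hasPullback U.ι p₁).paste_vert hP)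
  have hd : DenseRange (pullback.snd U.ι p₁) := by
    rw [DenseRange]
    have h : Set.range (pullback.snd U.ι p₁) = p₁ ⁻¹' (U : Set X) := by
      rw [Scheme.Pullback.range_snd, Scheme.Opens.range_ι]
    rw [h]
    exact hU.preimage p₁.isOpenMap
  haveI : PreirreducibleSpace P := ⟨by
    rw [← hd.closure_range, ← Set.image_univ]
    exact (((IrreducibleSpace.isIrreducible_univ (X := ↥(pullback U.ι p₁))).image _
      (pullback.snd U.ι p₁).continuous.continuousOn).isPreirreducible).closure⟩
  exact { toNonempty := ⟨pullback.snd U.ι p₁ (Classical.arbitrary _)⟩ }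

/-- An integral affine scheme étale over the affine line is one-dimensional. -/
theorem topologicalKrullDim_eq_one {L : Type u} [Field L] (Y : Scheme.{u}) [IsAffine Y] [IsIntegral Y]
    (ψ : Y ⟶ Spec (CommRingCat.of (Polynomial L))) [Etale ψ] :
    topologicalKrullDim Y = 1 := by
  let R := Γ(Y, ⊤)
  let φ : CommRingCat.of (Polynomial L) ⟶ R := Spec.preimage (Y.isoSpec.inv ≫ ψ)
  have hφ : Spec.map φ = Y.isoSpec.inv ≫ ψ := Spec.map_preimage _
  haveI he : Etale (Spec.map φ) := by rw [hφ]; infer_instance
  have hφe : φ.hom.Etale := (HasRingHomProperty.Spec_iff (P := @Etale)).1 he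
  letI : Algebra (Polynomial L) R := φ.hom.toAlgebra
  haveI : Algebra.Etale (Polynomial L) R := hφe
  have hinj : Function.Injective (algebraMap (Polynomial L) R) := by
    rw [RingHom.injective_iff_ker_eq_bot, RingHom.algebraMap_toAlgebra]
    have hop : IsOpen (Set.range (Spec.map φ)) := (Spec.map φ).isOpenMap.isOpen_range
    have hne : (Set.range (Spec.map φ)).Nonempty := Set.range_nonempty _
    obtain ⟨x, hx⟩ := (genericPoint_spec (Spec (CommRingCat.of (Polynomial L)))).mem_open_set_iff hop |>.2
      (by simpa using hne)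
    have h0 : (Spec.map φ x).asIdeal = ⊥ := by rw [hx, genericPoint_eq_bot_of_affine]; rfl
    refine le_bot_iff.mp ?_
    rw [← h0]
    intro a ha
    show φ.hom a ∈ x.asIdeal
    rw [RingHom.mem_ker.mp ha]
    exact zero_mem _
  haveI := CurveJoinAlg.dimensionLEOne_of_etale L R hinj
  have hnf : ¬ IsField R := fun hF => by
    letI := hF.toField
    letI : Algebra L R := ((algebraMap (Polynomial L) R).comp Polynomial.C).toAlgebra
    haveI : IsScalarTower L (Polynomial L) R := .of_algebraMap_eq fun _ => rfl
    haveI h1 : Algebra.FiniteType L (Polynomial L) := inferInstance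
    haveI h2 : Algebra.FiniteType (Polynomial L) R := inferInstance
    haveI : Algebra.FiniteType L R := h1.trans h2
    haveI : Module.Finite L R := finite_of_finite_type_of_isJacobsonRing L R
    exact Polynomial.not_finite (Module.Finite.of_injective
      ((IsScalarTower.toAlgHom L (Polynomial L) R).toLinearMap) hinj)
  rw [IsHomeomorph.topologicalKrullDim_eq _ (Scheme.homeoOfIso Y.isoSpec).isHomeomorph,
    show topologicalKrullDim ↥(Spec R) = ringKrullDim R from
      PrimeSpectrum.topologicalKrullDim_eq_ringKrullDim R]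
  refine le_antisymm ?_ ?_
  · haveI : Ring.KrullDimLE 1 R := inferInstance
    exact Ring.krullDimLE_iff.1 this
  · obtain ⟨m, hm⟩ := Ideal.exists_maximal R
    haveI := hm
    refine Order.one_le_krullDim_iff.mpr ⟨⟨⊥, Ideal.isPrime_bot⟩, ⟨m, hm.isPrime⟩, ?_⟩
    exact (bot_lt_iff_ne_bot.mpr (Ring.ne_bot_of_isMaximal_of_not_isField hm hnf) : (⊥ : Ideal R) < m)

set_option maxHeartbeats 800000 in
/-- Pencil curves have regular, proper, geometrically integral models. -/
theorem exists_model {L : Type u} [Field L] (Y : Over (Spec (CommRingCat.of L))) [IsAffine Y.left]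
    [IsIntegral Y.left] [Smooth Y.hom] [GeometricallyIntegral Y.hom]
    (ψ : Y.left ⟶ Spec (CommRingCat.of (Polynomial L))) [Etale ψ] :
    ∃ (C : Over (Spec (CommRingCat.of L))) (j : Y ⟶ C),
      IsProper C.hom ∧ Flat C.hom ∧ GeometricallyIntegral C.hom ∧ IsIntegral C.left ∧
      IsOpenImmersion j.left ∧ ∀ x : C.left, IsRegularLocalRing (C.left.presheaf.stalk x) := by
  have hreg : ∀ y : Y.left, IsRegularLocalRing (Y.left.presheaf.stalk y) := fun y =>
    Groth.Agent.Lib.JacCrit.OverField.isRegularLocalRing_stalk Y.hom y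
      (by rw [Y.hom.smoothLocus_eq_top]; trivial)
  obtain ⟨C, g, j, hC, hg, hj, hjg, hdim, hn⟩ :=
    Groth.Agent.Lib.CurveCompl53.Basic.exists_normal_completion L Y.left Y.hom
      (topologicalKrullDim_eq_one Y.left ψ) (fun y => by
        haveI := hreg y
        haveI := Groth.Agent.Lib.Regular.Quotient.isDomain (Y.left.presheaf.stalk y)
        haveI := Groth.Agent.Lib.Regular.UFD.uniqueFactorizationMonoid (Y.left.presheaf.stalk y)
        infer_instance)
  haveI : IsLocallyNoetherian C := LocallyOfFiniteType.isLocallyNoetherian g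
  have hd : Dense (j.opensRange : Set C) :=
    j.opensRange.isOpen.dense ⟨j (Classical.arbitrary _), ⟨_, rfl⟩⟩
  have hι : j.opensRange.ι ≫ g = j.isoOpensRange.inv ≫ Y.hom := by
    rw [← hjg, Scheme.Hom.isoOpensRange_inv_comp_assoc]
  haveI : Smooth (j.opensRange.ι ≫ g) := by rw [hι]; infer_instance
  haveI : GeometricallyIrreducible (j.opensRange.ι ≫ g) := by
    rw [hι]
    exact ⟨fun K _ y P p₁ p₂ h => GeometricallyIrreducible.geometrically_irreducibleSpace (f := Y.hom) y
      (p₁ ≫ j.isoOpensRange.inv) p₂ (h.of_iso (Iso.refl P) j.isoOpensRange.symm (Iso.refl _) (Iso.refl _)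
        (by simp) (by simp) (by simp) (by simp))⟩
  haveI := geometricallyIrreducible_of_dense g j.opensRange hd
  haveI := H2.Rigid.SmoothDense.geometricallyReduced_of_dense g j.opensRange hd
  refine ⟨Over.mk g, Over.homMk j hjg, hg, inferInstanceAs (Flat g),
    GeometricallyIntegral.of_geometricallyReduced_of_geometricallyIrreducible (f := g), hC, hj,
    fun x => ?_⟩
  haveI : IsNoetherianRing ((Over.mk g).left.presheaf.stalk x) :=
    inferInstanceAs (IsNoetherianRing (C.presheaf.stalk x))
  haveI : IsDomain (C.presheaf.stalk x) := (hn x).1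
  haveI : IsIntegrallyClosed (C.presheaf.stalk x) := (hn x).2
  exact @Groth.Agent.Lib.CurveCompl53.Basic.isRegularLocalRing_of_dim_le_one
    (C.presheaf.stalk x) _ ‹_› _ (hn x).1 (hn x).2
    ((Groth.Agent.Lib.Cyc.TorPD.ringKrullDim_stalk_le x).trans hdim.le)

end Groth.Agent.H52.RegularModel
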