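import Groth.Agent.H52.SquareNoncomplete
import Groth.Agent.H52.RegularModel

/-!
# Base change of points to a bigger field, and squares with a regular third factor
-/

set_option autoImplicit false
set_option linter.style.haveILetI false
universe u

open CategoryTheory CategoryTheory.Limits MonoidalCategory CartesianMonoidalCategory AlgebraicGeometry
open Groth.Agent.H3
open Groth.Agent.Lib.GrpQ.MonoClosed (ptOf exists_ptOf)

namespace Groth.Agent.H52.CubeTools

noncomputable section

local instance (Y : Scheme.{u}) : PicGrp.Law Y := Groth.Agent.Lib.TensorMod.Invertible.law Y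

variable {K L : Type u} [Field K] [Field L]

local notation "S" => Spec (CommRingCat.of K)
local notation "SL" => Spec (CommRingCat.of L)

variable (b : Spec (CommRingCat.of L) ⟶ Spec (CommRingCat.of K))

/-- The projection from a base change. -/
def pr (V : Over S) : (Over.map b).obj ((Over.pullback b).obj V) ⟶ V :=
  Over.homMk (pullback.fst V.hom b) pullback.condition

/-- The lift of a map to a base change. -/
def lp {T : Over SL} {V : Over S} (x : (Over.map b).obj T ⟶ V) : T ⟶ (Over.pullback b).obj V :=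
  Over.homMk (pullback.lift x.left T.hom (Over.w x)) (pullback.lift_snd _ _ _)

theorem map_lp_pr {T : Over SL} {V : Over S} (x : (Over.map b).obj T ⟶ V) :
    (Over.map b).map (lp b x) ≫ pr b V = x :=
  Over.OverMorphism.ext (pullback.lift_fst _ _ _)

theorem eq_of_pr {T : Over SL} {V : Over S} {f g : T ⟶ (Over.pullback b).obj V}
    (h : (Over.map b).map f ≫ pr b V = (Over.map b).map g ≫ pr b V) : f = g :=
  Over.OverMorphism.ext (pullback.hom_ext (congrArg (fun k => k.left) h)
    ((Over.w f).trans (Over.w g).symm))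

/-- The base change of a rational point. -/
def pt {V : Over S} (v : 𝟙_ (Over S) ⟶ V) : 𝟙_ (Over SL) ⟶ (Over.pullback b).obj V :=
  lp b (toUnit _ ≫ v)

theorem map_pt_pr {V : Over S} (v : 𝟙_ (Over S) ⟶ V) :
    (Over.map b).map (pt b v) ≫ pr b V = toUnit _ ≫ v :=
  map_lp_pr b _

theorem pr_naturality {V V' : Over S} (f : V ⟶ V') :
    (Over.map b).map ((Over.pullback b).map f) ≫ pr b V' = pr b V ≫ f :=
  Over.OverMorphism.ext (pullback.lift_fst _ _ _)

theorem pt_comp {V V' : Over S} (v : 𝟙_ (Over S) ⟶ V) (f : V ⟶ V') :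
    pt b (v ≫ f) = pt b v ≫ (Over.pullback b).map f :=
  eq_of_pr b (by rw [map_pt_pr, Functor.map_comp, Category.assoc, pr_naturality,
    reassoc_of% (map_pt_pr b v)])

theorem isPullback_pt {V : Over S} (v : 𝟙_ (Over S) ⟶ V) :
    IsPullback (pt b v).left b (pr b V).left v.left := by
  have hr : IsPullback ((Over.pullback b).obj V).hom (pr b V).left b V.hom :=
    (IsPullback.of_hasPullback V.hom b).flip
  refine IsPullback.of_right ?_ ?_ hr
  · have h1 : (pt b v).left ≫ ((Over.pullback b).obj V).hom = 𝟙 _ := Over.w (pt b v)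
    have h2 : v.left ≫ V.hom = 𝟙 _ := Over.w v
    rw [h1, h2]
    haveI : IsIso (𝟙 (𝟙_ (Over S)).left) := IsIso.id _
    exact IsPullback.of_horiz_isIso ⟨by simp⟩
  · exact congrArg (fun k => k.left) (map_pt_pr b v)

/-- The base changes of rational points are dense. -/
theorem exists_pt_mem [IsAlgClosed K] {V : Over S} [LocallyOfFiniteType V.hom]
    {O : Set ((Over.pullback b).obj V).left} (hO : IsOpen O) (hne : O.Nonempty) :
    ∃ (v : 𝟙_ (Over S) ⟶ V) (z : (𝟙_ (Over SL)).left), (pt b v).left z ∈ O := by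
  haveI : UniversallyOpen (pr b V).left := inferInstanceAs (UniversallyOpen (pullback.fst V.hom b))
  obtain ⟨v, x, hxO, hx⟩ := exists_ptOf (X := V) ((pr b V).left.isOpenMap O hO).isLocallyClosed
    (hne.image _)
  obtain ⟨z, hz, -⟩ := Scheme.Pullback.exists_preimage_pullback (f := (pr b V).left) (g := v.left) x
    (IsLocalRing.closedPoint K) hx
  refine ⟨v, (isPullback_pt b v).isoPullback.inv z, ?_⟩
  rw [← Scheme.Hom.comp_apply, IsPullback.isoPullback_inv_fst, hz]
  exact hxO

/-- A set meeting every slice at a rational point meets the product. -/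
theorem exists_pts_mem [IsAlgClosed K] {V W : Over S} [LocallyOfFiniteType V.hom]
    [LocallyOfFiniteType W.hom]
    {O : Set ((Over.pullback b).obj V ⊗ (Over.pullback b).obj W).left} (hO : IsOpen O)
    (hne : O.Nonempty) :
    ∃ (v : 𝟙_ (Over S) ⟶ V) (w : 𝟙_ (Over S) ⟶ W) (z : (𝟙_ (Over SL)).left),
      (lift (pt b v) (pt b w)).left z ∈ O := by
  let VL := (Over.pullback b).obj V
  let WL := (Over.pullback b).obj W
  haveI : UniversallyOpen (fst VL WL).left := inferInstanceAs (UniversallyOpen (pullback.fst VL.hom WL.hom))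
  obtain ⟨v, z, x, hxO, hx⟩ := exists_pt_mem b ((fst VL WL).left.isOpenMap O hO) (hne.image _)
  let s : WL ⟶ VL ⊗ WL := lift (toUnit WL ≫ pt b v) (𝟙 WL)
  have hs : IsPullback s.left WL.hom (fst VL WL).left (pt b v).left := by
    have hr : IsPullback (snd VL WL).left (fst VL WL).left WL.hom VL.hom :=
      (IsPullback.of_hasPullback VL.hom WL.hom).flip
    have h1 : (pt b v).left ≫ VL.hom = 𝟙 _ := Over.w (pt b v)
    refine IsPullback.of_right ?_ ?_ hr
    · rw [← Over.comp_left, h1, lift_snd]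
      haveI : IsIso (𝟙 WL : WL ⟶ WL).left := inferInstanceAs (IsIso (𝟙 WL.left))
      haveI : IsIso (𝟙 (𝟙_ (Over SL)).left) := IsIso.id _
      exact IsPullback.of_horiz_isIso ⟨by simp⟩
    · rw [← Over.comp_left, lift_fst]
      rfl
  obtain ⟨y, hy, -⟩ := Scheme.Pullback.exists_preimage_pullback (f := (fst VL WL).left)
    (g := (pt b v).left) x z hx
  have hne' : (s.left ⁻¹' O).Nonempty := ⟨hs.isoPullback.inv y, by
    rw [Set.mem_preimage, ← Scheme.Hom.comp_apply, IsPullback.isoPullback_inv_fst, hy]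
    exact hxO⟩
  obtain ⟨w, z', hw⟩ := exists_pt_mem b (hO.preimage s.left.continuous) hne'
  refine ⟨v, w, z', ?_⟩
  have he : lift (pt b v) (pt b w) = pt b w ≫ s := by
    apply CartesianMonoidalCategory.hom_ext
    · rw [lift_fst, Category.assoc, lift_fst, ← Category.assoc,
        Subsingleton.elim (pt b w ≫ toUnit WL) (𝟙 _), Category.id_comp]
    · rw [lift_snd, Category.assoc, lift_snd, Category.comp_id]
  rw [he]
  exact hw

/-- Extension of classes along open immersions into regular schemes. -/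
theorem exists_extension {Y X : Over SL} (i : Y ⟶ X) [IsOpenImmersion i.left]
    [LocallyOfFiniteType X.hom] [QuasiCompact X.hom] [ConnectedSpace X.left]
    (hreg : ∀ x : X.left, IsRegularLocalRing (X.left.presheaf.stalk x)) (γ : PicLoc.PicSet Y.left) :
    ∃ δ, PicCalc.ph i δ = γ := by
  haveI : IsLocallyNoetherian X.left := LocallyOfFiniteType.isLocallyNoetherian X.hom
  haveI : CompactSpace X.left := QuasiCompact.compactSpace_of_compactSpace X.hom
  haveI : IsNoetherian X.left := {}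
  let e := i.left.isoOpensRange
  let γ' : PicLoc.PicSet (i.left.opensRange : Scheme.{u}) :=
    PicGrp.pullHom e.inv (Groth.Agent.Lib.TensorMod.Pullback.pullMul e.inv) γ
  obtain ⟨M, hM, hγ⟩ := PicGrp.exists_eq_cls γ'
  obtain ⟨N, hN, ⟨iso⟩⟩ := Groth.Agent.S7887.result X.left hreg i.left.opensRange M hM
  refine ⟨PicGrp.cls N hN, Subtype.ext ?_⟩
  have h1 : PicF.pullCl i.left.opensRange.ι (PicGrp.cls N hN).1 = γ'.1 := by
    rw [hγ]
    exact (PicGrp.cl_eq_cl_iff _ _).mpr
      ⟨((Scheme.Modules.restrictFunctorIsoPullback _).app N).symm ≪≫ iso⟩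
  have h2 : γ'.1 = PicF.pullCl e.inv γ.1 := rfl
  rw [PicCalc.ph_val]
  conv_lhs => rw [← Scheme.Hom.isoOpensRange_hom_ι i.left]
  rw [PicLoc.pullCl_comp, h1, h2, ← PicLoc.pullCl_comp, Iso.hom_inv_id, PicLoc.pullCl_id]

/-- A product of smooth geometrically connected factors with a regular connected one. -/
theorem regular_prod {P Q C : Over SL} [Smooth P.hom] [QuasiCompact P.hom]
    [GeometricallyConnected P.hom] [Smooth Q.hom] [QuasiCompact Q.hom]
    [GeometricallyConnected Q.hom] [LocallyOfFiniteType C.hom] [QuasiCompact C.hom]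
    [ConnectedSpace C.left]
    (hreg : ∀ x : C.left, IsRegularLocalRing (C.left.presheaf.stalk x)) :
    LocallyOfFiniteType (P ⊗ Q ⊗ C).hom ∧ QuasiCompact (P ⊗ Q ⊗ C).hom ∧
      ConnectedSpace (P ⊗ Q ⊗ C).left ∧
      ∀ x : (P ⊗ Q ⊗ C).left, IsRegularLocalRing ((P ⊗ Q ⊗ C).left.presheaf.stalk x) := by
  haveI h1 : LocallyOfFiniteType (Q ⊗ C).hom := by rw [Over.tensorObj_hom]; infer_instance
  haveI h2 : QuasiCompact (Q ⊗ C).hom := by rw [Over.tensorObj_hom]; infer_instance
  haveI : UniversallyOpen P.hom := UniversallyOpen.of_flat P.hom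
  haveI : UniversallyOpen Q.hom := UniversallyOpen.of_flat Q.hom
  haveI : ConnectedSpace (Q ⊗ C).left := inferInstanceAs (ConnectedSpace ↥(pullback Q.hom C.hom))
  haveI : LocallyOfFiniteType (P ⊗ Q ⊗ C).hom := by rw [Over.tensorObj_hom]; infer_instance
  haveI : QuasiCompact (P ⊗ Q ⊗ C).hom := by rw [Over.tensorObj_hom]; infer_instance
  haveI : ConnectedSpace (P ⊗ Q ⊗ C).left := inferInstanceAs (ConnectedSpace ↥(pullback P.hom (Q ⊗ C).hom))
  refine ⟨inferInstance, inferInstance, inferInstance, fun x => ?_⟩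
  haveI : Smooth (snd P (Q ⊗ C)).left := inferInstanceAs (Smooth (pullback.snd P.hom (Q ⊗ C).hom))
  haveI : Smooth (snd Q C).left := inferInstanceAs (Smooth (pullback.snd Q.hom C.hom))
  haveI : IsLocallyNoetherian C.left := LocallyOfFiniteType.isLocallyNoetherian C.hom
  haveI : Smooth ((snd P (Q ⊗ C)).left ≫ (snd Q C).left) := inferInstance
  exact (Groth.Agent.S4991.result ((snd P (Q ⊗ C)).left ≫ (snd Q C).left) x
    ⟨⊤, trivial, inferInstance⟩).mpr (hreg _)

/-- The square relation with a regular third factor. -/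
theorem sq_of_open {U V D E D₀ E₀ C : Over SL} [Smooth D.hom] [IsProper D.hom]
    [GeometricallyIntegral D.hom] [Smooth E.hom] [IsProper E.hom] [GeometricallyIntegral E.hom]
    [LocallyOfFiniteType C.hom] [QuasiCompact C.hom] [ConnectedSpace C.left]
    (hreg : ∀ x : C.left, IsRegularLocalRing (C.left.presheaf.stalk x))
    (σ : 𝟙_ (Over SL) ⟶ C) (γ : PicLoc.PicSet (U ⊗ V ⊗ C).left)
    (j : D₀ ⟶ D) [IsOpenImmersion j.left] (k : E₀ ⟶ E) [IsOpenImmersion k.left]
    (f : D₀ ⟶ U) (g : E₀ ⟶ V) (d d' : 𝟙_ (Over SL) ⟶ D₀) (e e' : 𝟙_ (Over SL) ⟶ E₀) :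
    SquareCurves.Sq γ (d ≫ f) (d' ≫ f) (e ≫ g) (e' ≫ g) := by
  haveI : IsLocallyNoetherian C.left := LocallyOfFiniteType.isLocallyNoetherian C.hom
  haveI : GeometricallyConnected D.hom := H2.Rigid.GeomIrred.geometricallyConnected D.hom
  haveI : GeometricallyConnected E.hom := H2.Rigid.GeomIrred.geometricallyConnected E.hom
  obtain ⟨h₁, h₂, h₃, h₄⟩ := regular_prod (P := D) (Q := E) hreg
  haveI := h₁; haveI := h₂; haveI := h₃
  haveI h : IsOpenImmersion (k ⊗ₘ 𝟙 C).left :=
    Groth.Agent.Lib.ActSep.GenericTransporter.prop_tensorHom (P := @IsOpenImmersion) k (𝟙 C) ‹_›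
      (inferInstanceAs (IsOpenImmersion (𝟙 C.left)))
  haveI : IsOpenImmersion (j ⊗ₘ (k ⊗ₘ 𝟙 C)).left :=
    Groth.Agent.Lib.ActSep.GenericTransporter.prop_tensorHom (P := @IsOpenImmersion) j (k ⊗ₘ 𝟙 C) ‹_› h
  obtain ⟨δ, hδ⟩ := exists_extension (j ⊗ₘ (k ⊗ₘ 𝟙 C)) h₄ (PicCalc.ph (f ⊗ₘ (g ⊗ₘ 𝟙 C)) γ)
  have key := SquareCurves.sq_of_proper σ δ (d ≫ j) (d' ≫ j) (e ≫ k) (e' ≫ k)
  have eq : ∀ (x : 𝟙_ (Over SL) ⟶ D₀) (y : 𝟙_ (Over SL) ⟶ E₀),
      PicCalc.ph (SquareCurves.sl C (x ≫ j) (y ≫ k)) δ =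
        PicCalc.ph (SquareCurves.sl C (x ≫ f) (y ≫ g)) γ := fun x y => by
    have h : ∀ {D' E' : Over SL} (p : D₀ ⟶ D') (q : E₀ ⟶ E'),
        SquareCurves.sl C x y ≫ (p ⊗ₘ (q ⊗ₘ 𝟙 C)) = SquareCurves.sl C (x ≫ p) (y ≫ q) := fun p q => by
      ext : 1 <;> simp [SquareCurves.sl]
    rw [← h, PicCalc.ph_comp, hδ, ← PicCalc.ph_comp, h]
  unfold SquareCurves.Sq at key ⊢
  rwa [eq, eq, eq, eq] at key

variable [IsAlgClosed K]

/-- The square relation with a regular third factor along base changes of joined points. -/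
theorem sq_of_joined {V W : Over S} {C : Over SL} [LocallyOfFiniteType C.hom] [QuasiCompact C.hom]
    [ConnectedSpace C.left]
    (hreg : ∀ x : C.left, IsRegularLocalRing (C.left.presheaf.stalk x))
    (σ : 𝟙_ (Over SL) ⟶ C)
    (γ : PicLoc.PicSet ((Over.pullback b).obj V ⊗ (Over.pullback b).obj W ⊗ C).left)
    {v v' : 𝟙_ (Over S) ⟶ V} {w w' : 𝟙_ (Over S) ⟶ W}
    (hv : CurveJoin.Joined v v') (hw : CurveJoin.Joined w w') :
    SquareCurves.Sq γ (pt b v) (pt b v') (pt b w) (pt b w') := by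
  obtain ⟨D, D₀, j, f, d, d', hD, hD', hD'', hj, rfl, rfl⟩ := hv
  obtain ⟨E, E₀, k, g, e, e', hE, hE', hE'', hk, rfl, rfl⟩ := hw
  let DL := (Over.pullback b).obj D
  let EL := (Over.pullback b).obj E
  haveI : Smooth DL.hom := inferInstanceAs (Smooth (pullback.snd D.hom b))
  haveI : IsProper DL.hom := inferInstanceAs (IsProper (pullback.snd D.hom b))
  haveI : GeometricallyIntegral DL.hom := inferInstanceAs (GeometricallyIntegral (pullback.snd D.hom b))
  haveI : Smooth EL.hom := inferInstanceAs (Smooth (pullback.snd E.hom b))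
  haveI : IsProper EL.hom := inferInstanceAs (IsProper (pullback.snd E.hom b))
  haveI : GeometricallyIntegral EL.hom := inferInstanceAs (GeometricallyIntegral (pullback.snd E.hom b))
  have hop : ∀ {P P' : Over S} (i : P ⟶ P'), IsOpenImmersion i.left →
      IsOpenImmersion ((Over.pullback b).map i).left := fun i hi =>
    MorphismProperty.baseChange_map (P := @IsOpenImmersion) b i hi
  haveI := hop j hj
  haveI := hop k hk
  simp only [pt_comp]
  exact sq_of_open hreg σ γ ((Over.pullback b).map j) ((Over.pullback b).map k)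
    ((Over.pullback b).map f) ((Over.pullback b).map g) _ _ _ _

/-- The square relation with a regular third factor. -/
theorem sq {V W : Over S} [Smooth V.hom] [IsSeparated V.hom] [GeometricallyIntegral V.hom]
    [Smooth W.hom] [IsSeparated W.hom] [GeometricallyIntegral W.hom]
    {C : Over SL} [LocallyOfFiniteType C.hom] [QuasiCompact C.hom] [ConnectedSpace C.left]
    (hreg : ∀ x : C.left, IsRegularLocalRing (C.left.presheaf.stalk x))
    (σ : 𝟙_ (Over SL) ⟶ C)
    (γ : PicLoc.PicSet ((Over.pullback b).obj V ⊗ (Over.pullback b).obj W ⊗ C).left)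
    (v v' : 𝟙_ (Over S) ⟶ V) (w w' : 𝟙_ (Over S) ⟶ W) :
    SquareCurves.Sq γ (pt b v) (pt b v') (pt b w) (pt b w') := by
  obtain ⟨x, hx, hx'⟩ := SquareNoncomplete.exists_common v v'
  obtain ⟨y, hy, hy'⟩ := SquareNoncomplete.exists_common w w'
  have h : ∀ c, CurveJoin.Joined c x → SquareCurves.Sq γ (pt b c) (pt b x) (pt b w) (pt b w') :=
    fun c hc => (sq_of_joined b hreg σ γ hc hy).trans_right (sq_of_joined b hreg σ γ hc hy').symm_right
  exact (h v hx).trans_left (h v' hx').symm_left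

end

end Groth.Agent.H52.CubeTools
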