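import Mathlib.Algebra.Polynomial.Laurent
import Mathlib.RingTheory.TensorProduct.MonoidAlgebra
import Mathlib.RingTheory.Flat.Basic
import Mathlib.RingTheory.Unramified.LocalStructure
import Mathlib.RingTheory.Etale.Basic
import Mathlib.RingTheory.Jacobson.Ring
import Mathlib.RingTheory.MvPolynomial
import Mathlib.FieldTheory.IsAlgClosed.Basic
import Mathlib.RingTheory.DedekindDomain.Basic

/-!
# Pulling an étale chart back to the pencil of lines through a point
-/

set_option autoImplicit false
set_option linter.style.haveILetI false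
universe u

open scoped TensorProduct

namespace Groth.Agent.H52.CurveJoinAlg

/-- A flat base change of a subalgebra of a Laurent polynomial ring into a domain is a domain. -/
theorem isDomain_tensor (A P R : Type u) [CommRing A] [CommRing P] [CommRing R] [Algebra A P]
    [Algebra A R] [Module.Flat A R] [IsDomain R] (ι : P →ₐ[A] LaurentPolynomial A)
    (hι : Function.Injective ι) : IsDomain (R ⊗[A] P) := by
  let e := AddMonoidAlgebra.scalarTensorEquiv (M := ℤ) A R
  let f : R ⊗[A] P →ₐ[A] R ⊗[A] LaurentPolynomial A := Algebra.TensorProduct.map (AlgHom.id A R) ι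
  have hf : Function.Injective f :=
    Module.Flat.lTensor_preserves_injective_linearMap (M := R) ι.toLinearMap hι
  exact Function.Injective.isDomain (e.toRingEquiv.toRingHom.comp f.toRingHom) (e.injective.comp hf)

variable {k : Type u} [CommRing k] {n : ℕ} (q : Fin n → k)

/-- The pencil of lines through `q`: the line to `X` at time `t`. -/
noncomputable def pencil : MvPolynomial (Fin n) k →+* Polynomial (MvPolynomial (Fin n) k) :=
  MvPolynomial.eval₂Hom (Polynomial.C.comp MvPolynomial.C) fun i =>
    Polynomial.C (MvPolynomial.C (q i)) +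
      Polynomial.X * (Polynomial.C (MvPolynomial.X i) - Polynomial.C (MvPolynomial.C (q i)))

@[simp] theorem pencil_C (c : k) : pencil q (MvPolynomial.C c) = Polynomial.C (MvPolynomial.C c) :=
  MvPolynomial.eval₂Hom_C _ _ c

@[simp] theorem pencil_X (i : Fin n) : pencil q (MvPolynomial.X i) =
    Polynomial.C (MvPolynomial.C (q i)) +
      Polynomial.X * (Polynomial.C (MvPolynomial.X i) - Polynomial.C (MvPolynomial.C (q i))) :=
  MvPolynomial.eval₂Hom_X' _ _ i

/-- The pencil is birational. -/
theorem exists_hom [IsDomain k] :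
    ∃ ι : Polynomial (MvPolynomial (Fin n) k) →+* LaurentPolynomial (MvPolynomial (Fin n) k),
      Function.Injective ι ∧ ∀ a, ι (pencil q a) = LaurentPolynomial.C a := by
  let P := Polynomial (MvPolynomial (Fin n) k)
  let ψ : MvPolynomial (Fin n) k →+* LaurentPolynomial (MvPolynomial (Fin n) k) :=
    MvPolynomial.eval₂Hom (LaurentPolynomial.C.comp MvPolynomial.C) fun i =>
      LaurentPolynomial.C (MvPolynomial.C (q i)) + LaurentPolynomial.T (-1) *
        (LaurentPolynomial.C (MvPolynomial.X i) - LaurentPolynomial.C (MvPolynomial.C (q i)))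
  let ι : P →+* LaurentPolynomial (MvPolynomial (Fin n) k) :=
    Polynomial.eval₂RingHom ψ (LaurentPolynomial.T 1)
  let F := FractionRing P
  have hX : algebraMap P F Polynomial.X ≠ 0 :=
    (map_ne_zero_iff _ (IsFractionRing.injective P F)).mpr Polynomial.X_ne_zero
  let ρ : LaurentPolynomial (MvPolynomial (Fin n) k) →+* F :=
    LaurentPolynomial.eval₂ ((algebraMap P F).comp (pencil q)) (Units.mk0 _ hX)
  have hρC : ∀ a, ρ (LaurentPolynomial.C a) = algebraMap P F (pencil q a) := fun a =>
    LaurentPolynomial.eval₂_C _ _ a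
  have hρT : ρ (LaurentPolynomial.T (-1)) = (algebraMap P F Polynomial.X)⁻¹ := by
    simp [ρ, LaurentPolynomial.eval₂_T]
  have hρT1 : ρ (LaurentPolynomial.T 1) = algebraMap P F Polynomial.X := by
    simp [ρ, LaurentPolynomial.eval₂_T]
  have key : ρ.comp ι = algebraMap P F := by
    refine Polynomial.ringHom_ext' (MvPolynomial.ringHom_ext (fun c => ?_) fun i => ?_) ?_
    · simp [ι, ψ, hρC]
    · simp only [ι, ψ, RingHom.comp_apply, Polynomial.coe_eval₂RingHom, Polynomial.eval₂_C,
        MvPolynomial.eval₂Hom_X', map_add, map_mul, map_sub, hρC, hρT, pencil_C, pencil_X]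
      rw [add_sub_cancel_left, ← mul_assoc, inv_mul_cancel₀ hX, one_mul, add_sub_cancel]
    · simp [ι, hρT1]
  refine ⟨ι, fun x y h => IsFractionRing.injective P F ?_, ?_⟩
  · rw [← key, RingHom.comp_apply, RingHom.comp_apply, h]
  · have : ι.comp (pencil q) = LaurentPolynomial.C := by
      refine MvPolynomial.ringHom_ext (fun c => ?_) fun i => ?_
      · show (Polynomial.eval₂RingHom ψ (LaurentPolynomial.T 1)) (pencil q (MvPolynomial.C c)) = _
        rw [pencil_C, Polynomial.coe_eval₂RingHom, Polynomial.eval₂_C, MvPolynomial.eval₂Hom_C]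
        rfl
      · show (Polynomial.eval₂RingHom ψ (LaurentPolynomial.T 1)) (pencil q (MvPolynomial.X i)) = _
        simp only [pencil_X, map_add, map_mul, map_sub, Polynomial.coe_eval₂RingHom,
          Polynomial.eval₂_C, Polynomial.eval₂_X, MvPolynomial.eval₂Hom_X', ψ,
          MvPolynomial.eval₂Hom_C, RingHom.comp_apply]
        rw [add_sub_cancel_left, ← mul_assoc, ← LaurentPolynomial.T_add]
        simp
    exact fun a => congr($this a)

/-- An affine domain étale over the line has dimension one. -/
theorem dimensionLEOne_of_etale (k D : Type u) [Field k] [CommRing D] [IsDomain D]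
    [Algebra (Polynomial k) D] [Algebra.Etale (Polynomial k) D]
    (hinj : Function.Injective (algebraMap (Polynomial k) D)) : Ring.DimensionLEOne D := by
  refine ⟨fun {Q} hQ0 hQ => ?_⟩
  haveI := hQ
  have hu : Q.under (Polynomial k) ≠ ⊥ := fun h => hQ0 (Eq.symm
    (Algebra.QuasiFinite.eq_of_le_of_under_eq (R := Polynomial k) ⊥ Q bot_le (by
      rw [h]; exact (RingHom.injective_iff_ker_eq_bot _).mp hinj)))
  obtain ⟨M, hM, hQM⟩ := Q.exists_le_maximal hQ.ne_top
  haveI := hM
  have hmax : (Q.under (Polynomial k)).IsMaximal := Ideal.IsPrime.isMaximal inferInstance hu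
  have e : Q.under (Polynomial k) = M.under (Polynomial k) :=
    hmax.eq_of_le (Ideal.IsPrime.ne_top inferInstance) (Ideal.comap_mono hQM)
  exact (Algebra.QuasiFinite.eq_of_le_of_under_eq Q M hQM e) ▸ hM

/-- An affine variety dominating the line is not a point. -/
theorem not_isField (k D : Type u) [Field k] [IsAlgClosed k] [CommRing D] [Algebra k D]
    [Algebra.FiniteType k D] (ψ : Polynomial k →+* D) (hψ : Function.Injective ψ)
    (hc : ∀ c, ψ (Polynomial.C c) = algebraMap k D c) : ¬ IsField D := by
  intro hF
  letI := hF.toField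
  haveI : Module.Finite k D := finite_of_finite_type_of_isJacobsonRing k D
  obtain ⟨c, hc'⟩ := (IsAlgClosed.algebraMap_bijective_of_isIntegral (k := k) (K := D)).2 (ψ Polynomial.X)
  rw [← hc] at hc'
  exact Polynomial.X_ne_C c (hψ hc').symm

end Groth.Agent.H52.CurveJoinAlg
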