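import Groth.Agent.H52.CurveModel
import Groth.Agent.H52.CurveJoinAlg
import Groth.Agent.S0419
import Groth.Agent.Lib.GrpSch.ConnFibre
import Groth.Agent.H2.Rigid.GeomIrred
import Groth.Agent.H4.AxesConst
import Groth.Agent.Lib.GrpQ.MonoClosed

/-!
# A point and a general point of a smooth variety lie on a common curve
-/

set_option autoImplicit false
set_option linter.style.haveILetI false
universe u

open CategoryTheory CategoryTheory.Limits MonoidalCategory CartesianMonoidalCategory AlgebraicGeometry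
open scoped TensorProduct
open Groth.Agent.Lib.GrpQ.MonoClosed (ptOf)

namespace Groth.Agent.H52.CurveJoin

variable {K : Type u} [Field K]

local notation "S" => Spec (CommRingCat.of K)

/-- Two rational points on an open piece of a smooth complete curve mapping to `U`. -/
def Joined {U : Over S} (a a' : 𝟙_ (Over S) ⟶ U) : Prop :=
  ∃ (C C₀ : Over S) (j : C₀ ⟶ C) (f : C₀ ⟶ U) (c c' : 𝟙_ (Over S) ⟶ C₀),
    Smooth C.hom ∧ IsProper C.hom ∧ GeometricallyIntegral C.hom ∧ IsOpenImmersion j.left ∧
    c ≫ f = a ∧ c' ≫ f = a'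

/-- An étale chart at a point of a smooth scheme. -/
theorem exists_chart {X : Scheme.{u}} (f : X ⟶ S) [Smooth f] (x : X) :
    ∃ (R : CommRingCat.{u}) (e : Spec R ⟶ X) (n : ℕ)
      (φ₀ : CommRingCat.of (MvPolynomial (Fin n) K) ⟶ R),
      IsOpenImmersion e ∧ x ∈ Set.range e ∧ φ₀.hom.Etale ∧
      Spec.map φ₀ ≫ Spec.map (CommRingCat.ofHom MvPolynomial.C) = e ≫ f := by
  obtain ⟨U, hU, V, hV, hxV, hle, hstd⟩ := Smooth.exists_isStandardSmooth f x
  have hUtop : U = ⊤ := top_le_iff.mp fun z _ => by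
    have : z = f x := Subsingleton.elim (α := PrimeSpectrum K) _ _
    exact this ▸ hle hxV
  subst hUtop
  let c₀ : CommRingCat.of K ⟶ Γ(X, V) :=
    (Scheme.ΓSpecIso (CommRingCat.of K)).inv ≫ f.appLE ⊤ V hle
  have hc₀ : c₀.hom.IsStandardSmooth :=
    RingHom.isStandardSmooth_respectsIso.2 _ (Scheme.ΓSpecIso (CommRingCat.of K)).symm.commRingCatIsoToRingEquiv hstd
  obtain ⟨n, φ₀, hC, hφ₀⟩ := hc₀.exists_etale_mvPolynomial
  refine ⟨Γ(X, V), hV.fromSpec, n, CommRingCat.ofHom φ₀, inferInstance,
    by rw [hV.range_fromSpec]; exact hxV, hφ₀, ?_⟩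
  have h2 : CommRingCat.ofHom (MvPolynomial.C (σ := Fin n) (R := K)) ≫ CommRingCat.ofHom φ₀ = c₀ :=
    CommRingCat.hom_ext hC
  rw [← Spec.map_comp, h2, ← IsAffineOpen.SpecMap_appLE_fromSpec f hU hV hle,
    Spec.map_comp, IsAffineOpen.fromSpec_top, Scheme.isoSpec_Spec_inv]

/-- The pullback of an étale chart along the pencil of lines is integral. -/
theorem isIntegral_pencil {n : ℕ} {R : CommRingCat.{u}} [IsDomain R]
    (φ₀ : CommRingCat.of (MvPolynomial (Fin n) K) ⟶ R) (hφ₀ : φ₀.hom.Etale) (q : Fin n → K) :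
    IsIntegral (pullback (Spec.map φ₀) (Spec.map (CommRingCat.ofHom (CurveJoinAlg.pencil q)))) := by
  letI : Algebra (MvPolynomial (Fin n) K) R := φ₀.hom.toAlgebra
  haveI : Algebra.Etale (MvPolynomial (Fin n) K) R := hφ₀
  obtain ⟨ι, hι, hι'⟩ := CurveJoinAlg.exists_hom q
  letI alg : Algebra (MvPolynomial (Fin n) K) (Polynomial (MvPolynomial (Fin n) K)) :=
    (CurveJoinAlg.pencil q).toAlgebra
  let ι' : Polynomial (MvPolynomial (Fin n) K) →ₐ[MvPolynomial (Fin n) K]
      LaurentPolynomial (MvPolynomial (Fin n) K) :=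
    { ι with commutes' := fun a => (hι' a).trans (LaurentPolynomial.C_eq_algebraMap a) }
  haveI := CurveJoinAlg.isDomain_tensor (MvPolynomial (Fin n) K)
    (Polynomial (MvPolynomial (Fin n) K)) R ι' hι
  exact IsIntegral.of_isIso
    (pullbackSpecIso (MvPolynomial (Fin n) K) R (Polynomial (MvPolynomial (Fin n) K))).inv

/-- The generic fibre of an irreducible scheme with a section is irreducible. -/
theorem irreducibleSpace_fiber {X Y : Scheme.{u}} [IrreducibleSpace X] [IrreducibleSpace Y]
    (g : X ⟶ Y) (σ : Y ⟶ X) (hσ : σ ≫ g = 𝟙 Y) : IrreducibleSpace ↥(g.fiber (genericPoint Y)) := by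
  have hηX : g (genericPoint X) = genericPoint Y := by
    refine ((genericPoint_spec Y).eq ?_).symm
    have h := (genericPoint_spec X).image g.continuous
    rw [Set.image_univ, (show Set.range g = Set.univ from Set.eq_univ_of_forall fun y =>
      ⟨σ y, by rw [← Scheme.Hom.comp_apply, hσ]; rfl⟩), closure_univ] at h
    exact h
  have hirr : IsIrreducible (g ⁻¹' {genericPoint Y}) := by
    refine ⟨⟨_, hηX⟩, fun u v hu hv ⟨x, hx, hxu⟩ ⟨y, hy, hyv⟩ => ?_⟩
    exact ⟨genericPoint X, hηX, (genericPoint_spec X).specializes trivial |>.mem_open hu hxu,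
      (genericPoint_spec X).specializes trivial |>.mem_open hv hyv⟩
  haveI : IrreducibleSpace ↥(g ⁻¹' {genericPoint Y}) :=
    isIrreducible_iff_irreducibleSpace.mp hirr
  exact (g.fiberHomeo (genericPoint Y)).symm.irreducibleSpace_iff.1 inferInstance

section Ring

variable {k : Type u} [CommRing k] {n : ℕ} (q p : Fin n → k)

theorem eval_zero_pencil : (Polynomial.evalRingHom 0).comp (CurveJoinAlg.pencil q) =
    (MvPolynomial.C (σ := Fin n)).comp (MvPolynomial.eval q) :=
  MvPolynomial.ringHom_ext (fun c => by simp) fun i => by simp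

theorem eval_one_pencil : ((Polynomial.evalRingHom 1).comp
    (Polynomial.mapRingHom (MvPolynomial.eval p))).comp (CurveJoinAlg.pencil q) = MvPolynomial.eval p :=
  MvPolynomial.ringHom_ext (fun c => by simp) fun i => by simp

theorem pencil_comp_C : (CurveJoinAlg.pencil q).comp MvPolynomial.C =
    Polynomial.C.comp MvPolynomial.C := RingHom.ext fun c => by simp

theorem eval_zero_comp_C {A : Type u} [CommRing A] :
    (Polynomial.evalRingHom (0 : A)).comp Polynomial.C = RingHom.id A := RingHom.ext fun c => by simp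

theorem eval_comp_C : (MvPolynomial.eval p).comp MvPolynomial.C = RingHom.id k :=
  RingHom.ext fun c => by simp

theorem eval_zero_map {A : Type u} [CommRing A] (f : A →+* k) :
    (Polynomial.evalRingHom 0).comp (Polynomial.mapRingHom f) = f.comp (Polynomial.evalRingHom 0) :=
  Polynomial.ringHom_ext (fun c => by simp) (by simp)

end Ring

variable [IsAlgClosed K]

set_option maxHeartbeats 800000 in
/-- A rational point is joined to all rational points of some nonempty open. -/
theorem exists_open {U : Over S} [Smooth U.hom] [IsSeparated U.hom] [IsIntegral U.left]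
    (a : 𝟙_ (Over S) ⟶ U) :
    ∃ O : U.left.Opens, (O : Set U.left).Nonempty ∧
      ∀ x : 𝟙_ (Over S) ⟶ U, ptOf x ∈ O → Joined a x := by
  classical
  obtain ⟨R, e, n, φ₀, he, hae, hφ₀, hf⟩ := exists_chart U.hom (ptOf a)
  haveI := he
  haveI : Nonempty (Spec R) := ⟨hae.choose⟩
  haveI : IsIntegral (Spec R) := isIntegral_of_isOpenImmersion e
  haveI : IsDomain R := (affine_isIntegral_iff R).mp inferInstance
  let A := MvPolynomial (Fin n) K
  let cK : S ⟶ S := 𝟙 _
  let αS : S ⟶ Spec R := IsOpenImmersion.lift e a.left (by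
    rintro _ ⟨z, rfl⟩
    obtain rfl : z = IsLocalRing.closedPoint K := Subsingleton.elim (α := PrimeSpectrum K) _ _
    exact hae)
  have hαS : αS ≫ e = a.left := IsOpenImmersion.lift_fac _ _ _
  let α := Spec.preimage αS
  let π : Spec R ⟶ Spec (CommRingCat.of A) := Spec.map φ₀
  haveI : Etale π := (HasRingHomProperty.Spec_iff (P := @Etale)).2 hφ₀
  let q : Fin n → K := fun i => α.hom (φ₀.hom (MvPolynomial.X i))
  have hstr : ∀ (x : 𝟙_ (Over S) ⟶ U) (xS : S ⟶ Spec R), xS ≫ e = x.left →
      ∀ c, (Spec.preimage xS).hom (φ₀.hom (MvPolynomial.C c)) = c := by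
    intro x xS hx c
    have h : xS ≫ π ≫ Spec.map (CommRingCat.ofHom MvPolynomial.C) = 𝟙 _ := by
      rw [hf, ← Category.assoc, hx]
      exact Over.w x
    rw [← Spec.map_preimage xS, ← Spec.map_comp, ← Spec.map_comp, ← Spec.map_id] at h
    exact congr($(Spec.map_injective h).hom c)
  let φS : Spec (CommRingCat.of (Polynomial A)) ⟶ Spec (CommRingCat.of A) :=
    Spec.map (CommRingCat.ofHom (CurveJoinAlg.pencil q))
  let C' : Spec (CommRingCat.of (Polynomial A)) ⟶ Spec (CommRingCat.of A) :=
    Spec.map (CommRingCat.ofHom Polynomial.C)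
  haveI : Smooth C' := (HasRingHomProperty.Spec_iff (P := @Smooth)).2
    (RingHom.smooth_algebraMap.mpr (⟨inferInstance, inferInstance⟩ : Algebra.Smooth A (Polynomial A)))
  let Y := pullback π φS
  haveI : IsIntegral Y := isIntegral_pencil φ₀ hφ₀ q
  let gP : Y ⟶ Spec (CommRingCat.of (Polynomial A)) := pullback.snd π φS
  haveI : Etale gP := inferInstanceAs (Etale (pullback.snd π φS))
  let g := gP ≫ C'
  haveI : Smooth g := inferInstanceAs (Smooth (gP ≫ C'))
  let σA : Spec (CommRingCat.of A) ⟶ Spec R :=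
    Spec.map (CommRingCat.ofHom MvPolynomial.C) ≫ αS
  let ev₀ : Spec (CommRingCat.of A) ⟶ Spec (CommRingCat.of (Polynomial A)) :=
    Spec.map (CommRingCat.ofHom (Polynomial.evalRingHom 0))
  have hσ0 : σA ≫ π = ev₀ ≫ φS := by
    simp only [σA, π, φS, ev₀]
    rw [← Spec.map_preimage αS, ← Spec.map_comp, ← Spec.map_comp, ← Spec.map_comp]
    congr 1
    have hαq : α.hom.comp φ₀.hom = MvPolynomial.eval q := MvPolynomial.ringHom_ext
      (fun c => (hstr a αS hαS c).trans (MvPolynomial.eval_C c).symm)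
      fun i => (MvPolynomial.eval_X (f := q) i).symm
    refine CommRingCat.hom_ext ?_
    exact ((congrArg (RingHom.comp MvPolynomial.C) hαq).trans (eval_zero_pencil q).symm)
  let σ : Spec (CommRingCat.of A) ⟶ Y := pullback.lift σA ev₀ hσ0
  have hσ : σ ≫ g = 𝟙 _ := by
    simp only [σ, g, gP, ev₀, C']
    rw [pullback.lift_snd_assoc, ← Spec.map_comp, ← Spec.map_id]
    congr 1
    exact CommRingCat.hom_ext eval_zero_comp_C
  haveI : GeometricallyIrreducible (g.fiberToSpecResidueField (genericPoint (Spec (CommRingCat.of A)))) := by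
    haveI := irreducibleSpace_fiber g σ hσ
    haveI : GeometricallyConnected (g.fiberToSpecResidueField (genericPoint (Spec (CommRingCat.of A)))) :=
      Lib.GrpSch.geometricallyConnected_of_rationalPoint _
        (pullback.lift (Scheme.fromSpecResidueField _ _ ≫ σ) (𝟙 _)
          (((Category.assoc _ _ _).trans ((congrArg (_ ≫ ·) hσ).trans (Category.comp_id _))).trans
            (Category.id_comp _).symm))
        (pullback.lift_snd _ _ _)
    haveI : Smooth (g.fiberToSpecResidueField (genericPoint (Spec (CommRingCat.of A)))) :=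
      inferInstanceAs (Smooth (pullback.snd g _))
    haveI := H2.Rigid.GeomIrred.geometricallyIntegral_of_smooth
      (g.fiberToSpecResidueField (genericPoint (Spec (CommRingCat.of A))))
    infer_instance
  haveI : IsLocallyNoetherian (Spec (CommRingCat.of A)) := inferInstance
  obtain ⟨V, hV, hVg⟩ := S0419.result g ‹_›
  haveI := hVg
  refine ⟨e ''ᵁ (π ⁻¹ᵁ V), ?_, fun x hx => ?_⟩
  · obtain ⟨z, hzV, w, rfl⟩ := nonempty_preirreducible_inter V.2 π.isOpenMap.isOpen_range hV
      (Set.range_nonempty π)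
    exact ⟨e w, w, hzV, rfl⟩
  obtain ⟨w, hwV, hwx⟩ := hx
  let βS : S ⟶ Spec R := IsOpenImmersion.lift e x.left (by
    rintro _ ⟨z, rfl⟩
    obtain rfl : z = IsLocalRing.closedPoint K := Subsingleton.elim (α := PrimeSpectrum K) _ _
    exact ⟨w, hwx⟩)
  have hβS : βS ≫ e = x.left := IsOpenImmersion.lift_fac _ _ _
  let β := Spec.preimage βS
  let p : Fin n → K := fun i => β.hom (φ₀.hom (MvPolynomial.X i))
  let evp : A →+* K := MvPolynomial.eval p
  let sp : S ⟶ Spec (CommRingCat.of A) := Spec.map (CommRingCat.ofHom evp)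
  have hsp : βS ≫ π = sp := by
    simp only [π, sp]
    rw [← Spec.map_preimage βS, ← Spec.map_comp]
    congr 1
    refine CommRingCat.hom_ext (MvPolynomial.ringHom_ext (fun c => ?_) fun i => ?_)
    · simp [hstr x βS hβS c, evp]
    · simp [evp, p, β]
  have hspV : Set.range sp ⊆ Set.range V.ι := by
    rintro _ ⟨z, rfl⟩
    obtain rfl : z = IsLocalRing.closedPoint K := Subsingleton.elim (α := PrimeSpectrum K) _ _
    rw [Scheme.Opens.range_ι, ← hsp]
    change π (βS (IsLocalRing.closedPoint K)) ∈ V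
    have : βS (IsLocalRing.closedPoint K) = w := e.isOpenEmbedding.injective
      (((Scheme.Hom.comp_apply βS e _).symm.trans
        (congrArg (fun h : S ⟶ U.left => h (IsLocalRing.closedPoint K)) hβS)).trans hwx.symm)
    rw [this]
    exact hwV
  -- the fibre
  let sT : Spec (CommRingCat.of (Polynomial K)) ⟶ Spec (CommRingCat.of (Polynomial A)) :=
    Spec.map (CommRingCat.ofHom (Polynomial.mapRingHom evp))
  let cT : Spec (CommRingCat.of (Polynomial K)) ⟶ S := Spec.map (CommRingCat.ofHom Polynomial.C)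
  have hsq : IsPullback sT cT C' sp := by
    letI : Algebra A K := evp.toAlgebra
    letI : Algebra (Polynomial A) (Polynomial K) := (Polynomial.mapRingHom evp).toAlgebra
    exact isPullback_SpecMap_of_isPushout _ _ _ _
      (CommRingCat.isPushout_of_isPushout A (Polynomial A) K (Polynomial K))
  let Yp := pullback gP sT
  have hY : IsPullback (pullback.fst gP sT) (pullback.snd gP sT ≫ cT) g sp :=
    (IsPullback.of_hasPullback gP sT).paste_vert hsq
  haveI : IrreducibleSpace ↥Yp := by
    let spV : S ⟶ (V : Scheme.{u}) := IsOpenImmersion.lift V.ι sp hspV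
    have hspι : spV ≫ V.ι = sp := IsOpenImmersion.lift_fac _ _ _
    haveI : IrreducibleSpace ↥(pullback (g ∣_ V) spV) :=
      GeometricallyIrreducible.geometrically_irreducibleSpace (f := g ∣_ V) spV _ _
        (IsPullback.of_hasPullback (g ∣_ V) spV)
    have hbig := (IsPullback.of_hasPullback (g ∣_ V) spV).paste_horiz (isPullback_morphismRestrict g V).flip
    rw [hspι] at hbig
    exact (Scheme.homeoOfIso (hbig.isoIsPullback _ _ hY)).irreducibleSpace_iff.1 inferInstance
  haveI : Smooth cT := (HasRingHomProperty.Spec_iff (P := @Smooth)).2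
    (RingHom.smooth_algebraMap.mpr (⟨inferInstance, inferInstance⟩ : Algebra.Smooth K (Polynomial K)))
  haveI : Etale (pullback.snd gP sT) := inferInstance
  haveI : Smooth (pullback.snd gP sT ≫ cT) := inferInstance
  haveI : IsIntegral Yp := H2.Rigid.GeomIrred.isIntegral_of_smooth (pullback.snd gP sT ≫ cT)
  haveI : IsAffine Yp := inferInstance
  let D := Γ(Yp, ⊤)
  let str : Spec D ⟶ S := Yp.isoSpec.inv ≫ pullback.snd gP sT ≫ cT
  let ψ : CommRingCat.of (Polynomial K) ⟶ D := Spec.preimage (Yp.isoSpec.inv ≫ pullback.snd gP sT)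
  have hψ : Spec.map ψ = Yp.isoSpec.inv ≫ pullback.snd gP sT := Spec.map_preimage _
  have hψet : ψ.hom.Etale :=
    (HasRingHomProperty.Spec_iff (P := @Etale)).1 (hψ ▸ inferInstance)
  letI : Algebra K D := (ψ.hom.comp Polynomial.C).toAlgebra
  have hstrD : Spec.map (CommRingCat.ofHom (algebraMap K D)) = str := by
    have : CommRingCat.ofHom (algebraMap K D) = CommRingCat.ofHom Polynomial.C ≫ ψ := rfl
    rw [this, Spec.map_comp, hψ, Category.assoc]
  haveI : IsDomain D := inferInstance
  letI : Algebra (Polynomial K) D := ψ.hom.toAlgebra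
  haveI : Algebra.Etale (Polynomial K) D := hψet
  have hinj : Function.Injective ψ.hom := by
    haveI : Module.Flat (Polynomial K) D := inferInstance
    exact FaithfulSMul.algebraMap_injective (Polynomial K) D
  haveI := CurveJoinAlg.dimensionLEOne_of_etale K D hinj
  haveI : Algebra.FiniteType K D := by
    refine RingHom.finiteType_algebraMap.mp ?_
    exact (RingHom.finiteType_algebraMap.mpr (inferInstance : Algebra.FiniteType (Polynomial K) D)).comp
      (RingHom.finiteType_algebraMap.mpr (inferInstance : Algebra.FiniteType K (Polynomial K)))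
  obtain ⟨C, U', v, hCs, hCp, hCg, hv, hpts⟩ :=
    CurveModel.exists_model K D (CurveJoinAlg.not_isField K D ψ.hom hinj fun c => rfl)
  -- the two points
  let t₀ : S ⟶ Spec (CommRingCat.of (Polynomial K)) :=
    Spec.map (CommRingCat.ofHom (Polynomial.evalRingHom 0))
  let t₁ : S ⟶ Spec (CommRingCat.of (Polynomial K)) :=
    Spec.map (CommRingCat.ofHom (Polynomial.evalRingHom 1))
  have h₀ : (sp ≫ σ) ≫ gP = t₀ ≫ sT := by
    simp only [σ, gP, Category.assoc, pullback.lift_snd, sp, ev₀, t₀, sT]
    rw [← Spec.map_comp, ← Spec.map_comp]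
    congr 1
    exact CommRingCat.hom_ext (eval_zero_map evp).symm
  have h₁π : βS ≫ π = (t₁ ≫ sT) ≫ φS := by
    rw [hsp]
    simp only [sp, t₁, sT, φS, Category.assoc]
    rw [← Spec.map_comp, ← Spec.map_comp]
    congr 1
    exact CommRingCat.hom_ext (eval_one_pencil q p).symm
  let y₀ : S ⟶ Yp := pullback.lift (sp ≫ σ) t₀ h₀
  let y₁ : S ⟶ Yp := pullback.lift (pullback.lift βS (t₁ ≫ sT) h₁π) t₁ (pullback.lift_snd _ _ _)
  let toU : Yp ⟶ U.left := pullback.fst gP sT ≫ pullback.fst π φS ≫ e
  have hy₀ : y₀ ≫ toU = a.left := by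
    have hid : sp ≫ Spec.map (CommRingCat.ofHom (MvPolynomial.C (σ := Fin n) (R := K))) = 𝟙 _ := by
      simp only [sp]
      rw [← Spec.map_comp, ← Spec.map_id]
      congr 1
      exact CommRingCat.hom_ext (eval_comp_C p)
    simp only [y₀, toU, σ, σA, pullback.lift_fst_assoc, Category.assoc]
    rw [reassoc_of% hid, hαS]
  have hy₁ : y₁ ≫ toU = x.left := by
    simp only [y₁, toU, pullback.lift_fst_assoc]
    exact hβS
  have htoU : toU ≫ U.hom = pullback.snd gP sT ≫ cT := by
    have e1 : φS ≫ Spec.map (CommRingCat.ofHom (MvPolynomial.C (σ := Fin n) (R := K))) =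
        C' ≫ Spec.map (CommRingCat.ofHom (MvPolynomial.C (σ := Fin n) (R := K))) := by
      simp only [φS, C']
      rw [← Spec.map_comp, ← Spec.map_comp]
      congr 1
      exact CommRingCat.hom_ext (pencil_comp_C q)
    have e2 : sp ≫ Spec.map (CommRingCat.ofHom (MvPolynomial.C (σ := Fin n) (R := K))) = 𝟙 _ := by
      simp only [sp]
      rw [← Spec.map_comp, ← Spec.map_id]
      congr 1
      exact CommRingCat.hom_ext (eval_comp_C p)
    simp only [toU, Category.assoc, ← hf]
    rw [reassoc_of% (pullback.condition : pullback.fst π φS ≫ π = _), e1,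
      ← Category.assoc gP C', reassoc_of% hY.w, e2, Category.comp_id]
  let C₀ : Over S := Over.mk (U'.ι ≫ C.hom)
  let j : C₀ ⟶ C := Over.homMk U'.ι rfl
  let f : C₀ ⟶ U := Over.homMk (v ≫ Yp.isoSpec.inv ≫ toU) (by
    simp only [Category.assoc, htoU]
    exact (congrArg (v ≫ ·) hstrD.symm).trans hv)
  haveI : IsProper C.hom := hCp
  haveI : LocallyOfFiniteType C₀.hom := inferInstanceAs (LocallyOfFiniteType (U'.ι ≫ C.hom))
  have hlift : ∀ (y : S ⟶ Yp) (b : 𝟙_ (Over S) ⟶ U), y ≫ toU = b.left →
      ∃ c : 𝟙_ (Over S) ⟶ C₀, c ≫ f = b := by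
    intro y b hy
    let b' : S ⟶ Spec D := y ≫ Yp.isoSpec.hom
    have hb' : b' ≫ str = 𝟙 _ := by
      simp only [b', str, Category.assoc, Iso.hom_inv_id_assoc]
      rw [← htoU, ← Category.assoc, hy]
      exact Over.w b
    have hcl : IsClosed ({b' (IsLocalRing.closedPoint K)} : Set (Spec D)) := by
      haveI : IsSeparated (Over.mk str).hom := inferInstanceAs (IsSeparated str)
      exact H4.AxesConst.isClosed_pt (X := Over.mk str) (Over.homMk b' hb')
    obtain ⟨z, hz, hzb⟩ := hpts (b' (IsLocalRing.closedPoint K)).asIdeal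
      ((PrimeSpectrum.isClosed_singleton_iff_isMaximal _).mp hcl)
    have hzc : IsClosed ({z} : Set (U' : Scheme.{u})) := by
      have := hz.preimage U'.ι.continuous
      rwa [show U'.ι ⁻¹' {z.1} = {z} from Set.ext fun w => Subtype.ext_iff.symm] at this
    let c : 𝟙_ (Over S) ⟶ C₀ :=
      Over.homMk (pointOfClosedPoint C₀.hom z hzc) (pointOfClosedPoint_comp C₀.hom z hzc)
    refine ⟨c, Over.OverMorphism.ext (ext_of_apply_closedPoint_eq U.hom (Over.w (c ≫ f))
      (Over.w b) ?_)⟩
    have hvz : v z = b' (IsLocalRing.closedPoint K) := PrimeSpectrum.ext hzb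
    have hc : c.left (IsLocalRing.closedPoint K) = z := pointOfClosedPoint_apply C₀.hom z hzc _
    show f.left (c.left (IsLocalRing.closedPoint K)) = _
    refine (congrArg f.left hc).trans ?_
    show toU (Yp.isoSpec.inv (v z)) = _
    rw [hvz, ← hy]
    exact congrArg toU ((Scheme.Hom.comp_apply Yp.isoSpec.hom Yp.isoSpec.inv _).symm.trans
      (congrArg (fun h : Yp ⟶ Yp => h (y (IsLocalRing.closedPoint K))) Yp.isoSpec.hom_inv_id))
  obtain ⟨c, hc⟩ := hlift y₀ a hy₀
  obtain ⟨c', hc'⟩ := hlift y₁ x hy₁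
  exact ⟨C, C₀, j, f, c, c', hCs, hCp, hCg, inferInstanceAs (IsOpenImmersion U'.ι), hc, hc'⟩

end Groth.Agent.H52.CurveJoin
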