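import Groth.Agent.H52.FBase.NoEmb
import Groth.Agent.Lib.LimTop.Affine
import Mathlib.AlgebraicGeometry.AffineTransitionLimit
import Groth.Agent.Lib.Lim.Basic

/-!
# Associated points and flat limits
-/

set_option autoImplicit false
universe u

open CategoryTheory CategoryTheory.Limits AlgebraicGeometry
open Groth.Agent.Lib.AssPt.Basic Groth.Agent.Lib.Flat55 Groth.Agent.H52.FBase
open Groth.Agent.Lib.Lim.Basic

namespace Groth.Agent.H52.DenseStage

/-- Over an associated point of the target of a flat morphism every non-empty fibre has a point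
associated in the source. -/
theorem exists_maxAssoc_over {X Y : Scheme.{u}} (f : X ⟶ Y) [Flat f] (x : X)
    (h : MaxAssoc (Y.presheaf.stalk (f x))) :
    ∃ x' : X, f x' = f x ∧ MaxAssoc (X.presheaf.stalk x') := by
  obtain ⟨w, hw, -⟩ := GenericPoints.exists_specializes (f.asFiber x)
  have hfib : ∀ v : f.fiber (f x), f (f.fiberι (f x) v) = f x := fun v => by
    have : f.fiberι (f x) v ∈ Set.range (f.fiberι (f x)) := ⟨v, rfl⟩
    rw [Scheme.Hom.range_fiberι] at this
    exact this
  let x' := f.fiberι (f x) w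
  refine ⟨x', hfib w, ?_⟩
  have hmin : ∀ y : X, y ⤳ x' → f y = f x → y = x' := by
    intro y hy hfy
    obtain ⟨v, rfl⟩ : y ∈ Set.range (f.fiberι (f x)) := by
      rw [Scheme.Hom.range_fiberι]; exact hfy
    exact congrArg (f.fiberι (f x))
      (GenericPoints.eq_of_specializes hw ((f.fiberι (f x)).isEmbedding.isInducing.specializes_iff.1 hy))
  have hx' : MaxAssoc (Y.presheaf.stalk (f x')) := by
    rw [show f x' = f x from hfib w]
    exact h
  let _ : Algebra (Y.presheaf.stalk (f x')) (X.presheaf.stalk x') := (f.stalkMap x').hom.toAlgebra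
  have : Module.Flat (Y.presheaf.stalk (f x')) (X.presheaf.stalk x') := Flat.stalkMap f x'
  have : IsLocalHom (algebraMap (Y.presheaf.stalk (f x')) (X.presheaf.stalk x')) :=
    inferInstanceAs (IsLocalHom (f.stalkMap x').hom)
  refine NoEmb.maxAssoc_of_flat_of_radical ?_ hx'
  rw [Ideal.radical_eq_sInf]
  refine le_sInf ?_
  rintro P ⟨hle, hP⟩
  have hcomap : P.comap (f.stalkMap x').hom = IsLocalRing.maximalIdeal _ := by
    refine le_antisymm (IsLocalRing.le_maximalIdeal (Ideal.comap_ne_top _ hP.ne_top)) ?_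
    exact Ideal.map_le_iff_le_comap.1 hle
  let y := X.fromSpecStalk x' ⟨P, hP⟩
  have hy : y ⤳ x' := (Scheme.range_fromSpecStalk (X := X) (x := x')).le ⟨_, rfl⟩
  have hfy : f y = f x := by
    have e : f y = Y.fromSpecStalk (f x') (Spec.map (f.stalkMap x') ⟨P, hP⟩) := by
      show (X.fromSpecStalk x' ≫ f) ⟨P, hP⟩ = _
      rw [← Scheme.SpecMap_stalkMap_fromSpecStalk]
      rfl
    rw [e, show Spec.map (f.stalkMap x') ⟨P, hP⟩ = IsLocalRing.closedPoint _ from
      PrimeSpectrum.ext hcomap, Scheme.fromSpecStalk_closedPoint]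
    exact hfib w
  exact ((Groth.Agent.Lib.StalkLoc.AssStalk.closedPoint_eq_iff _).mp (hmin y hy hfy)).ge

variable {I : Type u} [SmallCategory I] [IsCofiltered I] (D : I ⥤ Scheme.{u}) (c : Cone D)
  [∀ (i j : I) (g : i ⟶ j), IsAffineHom (D.map g)]

/-- A point outside the image of the limit is outside the image of some stage. -/
theorem exists_stage_not_mem_range (hc : IsLimit c) (i₀ : I) (z : D.obj i₀)
    (h : ∀ x : c.pt, c.π.app i₀ x ≠ z) :
    ∃ (i : I) (φ : i ⟶ i₀), ∀ x : D.obj i, D.map φ x ≠ z := by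
  by_contra! H
  have hA : ∀ {i j : I} (g : i ⟶ j), IsAffineHom (D.map g) := fun g => inferInstance
  let a := (D.obj i₀).fromSpecResidueField z
  let E := bcDiagram D a
  have hP := IsPullback.of_hasPullback a (c.π.app i₀)
  have : ∀ j, CompactSpace ↥(E.obj j) := fun j => compactSpace_bcDiagram D a j
  have : ∀ {a b : Over i₀} (φ : a ⟶ b), IsAffineHom (E.map φ) := fun φ => inferInstance
  have : ∀ j, Nonempty ↥(E.obj j) := fun j => by
    obtain ⟨x, hx⟩ := H j.left j.hom
    obtain ⟨e, -⟩ := Scheme.Pullback.exists_preimage_pullback (f := a) (g := D.map j.hom)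
      (IsLocalRing.closedPoint _) x
      (((D.obj i₀).fromSpecResidueField_apply z _).trans hx.symm)
    exact ⟨e⟩
  obtain ⟨p⟩ := Scheme.nonempty_of_isLimit E (bcCone hP.w) (isLimitBcCone hc hP)
  apply h (pullback.snd a (c.π.app i₀) p)
  rw [← Scheme.Hom.comp_apply, ← hP.w, Scheme.Hom.comp_apply]
  exact (D.obj i₀).fromSpecResidueField_apply z _

/-- Schematic density along a flat limit, in terms of associated points. -/
theorem assoc_iff (hc : IsLimit c) [∀ (i j : I) (g : i ⟶ j), Flat (D.map g)]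
    [∀ i, IsLocallyNoetherian (D.obj i)] (i₀ : I) (U₀ : (D.obj i₀).Opens)
    (hfin : {z : D.obj i₀ | MaxAssoc ((D.obj i₀).presheaf.stalk z)}.Finite) :
    (∀ x : c.pt, MaxAssoc (c.pt.presheaf.stalk x) → c.π.app i₀ x ∈ U₀) ↔
      ∃ (i : I) (φ : i ⟶ i₀),
        ∀ x : D.obj i, MaxAssoc ((D.obj i).presheaf.stalk x) → D.map φ x ∈ U₀ := by
  classical
  have hfl : ∀ i, Flat (c.π.app i) := fun i =>
    Groth.Agent.Lib.LimTop.Affine.flat_π hc i fun j φ => inferInstance
  constructor
  · intro h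
    let A := hfin.toFinset.filter (fun z => z ∉ U₀)
    have hA : ∀ z : A, ∃ (i : I) (φ : i ⟶ i₀), ∀ x : D.obj i, D.map φ x ≠ z.1 := by
      rintro ⟨z, hz⟩
      simp only [A, Finset.mem_filter, Set.Finite.mem_toFinset] at hz
      refine exists_stage_not_mem_range D c hc i₀ z fun x hx => hz.2 ?_
      subst hx
      haveI := hfl i₀
      obtain ⟨x', hx', hass⟩ := exists_maxAssoc_over (c.π.app i₀) x hz.1
      exact hx' ▸ h x' hass
    choose i φ hφ using hA
    obtain ⟨k, ψ, χ, hχ⟩ := IsCofiltered.wideCospan φ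
    refine ⟨k, ψ, fun x hx => ?_⟩
    by_contra hU
    have hz : D.map ψ x ∈ A := by
      simp only [A, Finset.mem_filter, Set.Finite.mem_toFinset]
      exact ⟨NoEmb.maxAssoc_map_of_flat (D.map ψ) x hx, hU⟩
    refine hφ ⟨_, hz⟩ (D.map (χ ⟨_, hz⟩) x) ?_
    rw [← Scheme.Hom.comp_apply, ← D.map_comp, hχ]
  · rintro ⟨i, φ, h⟩ x hx
    haveI := hfl i
    have := h _ (NoEmb.maxAssoc_map_of_flat (c.π.app i) x hx)
    rwa [← Scheme.Hom.comp_apply, c.w] at this

end Groth.Agent.H52.DenseStage
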