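import Groth.Agent.H52.NondegAmple
import Groth.Agent.H4.SepDivisor

/-!
# Translations preserving a prime divisor disjoint from a curve
-/

set_option autoImplicit false
set_option linter.style.haveILetI false
universe u

open CategoryTheory CategoryTheory.Limits MonoidalCategory CartesianMonoidalCategory MonObj AlgebraicGeometry
open Groth.Agent.H3
open Groth.Agent.Lib.GrpQ.MonoClosed (ptOf exists_ptOf)

namespace Groth.Agent.H52.DivisorTransl

noncomputable section

variable {K : Type u} [Field K] [IsAlgClosed K] {A : Over (Spec (CommRingCat.of K))} [GrpObj A]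
  [IsProper A.hom] [GeometricallyIntegral A.hom] [Smooth A.hom]

set_option maxHeartbeats 800000 in
theorem preimage_eq (Δ : Set A.left) (hΔ : IsClosed Δ) (ξ : A.left) (hξ : closure {ξ} = Δ)
    (hcodim : ringKrullDim (A.left.presheaf.stalk ξ) = 1)
    (C : Set A.left) (hC : IsClosed C) (hCirr : IsIrreducible C) (hCdim : topologicalKrullDim C = 1)
    (hdisj : Disjoint C Δ) (x y : 𝟙_ (Over (Spec (CommRingCat.of K))) ⟶ A)
    (hx : Set.range x.left.base ⊆ C) (hy : Set.range y.left.base ⊆ C) :
    (NondegAmple.tr (x * y⁻¹)).left.base ⁻¹' Δ = Δ := by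
  haveI : IsIntegral A.left := GeometricallyIntegral.isIntegral_of_subsingleton A.hom
  haveI : IsLocallyNoetherian A.left := LocallyOfFiniteType.isLocallyNoetherian A.hom
  let Zc : TopologicalSpace.Closeds A.left := ⟨Δ, hΔ⟩
  have hcart := H4.SepDivisor.isEffCartier_vanishingIdeal Zc (fun z hz hmax => by
    have h1 : ξ ⤳ z := specializes_iff_mem_closure.mpr (hξ.ge hz)
    rw [← hmax ξ (show ξ ∈ Δ from hξ.le (subset_closure rfl)) h1]
    exact hcodim) fun z => Groth.Agent.Lib.Cyc.SmoothReg.isRegularLocalRing_stalk A.hom z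
  obtain ⟨L, s, hL, hs'⟩ := H4.CartierSection.exists_section _ hcart
  have hloc : ∀ z, z ∈ CohB1.genLocus L s ↔ z ∉ Δ := hs'
  have hs : s ≠ 0 := by
    obtain ⟨c, hc⟩ := hCirr.1
    exact H97.CurvePositivity.ne_zero_of_mem_genLocus hL
      ((hloc c).mpr fun h => Set.disjoint_left.mp hdisj hc h)
  let Cc : TopologicalSpace.Closeds A.left := ⟨C, hC⟩
  let I := Scheme.IdealSheafData.vanishingIdeal (X := A.left) Cc
  haveI : IsReduced I.subscheme := H75.RedSub.isReduced_vanishingIdeal Cc
  have hr : Set.range I.subschemeι = C := by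
    rw [Scheme.IdealSheafData.range_subschemeι, Scheme.IdealSheafData.coe_support_vanishingIdeal]
    rfl
  let e : I.subscheme ≃ₜ C := I.subschemeι.isEmbedding.toHomeomorph.trans (Homeomorph.setCongr hr)
  haveI : IrreducibleSpace ↥I.subscheme := by
    haveI : IrreducibleSpace ↥C := isIrreducible_iff_irreducibleSpace.mp hCirr
    exact e.irreducibleSpace_iff.2 inferInstance
  haveI : IsIntegral I.subscheme := isIntegral_of_irreducibleSpace_of_isReduced _
  let C' : Over (Spec (CommRingCat.of K)) := Over.mk (I.subschemeι ≫ A.hom)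
  let i : C' ⟶ A := Over.homMk I.subschemeι rfl
  haveI : IsProper C'.hom := inferInstanceAs (IsProper (I.subschemeι ≫ A.hom))
  haveI : IsIntegral C'.left := ‹IsIntegral I.subscheme›
  haveI : Mono i.left := inferInstanceAs (Mono I.subschemeι)
  haveI : Mono i := Over.mono_of_mono_left i
  have hdim : topologicalKrullDim C'.left = 1 := by
    rw [← hCdim]
    exact IsHomeomorph.topologicalKrullDim_eq _ e.isHomeomorph
  have hnA : ¬ CohB1.IsAmple ((Scheme.Modules.pullback i.left).obj (CohB1.tensorMod L L)) := by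
    intro hA
    letI : C'.left.Over (Spec (CommRingCat.of K)) := ⟨C'.hom⟩
    haveI : IsProper (C'.left ↘ Spec (CommRingCat.of K)) := ‹IsProper C'.hom›
    refine Groth.Agent.Lib.SurfInt.GGAmple.genLocus_ne_top K hdim hA
      (NondegAmple.pullSec i.left (SecTwist.tmulHom s s)) ?_
    rw [NondegAmple.genLocus_pullSec _
      (Groth.Agent.Lib.TensorMod.Invertible.isInvertible_tensorMod hL hL),
      Groth.Agent.Lib.Ample.GenLocus.genLocus_tmulHom hL hL, inf_idem]
    exact top_le_iff.mp fun z _ => (hloc _).mpr fun h =>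
      Set.disjoint_left.mp hdisj (hr.le ⟨z, rfl⟩) h
  have hall := (NondegAmple.infinite_fixing L hL s hs hdim i (fun c c' h => (cancel_mono i).1 h) hnA).1
  haveI : JacobsonSpace A.left := LocallyOfFiniteType.jacobsonSpace A.hom
  have hlift : ∀ a : 𝟙_ (Over (Spec (CommRingCat.of K))) ⟶ A, Set.range a.left.base ⊆ C →
      ∃ c, c ≫ i = a := fun a ha => by
    obtain ⟨w, hw⟩ : ptOf a ∈ Set.range I.subschemeι := hr.ge (ha ⟨_, rfl⟩)
    have hwc : IsClosed ({w} : Set I.subscheme) := by
      have := (show IsClosed ({ptOf a} : Set A.left) from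
        (pointEquivClosedPoint A.hom ⟨a.left, Over.w a⟩).2).preimage I.subschemeι.continuous
      rwa [show I.subschemeι ⁻¹' {ptOf a} = {w} from Set.ext fun v =>
        ⟨fun h => I.subschemeι.isEmbedding.injective (h.trans hw.symm), fun h => h ▸ hw⟩] at this
    refine ⟨Over.homMk (pointOfClosedPoint C'.hom w hwc) (pointOfClosedPoint_comp C'.hom w hwc),
      Over.OverMorphism.ext (ext_of_apply_closedPoint_eq A.hom (Over.w (_ ≫ i)) (Over.w a) ?_)⟩
    exact (congrArg I.subschemeι (pointOfClosedPoint_apply C'.hom w hwc _)).trans hw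
  obtain ⟨cx, hcx⟩ := hlift x hx
  obtain ⟨cy, hcy⟩ := hlift y hy
  haveI : IsCommMonObj A := isCommMonObj_of_isProper_of_geometricallyIntegral A
  have hkey : ∀ p : 𝟙_ (Over (Spec (CommRingCat.of K))) ⟶ A,
      (NondegAmple.tr (x * y⁻¹)).left (ptOf p) ∈ Δ ↔ ptOf p ∈ Δ := fun p => by
    rw [NondegAmple.ptOf_tr, ← not_iff_not, ← hloc, ← hloc]
    constructor
    · intro h
      have := hall (p * y⁻¹) cx cy (by rwa [hcx, mul_left_comm])
      rwa [hcy, mul_comm y, inv_mul_cancel_right] at this
    · intro h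
      have := hall (p * y⁻¹) cy cx (by rwa [hcy, mul_comm y, inv_mul_cancel_right])
      rwa [hcx, mul_left_comm] at this
  have hmem : ∀ z : A.left, IsClosed ({z} : Set A.left) →
      ((NondegAmple.tr (x * y⁻¹)).left z ∈ Δ ↔ z ∈ Δ) := fun z hz => by
    have hp : ptOf (Over.homMk (pointOfClosedPoint A.hom z hz) (pointOfClosedPoint_comp A.hom z hz) :
        𝟙_ (Over (Spec (CommRingCat.of K))) ⟶ A) = z := pointOfClosedPoint_apply A.hom z hz _
    simpa only [hp] using hkey (Over.homMk (pointOfClosedPoint A.hom z hz) (pointOfClosedPoint_comp A.hom z hz))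
  have hpre := hΔ.preimage (NondegAmple.tr (x * y⁻¹)).left.continuous
  have hI : (NondegAmple.tr (x * y⁻¹)).left ⁻¹' Δ ∩ closedPoints A.left = Δ ∩ closedPoints A.left :=
    Set.ext fun z => ⟨fun h => ⟨(hmem z h.2).mp h.1, h.2⟩, fun h => ⟨(hmem z h.2).mpr h.1, h.2⟩⟩
  have h1 := JacobsonSpace.closure_inter_closedPoints_eq_closure hpre.isLocallyClosed
  have h2 := JacobsonSpace.closure_inter_closedPoints_eq_closure hΔ.isLocallyClosed
  rw [hI, h2, hpre.closure_eq, hΔ.closure_eq] at h1
  exact h1.symm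

end

end Groth.Agent.H52.DivisorTransl
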