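import Groth.Agent.H52.PicZeroTranslate
import Groth.Agent.H4.PicZero.AlgEquiv
import Groth.Agent.H4.PicZero.CubeBase
import Groth.Agent.H4.AbSchMul
import Groth.Agent.H52.CompDiv
import Groth.Agent.H2.Rigid.GeomIrred
import Groth.Prelude.Def_Pic13

/-!
# Classes algebraically equivalent to zero on an abelian variety are the invariant ones
-/

set_option autoImplicit false
set_option linter.style.haveILetI false
universe u

open CategoryTheory CategoryTheory.Limits MonoidalCategory CartesianMonoidalCategory MonObj AlgebraicGeometry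
open Groth.Agent.H3
open Groth.Agent.Lib.GrpQ.MonoClosed (ptOf exists_ptOf)

namespace Groth.Agent.H52.PicZeroChar

noncomputable section

local instance (Y : Scheme.{u}) : PicGrp.Law Y := Groth.Agent.Lib.TensorMod.Invertible.law Y

variable {K : Type u} [Field K] [IsAlgClosed K]

local notation "S" => Spec (CommRingCat.of K)

omit [IsAlgClosed K] in
/-- A family over a connected base makes its members algebraically equivalent to zero. -/
theorem isAlgEquivZero_of_family {X T : Over S} [ConnectedSpace T.left] [LocallyOfFiniteType T.hom]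
    [QuasiCompact T.hom] (c : PicLoc.PicSet (X ⊗ T).left) (t t₀ : 𝟙_ (Over S) ⟶ T)
    (L : X.left.Modules) (hL : PicF.IsInvertible L)
    (h : PicCalc.ph (lift (𝟙 X) (toUnit X ≫ t)) c = PicGrp.cls L hL)
    (h₀ : PicCalc.ph (lift (𝟙 X) (toUnit X ≫ t₀)) c = 1) :
    @Pic13.IsAlgEquivZero K _ X.left ⟨X.hom⟩ L := by
  letI : X.left.Over S := ⟨X.hom⟩
  obtain ⟨D, hD, hDc⟩ := PicGrp.exists_eq_cls c
  have hsl : ∀ (s : 𝟙_ (Over S) ⟶ T) (N : X.left.Modules) (b : PicLoc.PicSet X.left),
      PicF.cl N = b.1 → PicCalc.ph (lift (𝟙 X) (toUnit X ≫ s)) c = b →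
      Nonempty (Pic13.fibreMod K X.left T.hom s.left (Over.w s) D ≅ N) := fun s N b hN hb => by
    obtain ⟨e⟩ := (PicCalc.iso_iff (PicCalc.cl_pullback (lift (𝟙 X) (toUnit X ≫ s)) (L := D) (a := c)
      (congrArg Subtype.val hDc.symm)) hN).mpr hb
    have e1 : (lift (𝟙 X) (toUnit X ≫ s)).left = Pic13.sliceAt K X.left T.hom s.left (Over.w s) := by
      refine pullback.hom_ext (f := X.hom) (g := T.hom) ?_ ?_
      · refine (congrArg Over.Hom.left (lift_fst (𝟙 X) (toUnit X ≫ s))).trans ?_
        exact (pullback.lift_fst _ _ _).symm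
      · refine (congrArg Over.Hom.left (lift_snd (𝟙 X) (toUnit X ≫ s))).trans ?_
        exact (pullback.lift_snd _ _ _).symm
    exact ⟨(Scheme.Modules.pullbackCongr e1.symm).app D ≪≫ e⟩
  exact ⟨T.left, T.hom, inferInstance, inferInstance, inferInstance, D, hD, t.left, t₀.left,
    Over.w t, Over.w t₀, hsl t L _ rfl h, hsl t₀ _ 1 PicGrp.one_val.symm h₀⟩

variable {A : Over (Spec (CommRingCat.of K))} [GrpObj A] [IsProper A.hom] [GeometricallyIntegral A.hom]

/-- The defect of a translation is algebraically equivalent to zero. -/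
theorem isAlgEquivZero_defect (ℓ : PicLoc.PicSet A.left) (x : 𝟙_ (Over S) ⟶ A) (L : A.left.Modules)
    (hL : PicF.IsInvertible L) (h : PicGrp.cls L hL = PicCalc.ph (𝟙 A * (toUnit A ≫ x)) ℓ * ℓ⁻¹) :
    @Pic13.IsAlgEquivZero K _ A.left ⟨A.hom⟩ L := by
  haveI : IsIntegral A.left := GeometricallyIntegral.isIntegral_of_subsingleton A.hom
  refine isAlgEquivZero_of_family (PicCalc.ph (fst A A * snd A A) ℓ * (PicCalc.ph (fst A A) ℓ)⁻¹)
    x 1 L hL ?_ ?_
  · rw [h]
    simp only [map_mul, map_inv, ← PicCalc.ph_comp, MonObj.comp_mul, lift_fst, lift_snd, PicCalc.ph_id]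
  · simp only [map_mul, map_inv, ← PicCalc.ph_comp, MonObj.comp_mul, lift_fst, lift_snd,
      PicCalc.ph_id, MonObj.comp_one, _root_.mul_one, mul_inv_cancel]

/-- Classes algebraically equivalent to zero are invariant. -/
theorem inv_of_isAlgEquivZero (L : A.left.Modules) (hL : PicF.IsInvertible L)
    (h : @Pic13.IsAlgEquivZero K _ A.left ⟨A.hom⟩ L) : TransInv.Inv (PicGrp.cls L hL) := fun a => by
  rw [H4.PicZero.ph_mul_of_isAlgEquivZero hL h, TransInv.ph_const, PicCalc.ph_id, _root_.mul_one]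

/-- Invariant classes are algebraically equivalent to zero. -/
theorem isAlgEquivZero_of_inv (L : A.left.Modules) (hL : PicF.IsInvertible L)
    (h : TransInv.Inv (PicGrp.cls L hL)) : @Pic13.IsAlgEquivZero K _ A.left ⟨A.hom⟩ L := by
  obtain ⟨L₀, hL₀⟩ := H63.AVProjective.exists_isAmple A
  obtain ⟨x, hx⟩ := PicZeroTranslate.exists_translate (PicGrp.cls L₀ hL₀.1) _ h
    ((AmpleNondeg.finite_translationFixing A L₀ hL₀).subset fun a ha =>
      (PicCalc.iso_iff (PicCalc.cl_pullback _ (a := PicGrp.cls L₀ hL₀.1) rfl)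
        (b := PicGrp.cls L₀ hL₀.1) rfl).mpr ha)
  exact isAlgEquivZero_defect _ x L hL hx.symm

/-- A class with an invariant power is invariant, the points being divisible. -/
theorem inv_of_pow (c : PicLoc.PicSet A.left) {n : ℕ} (hn : 0 < n) (h : TransInv.Inv (c ^ n)) :
    TransInv.Inv c := fun a => by
  haveI := H2.Rigid.GeomIrred.geometricallyConnected A.hom
  obtain ⟨-, -, hs⟩ := H4.AbSchMul.zpow A (d := (n : ℤ)) (by omega)
  rw [zpow_natCast] at hs
  haveI := hs
  haveI : IsCommMonObj A := isCommMonObj_of_isProper_of_geometricallyIntegral A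
  obtain ⟨b, hb⟩ := CompDiv.exists_pow_eq_of_mem_range A (n := n) (g := a)
    (((𝟙 A : A ⟶ A) ^ n).left.surjective _)
  -- the defect is a homomorphism in the point
  let φ : (𝟙_ (Over S) ⟶ A) → PicLoc.PicSet A.left := fun z =>
    PicCalc.ph (𝟙 A * (toUnit A ≫ z)) c * c⁻¹
  have hsq : ∀ z w, φ (z * w) = φ z * φ w := fun z w => by
    have key := TransInv.inv_defect c w z
    rw [map_mul, map_inv, ← PicCalc.ph_comp, mul_inv_eq_iff_eq_mul] at key
    have e : (𝟙 A * (toUnit A ≫ z)) ≫ (𝟙 A * (toUnit A ≫ w)) = 𝟙 A * (toUnit A ≫ (z * w)) := by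
      simp only [MonObj.comp_mul, Category.comp_id, comp_toUnit_assoc, _root_.mul_assoc]
    rw [e] at key
    simp only [φ, key]
    ac_rfl
  have hpow : ∀ j : ℕ, φ (b ^ j) = φ b ^ j := fun j => by
    induction j with
    | zero => simp [φ, MonObj.comp_one, PicCalc.ph_id]
    | succ j ih => rw [pow_succ, hsq, ih, pow_succ]
  have h1 : φ b ^ n = 1 := by
    simp only [φ, mul_pow, inv_pow, ← map_pow, h b, mul_inv_cancel]
  have h2 : φ a = 1 := by rw [← hb, hpow, h1]
  exact mul_inv_eq_one.mp h2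

end

end Groth.Agent.H52.PicZeroChar
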