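import Groth.Agent.H52.IsogenyDegree
import Groth.Agent.H52.AmpleVanishAV
import Groth.Agent.H97.AsympRR
import Groth.Agent.H4.MulIso

/-!
# Homogeneity of the Euler characteristic
-/

set_option autoImplicit false
set_option linter.style.haveILetI false
universe u

open CategoryTheory CategoryTheory.Limits MonoidalCategory CartesianMonoidalCategory MonObj AlgebraicGeometry
open Groth.Agent.H3
open Groth.Agent.Lib.GrpQ.MonoClosed (ptOf exists_ptOf)
open Groth.Agent.H52.NondegAmple (tr tr_mul)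

namespace Groth.Agent.H52.EulerHomogeneous

noncomputable section

local instance (Y : Scheme.{u}) : PicGrp.Law Y := Groth.Agent.Lib.TensorMod.Invertible.law Y

section Poly

open Groth.Agent.Lib

variable (k : Type u) [Field k] {X : Scheme.{u}} [X.Over (Spec (CommRingCat.of k))]
  [IsProper (X ↘ (Spec (CommRingCat.of k)))]

/-- The Euler characteristic of powers is a polynomial. -/
theorem exists_poly {d : ℕ} (hX : topologicalKrullDim X = d) {L : X.Modules} (hL : PicF.IsInvertible L) :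
    ∃ p : Polynomial ℚ, p.natDegree ≤ d ∧
      (∀ m : ℕ, p.eval (m : ℚ) = (Curv2.euler k X (CohB1.tensorPow L m) : ℚ)) ∧
      (CohB1.IsAmple L → p.natDegree = d ∧ p ≠ 0) := by
  let a : ℕ → ℚ := fun i => (((-1 : ℤ) ^ i * Snapper.Vanish.sym k X d (List.replicate i L) (Coh.structureModule X) : ℤ) : ℚ) /
    (i.factorial : ℚ)
  let p : Polynomial ℚ := ∑ i ∈ Finset.range (d + 1), Polynomial.C (a i) * descPochhammer ℚ i
  have hdeg : p.natDegree ≤ d := by
    refine Polynomial.natDegree_sum_le_of_forall_le _ _ fun i hi => (Polynomial.natDegree_C_mul_le _ _).trans ?_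
    rw [descPochhammer_natDegree]
    exact Nat.le_of_lt_succ (Finset.mem_range.1 hi)
  refine ⟨p, hdeg, fun m => ?_, fun hA => ?_⟩
  · rw [H97.AsympRR.euler_pow k hX hL m, Int.cast_sum, Polynomial.eval_finsetSum]
    refine Finset.sum_congr rfl fun i _ => ?_
    rw [Polynomial.eval_mul, Polynomial.eval_C, descPochhammer_eval_eq_descFactorial,
      Nat.descFactorial_eq_factorial_mul_choose]
    simp only [a]
    have : (i.factorial : ℚ) ≠ 0 := by exact_mod_cast i.factorial_ne_zero
    push_cast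
    field_simp
  · have hc : p.coeff d = a d := by
      show (∑ i ∈ Finset.range (d + 1), Polynomial.C (a i) * descPochhammer ℚ i).coeff d = a d
      rw [Polynomial.finsetSum_coeff, Finset.sum_range_succ]
      simp only [Polynomial.coeff_C_mul]
      rw [Finset.sum_eq_zero fun i hi => ?_]
      · have := (monic_descPochhammer ℚ d).coeff_natDegree
        rw [descPochhammer_natDegree] at this
        simp [this]
      · rw [Polynomial.coeff_eq_zero_of_natDegree_lt
          (by rw [descPochhammer_natDegree]; exact Finset.mem_range.1 hi), mul_zero]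
    have hpos : p.coeff d ≠ 0 := by
      rw [hc]
      refine div_ne_zero (Int.cast_ne_zero.mpr (ne_of_gt (H97.AsympRR.pos k hX hA))) ?_
      exact_mod_cast d.factorial_ne_zero
    exact ⟨le_antisymm hdeg (Polynomial.le_natDegree_of_ne_zero hpos), fun h => hpos (by simp [h])⟩

end Poly

variable {K : Type u} [Field K] [IsAlgClosed K]

local notation "S" => Spec (CommRingCat.of K)

variable {A : Over (Spec (CommRingCat.of K))} [GrpObj A] [IsProper A.hom] [GeometricallyIntegral A.hom]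

omit [IsAlgClosed K] [IsProper A.hom] [GeometricallyIntegral A.hom] in
theorem isMonHom_pow [IsCommMonObj A] (n : ℕ) : IsMonHom (𝟙 A ^ n) where
  one_hom := by
    rw [MonObj.comp_pow, Category.comp_id, MonObj.one_eq_one, one_pow]
  mul_hom := by
    have hμ : μ[A] = fst A A * snd A A := by
      rw [Hom.mul_def]
      simp
    rw [MonObj.comp_pow, Category.comp_id, hμ, MonObj.comp_mul, tensorHom_fst, tensorHom_snd,
      MonObj.comp_pow, MonObj.comp_pow, Category.comp_id, Category.comp_id, mul_pow]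

/-- The defect of a power of a translation. -/
theorem defect_pow (ℓ : PicLoc.PicSet A.left) (x : 𝟙_ (Over S) ⟶ A) (n : ℕ) :
    PicCalc.ph (tr (x ^ n)) ℓ * ℓ⁻¹ = (PicCalc.ph (tr x) ℓ * ℓ⁻¹) ^ n := by
  induction n with
  | zero => simp [tr, PicCalc.ph_id]
  | succ n ih =>
    have h := NondegAmple.square (𝟙 A) (x ^ n) x ℓ
    rw [PicCalc.ph_id, ← pow_succ] at h
    show PicCalc.ph (𝟙 A * (toUnit A ≫ x ^ (n + 1))) ℓ * ℓ⁻¹ = _
    rw [pow_succ (PicCalc.ph (tr x) ℓ * ℓ⁻¹), ← ih, eq_mul_inv_iff_mul_eq.mpr h]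
    simp only [tr, _root_.mul_assoc, _root_.mul_left_comm]

/-- Multiplication by a positive integer has finitely many rational points in each finite set. -/
theorem finite_pow_preimage {s : Set (𝟙_ (Over S) ⟶ A)} (hs : s.Finite) {n : ℕ} (hn : 0 < n) :
    ((fun x : 𝟙_ (Over S) ⟶ A => x ^ n) ⁻¹' s).Finite := by
  obtain ⟨h1, -, -⟩ := Groth.Agent.H4.MulIso.int A (d := (n : ℤ)) (by omega)
  simp only [zpow_natCast] at h1
  haveI := h1
  have hfin : ((𝟙 A ^ n).left ⁻¹' (ptOf '' s)).Finite :=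
    (hs.image ptOf).preimage' fun y _ => (𝟙 A ^ n).left.finite_preimage_singleton y
  refine Set.Finite.of_finite_image (f := ptOf) (hfin.subset ?_) ?_
  · rintro _ ⟨x, hx, rfl⟩
    refine ⟨x ^ n, hx, ?_⟩
    have e : x ≫ (𝟙 A ^ n) = x ^ n := by rw [MonObj.comp_pow, Category.comp_id]
    exact (congrArg ptOf e).symm
  · exact fun a _ b _ h => Over.OverMorphism.ext (ext_of_apply_closedPoint_eq A.hom (Over.w a) (Over.w b) h)

/-- Positive powers of a non-degenerate class are non-degenerate. -/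
theorem nondeg_pow (ℓ : PicLoc.PicSet A.left)
    (hnd : Set.Finite {x : 𝟙_ (Over S) ⟶ A | PicCalc.ph (tr x) ℓ = ℓ}) {m : ℕ} (hm : 0 < m) :
    Set.Finite {x : 𝟙_ (Over S) ⟶ A | PicCalc.ph (tr x) (ℓ ^ m) = ℓ ^ m} :=
  (finite_pow_preimage hnd hm).subset fun x hx => by
    show PicCalc.ph (tr (x ^ m)) ℓ = ℓ
    refine mul_inv_eq_one.mp ?_
    rw [defect_pow, mul_pow, inv_pow, ← map_pow, mul_inv_eq_one]
    exact hx

theorem pow_part {G : Type*} [CommGroup G] (x y : G) (p q : ℕ) :
    x ^ p * y ^ q * (x ^ p * x ^ q)⁻¹ = (y * x⁻¹) ^ q := by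
  rw [mul_pow, inv_pow, mul_inv, _root_.mul_mul_mul_comm, mul_inv_cancel, _root_.one_mul]

/-- The Euler characteristic depends only on the class. -/
theorem euler_congr {M N : A.left.Modules} (hM : PicF.IsInvertible M) (hN : PicF.IsInvertible N)
    (h : PicGrp.cls M hM = PicGrp.cls N hN) :
    @Curv2.euler K _ A.left ⟨A.hom⟩ M = @Curv2.euler K _ A.left ⟨A.hom⟩ N := by
  letI : A.left.Over S := ⟨A.hom⟩
  haveI : IsProper (A.left ↘ S) := ‹IsProper A.hom›
  obtain ⟨i⟩ := (PicCalc.iso_iff (a := PicGrp.cls M hM) rfl (b := PicGrp.cls N hN) rfl).mpr h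
  exact (IsogenyEuler.isAdd_euler (k := K)).iso i

/-- The Euler characteristic of a translate. -/
theorem euler_tr {M : A.left.Modules} (hM : PicF.IsInvertible M) (x : 𝟙_ (Over S) ⟶ A) :
    @Curv2.euler K _ A.left ⟨A.hom⟩ ((Scheme.Modules.pullback (tr x).left).obj M) =
      @Curv2.euler K _ A.left ⟨A.hom⟩ M := by
  letI : A.left.Over S := ⟨A.hom⟩
  haveI : IsProper (A.left ↘ S) := ‹IsProper A.hom›
  haveI : IsIso (tr x) := ⟨tr x⁻¹, by
    rw [tr_mul, mul_inv_cancel]; simp [tr], by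
    rw [tr_mul, inv_mul_cancel]; simp [tr]⟩
  haveI : IsIso (tr x).left := inferInstanceAs (IsIso ((Over.forget S).map (tr x)))
  have h : IsPullback (tr x).left (A.left ↘ S) (A.left ↘ S) (Spec.map (CommRingCat.ofHom (algebraMap K K))) :=
    haveI : IsIso (Spec.map (CommRingCat.ofHom (algebraMap K K))) := by
      rw [show (CommRingCat.ofHom (algebraMap K K)) = 𝟙 _ from rfl, Spec.map_id]; infer_instance
    IsPullback.of_horiz_isIso ⟨by
      rw [show (CommRingCat.ofHom (algebraMap K K)) = 𝟙 _ from rfl, Spec.map_id, Category.comp_id]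
      exact Over.w (tr x)⟩
  haveI : CompactSpace A.left := QuasiCompact.compactSpace_of_compactSpace A.hom
  haveI : QuasiSeparatedSpace A.left := quasiSeparatedSpace_of_quasiSeparated A.hom
  haveI : M.IsQuasicoherent := Groth.Agent.Lib.TensorMod.QCohInv.isQCoh_of_isInvertible hM
  refine finsum_congr fun n => ?_
  obtain ⟨e⟩ := ZarCoh.FlatBC.Equiv.nonempty_linearEquiv h M n
  rw [((TensorProduct.lid K _).symm.trans e).finrank_eq]

/-- **Homogeneity.** -/
theorem euler_pow (g : ℕ) (hg : topologicalKrullDim A.left = g) (L : A.left.Modules) (hL : PicF.IsInvertible L)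
    (hnd : Set.Finite {x : 𝟙_ (Over S) ⟶ A | PicCalc.ph (tr x) (PicGrp.cls L hL) = PicGrp.cls L hL})
    (m : ℕ) (hm : 0 < m) :
    @Curv2.euler K _ A.left ⟨A.hom⟩ (CohB1.tensorPow L m) =
      (m : ℤ) ^ g * @Curv2.euler K _ A.left ⟨A.hom⟩ L := by
  letI : A.left.Over S := ⟨A.hom⟩
  haveI : IsProper (A.left ↘ S) := ‹IsProper A.hom›
  haveI : IsCommMonObj A := isCommMonObj_of_isProper_of_geometricallyIntegral A
  haveI := isMonHom_pow (A := A) 2
  obtain ⟨h1, h2, h3⟩ := Groth.Agent.H4.MulIso.int A (d := (2 : ℕ)) (by omega)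
  simp only [zpow_natCast] at h1 h2 h3
  haveI := h1; haveI := h2; haveI := h3
  obtain ⟨D, hD⟩ := IsogenyDegree.exists_degree (𝟙 A ^ 2)
  have key : ∀ (M : A.left.Modules) (hM : PicF.IsInvertible M),
      Set.Finite {x : 𝟙_ (Over S) ⟶ A | PicCalc.ph (tr x) (PicGrp.cls M hM) = PicGrp.cls M hM} →
      ∀ j : ℕ, 0 < j → (Curv2.euler K A.left (CohB1.tensorPow M (4 * j)) : ℤ) =
        D * Curv2.euler K A.left (CohB1.tensorPow M j) := by
    intro M hM hM0 j hj
    let μ₀ := PicGrp.cls M hM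
    have hMj := Groth.Agent.Lib.TensorMod.Invertible.isInvertible_tensorPow hM j
    have hM4 := Groth.Agent.Lib.TensorMod.Invertible.isInvertible_tensorPow hM (4 * j)
    rw [← hD _ (Groth.Agent.Lib.Ample.GG.isCoh_of_isInvertible hMj)]
    have hcube : Groth.Agent.H63.CubePow.CubeRel A := fun V f g h c => CubeRel.cube_rel f g h c
    have e := Groth.Agent.H63.CubePow.ph_pow hcube (𝟙 A) (μ₀ ^ j) 2
    rw [PicCalc.ph_id] at e
    have hinv : TransInv.Inv (PicCalc.ph (𝟙 A ^ 2) (μ₀ ^ j) * (μ₀ ^ (4 * j))⁻¹) := by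
      intro a
      have e4 : μ₀ ^ (4 * j) = (μ₀ ^ j) ^ (2 + 1).choose 2 * (μ₀ ^ j) ^ (2 : ℕ).choose 2 := by
        rw [← pow_add, ← pow_mul]
        congr 1
        simp [Nat.choose]
        ring
      rw [e, e4, pow_part, map_pow, AmpleVanishAV.inv_div_inv (μ₀ ^ j) a]
    obtain ⟨x, hx⟩ := PicZeroTranslate.exists_translate (μ₀ ^ (4 * j)) _ hinv (nondeg_pow μ₀ hM0 (by omega))
    rw [← euler_tr hM4 x]
    refine euler_congr (PicLoc.isInvertible_pullback _ hM4) (PicLoc.isInvertible_pullback _ hMj) ?_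
    have a1 : PicGrp.cls ((Scheme.Modules.pullback (tr x).left).obj (CohB1.tensorPow M (4 * j)))
        (PicLoc.isInvertible_pullback _ hM4) = PicCalc.ph (tr x) (μ₀ ^ (4 * j)) :=
      Subtype.ext (PicCalc.cl_pullback (tr x) (a := μ₀ ^ (4 * j)) (AmpleVanishAV.cl_pow (a := μ₀) rfl _))
    have a2 : PicGrp.cls ((Scheme.Modules.pullback (𝟙 A ^ 2).left).obj (CohB1.tensorPow M j))
        (PicLoc.isInvertible_pullback _ hMj) = PicCalc.ph (𝟙 A ^ 2) (μ₀ ^ j) :=
      Subtype.ext (PicCalc.cl_pullback (𝟙 A ^ 2) (a := μ₀ ^ j) (AmpleVanishAV.cl_pow (a := μ₀) rfl _))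
    rw [a1, a2]
    exact mul_right_cancel hx
  -- a polynomial identity
  have poly : ∀ (M : A.left.Modules) (hM : PicF.IsInvertible M),
      Set.Finite {x : 𝟙_ (Over S) ⟶ A | PicCalc.ph (tr x) (PicGrp.cls M hM) = PicGrp.cls M hM} →
      ∀ p : Polynomial ℚ, (∀ j : ℕ, p.eval (j : ℚ) = (Curv2.euler K A.left (CohB1.tensorPow M j) : ℚ)) →
      ∀ i, p.coeff i ≠ 0 → (4 : ℚ) ^ i = D := by
    intro M hM hM0 p hp i hi
    have heq : p.comp (Polynomial.C 4 * Polynomial.X) = Polynomial.C (D : ℚ) * p := by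
      refine Polynomial.eq_of_infinite_eval_eq _ _ ((Set.infinite_range_of_injective
        (f := fun j : ℕ => ((j + 1 : ℕ) : ℚ)) fun a b h => by simpa using h).mono ?_)
      rintro _ ⟨j, rfl⟩
      have := key M hM hM0 (j + 1) (by omega)
      have h' : ((Curv2.euler K A.left (CohB1.tensorPow M (4 * (j + 1))) : ℤ) : ℚ) =
          (D : ℚ) * ((Curv2.euler K A.left (CohB1.tensorPow M (j + 1)) : ℤ) : ℚ) := by rw [this]; push_cast; ring
      rw [← hp, ← hp] at h'
      simp only [Set.mem_setOf_eq, Polynomial.eval_comp, Polynomial.eval_mul, Polynomial.eval_C, Polynomial.eval_X]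
      rw [← h']
      push_cast
      ring_nf
    have hc := congrArg (fun q : Polynomial ℚ => q.coeff i) heq
    simp only [Polynomial.comp_C_mul_X_coeff, Polynomial.coeff_C_mul] at hc
    exact mul_right_cancel₀ hi ((mul_comm _ _).trans hc)
  -- the degree of the doubling
  obtain ⟨L₀, hL₀⟩ := H63.AVProjective.exists_isAmple A
  obtain ⟨p₀, -, hp₀, hp₀'⟩ := exists_poly K hg hL₀.1
  obtain ⟨hdeg₀, hne₀⟩ := hp₀' hL₀
  have hDg : (4 : ℚ) ^ g = D := poly L₀ hL₀.1
    ((AmpleNondeg.finite_translationFixing A L₀ hL₀).subset fun a ha =>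
      (PicCalc.iso_iff (PicCalc.cl_pullback _ (a := PicGrp.cls L₀ hL₀.1) rfl)
        (b := PicGrp.cls L₀ hL₀.1) rfl).mpr ha) p₀ hp₀ g (by
      rw [← hdeg₀]; exact fun h => hne₀ (Polynomial.leadingCoeff_eq_zero.mp h))
  obtain ⟨p, -, hp, -⟩ := exists_poly K hg hL
  have hmono : p = Polynomial.monomial g (p.coeff g) := by
    ext i
    rw [Polynomial.coeff_monomial]
    split_ifs with h
    · rw [h]
    · by_contra hi
      exact h (pow_right_injective₀ (by norm_num) (by norm_num) (hDg.trans (poly L hL hnd p hp i hi).symm))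
  have h1' := hp 1
  have hm' := hp m
  rw [hmono, Polynomial.eval_monomial] at h1' hm'
  have hpow1 : Curv2.euler K A.left (CohB1.tensorPow L 1) = Curv2.euler K A.left L :=
    (IsogenyEuler.isAdd_euler (k := K)).iso (Groth.Agent.Lib.TensorMod.Basic.leftUnit L)
  rw [Nat.cast_one, one_pow, _root_.mul_one, hpow1] at h1'
  rw [h1'] at hm'
  exact_mod_cast hm'.symm.trans (mul_comm _ _)

end

end Groth.Agent.H52.EulerHomogeneous
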