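import Groth.Agent.H56.RelPC.FlatDesc
import Groth.Agent.Lib.DR.Descent

/-!
Descent of relative pseudo-coherence along an fpqc covering of the base.
-/

set_option autoImplicit false
set_option linter.style.haveILetI false

universe u

open CategoryTheory Limits AlgebraicGeometry TopologicalSpace Opposite
open scoped TensorProduct

namespace Groth.Agent.H56.RelPC

open Groth.Agent.Lib Groth.Agent.Lib.Perfect.Basic Groth.Agent.Lib.Perfect.PseudoCoh
open Groth.Agent.Lib.Perfect.Ascent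
open Groth.Agent.Lib.DR.Basic Groth.Agent.Lib.DR.FiniteComplex Groth.Agent.Lib.DR.PseudoCoherent

attribute [local instance] HasDerivedCategory.standard

/-- Descent of relative pseudo-coherence along an fpqc covering of the base. -/
theorem isPseudoCoherentRel_of_fpqc_base {X S : Scheme.{u}} {f : X ⟶ S} [LocallyOfFiniteType f]
    {S' : Scheme.{u}} (h : S' ⟶ S) [Flat h] [Surjective h] [QuasiCompact h]
    {X' : Scheme.{u}} (g : X' ⟶ X) (f' : X' ⟶ S') [Flat g]
    (hc : IsPullback g f' f h) {m : ℤ} {K : DCoh.D X} (hK : DCoh.IsQCohD K)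
    (hrel : DerSch.IsPseudoCoherentRel f' m ((FPD g).obj K)) :
    DerSch.IsPseudoCoherentRel f m K := by
  refine isPseudoCoherentRel_of_hasTest fun U W hUW => ?_
  have hft : (f.appLE (W : S.Opens) (U : X.Opens) hUW).hom.FiniteType :=
    LocallyOfFiniteType.finiteType_appLE f W.2 U.2 hUW
  algebraize [(f.appLE (W : S.Opens) (U : X.Opens) hUW).hom]
  obtain ⟨n, α₀, hα⟩ := Algebra.FiniteType.iff_quotient_mvPolynomial''.1 hft
  let α : MvPolynomial (Fin n) Γ(S, (W : S.Opens)) →+* Γ(X, (U : X.Opens)) := α₀.toRingHom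
  have hC : α.comp MvPolynomial.C = (f.appLE (W : S.Opens) (U : X.Opens) hUW).hom :=
    RingHom.ext fun r => α₀.commutes r
  obtain ⟨P, hPfin, hP⟩ := (isCompact_and_isOpen_iff_finite_and_eq_biUnion_affineOpens (U := ((h ⁻¹ᵁ (W : S.Opens) : S'.Opens) : Set S'))).1
    ⟨h.isCompact_preimage W.2.isCompact, (h ⁻¹ᵁ (W : S.Opens)).2⟩
  haveI : Finite P := hPfin
  let N := Nat.card P
  let e : Fin N ≃ P := (Finite.equivFin P).symm
  let V : Fin N → S'.Opens := fun k => ((e k).1 : S'.affineOpens)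
  have hV : ∀ k, IsAffineOpen (V k) := fun k => ((e k).1 : S'.affineOpens).2
  have hVW : ∀ k, V k ≤ h ⁻¹ᵁ (W : S.Opens) := fun k x hx => hP.ge (Set.mem_biUnion (e k).2 hx)
  let b₀ : ∀ k, Γ(S, (W : S.Opens)) ⟶ Γ(S', V k) := fun k =>
    h.appLE (W : S.Opens) (V k) (hVW k)
  letI := fun k => (b₀ k).hom.toAlgebra
  haveI : ∀ k, Module.Flat Γ(S, (W : S.Opens)) Γ(S', V k) := fun k =>
    h.flat_appLE W.2 (hV k) (hVW k)
  have hdet₀ : DR.Descent.Detects (A := Γ(S, (W : S.Opens))) fun k => Γ(S', V k) := by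
    refine detects_of_cover _ fun p => ?_
    have hp : W.2.fromSpec p ∈ ((W : S.Opens) : Set S) := W.2.range_fromSpec.le ⟨p, rfl⟩
    obtain ⟨t, hts⟩ := h.surjective (W.2.fromSpec p)
    have htW : t ∈ h ⁻¹' ((W : S.Opens) : Set S) := by
      show h t ∈ ((W : S.Opens) : Set S)
      rw [hts]
      exact hp
    obtain ⟨s, hsP, ht⟩ := Set.mem_iUnion₂.1 (hP.le htW)
    obtain ⟨k, hk⟩ : ∃ k, ((e k).1 : S'.affineOpens) = s := ⟨e.symm ⟨s, hsP⟩, by rw [e.apply_symm_apply]⟩
    subst hk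
    obtain ⟨q, rfl⟩ : t ∈ Set.range (hV k).fromSpec := by
      rw [(hV k).range_fromSpec]; exact ht
    refine ⟨k, q, W.2.fromSpec.isOpenEmbedding.injective ?_⟩
    refine Eq.trans ?_ hts
    exact congr($(IsAffineOpen.SpecMap_appLE_fromSpec h W.2 (hV k) (hVW k)) q)
  let b : ∀ k, CommRingCat.of (MvPolynomial (Fin n) Γ(S, (W : S.Opens))) ⟶
      CommRingCat.of (MvPolynomial (Fin n) Γ(S', V k)) := fun k =>
    CommRingCat.ofHom (MvPolynomial.map (σ := Fin n) (b₀ k).hom)
  haveI : ∀ k, Flat (Spec.map (b k)) := fun k =>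
    flat_spec_map (h.flat_appLE W.2 (hV k) (hVW k)) n
  haveI := isClosedImmersion_imm U.2 (φ := α) hα
  refine ⟨Fin n, inferInstance, α, hα, hC, ‹_›, pcAt_desc _ b (detects_polynomial _ hdet₀ n)
    (isQCohD_GD _ _ hK) fun k x => ?_⟩
  obtain ⟨hUY, hpres⟩ := exists_bcData hc U.2 W.2 (hV k) (hVW k) hUW hα hC
  obtain ⟨β, hβ, hβC, hp⟩ := hpres (hVW k)
  haveI := isClosedImmersion_imm hUY hβ
  haveI : Flat (Spec.map (CommRingCat.ofHom (MvPolynomial.map (σ := Fin n)
      (h.appLE (W : S.Opens) (V k) (hVW k)).hom))) :=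
    inferInstanceAs (Flat (Spec.map (b k)))
  obtain ⟨F, hF⟩ := exists_bc_test U.2 hUY inf_le_left hα hβ hp K
  haveI := isIso_of_good fun m' => hF m' fun i _ => isQCoh_restrict (hK i) _
  exact (pcAt_of_isPseudoCoherentRel hrel hUY (hV k) hβ hβC x).of_iso (asIso F).symm

end Groth.Agent.H56.RelPC
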