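import Groth.Agent.Lib.Ample.GenLocus
import Groth.Agent.Lib.Ample.Extend
import Groth.Agent.Lib.TensorMod.GenLocal
import Groth.Agent.Lib.SchTopo.Closure
import Mathlib.AlgebraicGeometry.Morphisms.Flat
import Mathlib.AlgebraicGeometry.Morphisms.UniversallyOpen
import Mathlib.LinearAlgebra.TensorProduct.Pi
import Mathlib.Algebra.Category.Ring.Constructions
import Mathlib.AlgebraicGeometry.IdealSheaf.Functorial
import Mathlib.AlgebraicGeometry.PullbackCarrier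

/-!
Descent of generators of invertible modules along flat maps.
-/

noncomputable section

universe u

open CategoryTheory CategoryTheory.Limits AlgebraicGeometry Opposite TopologicalSpace TensorProduct
open Groth.Agent.Lib Groth.Agent.Lib.TensorMod Groth.Agent.Lib.TensorMod.Dual Groth.Agent.Lib.TensorMod.Gen
open Groth.Agent.Lib.TensorMod.Pullback Groth.Agent.Lib.Ample Groth.Agent.Lib.Ample.GenLocus

namespace Groth.Agent.H52.GenDescent

variable {X Y Y' P : Scheme.{u}} {f : X ⟶ Y} {g : Y' ⟶ Y} {π : P ⟶ X} {f' : P ⟶ Y'}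

theorem preimage_le (h : IsPullback π f' f g) {V : Y.Opens} {V' : Y'.Opens} (hVV : V' ≤ g ⁻¹ᵁ V) :
    f' ⁻¹ᵁ V' ≤ π ⁻¹ᵁ (f ⁻¹ᵁ V) := by
  intro x hx
  have : g (f' x) ∈ V := hVV hx
  show f (π x) ∈ V
  rwa [← Scheme.Hom.comp_apply, h.w, Scheme.Hom.comp_apply]

/-- Flat base change of sections of the structure sheaf over opens. -/
theorem exists_sectionsIso (h : IsPullback π f' f g) [Flat g] {V : Y.Opens} {V' : Y'.Opens}
    (hV : IsAffineOpen V) (hV' : IsAffineOpen V') (hVV : V' ≤ g ⁻¹ᵁ V) {U : X.Opens} (hU : U ≤ f ⁻¹ᵁ V)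
    (hc : IsCompact (U : Set X)) (hq : IsQuasiSeparated (U : Set X)) (W : P.Opens)
    (hW : W = π ⁻¹ᵁ U ⊓ f' ⁻¹ᵁ V') :
    letI := (f.appLE V U hU).hom.toAlgebra; letI := (g.appLE V V' hVV).hom.toAlgebra
    ∃ ψ : Γ(Y', V') ⊗[Γ(Y, V)] Γ(X, U) →+* Γ(P, W), Function.Bijective ψ ∧
      ∀ b a, ψ (b ⊗ₜ a) = f'.appLE V' W (hW.le.trans inf_le_right) b *
        π.appLE U W (hW.le.trans inf_le_left) a := by
  let := (f.appLE V U hU).hom.toAlgebra
  let := (g.appLE V V' hVV).hom.toAlgebra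
  have := isIso_pushoutSection_of_isQuasiSeparated_of_flat_right h hVV hU hW hV hV' hc hq
  have sq := ((isIso_pushoutSection_iff ..).1 this).flip
  have sq' : IsPushout (CommRingCat.ofHom (algebraMap Γ(Y, V) Γ(Y', V')))
      (CommRingCat.ofHom (algebraMap Γ(Y, V) Γ(X, U)))
      (f'.appLE V' W (hW.le.trans inf_le_right))
      (π.appLE U W (hW.le.trans inf_le_left)) := sq
  let h₀ := CommRingCat.isPushout_tensorProduct Γ(Y, V) Γ(Y', V') Γ(X, U)
  let e := h₀.isoPushout ≪≫ sq'.isoPushout.symm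
  refine ⟨e.hom.hom, ConcreteCategory.bijective_of_isIso e.hom, fun b a => ?_⟩
  have h1 : CommRingCat.ofHom Algebra.TensorProduct.includeLeftRingHom ≫ e.hom =
      f'.appLE V' W (hW.le.trans inf_le_right) := by
    simp only [e, Iso.trans_hom, Iso.symm_hom, IsPushout.inl_isoPushout_hom_assoc, IsPushout.inl_isoPushout_inv]
  have h2 : CommRingCat.ofHom (Algebra.TensorProduct.includeRight (R := Γ(Y, V)) (A := Γ(Y', V'))).toRingHom ≫
      e.hom = π.appLE U W (hW.le.trans inf_le_left) := by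
    simp only [e, Iso.trans_hom, Iso.symm_hom, IsPushout.inr_isoPushout_hom_assoc, IsPushout.inr_isoPushout_inv]
  rw [show b ⊗ₜ[Γ(Y, V)] a = b ⊗ₜ[Γ(Y, V)] (1 : Γ(X, U)) * (1 : Γ(Y', V')) ⊗ₜ[Γ(Y, V)] a by
    rw [Algebra.TensorProduct.tmul_mul_tmul, mul_one, one_mul], map_mul, ← h1, ← h2]
  rfl

/-- Bijectivity of functions descends to the base change. -/
theorem bijective_app (h : IsPullback π f' f g) [Flat g] [QuasiCompact f] [QuasiSeparated f] {V : Y.Opens}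
    {V' : Y'.Opens} (hV : IsAffineOpen V) (hV' : IsAffineOpen V') (hVV : V' ≤ g ⁻¹ᵁ V)
    (hb : Function.Bijective (f.app V)) : Function.Bijective (f'.app V') := by
  obtain ⟨ψ, hψ, hψt⟩ := exists_sectionsIso h hV hV' hVV le_rfl (f.isCompact_preimage hV.isCompact)
    (f.isQuasiSeparated_preimage hV.isQuasiSeparated) (f' ⁻¹ᵁ V')
    (inf_eq_right.2 (preimage_le h hVV)).symm
  letI := (f.appLE V (f ⁻¹ᵁ V) le_rfl).hom.toAlgebra
  letI := (g.appLE V V' hVV).hom.toAlgebra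
  let η : Γ(Y, V) ≃ₗ[Γ(Y, V)] Γ(X, f ⁻¹ᵁ V) :=
    LinearEquiv.ofBijective (Algebra.linearMap _ _) (by
      show Function.Bijective (f.appLE V (f ⁻¹ᵁ V) le_rfl)
      rwa [← Scheme.Hom.app_eq_appLE])
  let k := (TensorProduct.rid Γ(Y, V) Γ(Y', V')).symm.trans
    (TensorProduct.congr (LinearEquiv.refl _ _) η)
  have : (fun b => f'.app V' b) = fun b => ψ (k b) := funext fun b => by
    have h1 : k b = b ⊗ₜ[Γ(Y, V)] (1 : Γ(X, f ⁻¹ᵁ V)) := by
      simp [k, η, Algebra.linearMap_apply]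
    rw [h1, hψt, map_one, mul_one, Scheme.Hom.app_eq_appLE]
  show Function.Bijective fun b => f'.app V' b
  rw [this]
  exact hψ.comp k.bijective

variable {M : X.Modules}

/-- Affine frames over a compact open. -/
theorem exists_frames (hM : PicF.IsInvertible M) {U : X.Opens} (hU : IsCompact (U : Set X)) :
    ∃ (N : ℕ) (V : Fin N → X.Opens) (e : ∀ i, Γ(M, V i)),
      (∀ i, V i ≤ U) ∧ (∀ i, IsAffineOpen (V i)) ∧ (∀ i, IsGen M (V i) (e i)) ∧ U ≤ iSup V := by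
  have h : ∀ x : U, ∃ V : X.Opens, x.1 ∈ V ∧ V ≤ U ∧ IsAffineOpen V ∧ ∃ e : Γ(M, V), IsGen M V e := fun x => by
    obtain ⟨W, e, hx, he⟩ := isInvertible_iff.1 hM x.1
    obtain ⟨V, hV, hxV, hle⟩ := exists_isAffineOpen_mem_and_subset (U := W ⊓ U) ⟨hx, x.2⟩
    exact ⟨V, hxV, fun y hy => (hle hy).2, hV, _, he.res (fun y hy => (hle hy).1)⟩
  choose V hx hVU hV e he using h
  obtain ⟨t, ht⟩ := hU.elim_finite_subcover (fun x => (V x : Set X)) (fun x => (V x).isOpen)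
    fun x hx' => Set.mem_iUnion.2 ⟨⟨x, hx'⟩, hx ⟨x, hx'⟩⟩
  refine ⟨t.card, fun i => V (t.equivFin.symm i), fun i => e _, fun i => hVU _, fun i => hV _,
    fun i => he _, fun x hxU => ?_⟩
  obtain ⟨y, hy, hxy⟩ := Set.mem_iUnion₂.1 (ht hxU)
  exact Opens.mem_iSup.2 ⟨t.equivFin ⟨y, hy⟩, by simpa using hxy⟩

/-- The sections which come from the base. -/
abbrev fromBase (h : IsPullback π f' f g) (M : X.Modules) {V : Y.Opens} {V' : Y'.Opens}
    (hVV : V' ≤ g ⁻¹ᵁ V) : Set Γ((pb π).obj M, f' ⁻¹ᵁ V') :=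
  {m | ∃ (b : Γ(Y', V')) (t : Γ(M, f ⁻¹ᵁ V)),
    m = f'.app V' b • rs ((pb π).obj M) (preimage_le h hVV) (unitSec π M t)}

/-- Every section over the base change is a combination of sections from the base. -/
theorem exists_sum (h : IsPullback π f' f g) [Flat g] [QuasiCompact f] [QuasiSeparated f]
    (hM : PicF.IsInvertible M) {V : Y.Opens} {V' : Y'.Opens} (hV : IsAffineOpen V) (hV' : IsAffineOpen V')
    (hVV : V' ≤ g ⁻¹ᵁ V) (s' : Γ((pb π).obj M, f' ⁻¹ᵁ V')) :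
    s' ∈ AddSubmonoid.closure (fromBase h M hVV) := by
  classical
  let U₀ := f ⁻¹ᵁ V
  have hU₀c : IsCompact (U₀ : Set X) := f.isCompact_preimage hV.isCompact
  have hU₀q : IsQuasiSeparated (U₀ : Set X) := f.isQuasiSeparated_preimage hV.isQuasiSeparated
  obtain ⟨N, O, e, hOU, hO, he, hcov⟩ := exists_frames hM hU₀c
  choose c hc using fun i j =>
    exists_coord ((he i).res (inf_le_left : O i ⊓ O j ≤ O i)) (rs M inf_le_right (e j))
  let W : Fin N → P.Opens := fun i => π ⁻¹ᵁ O i ⊓ f' ⁻¹ᵁ V'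
  let W₂ : Fin N × Fin N → P.Opens := fun p => π ⁻¹ᵁ (O p.1 ⊓ O p.2) ⊓ f' ⁻¹ᵁ V'
  let e' : ∀ i, Γ((pb π).obj M, W i) := fun i =>
    rs _ (inf_le_left : W i ≤ π ⁻¹ᵁ O i) (unitSec π M (e i))
  have he' : ∀ i, IsGen ((pb π).obj M) (W i) (e' i) := fun i => (isGen_unitSec π (he i)).res _
  choose a' ha' using fun i => exists_coord (he' i) (rs _ (inf_le_right : W i ≤ f' ⁻¹ᵁ V') s')
  letI := (g.appLE V V' hVV).hom.toAlgebra
  letI : ∀ i, Algebra Γ(Y, V) Γ(X, O i) := fun i => (f.appLE V (O i) (hOU i)).hom.toAlgebra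
  have hO₂U : ∀ p : Fin N × Fin N, O p.1 ⊓ O p.2 ≤ f ⁻¹ᵁ V := fun p => inf_le_left.trans (hOU p.1)
  letI : ∀ p : Fin N × Fin N, Algebra Γ(Y, V) Γ(X, O p.1 ⊓ O p.2) :=
    fun p => (f.appLE V _ (hO₂U p)).hom.toAlgebra
  choose ψ hψ hψt using fun i => exists_sectionsIso h hV hV' hVV (hOU i) (hO i).isCompact
    (hO i).isQuasiSeparated (W i) rfl
  choose ψ₂ hψ₂ hψ₂t using fun p : Fin N × Fin N => exists_sectionsIso h hV hV' hVV (hO₂U p)
    (hU₀q _ _ (hOU p.1) (O p.1).isOpen (hO p.1).isCompact (hOU p.2) (O p.2).isOpen (hO p.2).isCompact)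
    (hU₀q.of_subset (hO₂U p)) (W₂ p) rfl
  have hW₁ : ∀ p, W₂ p ≤ W p.1 := fun p x hx => ⟨hx.1.1, hx.2⟩
  have hW₂ : ∀ p, W₂ p ≤ W p.2 := fun p x hx => ⟨hx.1.2, hx.2⟩
  have halg₁ : ∀ (p : Fin N × Fin N) (b : Γ(Y, V)) (a : Γ(X, O p.1)),
      rf (inf_le_left : O p.1 ⊓ O p.2 ≤ O p.1) (b • a) = b • rf inf_le_left a := fun p b a => by
    show rf _ (f.appLE V (O p.1) (hOU p.1) b * a) = f.appLE V (O p.1 ⊓ O p.2) (hO₂U p) b * rf _ a
    rw [rf, map_mul]
    congr 1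
    exact congrArg (fun m => m.hom b) (f.appLE_map (hOU p.1) (homOfLE (inf_le_left : O p.1 ⊓ O p.2 ≤ O p.1)).op)
  have halg₂ : ∀ (p : Fin N × Fin N) (b : Γ(Y, V)) (a : Γ(X, O p.2)),
      rf (inf_le_right : O p.1 ⊓ O p.2 ≤ O p.2) (b • a) = b • rf inf_le_right a := fun p b a => by
    show rf _ (f.appLE V (O p.2) (hOU p.2) b * a) = f.appLE V (O p.1 ⊓ O p.2) (hO₂U p) b * rf _ a
    rw [rf, map_mul]
    congr 1
    exact congrArg (fun m => m.hom b) (f.appLE_map (hOU p.2) (homOfLE (inf_le_right : O p.1 ⊓ O p.2 ≤ O p.2)).op)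
  let d : (∀ i, Γ(X, O i)) →ₗ[Γ(Y, V)] ∀ p : Fin N × Fin N, Γ(X, O p.1 ⊓ O p.2) :=
    { toFun := fun a p => rf inf_le_left (a p.1) - c p.1 p.2 * rf inf_le_right (a p.2)
      map_add' := fun a b => funext fun p => by
        simp only [Pi.add_apply, rf, map_add]; ring
      map_smul' := fun r a => funext fun p => by
        simp only [Pi.smul_apply, RingHom.id_apply, halg₁, halg₂, smul_sub, mul_smul_comm] }
  let T := TensorProduct.piRight Γ(Y, V) Γ(Y', V') Γ(Y', V') (fun i => Γ(X, O i))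
  let T₂ := TensorProduct.piRight Γ(Y, V) Γ(Y', V') Γ(Y', V') (fun p : Fin N × Fin N => Γ(X, O p.1 ⊓ O p.2))
  let cc : ∀ p, Γ(P, W₂ p) := fun p => π.appLE _ (W₂ p) inf_le_left (c p.1 p.2)
  have hd : ∀ (z : Γ(Y', V') ⊗[Γ(Y, V)] ∀ i, Γ(X, O i)) (p : Fin N × Fin N),
      ψ₂ p (T₂ (d.lTensor Γ(Y', V') z) p) =
        rf (hW₁ p) (ψ p.1 (T z p.1)) - cc p * rf (hW₂ p) (ψ p.2 (T z p.2)) := by
    intro z p
    induction z using TensorProduct.induction_on with
    | zero => simp [rf]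
    | tmul b a =>
      have hres : ∀ (i : Fin N) (h₁ : O p.1 ⊓ O p.2 ≤ O i) (h₂ : W₂ p ≤ W i),
          rf h₂ (ψ i (b ⊗ₜ[Γ(Y, V)] a i)) =
            f'.appLE V' (W₂ p) inf_le_right b * π.appLE _ (W₂ p) inf_le_left (rf h₁ (a i)) := by
        intro i h₁ h₂
        rw [hψt, rf, map_mul]
        congr 1
        · exact congrArg (fun m => m.hom b) (f'.appLE_map (inf_le_right : W i ≤ f' ⁻¹ᵁ V') (homOfLE h₂).op)
        · exact congrArg (fun m => m.hom (a i))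
            ((π.appLE_map (inf_le_left : W i ≤ π ⁻¹ᵁ O i) (homOfLE h₂).op).trans
              (π.map_appLE (inf_le_left : W₂ p ≤ π ⁻¹ᵁ (O p.1 ⊓ O p.2)) (homOfLE h₁).op).symm)
      show ψ₂ p (b ⊗ₜ[Γ(Y, V)] d a p) = rf _ (ψ p.1 (b ⊗ₜ[Γ(Y, V)] a p.1)) -
        _ * rf _ (ψ p.2 (b ⊗ₜ[Γ(Y, V)] a p.2))
      rw [hψ₂t, hres _ inf_le_left, hres _ inf_le_right]
      show _ * π.appLE _ (W₂ p) inf_le_left
        (rf inf_le_left (a p.1) - c p.1 p.2 * rf inf_le_right (a p.2)) = _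
      rw [map_sub, map_mul]
      ring
    | add z w hz hw =>
      simp only [map_add, Pi.add_apply, hz, hw, rf]
      ring
  choose zc hzc using fun i => (hψ i).2 (a' i)
  let z := T.symm zc
  have hz : ∀ i, ψ i (T z i) = a' i := fun i => by
    rw [show T z = zc from T.apply_symm_apply zc, hzc]
  have hrsW : ∀ p : Fin N × Fin N,
      rs ((pb π).obj M) (hW₂ p) (e' p.2) = cc p • rs ((pb π).obj M) (hW₁ p) (e' p.1) := fun p => by
    have h1 := congrArg (fun t => rs ((pb π).obj M)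
      (inf_le_left : W₂ p ≤ π ⁻¹ᵁ (O p.1 ⊓ O p.2)) (unitSec π M t)) (hc p.1 p.2)
    simp only [unitSec_smul, rs_smul, ← unitSec_rs, rs_rs] at h1
    simp only [e', rs_rs]
    refine h1.trans (congrArg (· • _) ?_)
    simp only [cc, rf, Scheme.Hom.appLE, CommRingCat.comp_apply]
  have hzero : d.lTensor Γ(Y', V') z = 0 := by
    refine T₂.injective ?_
    rw [map_zero]
    funext p
    refine (hψ₂ p).1 ?_
    rw [hd, hz, hz, Pi.zero_apply, map_zero, sub_eq_zero]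
    have hg := (he' p.1).res (hW₁ p)
    refine (hg _ le_rfl).1 ?_
    simp only [rs_self]
    have h1 := congrArg (rs ((pb π).obj M) (hW₁ p)) (ha' p.1)
    have h2 := congrArg (rs ((pb π).obj M) (hW₂ p)) (ha' p.2)
    rw [rs_rs, rs_smul] at h1 h2
    rw [← h1, h2, hrsW, smul_smul, mul_comm]
  have hex : Function.Exact ((LinearMap.ker d).subtype.lTensor Γ(Y', V')) (d.lTensor Γ(Y', V')) := by
    have : Module.Flat Γ(Y, V) Γ(Y', V') := g.flat_appLE hV hV' hVV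
    exact Module.Flat.lTensor_exact _ (LinearMap.exact_subtype_ker_map d)
  obtain ⟨w, hw⟩ := (hex z).mp hzero
  have key : ∀ w, ∃ m ∈ AddSubmonoid.closure (fromBase h M hVV), ∀ i,
      rs ((pb π).obj M) (inf_le_right : W i ≤ f' ⁻¹ᵁ V') m =
        ψ i (T ((LinearMap.ker d).subtype.lTensor Γ(Y', V') w) i) • e' i := by
    intro w
    induction w using TensorProduct.induction_on with
    | zero => exact ⟨0, zero_mem _, fun i => by simp [rs]⟩
    | tmul b k =>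
      let τ : ∀ i, Γ(M, O i) := fun i => k.1 i • e i
      have hτ : TopCat.Presheaf.IsCompatible M.presheaf O τ := fun i j => by
        change rs M (inf_le_left : O i ⊓ O j ≤ O i) (τ i) = rs M (inf_le_right : O i ⊓ O j ≤ O j) (τ j)
        have h1 : rf (inf_le_left : O i ⊓ O j ≤ O i) (k.1 i) - c i j * rf inf_le_right (k.1 j) = 0 :=
          congrFun (show d k.1 = 0 from k.2) (i, j)
        simp only [τ]
        rw [rs_smul, rs_smul, sub_eq_zero.mp h1, hc i j, smul_smul, mul_comm]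
      obtain ⟨t, ht, -⟩ := TopCat.Sheaf.existsUnique_gluing' (⟨M.presheaf, M.isSheaf⟩ : TopCat.Sheaf Ab.{u} X)
        O U₀ (fun i => homOfLE (hOU i)) hcov τ hτ
      refine ⟨_, AddSubmonoid.subset_closure ⟨b, t, rfl⟩, fun i => ?_⟩
      have h2 : rs M (hOU i) t = k.1 i • e i := ht i
      have h3 := congrArg (fun q => rs ((pb π).obj M) (inf_le_left : W i ≤ π ⁻¹ᵁ O i) (unitSec π M q)) h2
      simp only [unitSec_smul, rs_smul, ← unitSec_rs, rs_rs] at h3
      rw [rs_smul, rs_rs, h3, smul_smul]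
      refine congrArg (· • e' i) ?_
      show _ = ψ i (b ⊗ₜ[Γ(Y, V)] k.1 i)
      rw [hψt]
      simp only [rf, Scheme.Hom.appLE, CommRingCat.comp_apply]
    | add u v hu hv =>
      obtain ⟨m, hm, hm'⟩ := hu
      obtain ⟨n, hn, hn'⟩ := hv
      refine ⟨m + n, add_mem hm hn, fun i => ?_⟩
      simp only [map_add, Pi.add_apply, add_smul, ← hm', ← hn']
  obtain ⟨m, hm, hm'⟩ := key w
  suffices s' = m by rwa [this]
  refine HomGlue.sections_ext_cover W _ (fun x hx => ?_) fun i => ?_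
  · obtain ⟨i, hi⟩ := Opens.mem_iSup.1 (hcov (preimage_le h hVV hx))
    exact Opens.mem_iSup.2 ⟨i, hi, hx⟩
  · have h1 : rs ((pb π).obj M) (inf_le_right : W i ≤ f' ⁻¹ᵁ V') m =
        rs ((pb π).obj M) (inf_le_right : W i ≤ f' ⁻¹ᵁ V') s' := by
      rw [hm', hw, hz, ← ha']
    have h2 := congrArg (rs ((pb π).obj M) (inf_le_right : f' ⁻¹ᵁ V' ⊓ W i ≤ W i)) h1
    simpa only [rs_rs] using h2.symm

/-- A generator over the base change descends to a generator near any point. -/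
theorem exists_gen (h : IsPullback π f' f g) [Flat g] [QuasiCompact f] [QuasiSeparated f]
    (hM : PicF.IsInvertible M) {V : Y.Opens} {V' : Y'.Opens} (hV : IsAffineOpen V) (hV' : IsAffineOpen V')
    (hVV : V' ≤ g ⁻¹ᵁ V) (hb : Function.Bijective (f.app V)) {e' : Γ((pb π).obj M, f' ⁻¹ᵁ V')}
    (he' : IsGen ((pb π).obj M) (f' ⁻¹ᵁ V') e') (y' : Y') (hy' : y' ∈ V') :
    ∃ (W : Y.Opens) (e : Γ(M, f ⁻¹ᵁ W)), g y' ∈ W ∧ IsGen M (f ⁻¹ᵁ W) e := by
  classical
  have hb' := bijective_app h hV hV' hVV hb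
  obtain ⟨t, d, hdy, htd⟩ : ∃ (t : Γ(M, f ⁻¹ᵁ V)) (d : Γ(Y', V')), y' ∈ Y'.basicOpen d ∧
      rs ((pb π).obj M) (preimage_le h hVV) (unitSec π M t) = f'.app V' d • e' := by
    by_contra hcon
    push Not at hcon
    have hsum : ∀ m ∈ AddSubmonoid.closure (fromBase h M hVV),
        ∃ β : Γ(Y', V'), y' ∉ Y'.basicOpen β ∧ m = f'.app V' β • e' := by
      intro m hm
      induction hm using AddSubmonoid.closure_induction with
      | mem m hm =>
        obtain ⟨b, t, rfl⟩ := hm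
        obtain ⟨a, ha⟩ := exists_coord he' (rs _ (preimage_le h hVV) (unitSec π M t))
        obtain ⟨d, rfl⟩ := hb'.2 a
        refine ⟨b * d, fun hbd => ?_, by rw [ha, smul_smul, map_mul]⟩
        rw [Y'.basicOpen_mul] at hbd
        exact hcon t d hbd.2 ha
      | zero => exact ⟨0, by rw [Y'.basicOpen_zero]; exact id, by rw [map_zero, zero_smul]⟩
      | add u v _ _ hu hv =>
        obtain ⟨β, hβ, rfl⟩ := hu
        obtain ⟨γ, hγ, rfl⟩ := hv
        refine ⟨β + γ, fun hbc => ?_, by rw [map_add, add_smul]⟩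
        rw [Scheme.mem_basicOpen _ _ _ hy'] at hβ hγ hbc
        rw [map_add] at hbc
        exact (IsLocalRing.nonunits_add hβ hγ) hbc
    obtain ⟨β, hβ, hβe⟩ := hsum e' (exists_sum h hM hV hV' hVV e')
    refine hβ ?_
    have h1 : f'.app V' β = 1 := (he' _ le_rfl).1 (by simp only [rs_self, one_smul]; exact hβe.symm)
    have h2 : β = 1 := hb'.1 (h1.trans (map_one _).symm)
    rw [h2, Scheme.basicOpen_of_isUnit _ isUnit_one]
    exact hy'
  let G : Set X := {x | ∃ (O : X.Opens) (hO : O ≤ f ⁻¹ᵁ V), x ∈ O ∧ IsGen M O (rs M hO t)}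
  have hG : IsOpen G := isOpen_iff_forall_mem_open.2 fun x ⟨O, hO, hx, hg⟩ =>
    ⟨O, fun z hz => ⟨O, hO, hz, hg⟩, O.2, hx⟩
  have hlift : ∀ x' : P, f' x' ∈ Y'.basicOpen d → π x' ∈ G := by
    intro x' hx'
    have hx'V : x' ∈ f' ⁻¹ᵁ V' := Y'.basicOpen_le d hx'
    have hxU : π x' ∈ f ⁻¹ᵁ V := preimage_le h hVV hx'V
    obtain ⟨O₁, e₁, hxO₁, he₁⟩ := isInvertible_iff.1 hM (π x')
    let O := O₁ ⊓ f ⁻¹ᵁ V
    have heO := he₁.res (inf_le_left : O ≤ O₁)
    obtain ⟨a, ha⟩ := exists_coord heO (rs M (inf_le_right : O ≤ f ⁻¹ᵁ V) t)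
    let WO : P.Opens := π ⁻¹ᵁ O ⊓ f' ⁻¹ᵁ V'
    have hxWO : x' ∈ WO := ⟨⟨hxO₁, hxU⟩, hx'V⟩
    have hgW := (isGen_unitSec π heO).res (inf_le_left : WO ≤ π ⁻¹ᵁ O)
    obtain ⟨u, hu⟩ := exists_coord hgW (rs _ (inf_le_right : WO ≤ f' ⁻¹ᵁ V') e')
    have huu : IsUnit u := isUnit_of_isGen_smul hgW (hu ▸ he'.res _)
    have h1 := congrArg (fun q => rs ((pb π).obj M) (inf_le_left : WO ≤ π ⁻¹ᵁ O) (unitSec π M q)) ha
    simp only [unitSec_smul, rs_smul, ← unitSec_rs, rs_rs] at h1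
    have h2 := congrArg (rs ((pb π).obj M) (inf_le_right : WO ≤ f' ⁻¹ᵁ V')) htd
    simp only [rs_smul, rs_rs] at h2
    rw [h2, hu, smul_smul] at h1
    have h3 := (hgW _ le_rfl).1 (by simpa only [rs_self, ← unitSec_rs, rs_rs] using h1)
    have hax : x' ∈ P.basicOpen (π.app O a) := by
      have h4 : x' ∈ P.basicOpen (rf (inf_le_left : WO ≤ π ⁻¹ᵁ O) (π.app O a)) := by
        rw [← h3, P.basicOpen_mul]
        refine ⟨?_, by rw [P.basicOpen_of_isUnit huu]; exact hxWO⟩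
        rw [rf, Scheme.basicOpen_res]
        exact ⟨hxWO, by rw [← Scheme.preimage_basicOpen]; exact hx'⟩
      rw [rf, Scheme.basicOpen_res] at h4
      exact h4.2
    rw [← Scheme.preimage_basicOpen] at hax
    refine ⟨X.basicOpen a, (X.basicOpen_le a).trans inf_le_right, hax, ?_⟩
    have h5 := congrArg (rs M (X.basicOpen_le a)) ha
    rw [rs_rs, rs_smul] at h5
    rw [h5]
    exact GenLocal.isGen_smul (heO.res _) (X.toRingedSpace.isUnit_res_basicOpen a)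
  let Z : Closeds X := ⟨Gᶜ, hG.isClosed_compl⟩
  let J := Scheme.IdealSheafData.vanishingIdeal Z
  have hrange : Set.range J.subschemeι = Gᶜ := by
    rw [J.range_subschemeι, Scheme.IdealSheafData.coe_support_vanishingIdeal]
    rfl
  have hy : g y' ∉ closure (f '' Gᶜ) := by
    intro hy
    have hr : Set.range (J.subschemeι ≫ f) = f '' Gᶜ := by
      rw [Scheme.Hom.comp_base, TopCat.coe_comp, Set.range_comp, hrange]
    rw [← hr] at hy
    obtain ⟨w, hw⟩ := Groth.Agent.Lib.SchTopo.Closure.exists_specializes_of_mem_closure_range _ hy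
    obtain ⟨η, hη, hηg⟩ := Flat.generalizingMap g hw
    have hηd : η ∈ Y'.basicOpen d := hη.mem_open (Y'.basicOpen d).2 hdy
    obtain ⟨q, hq1, hq2⟩ := Scheme.Pullback.exists_preimage_pullback (f := f) (g := g)
      (J.subschemeι w) η hηg.symm
    have hw' : J.subschemeι w ∈ Set.range J.subschemeι := ⟨w, rfl⟩
    rw [hrange] at hw'
    refine hw' ?_
    have h1 : π (h.isoPullback.inv q) = J.subschemeι w := by
      rw [← hq1, ← Scheme.Hom.comp_apply, IsPullback.isoPullback_inv_fst]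
    have h2 : f' (h.isoPullback.inv q) = η := by
      rw [← hq2, ← Scheme.Hom.comp_apply, IsPullback.isoPullback_inv_snd]
    rw [← h1]
    exact hlift _ (h2 ▸ hηd)
  let W : Y.Opens := ⟨(closure (f '' Gᶜ))ᶜ, isClosed_closure.isOpen_compl⟩ ⊓ V
  refine ⟨W, rs M (fun x hx => hx.2) t, ⟨hy, hVV hy'⟩, GenLocal.isGen_of_forall_exists fun x hx => ?_⟩
  have hxG : x ∈ G := by_contra fun hxG => hx.1 (subset_closure ⟨x, hxG, rfl⟩)
  obtain ⟨O, hO, hxO, hgO⟩ := hxG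
  refine ⟨O ⊓ f ⁻¹ᵁ W, inf_le_right, ⟨hxO, hx⟩, ?_⟩
  have h6 := hgO.res (inf_le_left : O ⊓ f ⁻¹ᵁ W ≤ O)
  simpa only [rs_rs] using h6

end Groth.Agent.H52.GenDescent
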