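import Groth.Agent.H52.HilbertRoots
import Groth.Agent.Lib.Ample.Pullback

/-!
# The Hilbert polynomial data over the algebraic closure
-/

set_option autoImplicit false
set_option linter.style.haveILetI false
universe u

open CategoryTheory CategoryTheory.Limits MonoidalCategory CartesianMonoidalCategory AlgebraicGeometry
open Groth.Agent.Lib
open Groth.Agent.H63.AVBaseChange (bc isProper_bc geometricallyIntegral_bc topologicalKrullDim_bc)
open Groth.Agent.H52.BaseToClosure (Cl proj Conc conc_iff conc_of_iso smooth_bc exists_dim)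
open Groth.Agent.H52.HilbertIndex (Data)
open scoped TensorProduct

namespace Groth.Agent.H52.HilbertDescent

noncomputable section

variable {k : Type u} [Field k] (X : Over (Spec (CommRingCat.of k)))

/-- The Euler characteristic is unchanged by passing to the closure. -/
theorem euler_bc [IsProper X.hom] {M : X.left.Modules} (hM : PicF.IsInvertible M) :
    @Curv2.euler (Cl k) _ (bc (Cl k) X).left ⟨(bc (Cl k) X).hom⟩ ((Scheme.Modules.pullback (proj X)).obj M) =
      @Curv2.euler k _ X.left ⟨X.hom⟩ M := by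
  letI : X.left.Over (Spec (CommRingCat.of k)) := ⟨X.hom⟩
  letI : (bc (Cl k) X).left.Over (Spec (CommRingCat.of (Cl k))) := ⟨(bc (Cl k) X).hom⟩
  haveI : CompactSpace X.left := QuasiCompact.compactSpace_of_compactSpace X.hom
  haveI : QuasiSeparatedSpace X.left := quasiSeparatedSpace_of_quasiSeparated X.hom
  haveI : M.IsQuasicoherent := Groth.Agent.Lib.TensorMod.QCohInv.isQCoh_of_isInvertible hM
  have h : IsPullback (proj X) ((bc (Cl k) X).left ↘ Spec (CommRingCat.of (Cl k)))
      (X.left ↘ Spec (CommRingCat.of k)) (Spec.map (CommRingCat.ofHom (algebraMap k (Cl k)))) :=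
    GrpSch.isPullback_bc _ X
  refine finsum_congr fun n => ?_
  obtain ⟨e⟩ := ZarCoh.FlatBC.Equiv.nonempty_linearEquiv h M n
  rw [← e.finrank_eq, Module.finrank_baseChange]

theorem isAmple_bc {H : X.left.Modules} (hH : CohB1.IsAmple H) :
    CohB1.IsAmple ((Scheme.Modules.pullback (proj X)).obj H) := by
  haveI : IsAffineHom (GrpSch.extBase k (Cl k)) :=
    inferInstanceAs (IsAffineHom (Spec.map (CommRingCat.ofHom (algebraMap k (Cl k)))))
  haveI : IsAffineHom (proj X) :=
    MorphismProperty.of_isPullback (P := @IsAffineHom) (GrpSch.isPullback_bc _ X).flip inferInstance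
  exact Ample.Pullback.isAmple_pullback _ (Ample.Pullback.isQuasiAffine_of_isAffineHom _) hH

/-- The data over the closure. -/
theorem exists_data [GrpObj X] [IsProper X.hom] [GeometricallyIntegral X.hom] {L H : X.left.Modules}
    (hL : PicF.IsInvertible L) (hH : CohB1.IsAmple H) {Φ : Polynomial ℚ}
    (hΦ : ∀ n : ℕ, Φ.eval (n : ℚ) =
      (@Curv2.euler k _ X.left ⟨X.hom⟩ (CohB1.tensorMod L (CohB1.tensorPow H n)) : ℚ)) :
    ∃ g, Data (A := bc (Cl k) X) g ((Scheme.Modules.pullback (proj X)).obj L)
      ((Scheme.Modules.pullback (proj X)).obj H) Φ := by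
  obtain ⟨g, hg⟩ := exists_dim X
  refine ⟨g, topologicalKrullDim_bc (Cl k) X hg, PicLoc.isInvertible_pullback _ hL, isAmple_bc X hH, fun n => ?_⟩
  haveI := isProper_bc (Cl k) X
  letI : (bc (Cl k) X).left.Over (Spec (CommRingCat.of (Cl k))) := ⟨(bc (Cl k) X).hom⟩
  haveI : IsProper ((bc (Cl k) X).left ↘ Spec (CommRingCat.of (Cl k))) := ‹IsProper (bc (Cl k) X).hom›
  rw [hΦ n, ← euler_bc X (TensorMod.Invertible.isInvertible_tensorMod hL
    (TensorMod.Invertible.isInvertible_tensorPow hH.1 n))]
  exact congrArg _ ((IsogenyEuler.isAdd_euler (k := Cl k)).iso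
    (TensorMod.Pullback.pullbackTensorIso _ _ _ ≪≫
      TensorMod.Basic.tensorIso (Iso.refl _) (Ample.Pow.pullbackPow (proj X) H n)))

/-- A twist by the first power. -/
def oneIso {L H M : X.left.Modules} (e : M ≅ CohB1.tensorMod L H) :
    (Scheme.Modules.pullback (proj X)).obj M ≅
      CohB1.tensorMod ((Scheme.Modules.pullback (proj X)).obj L)
        (CohB1.tensorPow ((Scheme.Modules.pullback (proj X)).obj H) 1) :=
  (Scheme.Modules.pullback (proj X)).mapIso e ≪≫ TensorMod.Pullback.pullbackTensorIso _ _ _ ≪≫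
    TensorMod.Basic.tensorIso (Iso.refl _) (TensorMod.Basic.leftUnit _).symm

end

end Groth.Agent.H52.HilbertDescent
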