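import Groth.Agent.H52.HilbertPoly
import Groth.Agent.H52.BaseToClosure
import Mathlib.Analysis.Polynomial.Basic
import Mathlib.Topology.Algebra.Polynomial
import Mathlib.LinearAlgebra.Lagrange

/-!
# Mumford's theorem on the Hilbert polynomial and the index
-/

set_option autoImplicit false
set_option linter.style.haveILetI false
set_option linter.unusedSectionVars false
universe u

open CategoryTheory CategoryTheory.Limits MonoidalCategory CartesianMonoidalCategory MonObj AlgebraicGeometry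
open Groth.Agent.H3
open Groth.Agent.H52.NondegAmple (tr)
open Groth.Agent.H52.TwoTwistBound (Tw isInvertible_tw)
open Groth.Agent.H52.BaseToClosure (Conc conc_of_iso nondeg_of_conc)
open Groth.Agent.Lib.TensorMod.Invertible (isInvertible_tensorPow isInvertible_tensorMod)
open Groth.Agent.Lib.TensorMod.Basic (comm tensorIso leftUnit rightUnit)

namespace Groth.Agent.H52.HilbertIndex

noncomputable section

local instance (Y : Scheme.{u}) : PicGrp.Law Y := Groth.Agent.Lib.TensorMod.Invertible.law Y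

variable {K : Type u} [Field K] [IsAlgClosed K]

local notation "S" => Spec (CommRingCat.of K)

variable {A : Over (Spec (CommRingCat.of K))} [GrpObj A] [IsProper A.hom] [GeometricallyIntegral A.hom]
  [Smooth A.hom]

/-- `χ(M^m) = m^g χ(M)` for every invertible `M`. -/
theorem euler_pow' (g : ℕ) (hg : topologicalKrullDim A.left = g) (M : A.left.Modules) (hM : PicF.IsInvertible M)
    (m : ℕ) (hm : 0 < m) : @Curv2.euler K _ A.left ⟨A.hom⟩ (CohB1.tensorPow M m) =
      (m : ℤ) ^ g * @Curv2.euler K _ A.left ⟨A.hom⟩ M := by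
  by_cases hnd : Set.Finite {x : 𝟙_ (Over S) ⟶ A | PicCalc.ph (tr x) (PicGrp.cls M hM) = PicGrp.cls M hM}
  · exact EulerHomogeneous.euler_pow g hg M hM hnd m hm
  · rw [DegenEuler.euler_eq_zero M hM hnd, mul_zero, DegenEuler.euler_eq_zero _ (isInvertible_tensorPow hM m)]
    rw [show PicGrp.cls (CohB1.tensorPow M m) (isInvertible_tensorPow hM m) = PicGrp.cls M hM ^ m from
      Subtype.ext (AmpleVanishAV.cl_pow (a := PicGrp.cls M hM) rfl _)]
    exact fun h => hnd (h.subset fun x hx => by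
      show PicCalc.ph (tr x) (PicGrp.cls M hM ^ m) = PicGrp.cls M hM ^ m
      rw [map_pow, hx])

/-- `χ(M⁻¹) = (-1)^g χ(M)`. -/
theorem euler_inverse (g : ℕ) (hg : topologicalKrullDim A.left = g) (M N : A.left.Modules)
    (hM : PicF.IsInvertible M) (hN : PicF.IsInvertible N) (h : PicGrp.cls N hN = (PicGrp.cls M hM)⁻¹) :
    @Curv2.euler K _ A.left ⟨A.hom⟩ N = (-1 : ℤ) ^ g * @Curv2.euler K _ A.left ⟨A.hom⟩ M := by
  letI : A.left.Over S := ⟨A.hom⟩
  haveI : IsProper (A.left ↘ S) := ‹IsProper A.hom›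
  haveI : IsLocallyNoetherian A.left := LocallyOfFiniteType.isLocallyNoetherian A.hom
  obtain ⟨p, -, hp⟩ := HilbertPoly.exists_poly_twist K hg hM (Groth.Agent.Lib.Ample.GG.isCoh_of_isInvertible hN)
  let q : Polynomial ℚ :=
    Polynomial.C (Curv2.euler K A.left M : ℚ) * (Polynomial.X - Polynomial.C 1) ^ g
  have hpq : p = q := by
    refine Polynomial.eq_of_infinite_eval_eq _ _ ((Set.infinite_range_of_injective
      (f := fun j : ℕ => ((j + 2 : ℕ) : ℚ)) fun a b h => by simpa using h).mono ?_)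
    rintro _ ⟨j, rfl⟩
    show p.eval ((j + 2 : ℕ) : ℚ) = q.eval ((j + 2 : ℕ) : ℚ)
    have hcl : PicGrp.cls (CohB1.tensorMod (CohB1.tensorPow M (j + 2)) N)
        (isInvertible_tensorMod (isInvertible_tensorPow hM _) hN) =
        PicGrp.cls (CohB1.tensorPow M (j + 1)) (isInvertible_tensorPow hM _) := by
      refine Subtype.ext ((PicCalc.cl_tensor (AmpleVanishAV.cl_pow (a := PicGrp.cls M hM) rfl (j + 2))
        (b := PicGrp.cls N hN) rfl).trans ?_)
      rw [h, show PicGrp.cls (CohB1.tensorPow M (j + 1)) (isInvertible_tensorPow hM _) =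
        PicGrp.cls M hM ^ (j + 1) from Subtype.ext (AmpleVanishAV.cl_pow (a := PicGrp.cls M hM) rfl _)]
      congr 1
      rw [pow_succ, mul_inv_cancel_right]
    rw [hp, EulerHomogeneous.euler_congr _ _ hcl, euler_pow' g hg M hM (j + 1) (by omega)]
    simp only [q, Polynomial.eval_mul, Polynomial.eval_C, Polynomial.eval_pow, Polynomial.eval_sub,
      Polynomial.eval_X]
    push_cast
    ring
  have h0 := hp 0
  rw [hpq] at h0
  simp only [q, Polynomial.eval_mul, Polynomial.eval_C, Polynomial.eval_pow, Polynomial.eval_sub,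
    Polynomial.eval_X, Nat.cast_zero, zero_sub] at h0
  have e : Curv2.euler K A.left (CohB1.tensorMod (CohB1.tensorPow M 0) N) = Curv2.euler K A.left N :=
    (IsogenyEuler.isAdd_euler (k := K)).iso (leftUnit N)
  rw [e] at h0
  exact_mod_cast h0.symm.trans (mul_comm _ _)

section Hilbert

variable {g : ℕ} {L H : A.left.Modules} {Φ : Polynomial ℚ}

/-- The data: an invertible module, an ample one, and the Hilbert polynomial. -/
structure Data (g : ℕ) (L H : A.left.Modules) (Φ : Polynomial ℚ) : Prop where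
  dim : topologicalKrullDim A.left = g
  inv : PicF.IsInvertible L
  ample : CohB1.IsAmple H
  poly : ∀ n : ℕ, Φ.eval (n : ℚ) =
    (@Curv2.euler K _ A.left ⟨A.hom⟩ (CohB1.tensorMod L (CohB1.tensorPow H n)) : ℚ)

variable (D : Data g L H Φ)

include D

/-- The degree of the Hilbert polynomial. -/
theorem natDegree_le : Φ.natDegree ≤ g := by
  letI : A.left.Over S := ⟨A.hom⟩
  haveI : IsProper (A.left ↘ S) := ‹IsProper A.hom›
  haveI : IsLocallyNoetherian A.left := LocallyOfFiniteType.isLocallyNoetherian A.hom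
  obtain ⟨p, hp0, hp⟩ := HilbertPoly.exists_poly_twist K D.dim D.ample.1
    (Groth.Agent.Lib.Ample.GG.isCoh_of_isInvertible D.inv)
  suffices Φ = p by rw [this]; exact hp0
  refine Polynomial.eq_of_infinite_eval_eq _ _ ((Set.infinite_range_of_injective
    (f := fun j : ℕ => (j : ℚ)) Nat.cast_injective).mono ?_)
  rintro _ ⟨j, rfl⟩
  show Φ.eval (j : ℚ) = p.eval (j : ℚ)
  rw [hp, D.poly]
  exact congrArg _ ((IsogenyEuler.isAdd_euler (k := K)).iso (comm _ _))

/-- Scaling. -/
theorem tw_iso (b c m : ℕ) : Nonempty (CohB1.tensorPow (Tw L H b c) m ≅ Tw L H (b * m) (c * m)) :=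
  ⟨Groth.Agent.Lib.Ample.Pow.powTensor _ _ m ≪≫
    tensorIso (Groth.Agent.Lib.Ample.Pow.powMul L b m) (Groth.Agent.Lib.Ample.Pow.powMul H c m)⟩

/-- `χ(L^b ⊗ H^c) = b^g Φ(c/b)`. -/
theorem euler_tw (b c : ℕ) (hb : 0 < b) :
    (@Curv2.euler K _ A.left ⟨A.hom⟩ (Tw L H b c) : ℚ) = (b : ℚ) ^ g * Φ.eval ((c : ℚ) / b) := by
  letI : A.left.Over S := ⟨A.hom⟩
  haveI : IsProper (A.left ↘ S) := ‹IsProper A.hom›
  haveI : IsLocallyNoetherian A.left := LocallyOfFiniteType.isLocallyNoetherian A.hom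
  have hscale : ∀ x y m : ℕ, 0 < m → Curv2.euler K A.left (Tw L H (x * m) (y * m)) =
      (m : ℤ) ^ g * Curv2.euler K A.left (Tw L H x y) := fun x y m hm => by
    obtain ⟨i⟩ := tw_iso D x y m
    rw [← (IsogenyEuler.isAdd_euler (k := K)).iso i]
    exact euler_pow' g D.dim _ (isInvertible_tw D.inv D.ample.1 x y) m hm
  let N := (g + 1).factorial
  have hN : 0 < N := (g + 1).factorial_pos
  obtain ⟨p, hp0, hp⟩ := HilbertPoly.exists_poly_twist K D.dim D.inv
    (Groth.Agent.Lib.Ample.GG.isCoh_of_isInvertible (isInvertible_tensorPow D.ample.1 (c * N)))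
  let R : Polynomial ℚ := ∑ i ∈ Finset.range (g + 1),
    Polynomial.C (Φ.coeff i * ((c * N : ℕ) : ℚ) ^ i) * Polynomial.X ^ (g - i)
  have hR0 : R.natDegree ≤ g := Polynomial.natDegree_sum_le_of_forall_le _ _ fun i _ =>
    (Polynomial.natDegree_C_mul_le _ _).trans (by rw [Polynomial.natDegree_X_pow]; omega)
  have hR : ∀ x : ℕ, 0 < x → R.eval (x : ℚ) = (x : ℚ) ^ g * Φ.eval (((c * N : ℕ) : ℚ) / x) := fun x hx => by
    have hx' : (x : ℚ) ≠ 0 := by exact_mod_cast hx.ne'
    rw [Polynomial.eval_eq_sum_range' (Nat.lt_succ_of_le (natDegree_le D)) (((c * N : ℕ) : ℚ) / x),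
      Finset.mul_sum]
    simp only [R, Polynomial.eval_finsetSum, Polynomial.eval_mul, Polynomial.eval_C, Polynomial.eval_pow,
      Polynomial.eval_X]
    refine Finset.sum_congr rfl fun i hi => ?_
    have hig : i ≤ g := Nat.le_of_lt_succ (Finset.mem_range.1 hi)
    rw [div_pow, show (x : ℚ) ^ g = (x : ℚ) ^ (g - i) * (x : ℚ) ^ i by rw [← pow_add, Nat.sub_add_cancel hig]]
    field_simp
  have hpR : p = R := by
    refine Polynomial.eq_of_natDegree_lt_card_of_eval_eq' p R
      ((Finset.Icc 1 (g + 1)).image (fun x : ℕ => (x : ℚ))) ?_ ?_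
    · intro y hy
      obtain ⟨x, hx, rfl⟩ := Finset.mem_image.1 hy
      rw [Finset.mem_Icc] at hx
      obtain ⟨n, hn⟩ : x ∣ c * N := Dvd.dvd.mul_left (Nat.dvd_factorial (by omega) hx.2) c
      have e1 : Curv2.euler K A.left (Tw L H 1 n) =
          Curv2.euler K A.left (CohB1.tensorMod L (CohB1.tensorPow H n)) :=
        (IsogenyEuler.isAdd_euler (k := K)).iso (tensorIso (leftUnit L) (Iso.refl _))
      have h := hscale 1 n x (by omega)
      rw [e1, _root_.one_mul, mul_comm n x, ← hn] at h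
      have hx' : (x : ℚ) ≠ 0 := by exact_mod_cast (show x ≠ 0 by omega)
      show p.eval (x : ℚ) = R.eval (x : ℚ)
      rw [hp, hR x (by omega), show ((c * N : ℕ) : ℚ) / x = (n : ℚ) by rw [hn]; push_cast; field_simp, D.poly]
      show ((Curv2.euler K A.left (Tw L H x (c * N)) : ℤ) : ℚ) = _
      rw [h]
      push_cast
      ring
    · rw [Finset.card_image_of_injective _ Nat.cast_injective, Nat.card_Icc]
      omega
  have h1 := hp (b * N)
  rw [hpR, hR _ (Nat.mul_pos hb hN)] at h1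
  have h2 := hscale b c N hN
  have h3 : ((b * N : ℕ) : ℚ) ^ g * Φ.eval (((c * N : ℕ) : ℚ) / ((b * N : ℕ) : ℚ)) =
      (N : ℚ) ^ g * ((Curv2.euler K A.left (Tw L H b c) : ℤ) : ℚ) := by
    rw [h1, show ((Curv2.euler K A.left (CohB1.tensorMod (CohB1.tensorPow L (b * N)) (CohB1.tensorPow H (c * N))) : ℤ) : ℚ) =
      ((Curv2.euler K A.left (Tw L H (b * N) (c * N)) : ℤ) : ℚ) from rfl, h2]
    push_cast
    ring
  have hN' : (N : ℚ) ≠ 0 := by exact_mod_cast hN.ne'
  rw [Nat.cast_mul, Nat.cast_mul, mul_pow, mul_div_mul_right _ _ hN'] at h3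
  refine mul_left_cancel₀ (pow_ne_zero g hN') (h3.symm.trans ?_)
  ring

end Hilbert

end

end Groth.Agent.H52.HilbertIndex
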