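import Groth.Agent.H52.HilbertIndex

/-!
# Jumps of the index along `L^b ⊗ H^c`
-/

set_option autoImplicit false
set_option linter.style.haveILetI false
set_option linter.unusedSectionVars false
universe u

open CategoryTheory CategoryTheory.Limits MonoidalCategory CartesianMonoidalCategory MonObj AlgebraicGeometry
open Groth.Agent.H3
open Groth.Agent.H52.TwoTwistBound (Tw isInvertible_tw)
open Groth.Agent.H52.BaseToClosure (Conc conc_of_iso nondeg_of_conc)
open Groth.Agent.H52.HilbertIndex (Data)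
open Groth.Agent.Lib.TensorMod.Invertible (isInvertible_tensorPow isInvertible_tensorMod)
open Groth.Agent.Lib.TensorMod.Basic (comm tensorIso leftUnit rightUnit)

namespace Groth.Agent.H52.HilbertJump

noncomputable section

local instance (Y : Scheme.{u}) : PicGrp.Law Y := Groth.Agent.Lib.TensorMod.Invertible.law Y

variable {K : Type u} [Field K] [IsAlgClosed K]

local notation "S" => Spec (CommRingCat.of K)

variable {A : Over (Spec (CommRingCat.of K))} [GrpObj A] [IsProper A.hom] [GeometricallyIntegral A.hom]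
  [Smooth A.hom]

/-- The Hilbert polynomial at a real argument. -/
abbrev ev (Φ : Polynomial ℚ) (x : ℝ) : ℝ := (Φ.map (algebraMap ℚ ℝ)).eval x

theorem ev_cast (Φ : Polynomial ℚ) (q : ℚ) : ev Φ (q : ℝ) = ((Φ.eval q : ℚ) : ℝ) := by
  rw [ev, show ((q : ℚ) : ℝ) = algebraMap ℚ ℝ q from rfl, Polynomial.eval_map_apply]
  rfl

variable {g : ℕ} {L H : A.left.Modules} {Φ : Polynomial ℚ}

/-- The index near the real argument `x`. -/
def J (L H : A.left.Modules) (x : ℝ) (i : ℕ) : Prop :=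
  ∃ δ : ℝ, 0 < δ ∧ ∀ b c : ℕ, 0 < b → |(c : ℝ) / b - x| < δ → Conc (Tw L H b c) i

/-- Fine fractions exist near every non-negative real. -/
theorem exists_frac {x : ℝ} (hx : 0 ≤ x) {δ : ℝ} (hδ : 0 < δ) (n : ℕ) :
    ∃ b : ℕ, n ≤ b ∧ 0 < b ∧ ∀ c : ℕ, ⌈x * b⌉₊ ≤ c → c ≤ ⌈x * b⌉₊ + n →
      x ≤ (c : ℝ) / b ∧ (c : ℝ) / b < x + δ := by
  obtain ⟨b, hb⟩ := exists_nat_gt (((n : ℝ) + 1) / δ + n)
  have h0 : 0 ≤ ((n : ℝ) + 1) / δ := by positivity
  have hnb : (n : ℝ) < b := by linarith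
  have hb0 : (0 : ℝ) < b := lt_of_le_of_lt (Nat.cast_nonneg n) hnb
  refine ⟨b, by exact_mod_cast hnb.le, by exact_mod_cast hb0, fun c h1 h2 => ⟨?_, ?_⟩⟩
  · rw [le_div_iff₀ hb0]
    exact (Nat.le_ceil _).trans (by exact_mod_cast h1)
  · rw [div_lt_iff₀ hb0]
    have h3 : (c : ℝ) ≤ ⌈x * b⌉₊ + n := by exact_mod_cast h2
    have h4 := Nat.ceil_lt_add_one (mul_nonneg hx hb0.le)
    have h5 : ((n : ℝ) + 1) < δ * b := by
      have h6 : ((n : ℝ) + 1) / δ < b := by linarith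
      rw [div_lt_iff₀ hδ] at h6
      linarith
    linarith [add_mul x δ (b : ℝ)]

theorem conc_unique {Y : Scheme.{u}} {M : Y.Modules} {i i' : ℕ} (h : Conc M i) (h' : Conc M i') : i = i' := by
  by_contra hne
  haveI := h.1 i' (Ne.symm hne)
  haveI := h'.2
  exact false_of_nontrivial_of_subsingleton (Coh.HH Y M i')

variable (D : Data g L H Φ)

include D

/-- The value of the polynomial and the rank. -/
theorem rank_eq {b c i : ℕ} (hb : 0 < b) (h : Conc (Tw L H b c) i) :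
    (@Module.finrank K (Coh.HH A.left (Tw L H b c) i) _ _ (@Coh.moduleOver K _ A.left ⟨A.hom⟩ (Tw L H b c) i) : ℝ) =
      (b : ℝ) ^ g * |ev Φ ((c : ℝ) / b)| ∧ ev Φ ((c : ℝ) / b) ≠ 0 := by
  letI : A.left.Over S := ⟨A.hom⟩
  haveI : IsProper (A.left ↘ S) := ‹IsProper A.hom›
  haveI : IsLocallyNoetherian A.left := LocallyOfFiniteType.isLocallyNoetherian A.hom
  have hone : Curv2.euler K A.left (Tw L H b c) =
      (-1 : ℤ) ^ i * Module.finrank K (Coh.HH A.left (Tw L H b c) i) :=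
    finsum_eq_single _ i fun j hj => by
      haveI := h.1 j hj
      simp [Module.finrank_zero_of_subsingleton]
  have he := congrArg (fun q : ℚ => |(q : ℝ)|) (HilbertIndex.euler_tw D b c hb)
  simp only [hone, Int.cast_mul, Int.cast_pow, Int.cast_neg, Int.cast_one, Int.cast_natCast, Rat.cast_mul,
    Rat.cast_pow, Rat.cast_neg, Rat.cast_one, Rat.cast_natCast, abs_mul, abs_pow, abs_neg, abs_one,
    one_pow, _root_.one_mul, Nat.abs_cast] at he
  have e : (((c : ℚ) / b : ℚ) : ℝ) = (c : ℝ) / b := by push_cast; rfl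
  rw [← e, ev_cast]
  refine ⟨he, fun h0 => ?_⟩
  rw [h0, abs_zero, mul_zero] at he
  haveI := Groth.Agent.Lib.Snapper.Finite.cohFinite K A.left (Tw L H b c)
    (Groth.Agent.Lib.Ample.GG.isCoh_of_isInvertible (isInvertible_tw D.inv D.ample.1 b c)) i
  haveI := h.2
  have hpos : 0 < Module.finrank K (Coh.HH A.left (Tw L H b c) i) := Module.finrank_pos
  exact hpos.ne' (by exact_mod_cast he)

/-- Away from the roots the cohomology is concentrated. -/
theorem exists_conc {b c : ℕ} (hb : 0 < b) (h : ev Φ ((c : ℝ) / b) ≠ 0) :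
    ∃ i, i ≤ g ∧ Conc (Tw L H b c) i := by
  have hM := isInvertible_tw D.inv D.ample.1 b c
  obtain ⟨i, hi, hv, hne⟩ := IndexThm.exists_index g D.dim _ hM (by
    by_contra hnd
    have h0 := DegenEuler.euler_eq_zero _ hM hnd
    have h1 := HilbertIndex.euler_tw D b c hb
    rw [h0, Int.cast_zero, eq_comm, mul_eq_zero] at h1
    refine h ?_
    rw [show (c : ℝ) / b = (((c : ℚ) / b : ℚ) : ℝ) by push_cast; rfl, ev_cast,
      h1.resolve_left (pow_ne_zero _ (by exact_mod_cast hb.ne')), Rat.cast_zero])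
  exact ⟨i, hi, hv, hne⟩

/-- Scale invariance. -/
theorem conc_scale {b c i : ℕ} (hb : 0 < b) (h : Conc (Tw L H b c) i) {m : ℕ} (hm : 0 < m) :
    Conc (Tw L H (b * m) (c * m)) i := by
  have hM := isInvertible_tw D.inv D.ample.1 b c
  obtain ⟨e⟩ := HilbertIndex.tw_iso D b c m
  exact conc_of_iso e (PowIndex.pow_index _ hM (nondeg_of_conc _ hM i h) m hm i h.2)

/-- The index at a fraction. -/
theorem conc_of_J {b c i : ℕ} (hb : 0 < b) (h : J L H ((c : ℝ) / b) i) : Conc (Tw L H b c) i := by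
  obtain ⟨δ, hδ, hJ⟩ := h
  exact hJ b c hb (by simpa using hδ)

theorem J_unique {x : ℝ} (hx : 0 ≤ x) {i i' : ℕ} (h : J L H x i) (h' : J L H x i') : i = i' := by
  obtain ⟨δ, hδ, hJ⟩ := h
  obtain ⟨δ', hδ', hJ'⟩ := h'
  obtain ⟨b, -, hb, hc⟩ := exists_frac hx (lt_min hδ hδ') 0
  obtain ⟨h1, h2⟩ := hc ⌈x * b⌉₊ le_rfl le_rfl
  have habs : |((⌈x * b⌉₊ : ℕ) : ℝ) / b - x| < min δ δ' := by rw [abs_lt]; constructor <;> linarith
  exact conc_unique (hJ b _ hb (habs.trans_le (min_le_left _ _)))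
    (hJ' b _ hb (habs.trans_le (min_le_right _ _)))

/-- **The index is locally constant away from the roots.** -/
theorem exists_J {x : ℝ} (hx : 0 ≤ x) (h : ev Φ x ≠ 0) : ∃ i, i ≤ g ∧ J L H x i := by
  letI : A.left.Over S := ⟨A.hom⟩
  haveI : IsProper (A.left ↘ S) := ‹IsProper A.hom›
  haveI : IsIntegral A.left := GeometricallyIntegral.isIntegral_of_subsingleton A.hom
  obtain ⟨A₀, hA₀⟩ := H63.AVProjective.exists_isAmple A
  obtain ⟨e, u, κ, he, hu0, hA, hB, -, hbd, hzero⟩ :=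
    HilbertPoly.exists_sys K hA₀ D.inv D.ample D.dim
  let C : ℕ := ∑ j ∈ Finset.range (g + 1), (κ 1 j + κ 1 (j - 1))
  obtain ⟨δ₀, hδ₀, hball⟩ := Metric.continuousAt_iff.1
    ((Φ.map (algebraMap ℚ ℝ)).continuous.continuousAt (x := x)) (|ev Φ x| / 2) (by positivity)
  let T : ℝ := ((C : ℝ) * (x + 3) ^ (g - 1)) + 1
  have hT : 0 < T := by positivity
  let δ := min (min δ₀ 1) (|ev Φ x| / 2 / (2 * T))
  have hδ : 0 < δ := lt_min (lt_min hδ₀ one_pos) (by positivity)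
  have hlow : ∀ y : ℝ, |y - x| < δ → |ev Φ x| / 2 < |ev Φ y| := fun y hy => by
    have := hball (show dist y x < δ₀ from lt_of_lt_of_le hy ((min_le_left _ _).trans (min_le_left _ _)))
    rw [Real.dist_eq] at this
    change |ev Φ y - ev Φ x| < |ev Φ x| / 2 at this
    have h1 := abs_sub_abs_le_abs_sub (ev Φ x) (ev Φ y)
    rw [abs_sub_comm] at h1
    linarith
  have hlip : ∀ b a n j, j ≤ g → u b 0 j a ≤ u b 0 j (a + n * e 0) + n * (C * (b + (a + n * e 0) + 1) ^ (g - 1)) ∧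
      u b 0 j (a + n * e 0) ≤ u b 0 j a + n * (C * (b + (a + n * e 0) + 1) ^ (g - 1)) := fun b a n j hj => by
    have hCj : κ 1 j + κ 1 (j - 1) ≤ C :=
      Finset.single_le_sum (f := fun j => κ 1 j + κ 1 (j - 1)) (fun _ _ => Nat.zero_le _)
        (Finset.mem_range.2 (by omega))
    induction n with
    | zero => simp
    | succ n ih =>
      have hle : a + n * e 0 + e 0 = a + (n + 1) * e 0 := by ring
      have hmono : (b + (a + n * e 0) + 1) ^ (g - 1) ≤ (b + (a + (n + 1) * e 0) + 1) ^ (g - 1) :=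
        Nat.pow_le_pow_left (by rw [Nat.add_mul]; omega) _
      have b1 : u b 1 j (a + n * e 0) ≤ C * (b + (a + (n + 1) * e 0) + 1) ^ (g - 1) :=
        ((hbd 1 j b _).trans (Nat.mul_le_mul (by omega) hmono))
      have b2 : u b 1 (j - 1) (a + n * e 0) ≤ C * (b + (a + (n + 1) * e 0) + 1) ^ (g - 1) :=
        ((hbd 1 (j - 1) b _).trans (Nat.mul_le_mul (by omega) hmono))
      have i1 : n * (C * (b + (a + n * e 0) + 1) ^ (g - 1)) ≤ n * (C * (b + (a + (n + 1) * e 0) + 1) ^ (g - 1)) :=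
        Nat.mul_le_mul_left _ (Nat.mul_le_mul_left _ hmono)
      have a1 := hA b 0 j (a + n * e 0)
      have a2 := hB b 0 j (a + n * e 0)
      rw [hle] at a1 a2
      simp only [Nat.zero_add] at a1 a2
      rw [Nat.succ_mul n (C * _)]
      constructor <;> omega
  -- any two nearby fractions have the same index
  have hsame : ∀ b c b' c' i i' : ℕ, 0 < b → 0 < b' → |(c : ℝ) / b - x| < δ → |(c' : ℝ) / b' - x| < δ →
      (c : ℝ) / b ≤ (c' : ℝ) / b' → Conc (Tw L H b c) i → Conc (Tw L H b' c') i' → i ≤ g → i = i' := by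
    intro b c b' c' i i' hb hb' hy hy' hle hi hi' hig
    by_contra hne
    have hm : 0 < b' * e 0 := Nat.mul_pos hb' (he 0)
    have hm' : 0 < b * e 0 := Nat.mul_pos hb (he 0)
    have h1 := conc_scale D hb hi hm
    have h2 := conc_scale D hb' hi' hm'
    have hle' : c * b' ≤ c' * b := by
      rw [div_le_div_iff₀ (by exact_mod_cast hb) (by exact_mod_cast hb')] at hle
      exact_mod_cast hle
    obtain ⟨n, hn⟩ : ∃ n, c' * b = c * b' + n := ⟨c' * b - c * b', by omega⟩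
    let B := b * (b' * e 0)
    have hB0 : 0 < B := Nat.mul_pos hb hm
    have hb'e : b' * (b * e 0) = B := by simp only [B]; ring
    have hc'e : c' * (b * e 0) = c * (b' * e 0) + n * e 0 := by rw [← _root_.mul_assoc, hn]; ring
    rw [hb'e, hc'e] at h2
    have hz : u B 0 i (c * (b' * e 0) + n * e 0) = 0 := by
      rw [hu0]
      haveI := h2.1 i hne
      exact Module.finrank_zero_of_subsingleton
    have hr := (hlip B (c * (b' * e 0)) n i hig).1
    rw [hz, zero_add, hu0] at hr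
    have hrR : (B : ℝ) ^ g * |ev Φ (((c * (b' * e 0) : ℕ) : ℝ) / B)| ≤
        (n : ℝ) * ((C : ℝ) * ((B : ℝ) + ((c * (b' * e 0) + n * e 0 : ℕ) : ℝ) + 1) ^ (g - 1)) := by
      rw [← (rank_eq D hB0 h1).1]
      exact_mod_cast hr
    have hy1 : ((c * (b' * e 0) : ℕ) : ℝ) / B = (c : ℝ) / b := by
      simp only [B, Nat.cast_mul]
      rw [mul_div_mul_right]
      have : (0 : ℝ) < (b' : ℝ) * (e 0 : ℝ) := mul_pos (by exact_mod_cast hb') (by exact_mod_cast he 0)
      exact this.ne'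
    have hy2 : ((c * (b' * e 0) + n * e 0 : ℕ) : ℝ) / B = (c' : ℝ) / b' := by
      rw [← hc'e, ← hb'e, Nat.cast_mul, Nat.cast_mul (m := b')]
      rw [mul_div_mul_right]
      exact_mod_cast hm'.ne'
    rw [hy1] at hrR
    have hBpos : (0 : ℝ) < B := by exact_mod_cast hB0
    rw [div_eq_iff hBpos.ne'] at hy1 hy2
    have hn2 : (n : ℝ) ≤ 2 * δ * B := by
      have h5 : (n : ℝ) * e 0 = ((c' : ℝ) / b' - (c : ℝ) / b) * B := by
        rw [sub_mul, ← hy1, ← hy2]; push_cast; ring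
      have h6 : (n : ℝ) ≤ (n : ℝ) * e 0 := le_mul_of_one_le_right (Nat.cast_nonneg _) (by exact_mod_cast he 0)
      rw [abs_lt] at hy hy'
      exact h6.trans (h5.le.trans (mul_le_mul_of_nonneg_right (by linarith) hBpos.le))
    have hsum : (B : ℝ) + ((c * (b' * e 0) + n * e 0 : ℕ) : ℝ) + 1 ≤ (x + 3) * B := by
      rw [hy2]
      rw [abs_lt] at hy'
      have hB1 : (1 : ℝ) ≤ B := by exact_mod_cast hB0
      have hd1 : δ ≤ 1 := (min_le_left _ _).trans (min_le_right _ _)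
      have := mul_le_mul_of_nonneg_right (show (c' : ℝ) / b' ≤ x + 1 by linarith) hBpos.le
      linarith
    rcases Nat.eq_zero_or_pos g with rfl | hg
    · obtain rfl : i = 0 := by omega
      haveI : IsNoetherian A.left := Groth.Agent.Lib.Curves.GlobalSections.isNoetherian_of_proper K A.left
      haveI := Groth.Agent.S0458.result 0 D.dim.le (Coh.toAb (Tw L H b' c')) i' (Nat.pos_of_ne_zero (Ne.symm hne))
      haveI := hi'.2
      exact false_of_nontrivial_of_subsingleton (Coh.HH A.left (Tw L H b' c') i')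
    obtain ⟨g', rfl⟩ : ∃ g', g = g' + 1 := ⟨g - 1, by omega⟩
    simp only [Nat.add_sub_cancel] at hrR
    have h7 : (B : ℝ) ^ (g' + 1) * |ev Φ ((c : ℝ) / b)| ≤ (B : ℝ) ^ (g' + 1) * (2 * δ * ((C : ℝ) * (x + 3) ^ g')) := by
      refine hrR.trans ?_
      calc (n : ℝ) * ((C : ℝ) * ((B : ℝ) + ((c * (b' * e 0) + n * e 0 : ℕ) : ℝ) + 1) ^ g')
          ≤ (2 * δ * B) * ((C : ℝ) * ((x + 3) * B) ^ g') := by
            refine mul_le_mul hn2 (mul_le_mul_of_nonneg_left (pow_le_pow_left₀ (by positivity) hsum _) (Nat.cast_nonneg _)) (by positivity) (by positivity)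
        _ = _ := by rw [mul_pow, pow_succ]; ring
    have h8 := le_of_mul_le_mul_left h7 (pow_pos hBpos _)
    have h9 : 2 * δ * T ≤ |ev Φ x| / 2 := by
      have := min_le_right (min δ₀ 1) (|ev Φ x| / 2 / (2 * T))
      rw [le_div_iff₀ (by positivity)] at this
      change δ * (2 * T) ≤ _ at this
      linarith
    have h10 := hlow _ hy
    have h11 : 2 * δ * ((C : ℝ) * (x + 3) ^ g') ≤ 2 * δ * T :=
      mul_le_mul_of_nonneg_left (by simp only [T, Nat.add_sub_cancel]; linarith) (by positivity)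
    linarith
  obtain ⟨b₀, -, hb₀, hc₀⟩ := exists_frac hx hδ 0
  obtain ⟨h1, h2⟩ := hc₀ ⌈x * b₀⌉₊ le_rfl le_rfl
  have hy₀ : |((⌈x * b₀⌉₊ : ℕ) : ℝ) / b₀ - x| < δ := by rw [abs_lt]; constructor <;> linarith
  have hne₀ : ∀ y, |y - x| < δ → ev Φ y ≠ 0 := fun y hy h0 => by
    have := hlow y hy
    rw [h0, abs_zero] at this
    linarith [abs_nonneg (ev Φ x)]
  obtain ⟨i₀, hi₀g, hi₀⟩ := exists_conc D hb₀ (hne₀ _ hy₀)
  refine ⟨i₀, hi₀g, δ, hδ, fun b c hb hy => ?_⟩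
  obtain ⟨i, hig, hi⟩ := exists_conc D hb (hne₀ _ hy)
  rcases le_total ((⌈x * b₀⌉₊ : ℕ) / (b₀ : ℝ)) ((c : ℝ) / b) with h | h
  · rwa [hsame _ _ _ _ _ _ hb₀ hb hy₀ hy h hi₀ hi hi₀g]
  · rwa [← hsame _ _ _ _ _ _ hb hb₀ hy hy₀ h hi hi₀ hig]

/-- No roots, no jumps. -/
theorem J_interval {s t : ℝ} (hs : 0 ≤ s) (hst : s ≤ t) (h : ∀ y, s ≤ y → y ≤ t → ev Φ y ≠ 0) {i : ℕ}
    (hi : J L H s i) : J L H t i := by
  haveI : PreconnectedSpace (Set.Icc s t) := isPreconnected_iff_preconnectedSpace.1 isPreconnected_Icc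
  let G : Set (Set.Icc s t) := {y | J L H y.1 i}
  have hball : ∀ (y : Set.Icc s t) (j : ℕ), J L H y.1 j →
      ∃ ε > 0, ∀ z : Set.Icc s t, dist z y < ε → J L H z.1 j := fun y j ⟨δ, hδ, hJ⟩ =>
    ⟨δ / 2, half_pos hδ, fun z hz => ⟨δ / 2, half_pos hδ, fun b c hb hc => hJ b c hb (by
      rw [Subtype.dist_eq, Real.dist_eq] at hz
      exact (abs_sub_le _ z.1 _).trans_lt (by linarith))⟩⟩
  have hG : IsClopen G := by
    refine ⟨⟨Metric.isOpen_iff.2 fun y hy => ?_⟩, Metric.isOpen_iff.2 fun y hy => ?_⟩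
    · obtain ⟨j, -, hj⟩ := exists_J D (hs.trans y.2.1) (h _ y.2.1 y.2.2)
      obtain ⟨ε, hε, hball'⟩ := hball y j hj
      refine ⟨ε, hε, fun z hz hzG => hy ?_⟩
      show J L H y.1 i
      rw [show i = j from J_unique D (hs.trans z.2.1) hzG (hball' z hz)]
      exact hj
    · obtain ⟨ε, hε, hball'⟩ := hball y i hy
      exact ⟨ε, hε, hball'⟩
  have := hG.eq_univ ⟨⟨s, le_rfl, hst⟩, hi⟩
  exact this.ge (Set.mem_univ (⟨t, hst, le_rfl⟩ : Set.Icc s t))

/-- The index does not increase. -/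
theorem J_anti {s t : ℝ} (hs : 0 ≤ s) (hst : s < t) {i i' : ℕ} (hi : J L H s i) (hi' : J L H t i') :
    i' ≤ i := by
  letI : A.left.Over S := ⟨A.hom⟩
  haveI : IsProper (A.left ↘ S) := ‹IsProper A.hom›
  obtain ⟨A₀, hA₀⟩ := H63.AVProjective.exists_isAmple A
  obtain ⟨e, u, -, he, hu0, hA, -, hC, -, hzero⟩ := HilbertPoly.exists_sys K hA₀ D.inv D.ample D.dim
  obtain ⟨δ, hδ, hJ⟩ := hi
  obtain ⟨δ', hδ', hJ'⟩ := hi'
  obtain ⟨b, -, hb, hc⟩ := exists_frac hs (lt_min (lt_min hδ hδ') (sub_pos.2 hst))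
    (∑ q ∈ Finset.range (g + 1), e q)
  have hup := HilbertPoly.up (v := u b) he (hA b) (hC b) (hzero b) (i := i) (c₀ := ⌈s * b⌉₊) fun c h1 h2 j hj => by
    obtain ⟨g1, g2⟩ := hc c h1 h2
    haveI := (hJ b c hb (by
      have := (min_le_left (min δ δ') (t - s)).trans (min_le_left _ _)
      rw [abs_lt]; constructor <;> linarith)).1 j hj.ne'
    rw [hu0]
    exact Module.finrank_zero_of_subsingleton
  have hbR : (0 : ℝ) < b := by exact_mod_cast hb
  obtain ⟨g1, g2⟩ := hc ⌈s * b⌉₊ le_rfl (Nat.le_add_right _ _)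
  have hct : ⌈s * b⌉₊ ≤ ⌈t * b⌉₊ := Nat.ceil_mono (mul_le_mul_of_nonneg_right hst.le hbR.le)
  have hcc : Conc (Tw L H b ⌈t * b⌉₊) i' := hJ' b _ hb (by
    rw [abs_lt, lt_sub_iff_add_lt, sub_lt_iff_lt_add, lt_div_iff₀ hbR, div_lt_iff₀ hbR]
    have h1 := Nat.le_ceil (t * b)
    have h2 := Nat.ceil_lt_add_one (mul_nonneg (hs.trans hst.le) hbR.le)
    have h3 : 1 ≤ min (min δ δ') (t - s) * b := by
      obtain ⟨k1, k2⟩ := hc (⌈s * b⌉₊ + 1) (Nat.le_add_right _ _) (by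
        have : 0 < ∑ q ∈ Finset.range (g + 1), e q := Finset.sum_pos (fun q _ => he q) ⟨0, by simp⟩
        omega)
      rw [div_lt_iff₀ hbR] at k2
      push_cast at k2
      have := Nat.le_ceil (s * b)
      linarith
    have h4 : min (min δ δ') (t - s) * b ≤ δ' * b :=
      mul_le_mul_of_nonneg_right ((min_le_left _ _).trans (min_le_right _ _)) hbR.le
    constructor <;> linarith)
  by_contra hlt
  rw [not_le] at hlt
  haveI := Groth.Agent.Lib.Snapper.Finite.cohFinite K A.left (Tw L H b ⌈t * b⌉₊)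
    (haveI : IsLocallyNoetherian A.left := LocallyOfFiniteType.isLocallyNoetherian A.hom
     Groth.Agent.Lib.Ample.GG.isCoh_of_isInvertible (isInvertible_tw D.inv D.ample.1 b _)) i'
  haveI := hcc.2
  exact (Module.finrank_pos (R := K) (M := Coh.HH A.left (Tw L H b ⌈t * b⌉₊) i')).ne'
    ((hu0 b i' _).symm.trans (hup _ hct i' hlt))

/-- **The jump at a root is bounded by its multiplicity.** -/
theorem jump_le {τ eta : ℝ} (heta : 0 < eta) (hτ : eta ≤ τ) {i i' : ℕ}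
    (hl : ∀ s, τ - eta ≤ s → s < τ → J L H s i) (hr : ∀ t, τ < t → t ≤ τ + eta → J L H t i')
    (hΦ : Φ ≠ 0) : i ≤ i' + (Φ.map (algebraMap ℚ ℝ)).rootMultiplicity τ := by
  letI : A.left.Over S := ⟨A.hom⟩
  haveI : IsProper (A.left ↘ S) := ‹IsProper A.hom›
  haveI : IsIntegral A.left := GeometricallyIntegral.isIntegral_of_subsingleton A.hom
  haveI : IsNoetherian A.left := Groth.Agent.Lib.Curves.GlobalSections.isNoetherian_of_proper K A.left
  obtain ⟨A₀, hA₀⟩ := H63.AVProjective.exists_isAmple A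
  obtain ⟨e, u, κ, he, hu0, -, hB, hC, hbd, hzero⟩ := HilbertPoly.exists_sys K hA₀ D.inv D.ample D.dim
  let P := Φ.map (algebraMap ℚ ℝ)
  have hP : P ≠ 0 := (Polynomial.map_ne_zero_iff (algebraMap ℚ ℝ).injective).2 hΦ
  obtain ⟨ψ, hψ, hψτ⟩ := P.exists_eq_pow_rootMultiplicity_mul_and_not_dvd hP τ
  rw [Polynomial.dvd_iff_isRoot] at hψτ
  let mu := P.rootMultiplicity τ
  by_contra hlt
  rw [not_le] at hlt
  obtain ⟨p, hp⟩ : ∃ p, i = i' + p := ⟨i - i', by omega⟩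
  have hmup : mu < p := by change i' + mu < i at hlt; omega
  have hig : i ≤ g := by
    obtain ⟨b, -, hb, hc⟩ := exists_frac (x := τ - eta) (by linarith) heta 0
    obtain ⟨g1, g2⟩ := hc _ le_rfl le_rfl
    have hcc := conc_of_J D hb (hl _ g1 (by linarith))
    by_contra hgi
    haveI := Groth.Agent.S0458.result g D.dim.le
      (Coh.toAb (Tw L H b ⌈(τ - eta) * b⌉₊)) i (by omega)
    haveI := hcc.2
    exact false_of_nontrivial_of_subsingleton (Coh.HH A.left (Tw L H b ⌈(τ - eta) * b⌉₊) i)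
  obtain ⟨δ₀, hδ₀, hball⟩ := Metric.continuousAt_iff.1 (ψ.continuous.continuousAt (x := τ))
    (|ψ.eval τ| / 2) (by have := abs_pos.2 hψτ; linarith)
  let c₀ := |ψ.eval τ| / 2
  have hc₀ : 0 < c₀ := by have := abs_pos.2 hψτ; simp only [c₀]; linarith
  let C : ℝ := (κ p i' : ℝ) * (τ + eta + 3) ^ (g - p)
  have hC0 : 0 ≤ C := mul_nonneg (Nat.cast_nonneg _) (pow_nonneg (by linarith) _)
  let T : ℝ := (4 : ℝ) ^ p * C * 2 ^ mu / c₀ + 1
  have hT : 0 < T := by positivity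
  let h : ℝ := min (min (eta / 2) 1) (min (δ₀ / 2) (1 / T))
  have hh : 0 < h := lt_min (lt_min (half_pos heta) one_pos) (lt_min (half_pos hδ₀) (one_div_pos.2 hT))
  have hh1 : h ≤ eta / 2 := (min_le_left _ _).trans (min_le_left _ _)
  have hh2 : h ≤ 1 := (min_le_left _ _).trans (min_le_right _ _)
  have hh3 : h ≤ δ₀ / 2 := (min_le_right _ _).trans (min_le_left _ _)
  have hh4 : h ≤ 1 / T := (min_le_right _ _).trans (min_le_right _ _)
  obtain ⟨δt, hδt, hJt⟩ := hr (τ + h) (by linarith) (by linarith)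
  obtain ⟨b₁, hb₁⟩ := exists_nat_gt (((∑ q ∈ Finset.range (g + 1), e q : ℕ) + 1 : ℝ) / δt + 2 / h + 1)
  have q1 : 0 ≤ ((∑ q ∈ Finset.range (g + 1), e q : ℕ) + 1 : ℝ) / δt := by positivity
  have q2 : 0 ≤ 2 / h := by positivity
  have hbR : (1 : ℝ) ≤ b₁ := by linarith
  have hb : 0 < b₁ := by exact_mod_cast (show (0 : ℝ) < b₁ by linarith)
  have hb0 : (0 : ℝ) < b₁ := by linarith
  have hbW : ((∑ q ∈ Finset.range (g + 1), e q : ℕ) + 1 : ℝ) < δt * b₁ := by
    have : ((∑ q ∈ Finset.range (g + 1), e q : ℕ) + 1 : ℝ) / δt < b₁ := by linarith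
    rw [div_lt_iff₀ hδt] at this; linarith
  have hbh : 2 < h * b₁ := by
    have : 2 / h < b₁ := by linarith
    rw [div_lt_iff₀ hh] at this; linarith
  let R := ⌈(τ + h) * b₁⌉₊
  let c := ⌈(τ - h) * b₁⌉₊
  have hR1 := Nat.le_ceil ((τ + h) * b₁)
  have hR2 := Nat.ceil_lt_add_one (a := (τ + h) * b₁) (mul_nonneg (by linarith) hb0.le)
  have hc1 := Nat.le_ceil ((τ - h) * b₁)
  have hc2 := Nat.ceil_lt_add_one (a := (τ - h) * b₁) (mul_nonneg (by linarith) hb0.le)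
  have hcR : c ≤ R := Nat.ceil_mono (mul_le_mul_of_nonneg_right (by linarith) hb0.le)
  have hy1 : τ - h ≤ (c : ℝ) / b₁ := by rw [le_div_iff₀ hb0]; exact hc1
  have hy2 : (c : ℝ) / b₁ ≤ τ - h / 2 := by
    rw [div_le_iff₀ hb0]
    calc (c : ℝ) ≤ (τ - h) * b₁ + 1 := hc2.le
      _ ≤ _ := by linarith [sub_mul τ h (b₁ : ℝ), sub_mul τ (h / 2) (b₁ : ℝ), div_mul_eq_mul_div h 2 (b₁ : ℝ)]
  have hconc : Conc (Tw L H b₁ c) i := conc_of_J D hb (hl _ (by linarith) (by linarith))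
  have hwin : ∀ x, R ≤ x → x ≤ R + ∑ q ∈ Finset.range (g + 1), e q → ∀ j, i' < j → u b₁ 0 j x = 0 := by
    intro x hx1 hx2 j hj
    rw [hu0]
    haveI := (hJt b₁ x hb (by
      have k1 : (R : ℝ) ≤ x := by exact_mod_cast hx1
      have k2 : (x : ℝ) ≤ R + (∑ q ∈ Finset.range (g + 1), e q : ℕ) := by exact_mod_cast hx2
      rw [abs_lt, lt_sub_iff_add_lt, sub_lt_iff_lt_add, lt_div_iff₀ hb0, div_lt_iff₀ hb0]
      constructor <;> linarith)).1 j hj.ne'
    exact Module.finrank_zero_of_subsingleton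
  have hdown := HilbertPoly.down (v := u b₁) he (hB b₁) (hC b₁) (g := g) (i := i') (R := R) (p := p) (by omega) hwin
    (B := κ p i' * (b₁ + R + 1) ^ (g - p))
    (fun x hx => (hbd p i' b₁ x).trans (Nat.mul_le_mul_left _ (Nat.pow_le_pow_left (by omega) _))) c hcR
  rw [← hp, hu0] at hdown
  obtain ⟨hrk, -⟩ := rank_eq D hb hconc
  have hpg : p ≤ g := by omega
  have h1 : (b₁ : ℝ) ^ g * |ev Φ ((c : ℝ) / b₁)| ≤
      ((R + 1 - c : ℕ) : ℝ) ^ p * ((κ p i' : ℝ) * ((b₁ : ℝ) + R + 1) ^ (g - p)) := by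
    rw [← hrk]; exact_mod_cast hdown
  have h2 : ((R + 1 - c : ℕ) : ℝ) ≤ 4 * h * b₁ := by
    rw [Nat.cast_sub (by omega)]
    push_cast
    linarith
  have h3 : (b₁ : ℝ) + R + 1 ≤ (τ + eta + 3) * b₁ := by
    have := mul_le_mul_of_nonneg_right (show τ + h ≤ τ + eta by linarith) hb0.le
    linarith
  have h4 : (b₁ : ℝ) ^ g * |ev Φ ((c : ℝ) / b₁)| ≤ (b₁ : ℝ) ^ g * ((4 * h) ^ p * C) := by
    refine h1.trans ((mul_le_mul (pow_le_pow_left₀ (Nat.cast_nonneg _) h2 p) (mul_le_mul_of_nonneg_left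
      (pow_le_pow_left₀ (by positivity) h3 _) (Nat.cast_nonneg _)) (by positivity) (by positivity)).trans (le_of_eq ?_))
    rw [mul_pow, mul_pow ((τ + eta + 3)), show (b₁ : ℝ) ^ g = (b₁ : ℝ) ^ p * (b₁ : ℝ) ^ (g - p) by
      rw [← pow_add, Nat.add_sub_cancel' hpg]]
    ring
  have h5 := le_of_mul_le_mul_left h4 (pow_pos hb0 g)
  have h6 : (h / 2) ^ mu * c₀ ≤ |ev Φ ((c : ℝ) / b₁)| := by
    have hev : ev Φ ((c : ℝ) / b₁) = ((c : ℝ) / b₁ - τ) ^ mu * ψ.eval ((c : ℝ) / b₁) := by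
      show P.eval _ = _
      conv_lhs => rw [hψ]
      simp [mu]
    rw [hev, abs_mul, abs_pow]
    refine mul_le_mul (pow_le_pow_left₀ (by positivity) (by rw [abs_of_nonpos (by linarith)]; linarith) _) ?_
      hc₀.le (by positivity)
    have := hball (show dist ((c : ℝ) / b₁) τ < δ₀ by rw [Real.dist_eq, abs_lt]; constructor <;> linarith)
    rw [Real.dist_eq] at this
    have k := abs_sub_abs_le_abs_sub (ψ.eval τ) (ψ.eval ((c : ℝ) / b₁))
    rw [abs_sub_comm] at k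
    change |ψ.eval τ| / 2 ≤ _
    linarith
  have h7 : h ^ mu * c₀ ≤ h ^ mu * ((4 : ℝ) ^ p * C * 2 ^ mu * h) := by
    have hpow : h ^ p ≤ h ^ (mu + 1) := pow_le_pow_of_le_one hh.le hh2 hmup
    calc h ^ mu * c₀ = 2 ^ mu * ((h / 2) ^ mu * c₀) := by rw [div_pow]; field_simp
      _ ≤ 2 ^ mu * ((4 * h) ^ p * C) := mul_le_mul_of_nonneg_left (h6.trans h5) (by positivity)
      _ = (4 : ℝ) ^ p * C * 2 ^ mu * h ^ p := by rw [mul_pow]; ring
      _ ≤ (4 : ℝ) ^ p * C * 2 ^ mu * h ^ (mu + 1) := mul_le_mul_of_nonneg_left hpow (by positivity)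
      _ = _ := by rw [pow_succ]; ring
  have h8 := le_of_mul_le_mul_left h7 (pow_pos hh mu)
  have h9 : h * T ≤ 1 := by rwa [← le_div_iff₀ hT]
  have h10 : h * T = h * ((4 : ℝ) ^ p * C * 2 ^ mu / c₀) + h := by simp only [T]; ring
  have h11 : 1 ≤ h * ((4 : ℝ) ^ p * C * 2 ^ mu / c₀) := by
    rw [← mul_div_assoc, le_div_iff₀ hc₀]; linarith
  linarith

end

end Groth.Agent.H52.HilbertJump
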