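import Groth.Agent.H52.TwoTwistBound
import Groth.Agent.H52.EulerHomogeneous

/-!
# The Hilbert polynomial of a twist on an abelian variety, and the cohomology of hyperplane chains
-/

set_option autoImplicit false
set_option linter.style.haveILetI false
universe u

open CategoryTheory CategoryTheory.Limits MonoidalCategory CartesianMonoidalCategory AlgebraicGeometry
open Groth.Agent.Lib Groth.Agent.Lib.Snapper Groth.Agent.Lib.PosLin.CohBound
open Groth.Agent.Lib.TensorMod.Basic (comm assoc tensorIso leftUnit rightUnit)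
open Groth.Agent.Lib.TensorMod.Invertible (isInvertible_tensorPow isInvertible_tensorMod)
open Groth.Agent.H52.TwoTwistBound

namespace Groth.Agent.H52.HilbertPoly

noncomputable section

section Gen

variable (k : Type u) [Field k] {X : Scheme.{u}} [X.Over (Spec (CommRingCat.of k))]
  [IsProper (X ↘ Spec (CommRingCat.of k))]

/-- `χ(L^m ⊗ G)` is a polynomial of degree at most the dimension. -/
theorem exists_poly_twist {d : ℕ} (hX : topologicalKrullDim X = d) {L G : X.Modules}
    (hL : PicF.IsInvertible L) (hG : Coh.IsCoh G) :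
    ∃ p : Polynomial ℚ, p.natDegree ≤ d ∧ ∀ m : ℕ,
      p.eval (m : ℚ) = (Curv2.euler k X (CohB1.tensorMod (CohB1.tensorPow L m) G) : ℚ) := by
  haveI := Curves.GlobalSections.isNoetherian_of_proper k X
  let s : ℕ → ℤ := fun i => (-1 : ℤ) ^ i * Snapper.Vanish.sym k X d (List.replicate i L) G
  refine ⟨∑ i ∈ Finset.range (d + 1), Polynomial.C ((s i : ℚ) / (i.factorial : ℚ)) * descPochhammer ℚ i,
    ?_, fun m => ?_⟩
  · refine Polynomial.natDegree_sum_le_of_forall_le _ _ fun i hi => (Polynomial.natDegree_C_mul_le _ _).trans ?_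
    rw [descPochhammer_natDegree]
    exact Nat.le_of_lt_succ (Finset.mem_range.1 hi)
  · have h0 : ∀ i, d < i → Snapper.Vanish.sym k X d (List.replicate i L) G = 0 := fun i hi =>
      Snapper.Vanish.sym_eq_zero (Finite.cohFinite k X) hX.le _
        (fun N hN => List.eq_of_mem_replicate hN ▸ hL) _ hG (by
          refine (Topology.IsInducing.subtypeVal.topologicalKrullDim_le).trans_lt ?_
          rw [hX, List.length_replicate]; exact_mod_cast hi)
    have hexp : Curv2.euler k X (CohB1.tensorMod (CohB1.tensorPow L m) G) =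
        ∑ i ∈ Finset.range (d + 1), (m.choose i : ℤ) * s i := by
      rw [Chi.euler_eq_eulerCharLE hX.le]
      change Snapper.Vanish.sym k X d [] _ = _
      rw [Poly.sym_pow_expansion]
      simp only [List.append_nil, s]
      rw [← Finset.sum_congr rfl fun i _ => show (-1 : ℤ) ^ i * (m.choose i : ℤ) *
          Snapper.Vanish.sym k X d (List.replicate i L) G = (m.choose i : ℤ) * ((-1 : ℤ) ^ i *
            Snapper.Vanish.sym k X d (List.replicate i L) G) by ring]
      rcases le_total m d with h | h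
      · refine Finset.sum_subset (Finset.range_mono (by omega)) fun i _ hi => ?_
        rw [Finset.mem_range] at hi
        simp [Nat.choose_eq_zero_of_lt (show m < i by omega)]
      · refine (Finset.sum_subset (Finset.range_mono (by omega)) fun i _ hi => ?_).symm
        rw [Finset.mem_range] at hi
        simp [h0 i (by omega)]
    rw [hexp, Int.cast_sum, Polynomial.eval_finsetSum]
    refine Finset.sum_congr rfl fun i _ => ?_
    rw [Polynomial.eval_mul, Polynomial.eval_C, descPochhammer_eval_eq_descFactorial,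
      Nat.descFactorial_eq_factorial_mul_choose]
    have : (i.factorial : ℚ) ≠ 0 := by exact_mod_cast i.factorial_ne_zero
    push_cast
    field_simp

/-- The chain inequalities and bounds. -/
theorem exists_sys {A L H : X.Modules} (hA : CohB1.IsAmple A) (hL : PicF.IsInvertible L)
    (hH : CohB1.IsAmple H) {d : ℕ} (hXd : topologicalKrullDim X = d) :
    ∃ (e : ℕ → ℕ) (u : ℕ → ℕ → ℕ → ℕ → ℕ) (K : ℕ → ℕ → ℕ),
      (∀ l, 0 < e l) ∧
      (∀ b j c, u b 0 j c = Module.finrank k (Coh.HH X (Tw L H b c) j)) ∧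
      (∀ b l j c, u b l j (c + e l) ≤ u b l j c + u b (l + 1) j c) ∧
      (∀ b l j c, u b l j c ≤ u b l j (c + e l) + u b (l + 1) (j - 1) c) ∧
      (∀ b l j c, u b (l + 1) j c ≤ u b l j (c + e l) + u b l (j + 1) c) ∧
      (∀ l j b c, u b l j c ≤ K l j * (b + c + 1) ^ (d - l)) ∧
      (∀ b l j c, d < l → u b l j c = 0) := by
  haveI := Curves.GlobalSections.isNoetherian_of_proper k X
  obtain ⟨e, Q, he, ⟨i₀⟩, hQ, hsmall, hseq⟩ := exists_chain (k := k) hH hXd
  have hbd : ∀ l j, ∃ K : ℕ, (d + 1 - l = 0 → K = 0) ∧ ∀ a c : ℕ,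
      hd k X (CohB1.tensorMod (Tw L H a c) (Q l)) j ≤ K * (a + c + 1) ^ (d + 1 - l - 1) :=
    fun l j => exists_bound₂ hA hL hH.1 _ (Q l) (hQ l) (hsmall l) j
  choose K hK0 hK using hbd
  refine ⟨e, fun b l j c => hd k X (CohB1.tensorMod (Tw L H b c) (Q l)) j, K, he, fun b j c =>
    hd_congr (k := k) (tensorIso (Iso.refl _) i₀ ≪≫ rightUnit _) j, ?_, ?_, ?_,
    fun l j b c => (hK l j b c).trans (le_of_eq (by rw [show d + 1 - l - 1 = d - l by omega])),
    fun b l j c hl => by simpa [hK0 l j (by omega)] using hK l j b c⟩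
  all_goals intro b l j c
  all_goals obtain ⟨φ, π, w, hS⟩ := hseq l
  all_goals have hM := isInvertible_tw hL hH.1 b c
  all_goals have hc₂ := PosLin.SectionBound.isCoh_twist_right (hQ l) (isInvertible_tensorPow hH.1 (e l))
  all_goals have eq₂ := hd_congr (k := k) (tensorIso (Iso.refl (Tw L H b c)) (comm (Q l) (CohB1.tensorPow H (e l))) ≪≫
    (assoc _ _ _).symm ≪≫ tensorIso (assoc _ _ _ ≪≫
      tensorIso (Iso.refl _) (Ample.Pow.powAdd H c (e l)).symm) (Iso.refl (Q l)))
  all_goals have hS' := Twist.twistSeq_shortExact hM hS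
  · exact (eq₂ j).ge.trans (hd_mid_le (k := k) hS' (Twist.isCoh_twist hM (hQ l))
      (Twist.isCoh_twist hM hc₂) (Twist.isCoh_twist hM (hQ (l + 1))) j)
  · exact (hd_left_le (k := k) hS' (Twist.isCoh_twist hM (hQ l))
      (Twist.isCoh_twist hM hc₂) (Twist.isCoh_twist hM (hQ (l + 1))) j).trans
      (Nat.add_le_add_right (eq₂ j).le _)
  · exact (hd_right_le (k := k) hS' (Twist.isCoh_twist hM (hQ l))
      (Twist.isCoh_twist hM hc₂) (Twist.isCoh_twist hM (hQ (l + 1))) j).trans
      (Nat.add_le_add_right (eq₂ j).le _)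

end Gen

section Comb

variable {v : ℕ → ℕ → ℕ → ℕ} {e : ℕ → ℕ}

/-- Vanishing above a degree propagates down the chain. -/
theorem window (hC : ∀ l j c, v (l + 1) j c ≤ v l j (c + e l) + v l (j + 1) c) {i c₀ c₁ : ℕ}
    (h : ∀ c, c₀ ≤ c → c ≤ c₁ → ∀ j, i < j → v 0 j c = 0) :
    ∀ l j c, i < j → c₀ ≤ c → c + ∑ q ∈ Finset.range l, e q ≤ c₁ → v l j c = 0 := by
  intro l
  induction l with
  | zero => exact fun j c hj h0 h1 => h c h0 (by simpa using h1) j hj
  | succ l ih =>
    intro j c hj h0 h1
    rw [Finset.sum_range_succ] at h1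
    have a1 := ih j (c + e l) hj (by omega) (by omega)
    have a2 := ih (j + 1) c (by omega) h0 (by omega)
    have := hC l j c
    omega

/-- Vanishing above a degree on a window persists to the right. -/
theorem up (he : ∀ l, 0 < e l) (hA : ∀ l j c, v l j (c + e l) ≤ v l j c + v (l + 1) j c)
    (hC : ∀ l j c, v (l + 1) j c ≤ v l j (c + e l) + v l (j + 1) c) {g : ℕ}
    (hZ : ∀ l j c, g < l → v l j c = 0) {i c₀ : ℕ}
    (h : ∀ c, c₀ ≤ c → c ≤ c₀ + ∑ q ∈ Finset.range (g + 1), e q → ∀ j, i < j → v 0 j c = 0) :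
    ∀ c, c₀ ≤ c → ∀ j, i < j → v 0 j c = 0 := by
  suffices ∀ n l, l + n = g + 1 → ∀ c, c₀ ≤ c → ∀ j, i < j → v l j c = 0 from this (g + 1) 0 (by omega)
  intro n
  induction n with
  | zero => exact fun l hl c _ j _ => hZ l j c (by omega)
  | succ n ih =>
    intro l hl c
    induction c using Nat.strong_induction_on with
    | _ c ihc =>
      intro hc j hj
      by_cases hw : c + ∑ q ∈ Finset.range l, e q ≤ c₀ + ∑ q ∈ Finset.range (g + 1), e q
      · exact window hC h l j c hj hc hw
      · have hle : ∑ q ∈ Finset.range (l + 1), e q ≤ ∑ q ∈ Finset.range (g + 1), e q :=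
          Finset.sum_le_sum_of_subset (Finset.range_mono (by omega))
        rw [Finset.sum_range_succ] at hle
        obtain ⟨c', rfl⟩ : ∃ c', c = c' + e l := ⟨c - e l, by omega⟩
        have a1 := ihc c' (by have := he l; omega) (by omega) j hj
        have a2 := ih (l + 1) (by omega) c' (by omega) j hj
        have := hA l j c'
        omega

/-- The jump bound. -/
theorem down (he : ∀ l, 0 < e l) (hB : ∀ l j c, v l j c ≤ v l j (c + e l) + v (l + 1) (j - 1) c)
    (hC : ∀ l j c, v (l + 1) j c ≤ v l j (c + e l) + v l (j + 1) c) {g i R p : ℕ} (hp : p ≤ g + 1)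
    (h : ∀ c, R ≤ c → c ≤ R + ∑ q ∈ Finset.range (g + 1), e q → ∀ j, i < j → v 0 j c = 0)
    {B : ℕ} (hb : ∀ c, c ≤ R → v p i c ≤ B) :
    ∀ c, c ≤ R → v 0 (i + p) c ≤ (R + 1 - c) ^ p * B := by
  suffices ∀ q l, l + q = p → ∀ c, c ≤ R → v l (i + q) c ≤ (R + 1 - c) ^ q * B from this p 0 (by omega)
  intro q
  induction q with
  | zero =>
    intro l hl c hc
    obtain rfl : l = p := by omega
    simpa using hb c hc
  | succ q ih =>
    intro l hl c hc
    induction hn : R - c using Nat.strong_induction_on generalizing c with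
    | _ n ihn =>
      obtain ⟨y, hy⟩ : ∃ y, R + 1 - c = y + 1 := ⟨R - c, by omega⟩
      have hnext : v l (i + (q + 1)) (c + e l) ≤ y * (y + 1) ^ q * B := by
        by_cases hR : c + e l ≤ R
        · refine (ihn (R - (c + e l)) (by have := he l; omega) (c + e l) hR rfl).trans ?_
          rw [pow_succ']
          exact Nat.mul_le_mul_right _ (Nat.mul_le_mul (by have := he l; omega)
            (Nat.pow_le_pow_left (by omega) _))
        · rw [window hC h l (i + (q + 1)) (c + e l) (by omega) (by omega) (by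
            have : ∑ z ∈ Finset.range (l + 1), e z ≤ ∑ z ∈ Finset.range (g + 1), e z :=
              Finset.sum_le_sum_of_subset (Finset.range_mono (by omega))
            rw [Finset.sum_range_succ] at this
            omega)]
          exact Nat.zero_le _
      refine (hB l (i + (q + 1)) c).trans ?_
      have h2 := ih (l + 1) (by omega) c hc
      rw [hy] at h2
      rw [show i + (q + 1) - 1 = i + q by omega, hy, pow_succ']
      calc _ ≤ y * (y + 1) ^ q * B + (y + 1) ^ q * B := Nat.add_le_add hnext h2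
        _ = _ := by ring

end Comb

end

end Groth.Agent.H52.HilbertPoly
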