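import Groth.Agent.Lib.FreeMod.Basic
import Groth.Agent.Lib.SiteKFlat.Exact
import Groth.Prelude.Def_ExtSupp
import Groth.Agent.H30.DerivedSES

/-!
# The internal hom into an injective module is exact in the first variable
-/

set_option autoImplicit false
set_option linter.style.haveILetI false
universe u

open CategoryTheory Limits Opposite

namespace Groth.Agent.H52.HomInj

open Groth.Agent.Lib.FreeMod Groth.Agent.Lib.ModTensor.ModSite

variable {C : Type u} [SmallCategory C] {J : GrothendieckTopology C} {O : Sheaf J CommRingCat.{u}}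

lemma homEquiv_symm_comp {M M' : _root_.ModSite.Mod O} [_root_.ModSite.HasSheafHom M]
    [_root_.ModSite.HasSheafHom M'] (g : M' ⟶ M) {A I : _root_.ModSite.Mod O}
    (y : A ⟶ (_root_.ModSite.sheafHom M).obj I) :
    ((_root_.ModSite.sheafHomAdj M').homEquiv A I).symm (y ≫ (_root_.ExtSupp.sheafHomMap g).app I) =
      ((_root_.ModSite.tensorBi O).obj A).map g ≫
        ((_root_.ModSite.sheafHomAdj M).homEquiv A I).symm y := by
  rw [Adjunction.homEquiv_counit, Adjunction.homEquiv_counit, Functor.map_comp, Category.assoc,
    conjugateEquiv_counit]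
  exact (Category.assoc _ _ _).symm.trans
    ((congrArg (· ≫ _) (((_root_.ModSite.tensorBi O).flip.map g).naturality y)).trans
      (Category.assoc _ _ _))

variable (S : ShortComplex (_root_.ModSite.Mod O)) [_root_.ModSite.HasSheafHom S.X₁]
  [_root_.ModSite.HasSheafHom S.X₂] [_root_.ModSite.HasSheafHom S.X₃]

lemma map_comp_eq_zero (I : _root_.ModSite.Mod O) :
    (_root_.ExtSupp.sheafHomMap S.g).app I ≫ (_root_.ExtSupp.sheafHomMap S.f).app I = 0 := by
  let A := (_root_.ModSite.sheafHom S.X₃).obj I
  haveI : ((_root_.ModSite.tensorBi O).obj A).PreservesZeroMorphisms :=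
    Functor.preservesZeroMorphisms_of_preserves_initial_object
  haveI : ((_root_.ModSite.tensorBi O).flip.obj S.X₁).PreservesZeroMorphisms :=
    Functor.preservesZeroMorphisms_of_preserves_initial_object
  apply ((_root_.ModSite.sheafHomAdj S.X₁).homEquiv A I).symm.injective
  rw [homEquiv_symm_comp]
  conv_lhs => rw [← Category.id_comp ((_root_.ExtSupp.sheafHomMap S.g).app I)]
  rw [homEquiv_symm_comp, ← Category.assoc, ← Functor.map_comp, S.zero, Functor.map_zero, zero_comp,
    Adjunction.homEquiv_counit, Functor.map_zero, zero_comp]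

variable {S} (hS : S.ShortExact) (I : _root_.ModSite.Mod O)

include hS

/-- The internal hom is left exact in the first variable. -/
theorem exact_mono :
    (ShortComplex.mk _ _ (map_comp_eq_zero S I)).Exact ∧
      Mono ((_root_.ExtSupp.sheafHomMap S.g).app I) := by
  constructor
  · rw [ShortComplex.exact_iff_exact_up_to_refinements]
    intro A x hx
    haveI : ((_root_.ModSite.tensorBi O).obj A).PreservesZeroMorphisms :=
      Functor.preservesZeroMorphisms_of_preserves_initial_object
    haveI : ((_root_.ModSite.tensorBi O).obj A).Additive :=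
      Functor.additive_of_preserves_binary_products _
    haveI : ((_root_.ModSite.tensorBi O).flip.obj S.X₁).PreservesZeroMorphisms :=
      Functor.preservesZeroMorphisms_of_preserves_initial_object
    have h := Lib.SiteKFlat.Exact.exact_map_of_rightExact ((_root_.ModSite.tensorBi O).obj A) hS
    haveI := h.2
    have h0 : ((_root_.ModSite.tensorBi O).obj A).map S.f ≫
        ((_root_.ModSite.sheafHomAdj S.X₂).homEquiv A I).symm x = 0 := by
      rw [← homEquiv_symm_comp S.f x]
      refine (congrArg ((_root_.ModSite.sheafHomAdj S.X₁).homEquiv A I).symm hx).trans ?_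
      rw [Adjunction.homEquiv_counit, Functor.map_zero, zero_comp]
    refine ⟨A, 𝟙 A, inferInstance,
      (_root_.ModSite.sheafHomAdj S.X₃).homEquiv A I (h.1.desc _ h0), ?_⟩
    rw [Category.id_comp]
    apply ((_root_.ModSite.sheafHomAdj S.X₂).homEquiv A I).symm.injective
    rw [homEquiv_symm_comp, Equiv.symm_apply_apply]
    exact (h.1.g_desc _ h0).symm
  · refine ⟨fun {A} x y hxy => ?_⟩
    haveI : ((_root_.ModSite.tensorBi O).obj A).Additive :=
      Functor.additive_of_preserves_binary_products _
    haveI := (Lib.SiteKFlat.Exact.exact_map_of_rightExact ((_root_.ModSite.tensorBi O).obj A) hS).2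
    apply ((_root_.ModSite.sheafHomAdj S.X₃).homEquiv A I).symm.injective
    refine (cancel_epi (S.map ((_root_.ModSite.tensorBi O).obj A)).g).1 ?_
    exact (homEquiv_symm_comp S.g x).symm.trans
      ((congrArg _ hxy).trans (homEquiv_symm_comp S.g y))

/-- Into an injective module the restriction is surjective on sections. -/
theorem surjective_sections [Injective I] (U : Cᵒᵖ) :
    Function.Surjective
      (((Basic.toSets O).map ((_root_.ExtSupp.sheafHomMap S.f).app I)).app U) := by
  intro s
  let A := (Basic.FrP O).obj (yoneda.obj U.unop)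
  haveI := (Basic.isFlat_FrP O (yoneda.obj U.unop)).1
  haveI : PreservesFiniteLimits ((_root_.ModSite.tensorBi O).obj A) :=
    preservesFiniteLimits_of_natIso (flipObjIso A)
  haveI : Mono (((_root_.ModSite.tensorBi O).obj A).map S.f) :=
    haveI := hS.mono_f; inferInstance
  let y : A ⟶ (_root_.ModSite.sheafHom S.X₁).obj I :=
    ((Basic.frAdj O).homEquiv _ _).symm (yonedaEquiv.symm s)
  let z := Injective.factorThru (((_root_.ModSite.sheafHomAdj S.X₁).homEquiv A I).symm y)
    (((_root_.ModSite.tensorBi O).obj A).map S.f)
  let x := (_root_.ModSite.sheafHomAdj S.X₂).homEquiv A I z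
  have hx : x ≫ (_root_.ExtSupp.sheafHomMap S.f).app I = y := by
    apply ((_root_.ModSite.sheafHomAdj S.X₁).homEquiv A I).symm.injective
    rw [homEquiv_symm_comp, Equiv.symm_apply_apply]
    exact Injective.comp_factorThru _ _
  refine ⟨yonedaEquiv ((Basic.frAdj O).homEquiv _ _ x), ?_⟩
  rw [← yonedaEquiv_comp, ← Adjunction.homEquiv_naturality_right, hx]
  simp only [y, Equiv.apply_symm_apply]

end Groth.Agent.H52.HomInj
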