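import Groth.Agent.H52.EulerHomogeneous
import Groth.Agent.Lib.GenFinite96.Basic
import Groth.Agent.Lib.GenFinite96.Rank
import Groth.Agent.Lib.Unram.SepDegreeEtale
import Groth.Agent.Lib.Cyc.Residue
import Groth.Agent.Lib.H3.KerChar

/-!
# The index is invariant under isogenies
-/

set_option autoImplicit false
set_option linter.style.haveILetI false
universe u

open CategoryTheory CategoryTheory.Limits MonoidalCategory CartesianMonoidalCategory MonObj AlgebraicGeometry
open Groth.Agent.H3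
open Groth.Agent.Lib.GrpQ.MonoClosed (ptOf exists_ptOf)
open Groth.Agent.H52.NondegAmple (tr tr_mul)
open Groth.Agent.H52.EulerHomogeneous (nondeg_pow isMonHom_pow pow_part)

namespace Groth.Agent.H52.IndexInvariance

noncomputable section

local instance (Y : Scheme.{u}) : PicGrp.Law Y := Groth.Agent.Lib.TensorMod.Invertible.law Y

variable {K : Type u} [Field K] [IsAlgClosed K]

local notation "S" => Spec (CommRingCat.of K)

/-- The set of rational points fixing a class. -/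
abbrev Nondeg {A : Over (Spec (CommRingCat.of K))} [GrpObj A] (ℓ : PicLoc.PicSet A.left) : Prop :=
  Set.Finite {x : 𝟙_ (Over S) ⟶ A | PicCalc.ph (tr x) ℓ = ℓ}

section One

variable {A : Over (Spec (CommRingCat.of K))} [GrpObj A] [IsProper A.hom] [GeometricallyIntegral A.hom]

/-- A pullback by `[n]` is a translate of the `n²`-th power. -/
theorem exists_translate_pow (ℓ : PicLoc.PicSet A.left) (hnd : Nondeg ℓ) (n : ℕ) (hn : 1 ≤ n) :
    ∃ x : 𝟙_ (Over S) ⟶ A, PicCalc.ph (tr x) (ℓ ^ (n * n)) = PicCalc.ph (𝟙 A ^ n) ℓ := by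
  have hcube : Groth.Agent.H63.CubePow.CubeRel A := fun V f g h c => CubeRel.cube_rel f g h c
  have key := Groth.Agent.H63.CubePow.ph_pow hcube (𝟙 A) ℓ n
  rw [PicCalc.ph_id] at key
  have hinv : TransInv.Inv (PicCalc.ph (𝟙 A ^ n) ℓ * (ℓ ^ (n * n))⁻¹) := by
    intro a
    rw [key, ← AmpleVanishAV.choose_add n, pow_add, pow_part, map_pow, AmpleVanishAV.inv_div_inv ℓ a]
  obtain ⟨x, hx⟩ := PicZeroTranslate.exists_translate (ℓ ^ (n * n)) _ hinv
    (nondeg_pow ℓ hnd (Nat.mul_pos hn hn))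
  exact ⟨x, mul_right_cancel hx⟩

/-- Multiples prime to the characteristic: vanishing descends from the square power. -/
theorem sq_vanish (L : A.left.Modules) (hL : PicF.IsInvertible L) (hnd : Nondeg (PicGrp.cls L hL))
    (n : ℕ) (hn1 : 1 ≤ n) (hnK : (n : K) ≠ 0) (j : ℕ)
    (h : Subsingleton (Coh.HH A.left (CohB1.tensorPow L (n * n)) j)) :
    Subsingleton (Coh.HH A.left L j) := by
  letI : A.left.Over S := ⟨A.hom⟩
  haveI : IsProper (A.left ↘ S) := ‹IsProper A.hom›
  haveI : IsIntegral A.left := GeometricallyIntegral.isIntegral_of_subsingleton A.hom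
  haveI : IsLocallyNoetherian A.left := LocallyOfFiniteType.isLocallyNoetherian A.hom
  obtain ⟨g, hg⟩ : ∃ g : ℕ, topologicalKrullDim A.left = g :=
    ⟨_, Groth.Agent.Lib.GenFinite.Basic.topologicalKrullDim_eq_fdelta A.hom⟩
  let ℓ := PicGrp.cls L hL
  let f := (𝟙 A ^ n).left
  obtain ⟨h1, h2, h3⟩ := Groth.Agent.S1842.result K A g hg (n : ℤ) (by omega)
  simp only [zpow_natCast, Int.natAbs_natCast] at h1 h2 h3
  haveI := h1; haveI := h2
  haveI : LocallyOfFinitePresentation f := inferInstance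
  have hf : FinCov.IsCover f (n ^ (2 * g)) := ⟨⟨h1, h2, inferInstance⟩, h3⟩
  have hd : IsUnit (((n ^ (2 * g) : ℕ) : Γ(A.left, ⊤))) := by
    let φ : K →+* Γ(A.left, ⊤) := A.hom.appTop.hom.comp (Scheme.ΓSpecIso (CommRingCat.of K)).inv.hom
    have h' := ((Ne.isUnit hnK).pow (2 * g)).map φ
    rwa [map_pow, map_natCast, ← Nat.cast_pow] at h'
  refine @CoverRetract.subsingleton_HH_of_cover _ _ f _ hf hd L hL j ?_
  obtain ⟨x, hx⟩ := exists_translate_pow ℓ hnd n hn1
  have hL' := Groth.Agent.Lib.TensorMod.Invertible.isInvertible_tensorPow hL (n * n)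
  obtain ⟨i⟩ : Nonempty ((Scheme.Modules.pullback f).obj L ≅
      (Scheme.Modules.pullback (tr x).left).obj (CohB1.tensorPow L (n * n))) :=
    (PicCalc.iso_iff (PicCalc.cl_pullback (𝟙 A ^ n) (a := ℓ) rfl)
      (PicCalc.cl_pullback (tr x) (a := ℓ ^ (n * n)) (AmpleVanishAV.cl_pow (a := ℓ) rfl _))).mpr hx.symm
  haveI : IsIso (tr x) := ⟨tr x⁻¹, by
    rw [tr_mul, mul_inv_cancel]; simp [tr], by
    rw [tr_mul, inv_mul_cancel]; simp [tr]⟩
  haveI : IsIso (tr x).left := inferInstanceAs (IsIso ((Over.forget S).map (tr x)))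
  obtain ⟨e₁⟩ := Groth.Agent.S7804.nonempty_of_iso i j
  obtain ⟨e₂⟩ := Groth.Agent.S7804.nonempty_of_isIso (tr x).left A.hom (CohB1.tensorPow L (n * n)) hL' j
  haveI := h
  exact (e₁.trans e₂.symm).toEquiv.subsingleton

/-- The index of a square power prime to the characteristic. -/
theorem sq_index (g : ℕ) (hg : topologicalKrullDim A.left = g) [Smooth A.hom] (L : A.left.Modules)
    (hL : PicF.IsInvertible L) (hnd : Nondeg (PicGrp.cls L hL)) (n : ℕ) (hn1 : 1 ≤ n) (hnK : (n : K) ≠ 0)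
    (i : ℕ) (hne : Nontrivial (Coh.HH A.left L i)) :
    (∀ j, j ≠ i → Subsingleton (Coh.HH A.left (CohB1.tensorPow L (n * n)) j)) ∧
      Nontrivial (Coh.HH A.left (CohB1.tensorPow L (n * n)) i) := by
  have hL' := Groth.Agent.Lib.TensorMod.Invertible.isInvertible_tensorPow hL (n * n)
  obtain ⟨i', -, hv', hne'⟩ := IndexThm.exists_index g hg (CohB1.tensorPow L (n * n)) hL' (by
    rw [show PicGrp.cls (CohB1.tensorPow L (n * n)) hL' = PicGrp.cls L hL ^ (n * n) from
      Subtype.ext (AmpleVanishAV.cl_pow (a := PicGrp.cls L hL) rfl _)]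
    exact nondeg_pow _ hnd (Nat.mul_pos hn1 hn1))
  obtain rfl : i' = i := by
    by_contra hii
    haveI := sq_vanish L hL hnd n hn1 hnK i (hv' i (Ne.symm hii))
    exact false_of_nontrivial_of_subsingleton (Coh.HH A.left L i)
  exact ⟨hv', hne'⟩

end One

variable {A B : Over (Spec (CommRingCat.of K))} [GrpObj A] [IsProper A.hom] [GeometricallyIntegral A.hom]
  [GrpObj B] [IsProper B.hom] [GeometricallyIntegral B.hom]

/-- The inverse image of a non-degenerate class along an isogeny is non-degenerate. -/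
theorem nondeg_pullback (f : A ⟶ B) [IsMonHom f] [IsFinite f.left] [Surjective f.left]
    (ℓ : PicLoc.PicSet B.left) (hnd : Nondeg ℓ) : Nondeg (PicCalc.ph f ℓ) := by
  classical
  obtain ⟨n, N, hN⟩ := Groth.Agent.Lib.H3.KerChar.exists_finite_list f
  let δ : (𝟙_ (Over S) ⟶ B) → PicLoc.PicSet B.left := fun y => PicCalc.ph (tr y) ℓ * ℓ⁻¹
  have hδ : ∀ c : PicLoc.PicSet B.left, (δ ⁻¹' {c}).Finite := by
    intro c
    by_cases hc : (δ ⁻¹' {c}).Nonempty
    swap
    · rw [Set.not_nonempty_iff_eq_empty.mp hc]; exact Set.finite_empty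
    obtain ⟨y₀, hy₀⟩ := hc
    refine (hnd.image (fun z => z * y₀)).subset fun y hy => ⟨y * y₀⁻¹, ?_, inv_mul_cancel_right _ _⟩
    show PicCalc.ph (tr (y * y₀⁻¹)) ℓ = ℓ
    have h1 : PicCalc.ph (tr y) ℓ = PicCalc.ph (tr y₀) ℓ :=
      mul_right_cancel ((hy : δ y = c).trans (hy₀ : δ y₀ = c).symm)
    rw [← tr_mul, PicCalc.ph_comp]
    have h2 := congrArg (PicCalc.ph (tr y₀⁻¹)) h1
    haveI : IsCommMonObj B := isCommMonObj_of_isProper_of_geometricallyIntegral B
    rw [← PicCalc.ph_comp (tr y₀⁻¹) (tr y₀), tr_mul, inv_mul_cancel] at h2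
    rw [← PicCalc.ph_comp (tr y) (tr y₀⁻¹), tr_mul]
    rw [← PicCalc.ph_comp (tr y₀⁻¹) (tr y), tr_mul, _root_.mul_comm] at h2
    rw [h2]
    simp [tr, PicCalc.ph_id]
  let C : Set (PicLoc.PicSet B.left) := {c | PicCalc.ph f c = 1}
  have hC : C.Finite := by
    refine (Set.finite_range (fun i : Fin n => if h : PicF.IsInvertible (N i) then PicGrp.cls (N i) h else 1)).subset
      fun c hc => ?_
    obtain ⟨M, hM, rfl⟩ := PicGrp.exists_eq_cls c
    obtain ⟨i, ⟨e⟩⟩ := hN M hM ((PicCalc.iso_iff (PicCalc.cl_pullback f (a := PicGrp.cls M hM) rfl)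
      (b := (1 : PicLoc.PicSet A.left)) PicGrp.one_val.symm).mpr hc)
    have hi : PicF.IsInvertible (N i) := (Groth.Agent.Lib.TensorMod.LocFree.isInvertible_of_rank_one fun x =>
      let ⟨U, hx, ⟨j⟩⟩ := Groth.Agent.Lib.TensorMod.LocFree.of_isInvertible hM x
      ⟨U, hx, ⟨(Scheme.Modules.restrictFunctor U.ι).mapIso e.symm ≪≫ j⟩⟩)
    refine ⟨i, ?_⟩
    simp only [hi, dite_true]
    exact (PicCalc.iso_iff (a := PicGrp.cls (N i) hi) rfl (b := PicGrp.cls M hM) rfl).mp ⟨e.symm⟩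
  have hB : (δ ⁻¹' C).Finite := hC.preimage' fun c _ => hδ c
  let F : (𝟙_ (Over S) ⟶ A) → (𝟙_ (Over S) ⟶ B) := fun x => x ≫ f
  have hF : (F ⁻¹' (δ ⁻¹' C)).Finite := by
    refine Set.Finite.of_finite_image (f := ptOf) ((((hB.image ptOf).preimage' fun y _ =>
      f.left.finite_preimage_singleton y)).subset ?_) ?_
    · rintro _ ⟨x, hx, rfl⟩
      exact ⟨x ≫ f, hx, rfl⟩
    · exact fun a _ b _ h => Over.OverMorphism.ext (ext_of_apply_closedPoint_eq A.hom (Over.w a) (Over.w b) h)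
  refine hF.subset fun x hx => ?_
  show PicCalc.ph f (δ (x ≫ f)) = 1
  have e : f ≫ tr (x ≫ f) = tr x ≫ f := by simp [tr, MonObj.comp_mul, MonObj.mul_comp]
  rw [map_mul, map_inv, mul_inv_eq_one, ← PicCalc.ph_comp, e, PicCalc.ph_comp]
  exact hx

/-- **Isogenies preserve the index.** -/
theorem pullback_index [Smooth A.hom] [Smooth B.hom] (f : A ⟶ B) [IsMonHom f] [IsFinite f.left]
    [Flat f.left] [Surjective f.left] (L : B.left.Modules) (hL : PicF.IsInvertible L)
    (hnd : Nondeg (PicGrp.cls L hL)) (i : ℕ) (hne : Nontrivial (Coh.HH B.left L i)) :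
    (∀ j, j ≠ i → Subsingleton (Coh.HH A.left ((Scheme.Modules.pullback f.left).obj L) j)) ∧
      Nontrivial (Coh.HH A.left ((Scheme.Modules.pullback f.left).obj L) i) := by
  letI : A.left.Over S := ⟨A.hom⟩
  letI : B.left.Over S := ⟨B.hom⟩
  haveI : IsProper (A.left ↘ S) := ‹IsProper A.hom›
  haveI : IsProper (B.left ↘ S) := ‹IsProper B.hom›
  haveI : IsIntegral A.left := GeometricallyIntegral.isIntegral_of_subsingleton A.hom
  haveI : IsIntegral B.left := GeometricallyIntegral.isIntegral_of_subsingleton B.hom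
  obtain ⟨g, hg⟩ : ∃ g : ℕ, topologicalKrullDim B.left = g :=
    ⟨_, Groth.Agent.Lib.GenFinite.Basic.topologicalKrullDim_eq_fdelta B.hom⟩
  have hdom : f.left (genericPoint A.left) = genericPoint B.left := by
    refine (((genericPoint_spec A.left).image f.left.continuous).eq ?_)
    rw [Set.image_univ, f.left.surjective.range_eq, closure_univ]
    exact genericPoint_spec B.left
  have hdeg : f.left.residueDegree (genericPoint A.left) ≠ 0 :=
    (Groth.Agent.Lib.Cyc.Residue.residueDegree_pos_of_finite _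
      (Groth.Agent.Lib.Unram.SepDegreeEtale.residueFieldMap_finite_of_quasiFiniteAt f.left _
        (Scheme.Hom.quasiFiniteAt f.left _))).ne'
  have hgA := Groth.Agent.Lib.GenFinite96.dim_eq (k := K) f.left (Over.w f) hdom hdeg hg
  let L' := (Scheme.Modules.pullback f.left).obj L
  have hL' : PicF.IsInvertible L' := PicLoc.isInvertible_pullback _ hL
  have hnd' : Nondeg (PicGrp.cls L' hL') := by
    rw [show PicGrp.cls L' hL' = PicCalc.ph f (PicGrp.cls L hL) from
      Subtype.ext (PicCalc.cl_pullback f (a := PicGrp.cls L hL) rfl)]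
    exact nondeg_pullback f _ hnd
  obtain ⟨i', -, hv', hne'⟩ := IndexThm.exists_index g hgA L' hL' hnd'
  suffices i = i' by subst this; exact ⟨hv', hne'⟩
  by_contra hii
  -- the asymptotics in degree `i`
  obtain ⟨A₀, hA₀⟩ := H63.AVProjective.exists_isAmple A
  obtain ⟨B₀, hB₀⟩ := H63.AVProjective.exists_isAmple B
  obtain ⟨G, hG, hr, K₁, hK₁0, hK₁⟩ := Groth.Agent.Lib.GenFinite96.exists_near (k := K) f.left (Over.w f)
    hB₀ hA₀ hL hg hdom rfl hdeg i
  obtain ⟨K₂, hK₂0, hK₂⟩ := Groth.Agent.Lib.GenFinite96.Rank.exists_bound_rank (k := K) hg hB₀ hL hG hr i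
  have hv : ∀ j, j ≠ i → Subsingleton (Coh.HH B.left L j) := by
    obtain ⟨i₀, -, hv₀, -⟩ := IndexThm.exists_index g hg L hL hnd
    intro j hj
    obtain rfl : i₀ = i := by
      by_contra h
      haveI := hv₀ i (Ne.symm h)
      exact false_of_nontrivial_of_subsingleton (Coh.HH B.left L i)
    exact hv₀ j hj
  haveI := fun j => Groth.Agent.Lib.Snapper.Finite.cohFinite K B.left L
    (Groth.Agent.Lib.Ample.GG.isCoh_of_isInvertible hL) j
  obtain ⟨n, hn, hn1, hnK⟩ := AmpleVanishAV.exists_large (K := K) ((K₁ + K₂) * 2 ^ g + 1)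
  have hm0 : 0 < n * n := Nat.mul_pos hn1 hn1
  obtain ⟨hvm, -⟩ := sq_index g hg L hL hnd n hn1 hnK i hne
  -- the left hand side vanishes
  have hA0 : Groth.Agent.Lib.GenFinite96.hd_of K A.left L' i (n * n) = 0 := by
    obtain ⟨hvA, -⟩ := sq_index g hgA L' hL' hnd' n hn1 hnK i' hne'
    haveI := hvA i hii
    exact Module.finrank_zero_of_subsingleton
  -- the right hand side grows
  have hpos : 0 < Module.finrank K (Coh.HH B.left L i) := Module.finrank_pos
  have hone : ∀ (M : B.left.Modules), (∀ j, j ≠ i → Subsingleton (Coh.HH B.left M j)) →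
      Curv2.euler K B.left M = (-1 : ℤ) ^ i * Module.finrank K (Coh.HH B.left M i) := fun M hM =>
    finsum_eq_single _ i fun j hj => by
      haveI := hM j hj
      simp [Module.finrank_zero_of_subsingleton]
  have heq := EulerHomogeneous.euler_pow g hg L hL hnd (n * n) hm0
  rw [hone _ hvm, hone _ hv, mul_left_comm] at heq
  have heq' : (Module.finrank K (Coh.HH B.left (CohB1.tensorPow L (n * n)) i) : ℤ) =
      ((n * n) ^ g * Module.finrank K (Coh.HH B.left L i) : ℕ) := by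
    push_cast
    exact mul_left_cancel₀ (pow_ne_zero i (show (-1 : ℤ) ≠ 0 by norm_num)) (by push_cast at heq; exact heq)
  have heqN := Int.ofNat_inj.mp heq'
  have h1 := (hK₁ (n * n)).2
  have h2 := (hK₂ (n * n)).2
  rw [hA0, zero_add] at h1
  have h3 : f.left.residueDegree (genericPoint A.left) * ((n * n) ^ g * Module.finrank K (Coh.HH B.left L i)) ≤
      (K₁ + K₂) * (n * n + 1) ^ (g - 1) := by
    rw [← heqN, add_mul]
    exact h2.trans (Nat.add_le_add_right h1 _)
  have h4 : (n * n) ^ g ≤ (K₁ + K₂) * (n * n + 1) ^ (g - 1) :=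
    le_trans (le_trans (Nat.le_mul_of_pos_right _ hpos) (Nat.le_mul_of_pos_left _ (Nat.pos_of_ne_zero hdeg))) h3
  rcases Nat.eq_zero_or_pos g with rfl | hgpos
  · simp [hK₁0 rfl, hK₂0 rfl] at h4
  obtain ⟨g', rfl⟩ : ∃ g', g = g' + 1 := ⟨g - 1, by omega⟩
  simp only [Nat.add_sub_cancel] at h4
  have h5 : (n * n + 1) ^ g' ≤ 2 ^ g' * (n * n) ^ g' := by
    rw [← mul_pow]; exact Nat.pow_le_pow_left (by omega) _
  have h6 : (n * n) ^ g' * (n * n) ≤ (n * n) ^ g' * ((K₁ + K₂) * 2 ^ g') := by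
    calc (n * n) ^ g' * (n * n) = (n * n) ^ (g' + 1) := (pow_succ _ _).symm
      _ ≤ (K₁ + K₂) * (n * n + 1) ^ g' := h4
      _ ≤ (K₁ + K₂) * (2 ^ g' * (n * n) ^ g') := Nat.mul_le_mul_left _ h5
      _ = _ := by ring
  have h7 := Nat.le_of_mul_le_mul_left h6 (pow_pos hm0 g')
  have h8 : (K₁ + K₂) * 2 ^ g' ≤ (K₁ + K₂) * 2 ^ (g' + 1) :=
    Nat.mul_le_mul_left _ (Nat.pow_le_pow_right (by norm_num) (by omega))
  have h9 : n ≤ n * n := Nat.le_mul_self n
  omega

end

end Groth.Agent.H52.IndexInvariance
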