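import Groth.Agent.S2385
import Groth.Agent.S2390
import Groth.Agent.Lib.DerivedOX.Grothendieck
import Groth.Agent.Lib.ZarCoh.Morph
import Groth.Agent.Lib.ZarCoh.Induction
import Groth.Agent.Lib.Cech.MV
import Mathlib.AlgebraicGeometry.AlgClosed.Basic

/-!
# Relatively acyclic modules

For a coherent module flat over the base of a proper morphism, acyclicity of the preimage of an
affine open is the same as acyclicity of the fibres over it.
-/

set_option autoImplicit false
set_option linter.style.haveILetI false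
universe u

open CategoryTheory CategoryTheory.Limits AlgebraicGeometry TopologicalSpace

namespace Groth.Agent.H52.RelAcyclic

noncomputable section

open Groth.Agent.Lib

/-- Vanishing of sections on a union. -/
theorem subsingleton_HU_zero {Z : TopCat.{u}} (G : CohTop.Ab Z) (U V : Opens Z)
    [Subsingleton (CohTop.HU G 0 U)] [Subsingleton (CohTop.HU G 0 V)] :
    Subsingleton (CohTop.HU G 0 (U ⊔ V)) := by
  let e : ∀ W, CohTop.HU G 0 W ≃ G.obj.obj (Opposite.op W) := fun W =>
    (Equiv.ofBijective _ (Abelian.Ext.mk₀_bijective (ZarCoh.Basic.Zs.obj W) G)).symm.trans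
      (ZarCoh.Basic.homEquiv W G)
  haveI := (e U).symm.subsingleton
  haveI := (e V).symm.subsingleton
  haveI : Subsingleton (G.obj.obj (Opposite.op (U ⊔ V))) := ⟨fun s t =>
    TopCat.Sheaf.eq_of_locally_eq₂ (C := AddCommGrpCat.{u}) G (homOfLE (le_sup_left : U ≤ U ⊔ V))
      (homOfLE (le_sup_right : V ≤ U ⊔ V)) le_rfl s t (Subsingleton.elim _ _) (Subsingleton.elim _ _)⟩
  exact (e _).subsingleton

variable {X Y : Scheme.{u}} (f : X ⟶ Y) [IsProper f] [IsLocallyNoetherian Y] (F : X.Modules)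
  (hF : Coh.IsCoh F) (hfl : FlatMod.IsFlatOver f F)

instance hasInj (Z : Scheme.{u}) : HasInjectiveResolutions Z.Modules := inferInstance

include hF hfl

/-- Acyclic closed fibres over an affine open give an acyclic preimage. -/
theorem subsingleton_HU [JacobsonSpace Y] (V : Y.Opens) (hV : IsAffineOpen V)
    (h : ∀ y ∈ V, IsClosed ({y} : Set Y) → ∀ n, Subsingleton (CohIII.fiberH f F y n)) (n : ℕ) :
    Subsingleton (CohTop.HU (Coh.toAb F) n (f ⁻¹ᵁ V)) := by
  haveI : F.IsQuasicoherent := hF.1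
  haveI : IsAffine (V : Scheme.{u}) := hV
  have hz : IsZero (((Coh.Rpush f n).obj F).restrict V.ι) := by
    rw [← Modules.Support.support_eq_empty_iff, Modules.Support.support_restrict,
      Set.eq_empty_iff_forall_notMem]
    intro v hv
    obtain ⟨y, hy, hyc⟩ := nonempty_inter_closedPoints
      (Z := closure {V.ι v} ∩ (V : Set Y)) ⟨V.ι v, subset_closure rfl, v.2⟩
      (isClosed_closure.isLocallyClosed.inter V.2.isLocallyClosed)
    obtain ⟨U, hyU, hU⟩ := Groth.Agent.S2385.result f F hF hfl y n (h y hy.2 hyc n)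
    rw [← Modules.Support.support_eq_empty_iff, Modules.Support.support_restrict] at hU
    have hvU : V.ι v ∈ U := (specializes_iff_mem_closure.mpr hy.1).mem_open U.2 hyU
    exact Set.eq_empty_iff_forall_notMem.mp hU ⟨V.ι v, hvU⟩ hv
  obtain ⟨s⟩ := ZarCoh.Exchange.LocalRep.nonempty_sections f V F n
  haveI := Modules.AffineSections.subsingleton_sections hz ⊤
  haveI : Subsingleton (Coh.HH _ (F.restrict (f ⁻¹ᵁ V).ι) n) := s.symm.toEquiv.subsingleton
  exact (ZarCoh.Morph.nonempty_HHon_equiv F (f ⁻¹ᵁ V) n).some.symm.toEquiv.subsingleton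

/-- An acyclic preimage of an affine open has acyclic fibres. -/
theorem fiberRank_eq_zero (V : Y.Opens) (hV : IsAffineOpen V)
    (h : ∀ n, Subsingleton (CohTop.HU (Coh.toAb F) n (f ⁻¹ᵁ V))) (y : Y) (hy : y ∈ V) (i : ℕ) :
    CohIII.fiberRank f F i y = 0 := by
  haveI : F.IsQuasicoherent := hF.1
  haveI : IsAffine (V : Scheme.{u}) := hV
  obtain ⟨b, P, h1, h2, h3, h4, h5⟩ := ZarCoh.Exchange.LocalRep.exists_rep f V F hF hfl
  have hP : ZarCoh.Exchange.Grauert.Good P := by
    refine ⟨fun j => ⟨h2 j, ?_⟩, ⟨b, h1⟩, h4⟩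
    haveI := h3 j
    infer_instance
  have hH : ∀ j : ℤ, j ≤ 0 → Subsingleton (P.homology j) := fun j hj => by
    obtain ⟨n, rfl⟩ : ∃ n : ℕ, j = -(n : ℤ) := ⟨(-j).toNat, by omega⟩
    obtain ⟨⟨s⟩, -⟩ := h5 n
    obtain ⟨e⟩ := ZarCoh.Exchange.LocalRep.nonempty_sections f V F n
    haveI := h n
    haveI : Subsingleton (Coh.HH _ (F.restrict (f ⁻¹ᵁ V).ι) n) :=
      (ZarCoh.Morph.nonempty_HHon_equiv F (f ⁻¹ᵁ V) n).some.toEquiv.subsingleton
    exact (s.symm.trans e).toEquiv.subsingleton
  haveI := hH (-(i : ℤ)) (by omega)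
  haveI := hP.flat_Q_all (fun j hj => haveI := hH j hj.le; inferInstance) (-(i : ℤ) - 1)
  obtain ⟨-, hd, -⟩ := ZarCoh.Exchange.Free.exists_split P hP.fin (-(i : ℤ)) (-(i : ℤ) - 1) (by omega)
  obtain ⟨x, rfl⟩ := ZarCoh.Exchange.Grauert.exists_preimage V y hy
  rw [(h5 i).2 x, ← hd x]
  exact Module.finrank_zero_of_subsingleton

omit hF hfl in
/-- A fibre with vanishing dimensions is acyclic. -/
theorem subsingleton_fiberH (hF : Coh.IsCoh F) (y : Y) (i : ℕ) (h : CohIII.fiberRank f F i y = 0) :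
    Subsingleton (CohIII.fiberH f F y i) := by
  haveI : IsLocallyNoetherian X := LocallyOfFiniteType.isLocallyNoetherian f
  haveI : IsProper (f.fiberToSpecResidueField y) :=
    inferInstanceAs (IsProper (pullback.snd f (Y.fromSpecResidueField y)))
  letI : (f.fiber y).Over (Spec (CommRingCat.of (Y.residueField y))) := ⟨f.fiberToSpecResidueField y⟩
  haveI : IsLocallyNoetherian (f.fiber y) :=
    LocallyOfFiniteType.isLocallyNoetherian (f.fiberToSpecResidueField y)
  haveI : IsProper (f.fiber y ↘ Spec (CommRingCat.of (Y.residueField y))) :=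
    inferInstanceAs (IsProper (f.fiberToSpecResidueField y))
  haveI : Module.Finite (Y.residueField y) (CohIII.fiberH f F y i) :=
    ZarCoh.Exchange.Proper.finite_HH (Y.residueField y) _
      (Cyc.FP.Stalk.isCoh_pullback (f.fiberι y) hF) i
  exact Module.finrank_zero_iff.1 h

omit [IsProper f] [IsLocallyNoetherian Y] hF hfl in
/-- Mayer-Vietoris: acyclicity of the preimages of affine opens passes to quasi-compact opens. -/
theorem subsingleton_HU_of_affine [QuasiSeparatedSpace Y] (T : Y.Opens)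
    (h : ∀ V : Y.Opens, V ≤ T → IsAffineOpen V → ∀ n, Subsingleton (CohTop.HU (Coh.toAb F) n (f ⁻¹ᵁ V)))
    (W : Y.Opens) (hWT : W ≤ T) (hW : IsCompact (W : Set Y)) (n : ℕ) :
    Subsingleton (CohTop.HU (Coh.toAb F) n (f ⁻¹ᵁ W)) := by
  refine ZarCoh.Induction.induction T ?_ (fun U => ∀ n, Subsingleton (CohTop.HU (Coh.toAb F) n (f ⁻¹ᵁ U)))
    (fun U hU hUa => h U hU hUa) (fun U U' _ _ _ _ hP hP' hPi n => ?_) W hWT hW n
  · exact IsQuasiSeparated.of_quasiSeparatedSpace _
  · rw [Scheme.Hom.preimage_sup]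
    cases n with
    | zero =>
      haveI := hP 0
      haveI := hP' 0
      exact subsingleton_HU_zero _ _ _
    | succ n =>
      haveI := hP (n + 1)
      haveI := hP' (n + 1)
      haveI : Subsingleton (CohTop.HU (Coh.toAb F) n (f ⁻¹ᵁ U ⊓ f ⁻¹ᵁ U')) := hPi n
      exact Cech.MV.subsingleton_HU_sup _ _ _ n

end

end Groth.Agent.H52.RelAcyclic
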