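import Groth.Agent.H52.IsogenyEuler
import Groth.Agent.H52.RelAcyclic
import Groth.Agent.S0033
import Groth.Agent.Lib.Exchange.LocalRep
import Groth.Agent.Lib.ZarCoh.FlatBC.Equiv

/-!
# Euler characteristics along isogenies
-/

set_option autoImplicit false
set_option linter.style.haveILetI false
universe u

open CategoryTheory CategoryTheory.Limits MonoidalCategory CartesianMonoidalCategory MonObj AlgebraicGeometry
open scoped TensorProduct

namespace Groth.Agent.H52.IsogenyDegree

noncomputable section

open Groth.Agent.Lib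

variable {k : Type u} [Field k]

local notation "S" => Spec (CommRingCat.of k)

/-- The structure map on global functions. -/
def toΓ (K : Over (Spec (CommRingCat.of k))) : k →+* Γ(K.left, ⊤) :=
  K.hom.appTop.hom.comp (Scheme.ΓSpecIso (CommRingCat.of k)).inv.hom

/-- The dimension of the ring of functions. -/
def gammaDeg (K : Over (Spec (CommRingCat.of k))) : ℕ :=
  @Module.finrank k Γ(K.left, ⊤) _ _ (Module.compHom _ (toΓ K))

/-- Euler characteristic of the inverse image along a projection with finite affine fibre. -/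
theorem euler_fst {A K : Over (Spec (CommRingCat.of k))} [IsProper A.hom] [IsFinite K.hom]
    (G : A.left.Modules) (hG : Coh.IsCoh G) :
    @Curv2.euler k _ (A ⊗ K).left ⟨(A ⊗ K).hom⟩ ((Scheme.Modules.pullback (fst A K).left).obj G) =
      (gammaDeg K : ℤ) *
        @Curv2.euler k _ A.left ⟨A.hom⟩ G := by
  letI : A.left.Over S := ⟨A.hom⟩
  letI : (A ⊗ K).left.Over S := ⟨(A ⊗ K).hom⟩
  haveI : IsAffine K.left := isAffine_of_isAffineHom K.hom
  let R : CommRingCat.{u} := Γ(K.left, ⊤)
  letI : Algebra k R := (toΓ K).toAlgebra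
  let q : (A ⊗ K).left ⟶ Spec (CommRingCat.of R) := (snd A K).left ≫ K.left.isoSpec.hom
  letI : (A ⊗ K).left.Over (Spec (CommRingCat.of R)) := ⟨q⟩
  have hK : K.left.isoSpec.hom ≫ Spec.map (CommRingCat.ofHom (algebraMap k R)) = K.hom := by
    show K.left.toSpecΓ ≫ Spec.map ((Scheme.ΓSpecIso (CommRingCat.of k)).inv ≫ K.hom.appTop) = K.hom
    rw [Spec.map_comp, ← Category.assoc, ← Scheme.toSpecΓ_naturality, Category.assoc,
      toSpecΓ_SpecMap_ΓSpecIso_inv, Category.comp_id]
  have h0 : IsPullback (fst A K).left (snd A K).left A.hom K.hom := IsPullback.of_hasPullback A.hom K.hom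
  have h : IsPullback (fst A K).left ((A ⊗ K).left ↘ Spec (CommRingCat.of R)) (A.left ↘ S)
      (Spec.map (CommRingCat.ofHom (algebraMap k R))) :=
    h0.of_iso (Iso.refl _) (Iso.refl _) K.left.isoSpec (Iso.refl _)
      ((Category.comp_id _).trans (Category.id_comp _).symm) (Category.id_comp _).symm
      ((Category.comp_id _).trans (Category.id_comp _).symm)
      (by rw [Iso.refl_hom, Category.comp_id, hK])
  haveI : CompactSpace A.left := QuasiCompact.compactSpace_of_compactSpace A.hom
  haveI : QuasiSeparatedSpace A.left := quasiSeparatedSpace_of_quasiSeparated A.hom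
  haveI := hG.1
  let M := (Scheme.Modules.pullback (fst A K).left).obj G
  have hn : ∀ n, Module.finrank k (Coh.HH (A ⊗ K).left M n) =
      Module.finrank k R * Module.finrank k (Coh.HH A.left G n) := fun n => by
    obtain ⟨e⟩ := ZarCoh.FlatBC.Equiv.nonempty_linearEquiv h G n
    haveI : IsScalarTower k R (Coh.HH (A ⊗ K).left M n) := IsScalarTower.of_algebraMap_smul fun a x => by
      show Coh.toGlobal (X := (A ⊗ K).left) q (algebraMap k R a) • x =
        Coh.toGlobal (X := (A ⊗ K).left) (A ⊗ K).hom a • x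
      have e₁ := ZarCoh.Exchange.LocalRep.toGlobal_comp (K := CommRingCat.of k) (K' := CommRingCat.of R)
        (CommRingCat.ofHom (algebraMap k R)) q a
      have e₂ : q ≫ Spec.map (CommRingCat.ofHom (algebraMap k R)) = (A ⊗ K).hom := by
        simp only [q, Category.assoc, hK]
        exact Over.w (snd A K)
      rw [e₂] at e₁
      exact congrArg (· • x) e₁.symm
    rw [← (e.restrictScalars k).finrank_eq, Module.finrank_tensorProduct]
  show Curv2.euler k (A ⊗ K).left M = (Module.finrank k R : ℤ) * Curv2.euler k A.left G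
  unfold Curv2.euler
  rw [mul_finsum]
  exact finsum_congr fun n => by rw [hn n]; push_cast; ring

variable {A B : Over (Spec (CommRingCat.of k))} [GrpObj A] [GrpObj B] [IsProper A.hom] [IsProper B.hom]

/-- **Multiplicativity along isogenies**, with the factor named. -/
theorem euler_pullback_degree (f : A ⟶ B) [IsMonHom f] [IsFinite f.left] [Flat f.left] [Surjective f.left] :
    ∀ F : B.left.Modules, Coh.IsCoh F →
      @Curv2.euler k _ A.left ⟨A.hom⟩ ((Scheme.Modules.pullback f.left).obj F) =
        (gammaDeg (pullback f η[B]) : ℕ) * @Curv2.euler k _ B.left ⟨B.hom⟩ F := by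
  letI : A.left.Over S := ⟨A.hom⟩
  letI : B.left.Over S := ⟨B.hom⟩
  haveI : IsProper (A.left ↘ S) := ‹IsProper A.hom›
  haveI : IsProper (B.left ↘ S) := ‹IsProper B.hom›
  haveI := Curves.GlobalSections.isNoetherian_of_proper k A.left
  haveI := Curves.GlobalSections.isNoetherian_of_proper k B.left
  let K : Over S := pullback f η[B]
  let ι₁ : K ⟶ A := pullback.fst f η[B]
  have hι : ι₁ ≫ f = toUnit K ≫ η[B] := by
    rw [show toUnit K = pullback.snd f η[B] from toUnit_unique _ _]
    exact pullback.condition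
  haveI : IsFinite K.hom := by
    have h := (IsPullback.of_hasPullback f η[B]).map (Over.forget S)
    haveI : IsFinite (pullback.snd f η[B]).left := MorphismProperty.of_isPullback (P := @IsFinite) h ‹_›
    have e : K.hom = (pullback.snd f η[B]).left ≫ 𝟙 _ := (Over.w (pullback.snd f η[B])).symm
    rw [e]
    infer_instance
  refine IsogenyEuler.euler_pullback (k := k) f.left (Over.w f) (gammaDeg K) fun G hG => ?_
  -- the fibre square
  let p₁ : A ⊗ K ⟶ A := fst A K * (snd A K ≫ ι₁)
  have sq : IsPullback (fst A K) p₁ f f := by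
    refine ⟨⟨?_⟩, ⟨PullbackCone.isLimitAux' _ fun s => ?_⟩⟩
    · simp [p₁, MonObj.mul_comp, hι, Hom.one_def]
    have hs : (s.fst⁻¹ * s.snd) ≫ f = toUnit s.pt ≫ η[B] := by
      rw [MonObj.mul_comp, GrpObj.inv_comp, s.condition, inv_mul_cancel, Hom.one_def]
    refine ⟨lift s.fst (pullback.lift (s.fst⁻¹ * s.snd) (toUnit _) hs), ?_, ?_, fun {m} h1 h2 => ?_⟩
    · exact lift_fst _ _
    · show lift s.fst _ ≫ (fst A K * (snd A K ≫ ι₁)) = s.snd
      rw [MonObj.comp_mul, lift_fst, lift_snd_assoc, pullback.lift_fst, mul_inv_cancel_left]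
    · let m' : s.pt ⟶ A ⊗ K := m
      have h1' : m' ≫ fst A K = s.fst := h1
      have h2' : m' ≫ p₁ = s.snd := h2
      show m' = lift s.fst (pullback.lift (s.fst⁻¹ * s.snd) (toUnit _) hs)
      refine CartesianMonoidalCategory.hom_ext _ _ ?_ ?_
      · rw [lift_fst, h1']
      · rw [lift_snd]
        refine pullback.hom_ext ?_ (toUnit_unique _ _)
        rw [pullback.lift_fst]
        simp only [p₁, MonObj.comp_mul, h1'] at h2'
        rw [← h2', inv_mul_cancel_left, Category.assoc]
  have sq' : IsPullback (fst A K).left p₁.left f.left f.left := sq.map (Over.forget S)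
  haveI : IsFinite p₁.left := MorphismProperty.of_isPullback (P := @IsFinite) sq' ‹IsFinite f.left›
  haveI := hG.1
  haveI : Coh.IsQCoh G := hG.1
  obtain ⟨e⟩ := Groth.Agent.S0033.result f.left f.left (fst A K).left p₁.left sq' G 0
  let e' : (Scheme.Modules.pullback f.left).obj ((Coh.push f.left).obj G) ≅
      (Coh.push p₁.left).obj ((Scheme.Modules.pullback (fst A K).left).obj G) :=
    (Scheme.Modules.pullback f.left).mapIso
        (((Scheme.Modules.pushforward f.left).rightDerivedZeroIsoSelf).app G).symm ≪≫ e ≪≫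
      ((Scheme.Modules.pushforward p₁.left).rightDerivedZeroIsoSelf).app _
  letI : (A ⊗ K).left.Over S := ⟨(A ⊗ K).hom⟩
  haveI : ((Scheme.Modules.pullback (fst A K).left).obj G).IsQuasicoherent :=
    QCoh.Pullback.isQCoh_pullback _ G
  rw [(IsogenyEuler.isAdd_euler (k := k)).iso e', SurfInt.Push.euler_push (k := k) p₁.left (Over.w p₁)]
  exact euler_fst G hG

/-- **Multiplicativity along isogenies.** -/
theorem exists_degree (f : A ⟶ B) [IsMonHom f] [IsFinite f.left] [Flat f.left] [Surjective f.left] :
    ∃ d : ℕ, ∀ F : B.left.Modules, Coh.IsCoh F →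
      @Curv2.euler k _ A.left ⟨A.hom⟩ ((Scheme.Modules.pullback f.left).obj F) =
        d * @Curv2.euler k _ B.left ⟨B.hom⟩ F :=
  ⟨_, euler_pullback_degree f⟩

end

end Groth.Agent.H52.IsogenyDegree
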