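import Groth.Agent.Lib.IntTheory.Additive
import Groth.Agent.Lib.IntTheory.Push
import Groth.Agent.Lib.SurfInt.Push
import Groth.Agent.Lib.Cyc.FP.Stalk
import Groth.Agent.Lib.Cyc.PP.Push
import Groth.Agent.Lib.CohDelta.BC.Flat
import Groth.Agent.Lib.Curves.Euler
import Groth.Agent.Lib.Snapper.DimBound
import Groth.Agent.Lib.Snapper.Finite
import Groth.Agent.Lib.Modules.AffineSections
import Groth.Agent.Lib.QCoh.Stalk

/-!
# Euler characteristics along covers which trivialise themselves
-/

set_option autoImplicit false
set_option linter.style.haveILetI false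
universe u

open CategoryTheory CategoryTheory.Limits AlgebraicGeometry TopologicalSpace

namespace Groth.Agent.H52.IsogenyEuler

noncomputable section

open Groth.Agent.Lib Groth.Agent.Lib.IntTheory.Additive

variable {k : Type u} [Field k] {X Y : Scheme.{u}} [X.Over (Spec (CommRingCat.of k))]
  [Y.Over (Spec (CommRingCat.of k))] [IsProper (X ↘ Spec (CommRingCat.of k))]
  [IsProper (Y ↘ Spec (CommRingCat.of k))]
  (f : Y ⟶ X) [IsFinite f] [Flat f] [Surjective f]
  (hf : f ≫ (X ↘ Spec (CommRingCat.of k)) = Y ↘ Spec (CommRingCat.of k))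

/-- Euler characteristic of the pullback, corrected by a multiple. -/
def psi (d : ℕ) (F : X.Modules) : ℤ :=
  Curv2.euler k Y ((Scheme.Modules.pullback f).obj F) - d * Curv2.euler k X F

theorem isAdd_euler : IsAdd (fun F : X.Modules => Curv2.euler k X F) := by
  haveI := Curves.GlobalSections.isNoetherian_of_proper k X
  obtain ⟨d, hd⟩ := Snapper.DimBound.exists_dim_bound k X
  refine ⟨fun e => ?_, fun h => ?_, fun hS h₁ h₂ h₃ => ?_⟩
  · simp only [Snapper.Chi.euler_eq_eulerCharLE hd]
    exact Snapper.Chi.eulerCharLE_of_iso e d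
  · simp only [Snapper.Chi.euler_eq_eulerCharLE hd]
    exact Snapper.Chi.eulerCharLE_isZero h d
  · simp only [Snapper.Chi.euler_eq_eulerCharLE hd]
    exact Snapper.Chi.eulerCharLE_add (Snapper.Finite.cohFinite k X) hd hS h₁ h₂ h₃

omit [IsFinite f] [Surjective f] in
theorem isAdd_psi (d : ℕ) : IsAdd (psi (k := k) f d) := by
  haveI := Groth.Agent.Lib.CohDelta.BC.Flat.preservesFiniteLimits_pullback f
  haveI : PreservesColimitsOfSize.{u, u} (Scheme.Modules.pullback f) :=
    (Scheme.Modules.pullbackPushforwardAdjunction f).leftAdjoint_preservesColimits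
  have hX := isAdd_euler (k := k) (X := X)
  have hY := isAdd_euler (k := k) (X := Y)
  refine ⟨fun {F G} e => ?_, fun {F} h => ?_, fun {S} hS h₁ h₂ h₃ => ?_⟩
  · simp only [psi]
    rw [hY.iso ((Scheme.Modules.pullback f).mapIso e), hX.iso e]
  · simp only [psi]
    rw [hY.zero ((Scheme.Modules.pullback f).map_isZero h), hX.zero h, mul_zero, sub_zero]
  · simp only [psi]
    have e := hY.add (hS.map_of_exact (Scheme.Modules.pullback f))
      (Cyc.FP.Stalk.isCoh_pullback f h₁) (Cyc.FP.Stalk.isCoh_pullback f h₂)
      (Cyc.FP.Stalk.isCoh_pullback f h₃)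
    simp only [ShortComplex.map_X₁, ShortComplex.map_X₂, ShortComplex.map_X₃] at e
    rw [hX.add hS h₁ h₂ h₃, e]
    ring

omit [Flat f] in
/-- The direct image of the inverse image is non-zero wherever the module is. -/
theorem mem_support_push_pullback [IsNoetherian X] [IsNoetherian Y] {F : X.Modules} (hF : Coh.IsCoh F)
    (y : X) (hy : y ∈ CohB1.support F) :
    y ∈ CohB1.support ((Coh.push f).obj ((Scheme.Modules.pullback f).obj F)) := by
  haveI := hF.2
  have hG := Cyc.FP.Stalk.isCoh_pullback f hF
  have hP := Cyc.PP.Push.isCoh_push f hG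
  haveI := hG.1
  haveI := hP.2
  obtain ⟨w, hw⟩ := f.surjective y
  have hwG : w ∈ CohB1.support ((Scheme.Modules.pullback f).obj F) := by
    rw [Modules.SupportOps.support_pullback, Set.mem_preimage, hw]
    exact hy
  by_contra hc
  obtain ⟨U, hU, hyU, hle⟩ := exists_isAffineOpen_mem_and_subset
    (U := (⟨_, (Modules.Support.isClosed_support ((Coh.push f).obj ((Scheme.Modules.pullback f).obj F))).isOpen_compl⟩ :
      X.Opens)) hc
  haveI := hP.1
  have hz : IsZero ((((Coh.push f).obj ((Scheme.Modules.pullback f).obj F))).restrict U.ι) := by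
    rw [← Modules.Support.support_eq_empty_iff, Modules.Support.support_restrict,
      Set.eq_empty_iff_forall_notMem]
    exact fun v hv => hle v.2 hv
  haveI := Modules.AffineSections.subsingleton_sections hz ⊤
  have hsec : Subsingleton Γ((Scheme.Modules.pullback f).obj F, f ⁻¹ᵁ (U.ι ''ᵁ ⊤)) :=
    inferInstanceAs (Subsingleton Γ((((Coh.push f).obj ((Scheme.Modules.pullback f).obj F))).restrict U.ι, ⊤))
  rw [Scheme.Opens.ι_image_top] at hsec
  refine hwG (subsingleton_of_forall_eq 0 fun z => ?_)
  obtain ⟨a, t, ha, haz⟩ := QCoh.Stalk.exists_smul_eq_germ ((Scheme.Modules.pullback f).obj F)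
    (hU.preimage f) (x := w) (show f w ∈ U from hw ▸ hyU) z
  rw [Subsingleton.elim t 0, map_zero] at haz
  exact ((RingedSpace.mem_basicOpen _ a w _).mp ha).smul_eq_zero.mp haz

include hf in
/-- **Multiplicativity**: if `χ(f^* f_* G) = d χ(G)` for all coherent `G` then `χ(f^* F) = d χ(F)`. -/
theorem euler_pullback (d : ℕ)
    (h : ∀ G : Y.Modules, Coh.IsCoh G →
      Curv2.euler k Y ((Scheme.Modules.pullback f).obj ((Coh.push f).obj G)) = d * Curv2.euler k Y G)
    (F : X.Modules) (hF : Coh.IsCoh F) :
    Curv2.euler k Y ((Scheme.Modules.pullback f).obj F) = d * Curv2.euler k X F := by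
  haveI := Curves.GlobalSections.isNoetherian_of_proper k X
  haveI := Curves.GlobalSections.isNoetherian_of_proper k Y
  obtain ⟨D, hD⟩ := Snapper.DimBound.exists_dim_bound k X
  have hadd := isAdd_psi (k := k) f d
  have hzero : ∀ G : Y.Modules, Coh.IsCoh G → psi (k := k) f d ((Coh.push f).obj G) = 0 := fun G hG => by
    haveI := hG.1
    rw [psi, h G hG, SurfInt.Push.euler_push f hf G, sub_self]
  suffices key : ∀ n : ℕ, VanishBelow (psi (k := k) f d) n by
    have hle : topologicalKrullDim (CohB1.support F) ≤ (D : WithBot ℕ∞) :=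
      ((Topology.IsEmbedding.subtypeVal.isInducing.topologicalKrullDim_le)).trans hD
    have := key (D + 1) F hF (lt_of_le_of_lt hle (by exact_mod_cast Nat.lt_succ_self D))
    rw [psi, sub_eq_zero] at this
    exact this
  intro n
  induction n with
  | zero =>
    intro G hG hlt
    refine hadd.zero ?_
    rw [← Modules.Support.support_eq_empty_iff]
    by_contra hne
    obtain ⟨x, hx⟩ := Set.nonempty_iff_ne_empty.mpr hne
    haveI : Nonempty (CohB1.support G) := ⟨⟨x, hx⟩⟩
    haveI : Nonempty (IrreducibleCloseds (CohB1.support G)) :=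
      ⟨⟨closure {⟨x, hx⟩}, isIrreducible_singleton.closure, isClosed_closure⟩⟩
    have h0 : (0 : WithBot ℕ∞) ≤ topologicalKrullDim (CohB1.support G) := Order.krullDim_nonneg
    exact absurd hlt (not_lt.mpr (by simpa using h0))
  | succ n ih =>
    intro G hG hlt
    refine eq_zero hadd ih hG (Snapper.Vanish.le_of_lt_succ hlt) fun y hy => ?_
    -- the module O_y
    let Q := Cyc.closureStructureSheaf y
    have hQ := Devissage.Closure.isCoh_closureStructureSheaf y
    have hQs := Devissage.Closure.support_closureStructureSheaf y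
    let P := (Coh.push f).obj ((Scheme.Modules.pullback f).obj Q)
    have hP : Coh.IsCoh P := Cyc.PP.Push.isCoh_push f (Cyc.FP.Stalk.isCoh_pullback f hQ)
    haveI := hQ.2
    have hPs : CohB1.support P ⊆ closure {y} := IntTheory.Push.support_push_subset f isClosed_closure
      fun w hw => hQs (by rwa [Modules.SupportOps.support_pullback] at hw)
    have hdim : topologicalKrullDim (closure {y} : Set X) ≤ n := hy.2.le
    have hsum := eq_sum hadd ih hP (T := ⟨closure {y}, isClosed_closure⟩) hPs hdim
    rw [hzero _ (Cyc.FP.Stalk.isCoh_pullback f hQ)] at hsum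
    have hset : (finite_topPts (T := closure {y}) isClosed_closure hdim).toFinset = {y} := by
      ext z
      rw [Set.Finite.mem_toFinset, Finset.mem_singleton]
      refine ⟨fun hz => (maximal_of_topPts isClosed_closure hdim hz y (subset_closure rfl)
        (specializes_iff_mem_closure.mpr hz.1)).symm, ?_⟩
      rintro rfl
      exact ⟨subset_closure rfl, hy.2⟩
    rw [hset, Finset.sum_singleton] at hsum
    refine (mul_eq_zero.mp hsum.symm).resolve_left ?_
    have hne : Nontrivial (P.presheaf.stalk y) := not_subsingleton_iff_nontrivial.mp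
      (mem_support_push_pullback f hQ y (fun hs => by
        have := Devissage.Closure.length_closureStructureSheaf y
        rw [Module.length_eq_zero_iff.mpr hs] at this
        exact zero_ne_one this))
    have h1 : Module.length (X.presheaf.stalk y) (P.presheaf.stalk y) ≠ ⊤ :=
      Cyc.SheafLen.length_ne_top hP y fun z hzy hz =>
        maximal_of_topPts isClosed_closure hdim ⟨subset_closure rfl, hy.2⟩ z
          (hPs (not_subsingleton_iff_nontrivial.mpr hz)) hzy
    have h2 : 0 < Module.length (X.presheaf.stalk y) (P.presheaf.stalk y) := Module.length_pos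
    intro h0
    rcases ENat.toNat_eq_zero.1 (Int.natCast_eq_zero.mp h0) with h | h
    · exact h2.ne' h
    · exact h1 h

end

end Groth.Agent.H52.IsogenyEuler
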