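import Groth.Agent.H69.NhdStage

/-!
# Properties local on the source that hold at the limit hold at some stage

No separatedness is assumed on the stages; only the source is quasi-compact.
-/

set_option autoImplicit false
set_option backward.isDefEq.respectTransparency false
set_option linter.unusedVariables false

universe u

open CategoryTheory CategoryTheory.Limits AlgebraicGeometry
open Groth.Agent.Lib.Lim.Basic Groth.Agent.Lib.Lim.Descend Groth.Agent.H69.NhdStage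

namespace Groth.Agent.H52.LimGlobal

variable {I : Type u} [SmallCategory I] [IsCofiltered I]
  {D : I ⥤ Scheme.{u}} {c : Cone D} {i₀ : I} {X₀ Y₀ : Scheme.{u}} {f₀ : X₀ ⟶ Y₀}
  {g₀ : Y₀ ⟶ D.obj i₀} {X Y : Scheme.{u}} {f : X ⟶ Y} {g : Y ⟶ c.pt} {qY : Y ⟶ Y₀}
  {qX : X ⟶ X₀} (hY : IsPullback qY g g₀ (c.π.app i₀)) (hX : IsPullback qX f f₀ qY)
  [∀ (i j : I) (f : i ⟶ j), IsAffineHom (D.map f)] [LocallyOfFiniteType g₀]
  [LocallyOfFinitePresentation (f₀ ≫ g₀)]

include hY hX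

/-- `P f` iff `P` holds at some stage. -/
theorem iff_stage (hc : IsLimit c) [CompactSpace X₀] (P : MorphismProperty Scheme.{u})
    [P.IsStableUnderBaseChange] [P.IsStableUnderComposition] [IsZariskiLocalAtSource P]
    (hP : ∀ ⦃A B : Scheme.{u}⦄ (a : A ⟶ B) [IsOpenImmersion a], P a)
    (H : Descends P @LocallyOfFinitePresentation) :
    P f ↔
      ∃ (j : I) (φ : j ⟶ i₀) (Xj Yj : Scheme.{u}) (fj : Xj ⟶ Yj) (gj : Yj ⟶ D.obj j) (pY : Yj ⟶ Y₀)
        (pX : Xj ⟶ X₀), IsPullback pY gj g₀ (D.map φ) ∧ IsPullback pX fj f₀ pY ∧ P fj := by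
  have hXS : IsPullback qX (f ≫ g) (f₀ ≫ g₀) (c.π.app i₀) := hX.paste_vert hY
  constructor
  swap
  · rintro ⟨j, φ, Xj, Yj, fj, gj, pY, pX, h1, h2, h3⟩
    let rY : Y ⟶ Yj := h1.lift qY (g ≫ c.π.app j) (by rw [Category.assoc, c.w, hY.w])
    have e : rY ≫ pY = qY := h1.lift_fst _ _ _
    exact P.of_isPullback
      (IsPullback.of_right (show IsPullback (h2.lift qX (f ≫ rY)
          (by rw [Category.assoc, e, hX.w]) ≫ pX) f f₀ (rY ≫ pY) by
        rw [h2.lift_fst, e]; exact hX) (h2.lift_snd _ _ _) h2) h3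
  intro hf
  have hA : ∀ {i j : I} (g : i ⟶ j), IsAffineHom (D.map g) := fun g => inferInstance
  let E := bcDiagram D (f₀ ≫ g₀)
  let rX : ∀ j : Over i₀, X ⟶ E.obj j := (bcCone hXS.w).π.app
  -- opens of the stages where `P` holds, covering the limit
  have hloc : ∀ x : X, ∃ (j : Over i₀) (V : (E.obj j).Opens), rX j x ∈ V ∧
      P (V.ι ≫ stageHom D i₀ f₀ g₀ j) := by
    intro x
    obtain ⟨j, φ, Xj, Yj, fj, gj, pY, pX, r, h1, h2, h3, h4, V, hxV, hV⟩ :=
      (nhd_iff_stage hY hX hc P hP H x).1 ⟨⊤, trivial, IsZariskiLocalAtSource.comp hf _⟩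
    let k : Over i₀ := Over.mk φ
    let eY : (bcDiagram D g₀).obj k ⟶ Yj := h1.lift (pullback.fst g₀ (D.map φ)) (pullback.snd _ _)
      pullback.condition
    have heY : eY ≫ pY = pullback.fst g₀ (D.map φ) := h1.lift_fst _ _ _
    let eX : E.obj k ⟶ Xj := h2.lift (pullback.fst (f₀ ≫ g₀) (D.map φ))
      (stageHom D i₀ f₀ g₀ k ≫ eY)
      (by rw [Category.assoc, heY]; exact (isPullback_stageHom D i₀ f₀ g₀ k).w)
    have sq : IsPullback eX (stageHom D i₀ f₀ g₀ k) fj eY := by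
      refine IsPullback.of_right ?_ (h2.lift_snd _ _ _) h2
      rw [h2.lift_fst, heY]
      exact isPullback_stageHom D i₀ f₀ g₀ k
    refine ⟨k, eX ⁻¹ᵁ V, ?_, P.of_isPullback ((isPullback_morphismRestrict eX V).paste_vert sq) hV⟩
    have e : rX k ≫ eX = r := by
      have hs : rX k ≫ stageHom D i₀ f₀ g₀ k = f ≫ (bcCone hY.w).π.app k :=
        (isPullback_limit hY hX hXS k).w
      refine h2.hom_ext ?_ ?_
      · rw [Category.assoc, h2.lift_fst, h3]; exact bcCone_π_fst hXS.w k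
      · rw [Category.assoc, h2.lift_snd]
        refine h1.hom_ext ?_ ?_
        · rw [Category.assoc, Category.assoc, heY, Category.assoc, ← h2.w, reassoc_of% h3,
            reassoc_of% hs, hX.w]
          exact congrArg (f ≫ ·) (bcCone_π_fst hY.w k)
        · rw [Category.assoc, Category.assoc, h1.lift_snd, Category.assoc, h4, reassoc_of% hs]
          exact congrArg (f ≫ ·) (bcCone_π_snd hY.w k)
    show eX (rX k x) ∈ V
    rw [← Scheme.Hom.comp_apply, e]
    exact hxV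
  choose j V hxV hV using hloc
  have : CompactSpace X :=
    have := isAffineHom_π (c := c) hc i₀
    have : IsAffineHom qX := MorphismProperty.of_isPullback hXS.flip inferInstance
    QuasiCompact.compactSpace_of_compactSpace qX
  obtain ⟨t, ht⟩ := isCompact_univ.elim_finite_subcover (fun x => (rX (j x) ⁻¹ᵁ V x : Set X))
    (fun x => (rX (j x) ⁻¹ᵁ V x).2) (fun x _ => Set.mem_iUnion.2 ⟨x, hxV x⟩)
  obtain ⟨k, ψ, -⟩ : ∃ (k : Over i₀) (ψ : ∀ x : t, k ⟶ j x.1), True := by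
    classical
    obtain ⟨k, hk⟩ := IsCofiltered.inf_objs_exists (t.image j)
    exact ⟨k, fun x => (hk (Finset.mem_image_of_mem j x.2)).some, trivial⟩
  let W : (E.obj k).Opens := ⨆ x : t, E.map (ψ x) ⁻¹ᵁ V x.1
  have hW : rX k ⁻¹ᵁ W = ⊤ := by
    refine top_le_iff.1 fun y _ => ?_
    obtain ⟨x, hx, hyx⟩ := Set.mem_iUnion₂.1 (ht (Set.mem_univ y))
    refine TopologicalSpace.Opens.mem_iSup.2 ⟨⟨x, hx⟩, ?_⟩
    show E.map (ψ ⟨x, hx⟩) (rX k y) ∈ V x
    have e : rX k ≫ E.map (ψ ⟨x, hx⟩) = rX (j x) := (bcCone hXS.w).w _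
    rw [← Scheme.Hom.comp_apply, e]
    exact hyx
  have : ∀ i, CompactSpace ↥(E.obj i) := fun i => compactSpace_bcDiagram D (f₀ ≫ g₀) i
  have : ∀ {a b : Over i₀} (φ : a ⟶ b), IsAffineHom (E.map φ) := fun φ => inferInstance
  obtain ⟨l, χ, hl⟩ := exists_map_eq_top E _ (isLimitBcCone hc hXS) W hW
  refine ⟨l.left, l.hom, _, _, stageHom D i₀ f₀ g₀ l, pullback.snd _ _, pullback.fst _ _,
    pullback.fst _ _, IsPullback.of_hasPullback _ _, isPullback_stageHom D i₀ f₀ g₀ l, ?_⟩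
  refine IsZariskiLocalAtSource.of_iSup_eq_top (fun x : t => E.map (χ ≫ ψ x) ⁻¹ᵁ V x.1) ?_
    fun x => ?_
  · refine top_le_iff.1 fun y _ => ?_
    have hy : y ∈ E.map χ ⁻¹ᵁ W := hl.symm ▸ trivial
    obtain ⟨x, hx⟩ := TopologicalSpace.Opens.mem_iSup.1 (show E.map χ y ∈ W from hy)
    refine TopologicalSpace.Opens.mem_iSup.2 ⟨x, ?_⟩
    show E.map (χ ≫ ψ x) y ∈ V x.1
    rw [E.map_comp]
    exact hx
  · exact P.of_isPullback ((isPullback_morphismRestrict (E.map (χ ≫ ψ x)) (V x.1)).paste_vert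
      (isPullback_trans D i₀ f₀ g₀ (χ ≫ ψ x))) (hV x.1)

end Groth.Agent.H52.LimGlobal
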