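import Groth.Agent.H52.PoincareRR
import Groth.Agent.Lib.TensorMod.TensorInv

/-!
# Reading the Mumford module given with an inverse
-/

set_option autoImplicit false
universe u

open CategoryTheory CategoryTheory.Limits MonoidalCategory CartesianMonoidalCategory MonObj AlgebraicGeometry
open Groth.Agent.H3

namespace Groth.Agent.H52.MumfordInput

noncomputable section

local instance mumfordInputLaw (Y : Scheme.{u}) : PicGrp.Law Y := Groth.Agent.Lib.TensorMod.Invertible.law Y

variable {X : Scheme.{u}} {L L' : X.Modules} (hL : PicF.IsInvertible L)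

include hL in
theorem inverse_cls (h : Nonempty (CohB1.tensorMod L L' ≅ Coh.structureModule X)) :
    ∃ hL' : PicF.IsInvertible L', PicGrp.cls L' hL' = (PicGrp.cls L hL)⁻¹ := by
  obtain ⟨e⟩ := h
  have hL' : PicF.IsInvertible L' := Groth.Agent.Lib.TensorMod.TensorInv.isInvertible_of_tensor_iso
    (Groth.Agent.Lib.TensorMod.Basic.comm L' L ≪≫ e)
  exact ⟨hL', eq_inv_of_mul_eq_one_right ((PicCalc.iso_iff
    (PicCalc.cl_tensor (a := PicGrp.cls L hL) (b := PicGrp.cls L' hL') rfl rfl)
    (b := (1 : PicLoc.PicSet X)) PicGrp.one_val.symm).mp ⟨e⟩)⟩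

variable {K : Type u} [Field K] {A : Over (Spec (CommRingCat.of K))} [GrpObj A]
  {M M' : A.left.Modules} (hM : PicF.IsInvertible M) (hM' : PicF.IsInvertible M')
  (Λ : (A ⊗ A).left.Modules)
  (hΛ : Nonempty (Λ ≅ CohB1.tensorMod (CohB1.tensorMod ((Scheme.Modules.pullback μ[A].left).obj M)
      ((Scheme.Modules.pullback (fst A A).left).obj M')) ((Scheme.Modules.pullback (snd A A).left).obj M')))

include hM hM' hΛ in
theorem invertible : PicF.IsInvertible Λ := by
  obtain ⟨i⟩ := hΛ
  exact Groth.Agent.Lib.TensorMod.Invertible.isInvertible_of_iso i.symm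
    (Groth.Agent.Lib.TensorMod.Invertible.isInvertible_tensorMod
      (Groth.Agent.Lib.TensorMod.Invertible.isInvertible_tensorMod (PicLoc.isInvertible_pullback _ hM)
        (PicLoc.isInvertible_pullback _ hM')) (PicLoc.isInvertible_pullback _ hM'))

include hM hM' hΛ in
theorem isLambdaSheaf (h : PicGrp.cls M' hM' = (PicGrp.cls M hM)⁻¹) :
    AgPol.IsLambdaSheaf μ[A].left (fst A A).left (snd A A).left M Λ := by
  have hΛi := invertible hM hM' Λ hΛ
  have hc : PicGrp.cls Λ hΛi = PicCalc.ph μ[A] (PicGrp.cls M hM) *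
      PicCalc.ph (fst A A) (PicGrp.cls M' hM') * PicCalc.ph (snd A A) (PicGrp.cls M' hM') :=
    (PicCalc.iso_iff (a := PicGrp.cls Λ hΛi) rfl (PicCalc.cl_tensor (PicCalc.cl_tensor
      (PicCalc.cl_pullback μ[A] (a := PicGrp.cls M hM) rfl)
      (PicCalc.cl_pullback (fst A A) (a := PicGrp.cls M' hM') rfl))
      (PicCalc.cl_pullback (snd A A) (a := PicGrp.cls M' hM') rfl))).mp hΛ
  refine (PicCalc.iso_iff (PicCalc.cl_tensor (PicCalc.cl_tensor (a := PicGrp.cls Λ hΛi) rfl
      (PicCalc.cl_pullback (fst A A) (a := PicGrp.cls M hM) rfl))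
      (PicCalc.cl_pullback (snd A A) (a := PicGrp.cls M hM) rfl))
      (PicCalc.cl_pullback μ[A] (a := PicGrp.cls M hM) rfl)).mpr ?_
  rw [hc, h, map_inv, map_inv]
  generalize PicCalc.ph μ[A] (PicGrp.cls M hM) = a
  generalize PicCalc.ph (fst A A) (PicGrp.cls M hM) = b
  generalize PicCalc.ph (snd A A) (PicGrp.cls M hM) = c
  rw [mul_right_comm (a * b⁻¹) c⁻¹ b, inv_mul_cancel_right, inv_mul_cancel_right]

end

end Groth.Agent.H52.MumfordInput
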