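import Groth.Agent.H52.AmpleNondeg
import Groth.Agent.H3.CubeRel
import Groth.Agent.H97.CurveDicho
import Groth.Agent.Lib.SurfInt.GGAmple
import Groth.Agent.H22.YBlow.Basic
import Groth.Agent.Lib.IntTheory.ProductCurves
import Groth.Agent.H2.Rigid.SmoothDense
import Groth.Agent.H26.NormalSection
import Groth.Agent.H4.HomImage

/-!
# Effective non-degenerate classes on abelian varieties are ample
-/

set_option autoImplicit false
set_option linter.style.haveILetI false
universe u

open CategoryTheory CategoryTheory.Limits MonoidalCategory CartesianMonoidalCategory MonObj AlgebraicGeometry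
open Groth.Agent.H3
open Groth.Agent.Lib.GrpQ.MonoClosed (ptOf exists_ptOf)

namespace Groth.Agent.H52.NondegAmple

noncomputable section

local instance (Y : Scheme.{u}) : PicGrp.Law Y := Groth.Agent.Lib.TensorMod.Invertible.law Y

variable {K : Type u} [Field K] [IsAlgClosed K]

local notation "S" => Spec (CommRingCat.of K)
local notation "loc" => CohB1.genLocus

/-- Pullback of a section. -/
def pullSec {X Y : Scheme.{u}} (f : X ⟶ Y) {L : Y.Modules} (s : Coh.structureModule Y ⟶ L) :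
    Coh.structureModule X ⟶ (Scheme.Modules.pullback f).obj L :=
  (PicLoc.pullbackStructureIso f).inv ≫ (Scheme.Modules.pullback f).map s

theorem genLocus_pullSec {X Y : Scheme.{u}} (f : X ⟶ Y) {L : Y.Modules} (hL : PicF.IsInvertible L)
    (s : Coh.structureModule Y ⟶ L) : loc _ (pullSec f s) = f ⁻¹ᵁ loc L s :=
  Groth.Agent.Lib.Ample.GenLocus.genLocus_pullback f hL s (PicLoc.pullbackStructureIso f).symm

/-- A class with a nowhere vanishing section is trivial. -/
theorem eq_one_of_genLocus {X : Scheme.{u}} {M : X.Modules} (hM : PicF.IsInvertible M)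
    (s : Coh.structureModule X ⟶ M) (h : loc M s = ⊤) : PicGrp.cls M hM = 1 := by
  haveI : IsIso s := Groth.Agent.H22.YBlow.isIso_of_genLocus_eq_top s h
  exact (PicGrp.cls_eq_one_iff hM).mpr ⟨(asIso s).symm⟩

theorem cls_tensor {X : Scheme.{u}} {L M : X.Modules} (hL : PicF.IsInvertible L)
    (hM : PicF.IsInvertible M) (h : PicF.IsInvertible (CohB1.tensorMod L M)) :
    PicGrp.cls (CohB1.tensorMod L M) h = PicGrp.cls L hL * PicGrp.cls M hM :=
  Subtype.ext (PicCalc.cl_tensor (a := PicGrp.cls L hL) (b := PicGrp.cls M hM) rfl rfl)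

theorem cls_pullback {X Y : Over S} (f : X ⟶ Y) {L : Y.left.Modules} (hL : PicF.IsInvertible L)
    (h : PicF.IsInvertible ((Scheme.Modules.pullback f.left).obj L)) :
    PicGrp.cls _ h = PicCalc.ph f (PicGrp.cls L hL) :=
  Subtype.ext (PicCalc.cl_pullback f (a := PicGrp.cls L hL) rfl)

omit [IsAlgClosed K] in
/-- A section without zeros, or positivity. -/
theorem ample_or_top {C : Scheme.{u}} [C.Over S] [IsProper (C ↘ S)] [IsIntegral C]
    (hdim : topologicalKrullDim C = 1) {M : C.Modules} (hM : PicF.IsInvertible M)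
    (s : Coh.structureModule C ⟶ M) {c : C} (hc : c ∈ loc M s) :
    loc M s = ⊤ ∨ CohB1.IsAmple M := by
  refine (em (loc M s = ⊤)).imp id fun h => ?_
  obtain ⟨z, hz⟩ : ∃ z, z ∉ loc M s := by
    by_contra! hall
    exact h (top_le_iff.mp fun z _ => hall z)
  exact H97.CurvePositivity.isAmple_of_deg_pos K hdim hM
    (H97.CurveDicho.deg_pos_of_section K hdim.le hM (H97.CurvePositivity.ne_zero_of_mem_genLocus hM hc) hz)

variable {A : Over (Spec (CommRingCat.of K))} [GrpObj A] [IsProper A.hom] [GeometricallyIntegral A.hom]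

/-- Translation by a rational point. -/
abbrev tr (a : 𝟙_ (Over S) ⟶ A) : A ⟶ A := 𝟙 A * (toUnit A ≫ a)

/-- The theorem of the square along a morphism. -/
theorem square {X : Over S} (f : X ⟶ A) (a b : 𝟙_ (Over S) ⟶ A) (ℓ : PicLoc.PicSet A.left) :
    PicCalc.ph (f * (toUnit X ≫ (a * b))) ℓ * PicCalc.ph f ℓ =
      PicCalc.ph (f * (toUnit X ≫ a)) ℓ * PicCalc.ph (f * (toUnit X ≫ b)) ℓ := by
  haveI : Subsingleton (𝟙_ (Over S)).left := inferInstanceAs (Subsingleton (PrimeSpectrum K))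
  haveI : Nonempty (𝟙_ (Over S)).left := inferInstanceAs (Nonempty (PrimeSpectrum K))
  have h := CubeRel.defect_eq_one f (toUnit X ≫ a) (toUnit X ≫ b) ℓ
  have e : ∀ c : 𝟙_ (Over S) ⟶ A, PicCalc.ph (toUnit X ≫ c) ℓ = 1 := fun c => by
    rw [PicCalc.ph_comp, PicCalc.eq_one_of_subsingleton (PicCalc.ph c ℓ), map_one]
  rw [CubeRel.defect, mul_inv_eq_one, e, e] at h
  simp only [← MonObj.comp_mul, e, _root_.mul_one, _root_.mul_assoc] at h
  exact h

theorem comp_tr (z a : 𝟙_ (Over S) ⟶ A) : z ≫ tr a = z * a := by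
  simp [tr, MonObj.comp_mul]

/-- The translate of a rational point. -/
theorem ptOf_tr (z a : 𝟙_ (Over S) ⟶ A) : (tr a).left (ptOf z) = ptOf (z * a) := by
  have e : z ≫ tr a = z * a := by
    simp [tr, MonObj.comp_mul]
  exact (congrArg ptOf e :)

theorem exists_pt_in (O : A.left.Opens) (hO : (O : Set A.left).Nonempty) :
    ∃ a : 𝟙_ (Over S) ⟶ A, ptOf a ∈ O :=
  exists_ptOf (X := A) O.2.isLocallyClosed hO

theorem nonempty_inter (O O' : A.left.Opens) (hO : (O : Set A.left).Nonempty)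
    (hO' : (O' : Set A.left).Nonempty) : ((O ⊓ O' : A.left.Opens) : Set A.left).Nonempty := by
  haveI : IsIntegral A.left := GeometricallyIntegral.isIntegral_of_subsingleton A.hom
  exact nonempty_preirreducible_inter O.2 O'.2 hO hO'

theorem tr_mul (a b : 𝟙_ (Over S) ⟶ A) : tr a ≫ tr b = tr (a * b) := by
  simp only [tr, MonObj.comp_mul, Category.comp_id, comp_toUnit_assoc, _root_.mul_assoc]

theorem preimage_nonempty (f : A ⟶ A) [IsIso f] (O : A.left.Opens) (hO : (O : Set A.left).Nonempty) :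
    ((f.left ⁻¹ᵁ O : A.left.Opens) : Set A.left).Nonempty := by
  haveI : IsIso f.left := inferInstanceAs (IsIso ((Over.forget S).map f))
  obtain ⟨x, hx⟩ := hO
  obtain ⟨y, rfl⟩ := f.left.surjective x
  exact ⟨y, hx⟩

instance isIso_tr (a : 𝟙_ (Over S) ⟶ A) : IsIso (tr a) := by
  refine ⟨tr a⁻¹, ?_, ?_⟩ <;> rw [tr_mul] <;> simp [tr]

variable (L : A.left.Modules) (hL : PicF.IsInvertible L) (s : Coh.structureModule A.left ⟶ L) (hs : s ≠ 0)

include hL hs

theorem loc_nonempty : (loc L s : Set A.left).Nonempty := by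
  haveI : IsIntegral A.left := GeometricallyIntegral.isIntegral_of_subsingleton A.hom
  exact ⟨_, H97.CurvePositivity.genericPoint_mem_genLocus hL hs⟩

theorem genAt_sq (x : A.left) : Groth.Agent.Lib.Ample.GG.GenAt (CohB1.tensorMod L L) x := by
  haveI : JacobsonSpace A.left := LocallyOfFiniteType.jacobsonSpace A.hom
  obtain ⟨z, hzcl, hz⟩ := nonempty_inter_closedPoints (X := A.left)
    (Z := closure {x}) ⟨x, subset_closure rfl⟩ isClosed_closure.isLocallyClosed
  obtain ⟨p, hp⟩ : ∃ p : 𝟙_ (Over S) ⟶ A, ptOf p = z :=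
    ⟨Over.homMk (pointOfClosedPoint A.hom z hz) (pointOfClosedPoint_comp A.hom z hz),
      pointOfClosedPoint_apply A.hom z hz _⟩
  haveI : IsIso (ι[A] : A ⟶ A) := inferInstance
  have hne := loc_nonempty L hL s hs
  obtain ⟨w, hw, hw'⟩ := exists_pt_in _ (nonempty_inter (loc L s)
    ((ι[A] ≫ tr (p * p)).left ⁻¹ᵁ loc L s) hne (preimage_nonempty _ _ hne))
  let a := p⁻¹ * w
  let t := SecTwist.tmulHom (pullSec (tr a).left s) (pullSec (tr a⁻¹).left s)
  have hloc : loc _ t = loc _ (pullSec (tr a⁻¹).left s) ⊓ loc _ (pullSec (tr a).left s) ∨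
      loc _ t = loc _ (pullSec (tr a).left s) ⊓ loc _ (pullSec (tr a⁻¹).left s) :=
    Or.inr (Groth.Agent.Lib.Ample.GenLocus.genLocus_tmulHom (PicLoc.isInvertible_pullback _ hL)
      (PicLoc.isInvertible_pullback _ hL) _ _)
  have h1 : z ∈ loc _ (pullSec (tr a).left s) := by
    rw [genLocus_pullSec _ hL]
    show (tr a).left z ∈ loc L s
    rw [← hp, ptOf_tr, mul_inv_cancel_left]
    exact hw
  have h2 : z ∈ loc _ (pullSec (tr a⁻¹).left s) := by
    rw [genLocus_pullSec _ hL]
    show (tr a⁻¹).left z ∈ loc L s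
    rw [← hp, ptOf_tr]
    have e : (w ≫ ι[A]) ≫ tr (p * p) = p * (p⁻¹ * w)⁻¹ := by
      have hc : ∀ u v : 𝟙_ (Over S) ⟶ A, u * v = v * u := fun u v => by
        haveI : IsCommMonObj A := isCommMonObj_of_isProper_of_geometricallyIntegral A
        exact _root_.mul_comm u v
      rw [← Hom.inv_def, comp_tr, mul_inv_rev, inv_inv, hc p (w⁻¹ * p), _root_.mul_assoc]
    rw [← e]
    exact hw'
  have hmem : z ∈ loc _ t := by
    rcases hloc with h | h <;> rw [h]
    exacts [⟨h2, h1⟩, ⟨h1, h2⟩]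
  have hti := Groth.Agent.Lib.TensorMod.Invertible.isInvertible_tensorMod
    (PicLoc.isInvertible_pullback (tr a).left hL) (PicLoc.isInvertible_pullback (tr a⁻¹).left hL)
  have hgen := Groth.Agent.Lib.Ample.GG.genAt_of_mem_genLocus t
    ((specializes_iff_mem_closure.mpr hzcl).mem_open (CohB1.genLocus _ t).isOpen hmem)
  refine hgen.of_iso ((PicCalc.iso_iff
    (PicCalc.cl_tensor (PicCalc.cl_pullback _ (a := PicGrp.cls L hL) rfl)
      (PicCalc.cl_pullback _ (a := PicGrp.cls L hL) rfl))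
    (PicCalc.cl_tensor (a := PicGrp.cls L hL) (b := PicGrp.cls L hL) rfl rfl)).mpr ?_).some
  have h := square (𝟙 A) a a⁻¹ (PicGrp.cls L hL)
  simp only [mul_inv_cancel, MonObj.comp_one, _root_.mul_one, PicCalc.ph_id] at h
  exact h.symm

set_option maxHeartbeats 1000000 in
/-- A curve on which the square of the class is not ample gives infinitely many invariant translations. -/
theorem infinite_fixing {C : Over S} [IsProper C.hom] [IsIntegral C.left]
    (hdim : topologicalKrullDim C.left = 1) (i : C ⟶ A)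
    (hinj : Function.Injective (fun c : 𝟙_ (Over S) ⟶ C => c ≫ i))
    (hnA : ¬ CohB1.IsAmple ((Scheme.Modules.pullback i.left).obj (CohB1.tensorMod L L))) :
    (∀ a (c c' : 𝟙_ (Over S) ⟶ C), ptOf ((c ≫ i) * a) ∈ loc L s → ptOf ((c' ≫ i) * a) ∈ loc L s) ∧
      ¬ Set.Finite {a : 𝟙_ (Over S) ⟶ A | Nonempty ((Scheme.Modules.pullback (tr a).left).obj L ≅ L)} := by
  haveI : IsIntegral A.left := GeometricallyIntegral.isIntegral_of_subsingleton A.hom
  letI : C.left.Over S := ⟨C.hom⟩
  haveI : IsProper (C.left ↘ S) := ‹IsProper C.hom›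
  haveI : JacobsonSpace C.left := LocallyOfFiniteType.jacobsonSpace C.hom
  obtain ⟨x, -⟩ := exists_ptOf (X := C) isOpen_univ.isLocallyClosed Set.univ_nonempty
  let ℓ : PicLoc.PicSet A.left := PicGrp.cls L hL
  let f : (𝟙_ (Over S) ⟶ A) → (C ⟶ A) := fun a => i * (toUnit C ≫ a)
  let g : (𝟙_ (Over S) ⟶ A) → PicLoc.PicSet C.left := fun a => PicCalc.ph (f a) ℓ
  let Ls : ∀ a, C.left.Modules := fun a => (Scheme.Modules.pullback (f a).left).obj L
  have hLs : ∀ a, PicF.IsInvertible (Ls a) := fun a => PicLoc.isInvertible_pullback _ hL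
  let σ : ∀ a, Coh.structureModule C.left ⟶ Ls a := fun a => pullSec (f a).left s
  have hcls : ∀ a, PicGrp.cls (Ls a) (hLs a) = g a := fun a => cls_pullback (f a) hL (hLs a)
  have hf : ∀ (c : 𝟙_ (Over S) ⟶ C) (a : 𝟙_ (Over S) ⟶ A),
      (f a).left (ptOf c) = ptOf ((c ≫ i) * a) := fun c a => by
    have e : c ≫ f a = (c ≫ i) * a := by
      simp [f, MonObj.comp_mul]
    exact (congrArg ptOf e :)
  have hmem : ∀ (c : 𝟙_ (Over S) ⟶ C) a, ptOf c ∈ loc _ (σ a) ↔ ptOf ((c ≫ i) * a) ∈ loc L s :=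
    fun c a => by
      rw [show loc _ (σ a) = (f a).left ⁻¹ᵁ loc L s from genLocus_pullSec _ hL s, ← hf]
      rfl
  have hsq : ∀ a b, g (a * b) * g 1 = g a * g b := fun a b => by
    have h1 : g 1 = PicCalc.ph i ℓ := by simp only [g, f, MonObj.comp_one, _root_.mul_one]
    rw [h1]
    exact square i a b ℓ
  have hg1 : PicCalc.ph i (ℓ * ℓ) = g 1 * g 1 := by
    simp only [g, f, MonObj.comp_one, _root_.mul_one, map_mul]
  -- one square is trivial
  let U : A.left.Opens := (tr (x ≫ i)).left ⁻¹ᵁ loc L s ⊓ (ι[A] ≫ tr (x ≫ i)).left ⁻¹ᵁ loc L s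
  have hne := loc_nonempty L hL s hs
  have hU : (U : Set A.left).Nonempty :=
    nonempty_inter _ _ (preimage_nonempty _ _ hne) (preimage_nonempty _ _ hne)
  have hUmem : ∀ a, ptOf a ∈ U → ptOf x ∈ loc _ (σ a) ∧ ptOf x ∈ loc _ (σ a⁻¹) := fun a ha => by
    have hc : ∀ u v : 𝟙_ (Over S) ⟶ A, u * v = v * u := fun u v => by
      haveI : IsCommMonObj A := isCommMonObj_of_isProper_of_geometricallyIntegral A
      exact _root_.mul_comm u v
    refine ⟨(hmem x a).mpr ?_, (hmem x a⁻¹).mpr ?_⟩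
    · have := ha.1
      rw [hc, ← ptOf_tr]
      exact this
    · have := ha.2
      rw [hc, ← ptOf_tr]
      have e : ptOf a⁻¹ = (ι[A] : A ⟶ A).left (ptOf a) := (congrArg ptOf (Hom.inv_def a) :)
      rw [e]
      exact this
  have hample : ∀ {M : C.left.Modules} (hM : PicF.IsInvertible M),
      PicGrp.cls M hM = g 1 * g 1 → ¬ CohB1.IsAmple M := fun {M} hM e hA => by
    refine hnA (Groth.Agent.Lib.Ample.Pow.isAmple_of_iso ?_ hA)
    exact ((PicCalc.iso_iff (a := PicGrp.cls M hM) rfl (PicCalc.cl_pullback i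
      (PicCalc.cl_tensor (a := ℓ) (b := ℓ) rfl rfl))).mpr (e.trans hg1.symm)).some
  have hU1 : ∀ a, ptOf a ∈ U → g a = 1 ∧ g a⁻¹ = 1 := fun a ha => by
    obtain ⟨h1, h2⟩ := hUmem a ha
    have hM := Groth.Agent.Lib.TensorMod.Invertible.isInvertible_tensorMod (hLs a) (hLs a⁻¹)
    let t := SecTwist.tmulHom (σ a) (σ a⁻¹)
    have hl : loc _ t = loc _ (σ a) ⊓ loc _ (σ a⁻¹) :=
      Groth.Agent.Lib.Ample.GenLocus.genLocus_tmulHom (hLs a) (hLs a⁻¹) _ _
    have hmt : ptOf x ∈ loc _ t := by rw [hl]; exact ⟨h1, h2⟩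
    rcases ample_or_top (K := K) hdim hM t hmt with h | h
    · rw [hl, inf_eq_top_iff] at h
      exact ⟨(hcls a).symm.trans (eq_one_of_genLocus _ _ h.1),
        (hcls a⁻¹).symm.trans (eq_one_of_genLocus _ _ h.2)⟩
    · refine absurd h (hample hM ?_)
      rw [cls_tensor (hLs a) (hLs a⁻¹), hcls, hcls, ← hsq, mul_inv_cancel]
  obtain ⟨a₀, ha₀⟩ := exists_pt_in U hU
  have h2 : g 1 * g 1 = 1 := by
    have h := hsq a₀ a₀⁻¹
    rwa [mul_inv_cancel, (hU1 a₀ ha₀).1, (hU1 a₀ ha₀).2, _root_.one_mul] at h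
  have hconst : ∀ a, g a = g 1 := fun a => by
    obtain ⟨b, hb, hb'⟩ := exists_pt_in _
      (nonempty_inter U ((ι[A] ≫ tr a).left ⁻¹ᵁ U) hU (preimage_nonempty _ _ hU))
    have hb'' : ptOf (b⁻¹ * a) ∈ U := by
      rw [← ptOf_tr]
      have e : ptOf b⁻¹ = (ι[A] : A ⟶ A).left (ptOf b) := (congrArg ptOf (Hom.inv_def b) :)
      rw [e]
      exact hb'
    have h := hsq b (b⁻¹ * a)
    rw [mul_inv_cancel_left, (hU1 b hb).1, (hU1 _ hb'').1, _root_.one_mul] at h
    exact mul_right_cancel (h.trans h2.symm)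
  -- the translates of the curve meeting the zero set lie in it
  have hall : ∀ a (c c' : 𝟙_ (Over S) ⟶ C), ptOf ((c ≫ i) * a) ∈ loc L s →
      ptOf ((c' ≫ i) * a) ∈ loc L s := fun a c c' hc => by
    rw [← hmem] at hc ⊢
    rcases ample_or_top (K := K) hdim (hLs a) (σ a) hc with h | h
    · rw [h]; trivial
    · exfalso
      have hA2 := Groth.Agent.Lib.Ample.Basis.isAmple_tensor h (hLs a) fun z => by
        obtain ⟨n, hn, t, ht, -⟩ := (Groth.Agent.Lib.Ample.Pow.isAmple_iff.1 h).2.2 z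
        exact ⟨n, hn, t, ht⟩
      exact hample hA2.1 (by rw [cls_tensor (hLs a) (hLs a), hcls, hconst]) hA2
  refine ⟨hall, ?_⟩
  -- descent
  haveI : Smooth A.hom := by
    haveI : GeometricallyConnected A.hom := H2.Rigid.GeomIrred.geometricallyConnected A.hom
    exact H4.HomImage.smooth_of_geometricallyReduced A
  haveI : GeometricallyIntegral C.hom := by
    haveI : GeometricallyIrreducible C.hom :=
      Groth.Agent.Lib.IntTheory.ProductCurves.geometricallyIrreducible K C.left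
    haveI : GeometricallyReduced C.hom := by
      haveI : LocallyOfFinitePresentation C.hom :=
        Groth.Agent.Lib.JacCrit.OverField.locallyOfFinitePresentation C.hom
      have hgen : genericPoint C.left ∈ C.hom.smoothLocus := by
        refine Groth.Agent.Lib.JacCrit.OverField.mem_smoothLocus_of_isRegular C.hom _ ?_
        exact (inferInstance : IsRegularLocalRing C.left.functionField)
      haveI : Smooth (C.hom.smoothLocus.ι ≫ C.hom) := by
        rw [← Scheme.Hom.smoothLocus_eq_top_iff]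
        exact top_le_iff.mp fun z _ => by
          rw [← Scheme.Hom.preimage_smoothLocus_eq]
          exact z.2
      exact H2.Rigid.SmoothDense.geometricallyReduced_of_dense C.hom C.hom.smoothLocus
        (C.hom.smoothLocus.isOpen.dense ⟨_, hgen⟩)
    exact GeometricallyIntegral.of_geometricallyReduced_of_geometricallyIrreducible (f := C.hom)
  haveI : Flat C.hom := inferInstance
  haveI : UniversallyOpen C.hom := UniversallyOpen.of_flat C.hom
  haveI : IsLocallyNoetherian A.left := LocallyOfFiniteType.isLocallyNoetherian A.hom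
  let φ := (fst A C).left
  haveI : IsIntegral (A ⊗ C).left := inferInstanceAs (IsIntegral (pullback A.hom C.hom))
  haveI : IsProper φ := inferInstanceAs (IsProper (pullback.fst A.hom C.hom))
  haveI : Flat φ := inferInstanceAs (Flat (pullback.fst A.hom C.hom))
  haveI : GeometricallyIntegral φ := inferInstanceAs (GeometricallyIntegral (pullback.fst A.hom C.hom))
  haveI : IsLocallyNoetherian (A ⊗ C).left := LocallyOfFiniteType.isLocallyNoetherian φ
  let m : A ⊗ C ⟶ A := fst A C * ((snd A C ≫ i) * (toUnit _ ≫ (x ≫ i)⁻¹))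
  let M := (Scheme.Modules.pullback m.left).obj L
  have hMi : PicF.IsInvertible M := PicLoc.isInvertible_pullback _ hL
  let Nv : (A ⊗ C).left.Modules := (Scheme.Modules.pullback φ).obj L
  have hNv : PicF.IsInvertible Nv := PicLoc.isInvertible_pullback _ hL
  obtain ⟨R, hR, hRc⟩ := PicGrp.exists_eq_cls (PicCalc.ph m ℓ * (PicCalc.ph (fst A C) ℓ)⁻¹)
  let ζ := genericPoint A.left
  let F : Over S := Over.mk (φ.fiberι ζ ≫ (A ⊗ C).hom)
  let j : F ⟶ A ⊗ C := Over.homMk (φ.fiberι ζ) rfl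
  have hsub : (φ ⁻¹ᵁ loc L s : (A ⊗ C).left.Opens) ≤ m.left ⁻¹ᵁ loc L s := by
    intro w hw
    by_contra hw'
    haveI : IsProper (A ⊗ C).hom := by rw [Over.tensorObj_hom]; infer_instance
    obtain ⟨q, hq1, hq2⟩ := exists_ptOf (X := A ⊗ C)
      ((φ ⁻¹ᵁ loc L s).2.isLocallyClosed.inter (m.left ⁻¹ᵁ loc L s).2.isClosed_compl.isLocallyClosed)
      ⟨w, hw, hw'⟩
    apply hq2
    show ptOf (q ≫ m) ∈ loc L s
    have e : q ≫ m = ((q ≫ snd A C) ≫ i) * ((x ≫ i)⁻¹ * (q ≫ fst A C)) := by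
      simp only [m, MonObj.comp_mul, Category.assoc]
      rw [show q ≫ toUnit (A ⊗ C) ≫ (x ≫ i)⁻¹ = (x ≫ i)⁻¹ by
        rw [← Category.assoc, Subsingleton.elim (q ≫ toUnit _) (𝟙 _), Category.id_comp]]
      haveI : IsCommMonObj A := isCommMonObj_of_isProper_of_geometricallyIntegral A
      rw [_root_.mul_comm (q ≫ fst A C), _root_.mul_assoc]
    rw [e]
    refine hall _ x _ ?_
    rw [mul_inv_cancel_left]
    exact hq1
  have hjφ : ∀ w, φ (φ.fiberι ζ w) = ζ := fun w => by
    have : φ.fiberι ζ w ∈ φ ⁻¹' {ζ} := by rw [← φ.range_fiberι]; exact ⟨w, rfl⟩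
    exact this
  have hηs : ζ ∈ loc L s := H97.CurvePositivity.genericPoint_mem_genLocus hL hs
  have htriv : ∀ (q : A ⊗ C ⟶ A), (φ ⁻¹ᵁ loc L s : (A ⊗ C).left.Opens) ≤ q.left ⁻¹ᵁ loc L s →
      PicCalc.ph (j ≫ q) ℓ = 1 := fun q hq => by
    rw [← cls_pullback (j ≫ q) hL (PicLoc.isInvertible_pullback _ hL)]
    refine eq_one_of_genLocus _ (pullSec (j ≫ q).left s) ?_
    rw [genLocus_pullSec _ hL]
    exact top_le_iff.mp fun w _ => hq (show φ (φ.fiberι ζ w) ∈ loc L s by rw [hjφ]; exact hηs)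
  have hgen : PicCalc.ph j (PicGrp.cls R hR) = 1 := by
    rw [← hRc, map_mul, map_inv, ← PicCalc.ph_comp, ← PicCalc.ph_comp, htriv m hsub,
      htriv (fst A C) le_rfl, inv_one, _root_.mul_one]
  obtain ⟨N, hN, ⟨e⟩⟩ := Groth.Agent.Lib.PicGen.Main.exists_descent φ
    (fun z => by
      haveI := Groth.Agent.Lib.JacCrit.OverField.isRegularLocalRing_stalk A.hom z
        (by rw [A.hom.smoothLocus_eq_top]; trivial)
      exact ⟨Groth.Agent.Lib.Regular.Quotient.isDomain _,
        Groth.Agent.Lib.Regular.UFD.isIntegrallyClosed _⟩)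
    (fun y => GeometricallyIntegral.geometrically_isIntegral (f := φ) _ _ _
      (IsPullback.of_hasPullback φ (A.left.fromSpecResidueField y)))
    (Or.inl inferInstance) R hR
    ((PicCalc.iso_iff (PicCalc.cl_pullback j (a := PicGrp.cls R hR) rfl)
      (b := (1 : PicLoc.PicSet F.left)) PicGrp.one_val.symm).mpr hgen)
  have hm : PicCalc.ph m ℓ * (PicCalc.ph (fst A C) ℓ)⁻¹ = PicCalc.ph (fst A C) (PicGrp.cls N hN) :=
    hRc.trans (Subtype.ext ((PicGrp.cl_eq_cl_iff _ _).mpr ⟨e⟩))
  have hr : ∀ c : 𝟙_ (Over S) ⟶ C, PicCalc.ph (tr ((c ≫ i) * (x ≫ i)⁻¹)) ℓ * ℓ⁻¹ = PicGrp.cls N hN :=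
    fun c => by
      have h := congrArg (PicCalc.ph (lift (𝟙 A) (toUnit A ≫ c))) hm
      simp only [map_mul, map_inv, ← PicCalc.ph_comp, lift_fst, PicCalc.ph_id, m, MonObj.comp_mul,
        lift_snd_assoc, Category.assoc, comp_toUnit_assoc] at h
      simp only [tr, MonObj.comp_mul]
      exact h
  have hfix : ∀ c : 𝟙_ (Over S) ⟶ C,
      Nonempty ((Scheme.Modules.pullback (tr ((c ≫ i) * (x ≫ i)⁻¹)).left).obj L ≅ L) := fun c => by
    refine (PicCalc.iso_iff (PicCalc.cl_pullback _ (a := ℓ) rfl) (b := ℓ) rfl).mpr ?_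
    have hx : tr ((x ≫ i) * (x ≫ i)⁻¹) = 𝟙 A := by simp [tr]
    have h := (hr c).trans (hr x).symm
    rw [hx, PicCalc.ph_id, mul_inv_cancel, mul_inv_eq_one] at h
    exact h
  intro hfin
  have hCfin : (Set.univ : Set (𝟙_ (Over S) ⟶ C)).Finite :=
    (hfin.preimage (fun c _ c' _ h => hinj (mul_right_cancel h) :
      Set.InjOn (fun c : 𝟙_ (Over S) ⟶ C => (c ≫ i) * (x ≫ i)⁻¹) _)).subset fun c _ => hfix c
  have hclosed : (closedPoints C.left).Finite := (hCfin.image ptOf).subset fun z hz =>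
    ⟨Over.homMk (pointOfClosedPoint C.hom z hz) (pointOfClosedPoint_comp C.hom z hz), trivial,
      pointOfClosedPoint_apply C.hom z hz _⟩
  have huniv : closedPoints C.left = Set.univ := by
    have h1 : IsClosed (closedPoints C.left) := by
      rw [← Set.biUnion_of_singleton (closedPoints C.left)]
      exact hclosed.isClosed_biUnion fun z hz => hz
    rw [← h1.closure_eq, closure_closedPoints]
  haveI : Finite C.left := Set.finite_univ_iff.mp (huniv ▸ hclosed)
  haveI : T1Space C.left := ⟨fun z => (huniv.ge (Set.mem_univ z) : z ∈ closedPoints C.left)⟩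
  have h0 := topologicalKrullDim_zero_of_discreteTopology C.left
  rw [hdim] at h0
  exact absurd h0 (by decide)

theorem isAmple (hnd : Set.Finite {a : 𝟙_ (Over S) ⟶ A |
    Nonempty ((Scheme.Modules.pullback (tr a).left).obj L ≅ L)}) : CohB1.IsAmple L := by
  letI : A.left.Over S := ⟨A.hom⟩
  haveI : IsProper (A.left ↘ S) := ‹IsProper A.hom›
  have hLL := Groth.Agent.Lib.TensorMod.Invertible.isInvertible_tensorMod hL hL
  have h2 : CohB1.IsAmple (CohB1.tensorMod L L) := by
    refine Groth.Agent.Lib.SurfInt.GGAmple.isAmple K hLL (genAt_sq L hL s hs) fun C hC hCd => ?_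
    haveI := hC
    let C' : Over S := Over.mk (C.subschemeι ≫ A.hom)
    let i : C' ⟶ A := Over.homMk C.subschemeι rfl
    haveI : IsProper C'.hom := inferInstanceAs (IsProper (C.subschemeι ≫ A.hom))
    haveI : IsIntegral C'.left := hC
    haveI : Mono i.left := inferInstanceAs (Mono C.subschemeι)
    haveI : Mono i := Over.mono_of_mono_left i
    have hdimC : topologicalKrullDim C'.left = 1 := by
      rw [← hCd]
      exact IsHomeomorph.topologicalKrullDim_eq _
        (C.subschemeι.isClosedEmbedding.isEmbedding.toHomeomorph.trans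
          (Homeomorph.setCongr C.range_subschemeι)).isHomeomorph
    by_contra hnA
    exact (infinite_fixing L hL s hs hdimC i (fun c c' h => (cancel_mono i).1 h) hnA).2 hnd
  refine (Groth.Agent.Lib.Ample.Pow.isAmple_tensorPow_iff hL two_pos).mpr
    (Groth.Agent.Lib.Ample.Pow.isAmple_of_iso
      (Groth.Agent.Lib.TensorMod.Basic.tensorIso
        (Groth.Agent.Lib.TensorMod.Basic.leftUnit L).symm (Iso.refl L)) h2)

end

end Groth.Agent.H52.NondegAmple
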