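import Groth.Agent.Lib.GrpQ.MonoClosed
import Groth.Agent.Lib.GrpSch.BaseChange
import Mathlib.AlgebraicGeometry.Morphisms.Flat

/-!
The open image of a homomorphism of algebraic groups over a field is closed.
-/

set_option autoImplicit false
set_option linter.style.haveILetI false
universe u

open CategoryTheory Limits MonoidalCategory CartesianMonoidalCategory MonObj AlgebraicGeometry

namespace Groth.Agent.H52.OpenRange

open Groth.Agent.Lib Groth.Agent.Lib.GrpQ.MonoClosed

variable {k : Type u} [Field k]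

theorem isClosed_range_of_isOpen_algClosed [IsAlgClosed k] {G H : Over (Spec (CommRingCat.of k))}
    [GrpObj G] [GrpObj H] [LocallyOfFiniteType G.hom] [LocallyOfFiniteType H.hom] (f : G ⟶ H)
    [IsMonHom f] (hf : IsOpen (Set.range f.left)) : IsClosed (Set.range f.left) := by
  haveI : JacobsonSpace H.left := LocallyOfFiniteType.jacobsonSpace H.hom
  set V := Set.range f.left with hV
  rw [← isOpen_compl_iff, isOpen_iff_forall_mem_open]
  -- every rational point of the complement is interior
  have key : ∀ z : 𝟙_ (Over (Spec (CommRingCat.of k))) ⟶ H, ptOf z ∉ V →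
      ∃ W : Set H.left, W ⊆ Vᶜ ∧ IsOpen W ∧ ptOf z ∈ W := by
    intro z hz
    refine ⟨(rmul z⁻¹).left ⁻¹' V, fun y hy hyV => hz ?_, hf.preimage (rmul z⁻¹).left.continuous, ?_⟩
    · obtain ⟨w, hw⟩ := exists_ptOf (X := H) (s := (rmul z⁻¹).left ⁻¹' V ∩ V)
        ((hf.preimage (rmul z⁻¹).left.continuous).inter hf).isLocallyClosed ⟨y, hy, hyV⟩
      obtain ⟨hw1, hw2⟩ := hw
      rw [Set.mem_preimage, ptOf_rmul] at hw1
      obtain ⟨x₁, hx₁⟩ := exists_ptOf (X := G) (s := f.left ⁻¹' {ptOf (w * z⁻¹)})
        ((show IsClosed ({ptOf (w * z⁻¹)} : Set H.left) from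
          isClosed_ptOf _).preimage f.left.continuous).isLocallyClosed
        (let ⟨x, hx⟩ := hw1; ⟨x, hx⟩)
      obtain ⟨x₂, hx₂⟩ := exists_ptOf (X := G) (s := f.left ⁻¹' {ptOf w})
        ((show IsClosed ({ptOf w} : Set H.left) from
          isClosed_ptOf _).preimage f.left.continuous).isLocallyClosed
        (let ⟨x, hx⟩ := hw2; ⟨x, hx⟩)
      have e₁ := eq_comp_of_ptOf_eq f x₁ _ hx₁
      have e₂ := eq_comp_of_ptOf_eq f x₂ _ hx₂
      have e : z = (x₁⁻¹ * x₂) ≫ f := by
        rw [MonObj.mul_comp, GrpObj.inv_comp, ← e₁, ← e₂, mul_inv_rev, inv_inv, inv_mul_cancel_right]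
      exact ⟨_, (ptOf_comp _ f).trans (congrArg ptOf e.symm)⟩
    · rw [Set.mem_preimage, ptOf_rmul, mul_inv_cancel]
      exact ⟨ptOf η[G], (ptOf_comp _ f).trans (congrArg ptOf (by
        rw [IsMonHom.one_hom, Hom.one_def, toUnit_unique (toUnit _) (𝟙 _), Category.id_comp]))⟩
  intro y hy
  obtain ⟨z, hz⟩ := exists_ptOf (X := H) (s := closure {y}) isClosed_closure.isLocallyClosed
    ⟨y, subset_closure rfl⟩
  obtain ⟨W, hW, hWo, hzW⟩ := key z (fun h => hy ((specializes_iff_mem_closure.mpr hz).mem_open hf h))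
  exact ⟨W, hW, hWo, (specializes_iff_mem_closure.mpr hz).mem_open hWo hzW⟩
where
  isClosed_ptOf {k : Type u} [Field k] {H : Over (Spec (CommRingCat.of k))} [GrpObj H]
      (z : 𝟙_ (Over (Spec (CommRingCat.of k))) ⟶ H) : IsClosed ({ptOf z} : Set H.left) := by
    haveI := GrpSch.isSeparated_of_field H
    haveI : Subsingleton (Spec (CommRingCat.of k)) := inferInstanceAs (Subsingleton (PrimeSpectrum k))
    haveI : IsClosedImmersion z.left :=
      isClosedImmersion_of_comp_eq_id (f := H.hom) (g := (z.left : Spec (CommRingCat.of k) ⟶ H.left)) (Over.w z)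
    haveI : Subsingleton (𝟙_ (Over (Spec (CommRingCat.of k)))).left :=
      inferInstanceAs (Subsingleton (PrimeSpectrum k))
    have e : Set.range z.left = {ptOf z} := by
      refine Set.Subset.antisymm ?_ (Set.singleton_subset_iff.mpr ⟨_, rfl⟩)
      rintro _ ⟨w, rfl⟩
      exact congrArg z.left (Subsingleton.elim _ _)
    exact e ▸ z.left.isClosedEmbedding.isClosed_range

/-- Over any field. -/
theorem isClosed_range_of_isOpen {G H : Over (Spec (CommRingCat.of k))}
    [GrpObj G] [GrpObj H] [LocallyOfFiniteType G.hom] [LocallyOfFiniteType H.hom] (f : G ⟶ H)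
    [IsMonHom f] (hf : IsOpen (Set.range f.left)) : IsClosed (Set.range f.left) := by
  let K := AlgebraicClosure k
  let b := GrpSch.extBase k K
  haveI : LocallyOfFiniteType (Red.bc b G).hom := GrpSch.bc_hom_of b G ‹_›
  haveI : LocallyOfFiniteType (Red.bc b H).hom := GrpSch.bc_hom_of b H ‹_›
  have e : Set.range ((Over.pullback b).map f).left = GrpSch.bcProj b H ⁻¹' Set.range f.left := by
    have hp := GrpSch.isPullback_bc_map b f
    conv_lhs => rw [← hp.isoPullback_hom_fst]
    rw [← Scheme.Pullback.range_fst, Scheme.Hom.comp_base, TopCat.coe_comp, Set.range_comp]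
    rw [Set.range_eq_univ.mpr (show Function.Surjective hp.isoPullback.hom from hp.isoPullback.hom.homeomorph.surjective), Set.image_univ]
  obtain ⟨⟨h1, h2⟩, h3⟩ := GrpSch.bcProj_surjective_flat_qc k K H
  haveI := h1; haveI := h2; haveI := h3
  have := isClosed_range_of_isOpen_algClosed ((Over.pullback b).map f)
    (e ▸ hf.preimage (GrpSch.bcProj b H).continuous)
  rw [e] at this
  exact (Flat.isQuotientMap_of_surjective (GrpSch.bcProj b H)).isClosed_preimage.mp this

end Groth.Agent.H52.OpenRange
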