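import Groth.Agent.H52.PushInv
import Groth.Agent.Lib.ParaF.Glue

/-!
Descent of parafactoriality along flat surjective quasi-compact maps.
-/

noncomputable section

universe u

open CategoryTheory CategoryTheory.Limits AlgebraicGeometry Opposite TopologicalSpace TensorProduct
open Groth.Agent.Lib Groth.Agent.Lib.TensorMod Groth.Agent.Lib.TensorMod.Dual Groth.Agent.Lib.TensorMod.Gen
open Groth.Agent.Lib.TensorMod.Pullback Groth.Agent.Lib.Ample.GenLocus
open Groth.Agent.Lib.ParaF.ResBij Groth.Agent.Lib.ParaF.Pair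

namespace Groth.Agent.H52.ParaFDescent

theorem map_ker_eq_top {A B Q : Type*} [CommRing A] [CommRing B] [Algebra A B] [AddCommGroup Q] [Module A Q]
    [Module.Flat A B] (q : Q) (h : (1 : B) ⊗ₜ[A] q = 0) :
    Ideal.map (algebraMap A B) (LinearMap.ker (LinearMap.toSpanSingleton A Q q)) = ⊤ := by
  let l := LinearMap.toSpanSingleton A Q q
  have hex := Module.Flat.lTensor_exact B (LinearMap.exact_subtype_ker_map l)
  obtain ⟨w, hw⟩ := (hex ((1 : B) ⊗ₜ[A] (1 : A))).mp
    (by rw [LinearMap.lTensor_tmul, LinearMap.toSpanSingleton_apply, one_smul]; exact h)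
  rw [Ideal.eq_top_iff_one]
  have key : ∀ w, TensorProduct.rid A B ((LinearMap.ker l).subtype.lTensor B w) ∈
      Ideal.map (algebraMap A B) (LinearMap.ker l) := by
    intro w
    induction w using TensorProduct.induction_on with
    | zero => simp
    | tmul b k =>
      rw [LinearMap.lTensor_tmul, TensorProduct.rid_tmul, Algebra.smul_def]
      exact Ideal.mul_mem_right _ _ (Ideal.mem_map_of_mem _ k.2)
    | add u v hu hv => simp only [map_add]; exact add_mem hu hv
  have := key w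
  rw [hw, TensorProduct.rid_tmul, one_smul] at this
  exact this

variable {X Y Y' P : Scheme.{u}} {f : X ⟶ Y} {g : Y' ⟶ Y} {π : P ⟶ X} {f' : P ⟶ Y'}

/-- An element dying on a flat cover vanishes. -/
theorem eq_zero_of_cover [Surjective g] [Flat g] {V : Y.Opens} (hV : IsAffineOpen V) {Q : Type u}
    [AddCommGroup Q] [Module Γ(Y, V) Q] (q : Q)
    (h : ∀ (V' : Y'.Opens) (_ : IsAffineOpen V') (hVV : V' ≤ g ⁻¹ᵁ V),
      letI := (g.appLE V V' hVV).hom.toAlgebra; (1 : Γ(Y', V')) ⊗ₜ[Γ(Y, V)] q = 0) : q = 0 := by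
  let I := LinearMap.ker (LinearMap.toSpanSingleton Γ(Y, V) Q q)
  suffices hI : I = ⊤ by
    have h1 : (1 : Γ(Y, V)) ∈ I := by rw [hI]; trivial
    simpa [I] using h1
  by_contra hI
  obtain ⟨p, hp, hIp⟩ := Ideal.exists_le_maximal I hI
  let x : PrimeSpectrum Γ(Y, V) := ⟨p, hp.isPrime⟩
  obtain ⟨y', hy'⟩ := g.surjective (hV.fromSpec x)
  have hyV : y' ∈ g ⁻¹ᵁ V := by
    show g y' ∈ V
    rw [hy']
    exact hV.range_fromSpec.le ⟨x, rfl⟩
  obtain ⟨V', hV', hy'V', hVV⟩ := exists_isAffineOpen_mem_and_subset (X := Y') (x := y') (U := g ⁻¹ᵁ V) hyV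
  letI := (g.appLE V V' hVV).hom.toAlgebra
  have : Module.Flat Γ(Y, V) Γ(Y', V') := g.flat_appLE hV hV' hVV
  have h2 := map_ker_eq_top q (h V' hV' hVV)
  obtain ⟨z, rfl⟩ : y' ∈ Set.range hV'.fromSpec := by rw [hV'.range_fromSpec]; exact hy'V'
  have h3 : PrimeSpectrum.comap (g.appLE V V' hVV).hom z = x :=
    hV.fromSpec.isOpenEmbedding.injective
      ((congr($(IsAffineOpen.SpecMap_appLE_fromSpec g hV hV' hVV) z)).trans hy')
  have h4 : Ideal.map (algebraMap Γ(Y, V) Γ(Y', V')) I ≤ z.asIdeal := by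
    refine Ideal.map_le_iff_le_comap.2 (hIp.trans (le_of_eq ?_))
    exact (congrArg PrimeSpectrum.asIdeal h3).symm
  exact z.2.ne_top (top_le_iff.1 (h2 ▸ h4))

/-- Bijectivity of functions descends. -/
theorem bijective_app_descent (h : IsPullback π f' f g) [Flat g] [Surjective g] [QuasiCompact f]
    [QuasiSeparated f] (hf' : ∀ V' : Y'.Opens, IsAffineOpen V' → Function.Bijective (f'.app V'))
    {V : Y.Opens} (hV : IsAffineOpen V) : Function.Bijective (f.app V) := by
  letI := (f.appLE V (f ⁻¹ᵁ V) le_rfl).hom.toAlgebra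
  let η : Γ(Y, V) →ₗ[Γ(Y, V)] Γ(X, f ⁻¹ᵁ V) := Algebra.linearMap _ _
  have hη : ⇑(f.app V).hom = η := by rw [Scheme.Hom.app_eq_appLE]; rfl
  show Function.Bijective (f.app V).hom
  rw [hη]
  refine ⟨(injective_iff_map_eq_zero η).2 fun a ha => ?_, fun c => ?_⟩
  · refine eq_zero_of_cover (g := g) hV a fun V' hV' hVV => ?_
    obtain ⟨ψ, hψ, hψt⟩ := GenDescent.exists_sectionsIso h hV hV' hVV le_rfl (f.isCompact_preimage hV.isCompact)
      (f.isQuasiSeparated_preimage hV.isQuasiSeparated) (f' ⁻¹ᵁ V')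
      (inf_eq_right.2 (GenDescent.preimage_le h hVV)).symm
    letI := (g.appLE V V' hVV).hom.toAlgebra
    have h1 : ψ (algebraMap Γ(Y, V) Γ(Y', V') a ⊗ₜ[Γ(Y, V)] (1 : Γ(X, f ⁻¹ᵁ V))) = 0 := by
      rw [Algebra.algebraMap_eq_smul_one, TensorProduct.smul_tmul, ← Algebra.algebraMap_eq_smul_one]
      show ψ (1 ⊗ₜ[Γ(Y, V)] η a) = 0
      rw [ha, TensorProduct.tmul_zero, map_zero]
    rw [hψt, map_one, mul_one, ← Scheme.Hom.app_eq_appLE] at h1
    have h2 : algebraMap Γ(Y, V) Γ(Y', V') a = 0 := (hf' V' hV').1 (h1.trans (map_zero _).symm)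
    refine (TensorProduct.rid Γ(Y, V) Γ(Y', V')).injective ?_
    rw [map_zero, TensorProduct.rid_tmul, ← Algebra.algebraMap_eq_smul_one, h2]
  · suffices h0 : Submodule.Quotient.mk (p := LinearMap.range η) c = 0 by
      exact (Submodule.Quotient.mk_eq_zero _).1 h0
    refine eq_zero_of_cover (g := g) hV _ fun V' hV' hVV => ?_
    obtain ⟨ψ, hψ, hψt⟩ := GenDescent.exists_sectionsIso h hV hV' hVV le_rfl (f.isCompact_preimage hV.isCompact)
      (f.isQuasiSeparated_preimage hV.isQuasiSeparated) (f' ⁻¹ᵁ V')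
      (inf_eq_right.2 (GenDescent.preimage_le h hVV)).symm
    letI := (g.appLE V V' hVV).hom.toAlgebra
    obtain ⟨b, hb⟩ := (hf' V' hV').2 (ψ ((1 : Γ(Y', V')) ⊗ₜ[Γ(Y, V)] c))
    have h1 : (1 : Γ(Y', V')) ⊗ₜ[Γ(Y, V)] c = b ⊗ₜ[Γ(Y, V)] η 1 := by
      refine hψ.1 ?_
      rw [← hb, hψt b, show η 1 = (1 : Γ(X, f ⁻¹ᵁ V)) by simp [η], map_one, mul_one,
        Scheme.Hom.app_eq_appLE]
    have h2 := congrArg ((LinearMap.range η).mkQ.lTensor Γ(Y', V')) h1
    rw [LinearMap.lTensor_tmul, LinearMap.lTensor_tmul,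
      show (LinearMap.range η).mkQ (η 1) = 0 from (Submodule.Quotient.mk_eq_zero _).2 ⟨1, rfl⟩,
      TensorProduct.tmul_zero] at h2
    exact h2

/-- Functions on an open subscheme. -/
theorem bijective_app_of_resBij {Z : Scheme.{u}} (j : Z ⟶ X) [IsOpenImmersion j]
    (h : ResBij j.opensRange (Coh.structureModule X)) (W : X.Opens) : Function.Bijective (j.app W) := by
  have h1 : j.app W = X.presheaf.map (homOfLE (j.image_preimage_le W)).op ≫ (j.appIso (j ⁻¹ᵁ W)).hom := by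
    rw [← Iso.comp_inv_eq]
    exact j.app_appIso_inv W
  rw [h1]
  exact (ConcreteCategory.bijective_of_isIso (j.appIso (j ⁻¹ᵁ W)).hom).comp
    ((presheaf_map_bijective_congr (M := Coh.structureModule X)
      (by rw [j.image_preimage_eq_opensRange_inf, inf_comm]) rfl _ _).1 (h W))

variable {X' : Scheme.{u}} (φ : X' ⟶ X) (Z : Closeds X)

/-- The complement, as an open of the scheme. -/
abbrev cpl : X.Opens := Z.compl

theorem quasiCompact_incl (hU : QuasiCompact (cpl Z).ι) (V : X.Opens) : QuasiCompact (incl V Z.compl) := by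
  refine quasiCompact_iff_forall_isAffineOpen.2 fun W hW => ?_
  rw [(incl V Z.compl).isOpenEmbedding.isInducing.isCompact_iff, V.ι.isOpenEmbedding.isInducing.isCompact_iff]
  have h1 : IsCompact ((cpl Z).ι '' (((cpl Z).ι ⁻¹ᵁ (V.ι ''ᵁ W) : (cpl Z : Scheme.{u}).Opens) : Set _)) :=
    ((cpl Z).ι.isCompact_preimage (hW.image_of_isOpenImmersion V.ι).isCompact).image (cpl Z).ι.continuous
  convert h1 using 1
  ext x
  constructor
  · rintro ⟨v, ⟨u, hu, rfl⟩, rfl⟩
    exact ⟨⟨u.1, u.2.2⟩, ⟨incl V Z.compl u, hu, X.homOfLE_apply inf_le_left u⟩,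
      (X.homOfLE_apply inf_le_left u).symm⟩
  · rintro ⟨⟨y, hy⟩, ⟨v, hv, he⟩, rfl⟩
    refine ⟨v, ⟨⟨v.1, v.2, ?_⟩, ?_, ?_⟩, he⟩
    · have : v.1 = y := he
      rw [this]; exact hy
    · show incl V Z.compl _ ∈ W
      rw [show incl V Z.compl _ = v from Subtype.ext (X.homOfLE_apply inf_le_left _)]
      exact hv
    · exact Subtype.ext (X.homOfLE_apply inf_le_left _)

theorem isParafactorialPair [QuasiCompact φ] [Flat φ] [Surjective φ] (hU : QuasiCompact (cpl Z).ι)
    (h : ParaF.IsParafactorialPair X' (ParaF.closedsPreimage φ Z)) : ParaF.IsParafactorialPair X Z := by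
  have hR' := ((isParafactorialPair_iff _).1 h).1
  have hb : ∀ W : X.Opens, Function.Bijective ((cpl Z).ι.app W) := fun W => by
    refine PushInv.bijective_app_of_affine (cpl Z).ι (fun x O hx => ?_) W
    obtain ⟨W, hW, hxW, hle⟩ := exists_isAffineOpen_mem_and_subset (X := X) (x := x) (U := O) hx
    refine ⟨W, hxW, hle, bijective_app_descent (isPullback_morphismRestrict φ Z.compl)
      (fun W' _ => bijective_app_of_resBij _ ?_ W') hW⟩
    rw [Scheme.Opens.opensRange_ι]
    exact hR'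
  have hR : ResBij Z.compl (Coh.structureModule X) := fun W => by
    have h1 := hb W
    rw [Scheme.Opens.ι_app] at h1
    refine (presheaf_map_bijective_congr (M := Coh.structureModule X) ?_ rfl _ _).1 h1
    rw [Scheme.Hom.image_preimage_eq_opensRange_inf, Scheme.Opens.opensRange_ι, inf_comm]
  refine (isParafactorialPair_iff Z).2 ⟨hR, fun V L hL => ?_⟩
  have := quasiCompact_incl Z hU V
  let V' : X'.Opens := φ ⁻¹ᵁ V
  let j' := incl V' (ParaF.closedsPreimage φ Z).compl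
  let r : ((V' ⊓ (ParaF.closedsPreimage φ Z).compl : X'.Opens) : Scheme.{u}) ⟶
      ((V ⊓ Z.compl : X.Opens) : Scheme.{u}) := φ ∣_ (V ⊓ Z.compl)
  have big : IsPullback r (V' ⊓ (ParaF.closedsPreimage φ Z).compl).ι (V ⊓ Z.compl).ι φ :=
    isPullback_morphismRestrict φ (V ⊓ Z.compl)
  have hw : r ≫ incl V Z.compl = j' ≫ φ ∣_ V := by
    rw [← cancel_mono V.ι]
    simp only [Category.assoc, Scheme.homOfLE_ι, morphismRestrict_ι]
    rw [← Category.assoc, Scheme.homOfLE_ι]
    exact big.w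
  have hsq : IsPullback r j' (incl V Z.compl) (φ ∣_ V) := by
    refine IsPullback.of_bot ?_ hw (isPullback_morphismRestrict φ V)
    rw [Scheme.homOfLE_ι, Scheme.homOfLE_ι]
    exact big
  have hbj : ∀ W : (V : Scheme.{u}).Opens, Function.Bijective ((incl V Z.compl).app W) :=
    bijective_app_of_resBij _ (resBij_incl hR)
  have : Surjective (φ ∣_ V) := IsZariskiLocalAtTarget.restrict (P := @Surjective) ‹_› V
  have : Flat (φ ∣_ V) := IsZariskiLocalAtTarget.restrict (P := @Flat) ‹_› V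
  obtain ⟨M', hM', ⟨e⟩⟩ := (h V').2 _ (PicLoc.isInvertible_pullback r hL)
  refine PushInv.isInvertible_push _ hbj (PushInv.exists_gens hsq hL (fun W _ => hbj W) fun y' => ?_)
  obtain ⟨O, e₀, hy, he₀⟩ := isInvertible_iff.1 hM' y'
  exact ⟨O, _, hy, PushInv.isGen_of_iso ((Scheme.Modules.restrictFunctorIsoPullback j').symm.app M' ≪≫ e)
    (isGen_unitSec j' he₀)⟩

end Groth.Agent.H52.ParaFDescent
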