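import Groth.Agent.H52.CurveJoin

/-!
# The pencil of lines through a rational point, specialised at field-valued points
-/

set_option autoImplicit false
set_option linter.style.haveILetI false
universe u

open CategoryTheory CategoryTheory.Limits MonoidalCategory CartesianMonoidalCategory AlgebraicGeometry
open scoped TensorProduct
open Groth.Agent.Lib.GrpQ.MonoClosed (ptOf)

namespace Groth.Agent.H52.PencilCurve

variable {K : Type u} [Field K] [IsAlgClosed K]

local notation "S" => Spec (CommRingCat.of K)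

omit [IsAlgClosed K] in
theorem eval_one_pencil' {k L : Type u} [CommRing k] [CommRing L] {n : ℕ} (q : Fin n → k)
    (f : k →+* L) (p : Fin n → L) :
    ((Polynomial.evalRingHom 1).comp (Polynomial.mapRingHom (MvPolynomial.eval₂Hom f p))).comp
      (CurveJoinAlg.pencil q) = MvPolynomial.eval₂Hom f p :=
  MvPolynomial.ringHom_ext (fun c => by simp) fun i => by simp

set_option maxHeartbeats 800000 in
/-- The member of the pencil through `a` and a field valued point in general position. -/
theorem exists_pencil {U : Over S} [Smooth U.hom] [IsIntegral U.left] (a : 𝟙_ (Over S) ⟶ U) :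
    ∃ O : U.left.Opens, (O : Set U.left).Nonempty ∧
      ∀ (L : Type u) [Field L] [Algebra K L] (x : Spec (CommRingCat.of L) ⟶ U.left),
        x ≫ U.hom = Spec.map (CommRingCat.ofHom (algebraMap K L)) →
        x (IsLocalRing.closedPoint L) ∈ O →
        ∃ (Y : Over (Spec (CommRingCat.of L))) (ψ : Y.left ⟶ Spec (CommRingCat.of (Polynomial L)))
          (f : Y.left ⟶ U.left) (y₀ y₁ : 𝟙_ (Over (Spec (CommRingCat.of L))) ⟶ Y),
          IsAffine Y.left ∧ IsIntegral Y.left ∧ Smooth Y.hom ∧ GeometricallyIntegral Y.hom ∧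
          Etale ψ ∧ ψ ≫ Spec.map (CommRingCat.ofHom Polynomial.C) = Y.hom ∧
          f ≫ U.hom = Y.hom ≫ Spec.map (CommRingCat.ofHom (algebraMap K L)) ∧
          y₀.left ≫ f = Spec.map (CommRingCat.ofHom (algebraMap K L)) ≫ a.left ∧
          y₁.left ≫ f = x := by
  classical
  obtain ⟨R, e, n, φ₀, he, hae, hφ₀, hf⟩ := CurveJoin.exists_chart U.hom (ptOf a)
  haveI := he
  haveI : Nonempty (Spec R) := ⟨hae.choose⟩
  haveI : IsIntegral (Spec R) := isIntegral_of_isOpenImmersion e
  haveI : IsDomain R := (affine_isIntegral_iff R).mp inferInstance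
  let A := MvPolynomial (Fin n) K
  let cK : S ⟶ S := 𝟙 _
  let αS : S ⟶ Spec R := IsOpenImmersion.lift e a.left (by
    rintro _ ⟨z, rfl⟩
    obtain rfl : z = IsLocalRing.closedPoint K := Subsingleton.elim (α := PrimeSpectrum K) _ _
    exact hae)
  have hαS : αS ≫ e = a.left := IsOpenImmersion.lift_fac _ _ _
  let α := Spec.preimage αS
  let π : Spec R ⟶ Spec (CommRingCat.of A) := Spec.map φ₀
  haveI : Etale π := (HasRingHomProperty.Spec_iff (P := @Etale)).2 hφ₀
  let q : Fin n → K := fun i => α.hom (φ₀.hom (MvPolynomial.X i))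
  have hstr : ∀ (x : 𝟙_ (Over S) ⟶ U) (xS : S ⟶ Spec R), xS ≫ e = x.left →
      ∀ c, (Spec.preimage xS).hom (φ₀.hom (MvPolynomial.C c)) = c := by
    intro x xS hx c
    have h : xS ≫ π ≫ Spec.map (CommRingCat.ofHom MvPolynomial.C) = 𝟙 _ := by
      rw [hf, ← Category.assoc, hx]
      exact Over.w x
    rw [← Spec.map_preimage xS, ← Spec.map_comp, ← Spec.map_comp, ← Spec.map_id] at h
    exact congr($(Spec.map_injective h).hom c)
  let φS : Spec (CommRingCat.of (Polynomial A)) ⟶ Spec (CommRingCat.of A) :=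
    Spec.map (CommRingCat.ofHom (CurveJoinAlg.pencil q))
  let C' : Spec (CommRingCat.of (Polynomial A)) ⟶ Spec (CommRingCat.of A) :=
    Spec.map (CommRingCat.ofHom Polynomial.C)
  haveI : Smooth C' := (HasRingHomProperty.Spec_iff (P := @Smooth)).2
    (RingHom.smooth_algebraMap.mpr (⟨inferInstance, inferInstance⟩ : Algebra.Smooth A (Polynomial A)))
  let Y := pullback π φS
  haveI : IsIntegral Y := CurveJoin.isIntegral_pencil φ₀ hφ₀ q
  let gP : Y ⟶ Spec (CommRingCat.of (Polynomial A)) := pullback.snd π φS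
  haveI : Etale gP := inferInstanceAs (Etale (pullback.snd π φS))
  let g := gP ≫ C'
  haveI : Smooth g := inferInstanceAs (Smooth (gP ≫ C'))
  let σA : Spec (CommRingCat.of A) ⟶ Spec R :=
    Spec.map (CommRingCat.ofHom MvPolynomial.C) ≫ αS
  let ev₀ : Spec (CommRingCat.of A) ⟶ Spec (CommRingCat.of (Polynomial A)) :=
    Spec.map (CommRingCat.ofHom (Polynomial.evalRingHom 0))
  have hσ0 : σA ≫ π = ev₀ ≫ φS := by
    simp only [σA, π, φS, ev₀]
    rw [← Spec.map_preimage αS, ← Spec.map_comp, ← Spec.map_comp, ← Spec.map_comp]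
    congr 1
    have hαq : α.hom.comp φ₀.hom = MvPolynomial.eval q := MvPolynomial.ringHom_ext
      (fun c => (hstr a αS hαS c).trans (MvPolynomial.eval_C c).symm)
      fun i => (MvPolynomial.eval_X (f := q) i).symm
    refine CommRingCat.hom_ext ?_
    exact ((congrArg (RingHom.comp MvPolynomial.C) hαq).trans (CurveJoin.eval_zero_pencil q).symm)
  let σ : Spec (CommRingCat.of A) ⟶ Y := pullback.lift σA ev₀ hσ0
  have hσ : σ ≫ g = 𝟙 _ := by
    simp only [σ, g, gP, ev₀, C']
    rw [pullback.lift_snd_assoc, ← Spec.map_comp, ← Spec.map_id]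
    congr 1
    exact CommRingCat.hom_ext CurveJoin.eval_zero_comp_C
  haveI : GeometricallyIrreducible (g.fiberToSpecResidueField (genericPoint (Spec (CommRingCat.of A)))) := by
    haveI := CurveJoin.irreducibleSpace_fiber g σ hσ
    haveI : GeometricallyConnected (g.fiberToSpecResidueField (genericPoint (Spec (CommRingCat.of A)))) :=
      Lib.GrpSch.geometricallyConnected_of_rationalPoint _
        (pullback.lift (Scheme.fromSpecResidueField _ _ ≫ σ) (𝟙 _)
          (((Category.assoc _ _ _).trans ((congrArg (_ ≫ ·) hσ).trans (Category.comp_id _))).trans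
            (Category.id_comp _).symm))
        (pullback.lift_snd _ _ _)
    haveI : Smooth (g.fiberToSpecResidueField (genericPoint (Spec (CommRingCat.of A)))) :=
      inferInstanceAs (Smooth (pullback.snd g _))
    haveI := H2.Rigid.GeomIrred.geometricallyIntegral_of_smooth
      (g.fiberToSpecResidueField (genericPoint (Spec (CommRingCat.of A))))
    infer_instance
  haveI : IsLocallyNoetherian (Spec (CommRingCat.of A)) := inferInstance
  obtain ⟨V, hV, hVg⟩ := S0419.result g ‹_›
  haveI := hVg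
  refine ⟨e ''ᵁ (π ⁻¹ᵁ V), ?_, fun L _ _ x hxK hx => ?_⟩
  · obtain ⟨z, hzV, w, rfl⟩ := nonempty_preirreducible_inter V.2 π.isOpenMap.isOpen_range hV
      (Set.range_nonempty π)
    exact ⟨e w, w, hzV, rfl⟩
  obtain ⟨w, hwV, hwx⟩ := hx
  let b : Spec (CommRingCat.of L) ⟶ S := Spec.map (CommRingCat.ofHom (algebraMap K L))
  let βS : Spec (CommRingCat.of L) ⟶ Spec R := IsOpenImmersion.lift e x (by
    rintro _ ⟨z, rfl⟩
    obtain rfl : z = IsLocalRing.closedPoint L := Subsingleton.elim (α := PrimeSpectrum L) _ _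
    exact ⟨w, hwx⟩)
  have hβS : βS ≫ e = x := IsOpenImmersion.lift_fac _ _ _
  let β := Spec.preimage βS
  let p : Fin n → L := fun i => β.hom (φ₀.hom (MvPolynomial.X i))
  let evp : A →+* L := MvPolynomial.eval₂Hom (algebraMap K L) p
  let sp : Spec (CommRingCat.of L) ⟶ Spec (CommRingCat.of A) := Spec.map (CommRingCat.ofHom evp)
  have hstrL : ∀ c, β.hom (φ₀.hom (MvPolynomial.C c)) = algebraMap K L c := by
    intro c
    have h : βS ≫ π ≫ Spec.map (CommRingCat.ofHom MvPolynomial.C) = b := by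
      rw [hf, ← Category.assoc, hβS, hxK]
    rw [← Spec.map_preimage βS, ← Spec.map_comp, ← Spec.map_comp] at h
    exact congr($(Spec.map_injective h).hom c)
  have hβp : β.hom.comp φ₀.hom = evp := MvPolynomial.ringHom_ext
    (fun c => (hstrL c).trans (MvPolynomial.eval₂Hom_C _ _ c).symm)
    fun i => (MvPolynomial.eval₂Hom_X' (algebraMap K L) p i).symm
  have hsp : βS ≫ π = sp := by
    simp only [π, sp]
    rw [← Spec.map_preimage βS, ← Spec.map_comp]
    congr 1
    exact CommRingCat.hom_ext hβp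
  have hspV : Set.range sp ⊆ Set.range V.ι := by
    rintro _ ⟨z, rfl⟩
    obtain rfl : z = IsLocalRing.closedPoint L := Subsingleton.elim (α := PrimeSpectrum L) _ _
    rw [Scheme.Opens.range_ι, ← hsp]
    change π (βS (IsLocalRing.closedPoint L)) ∈ V
    have : βS (IsLocalRing.closedPoint L) = w := e.isOpenEmbedding.injective
      (((Scheme.Hom.comp_apply βS e _).symm.trans
        (congrArg (fun h : Spec (CommRingCat.of L) ⟶ U.left => h (IsLocalRing.closedPoint L)) hβS)).trans hwx.symm)
    rw [this]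
    exact hwV
  -- the fibre
  let sT : Spec (CommRingCat.of (Polynomial L)) ⟶ Spec (CommRingCat.of (Polynomial A)) :=
    Spec.map (CommRingCat.ofHom (Polynomial.mapRingHom evp))
  let cT : Spec (CommRingCat.of (Polynomial L)) ⟶ Spec (CommRingCat.of L) :=
    Spec.map (CommRingCat.ofHom Polynomial.C)
  have hsq : IsPullback sT cT C' sp := by
    letI : Algebra A L := evp.toAlgebra
    letI : Algebra (Polynomial A) (Polynomial L) := (Polynomial.mapRingHom evp).toAlgebra
    exact isPullback_SpecMap_of_isPushout _ _ _ _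
      (CommRingCat.isPushout_of_isPushout A (Polynomial A) L (Polynomial L))
  let Yp := pullback gP sT
  let p₂ : Yp ⟶ Spec (CommRingCat.of (Polynomial L)) := pullback.snd gP sT
  have hY : IsPullback (pullback.fst gP sT) (p₂ ≫ cT) g sp :=
    (IsPullback.of_hasPullback gP sT).paste_vert hsq
  haveI : IrreducibleSpace ↥Yp := by
    let spV : Spec (CommRingCat.of L) ⟶ (V : Scheme.{u}) := IsOpenImmersion.lift V.ι sp hspV
    have hspι : spV ≫ V.ι = sp := IsOpenImmersion.lift_fac _ _ _
    haveI : IrreducibleSpace ↥(pullback (g ∣_ V) spV) :=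
      GeometricallyIrreducible.geometrically_irreducibleSpace (f := g ∣_ V) spV _ _
        (IsPullback.of_hasPullback (g ∣_ V) spV)
    have hbig := (IsPullback.of_hasPullback (g ∣_ V) spV).paste_horiz (isPullback_morphismRestrict g V).flip
    rw [hspι] at hbig
    exact (Scheme.homeoOfIso (hbig.isoIsPullback _ _ hY)).irreducibleSpace_iff.1 inferInstance
  haveI : Smooth cT := (HasRingHomProperty.Spec_iff (P := @Smooth)).2
    (RingHom.smooth_algebraMap.mpr (⟨inferInstance, inferInstance⟩ : Algebra.Smooth L (Polynomial L)))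
  haveI : Etale p₂ := inferInstanceAs (Etale (pullback.snd gP sT))
  haveI : Smooth (p₂ ≫ cT) := inferInstance
  haveI : IsIntegral Yp := H2.Rigid.GeomIrred.isIntegral_of_smooth (p₂ ≫ cT)
  haveI : IsAffine Yp := inferInstance
  let qL : Fin n → L := fun i => algebraMap K L (q i)
  have e0 : evp.comp (MvPolynomial.C (σ := Fin n)) = algebraMap K L :=
    RingHom.ext fun c => MvPolynomial.eval₂Hom_C _ _ c
  have hid : sp ≫ Spec.map (CommRingCat.ofHom (MvPolynomial.C (σ := Fin n) (R := K))) = b := by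
    simp only [sp, b]
    rw [← Spec.map_comp]
    congr 1
    exact CommRingCat.hom_ext e0
  let t₀ : Spec (CommRingCat.of L) ⟶ Spec (CommRingCat.of (Polynomial L)) :=
    Spec.map (CommRingCat.ofHom (Polynomial.evalRingHom 0))
  let t₁ : Spec (CommRingCat.of L) ⟶ Spec (CommRingCat.of (Polynomial L)) :=
    Spec.map (CommRingCat.ofHom (Polynomial.evalRingHom 1))
  have h₀ : (sp ≫ σ) ≫ gP = t₀ ≫ sT := by
    simp only [σ, gP, Category.assoc, pullback.lift_snd, sp, ev₀, t₀, sT]
    rw [← Spec.map_comp, ← Spec.map_comp]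
    congr 1
    exact CommRingCat.hom_ext (CurveJoin.eval_zero_map evp).symm
  have h₁π : βS ≫ π = (t₁ ≫ sT) ≫ φS := by
    rw [hsp]
    simp only [sp, t₁, sT, φS, Category.assoc]
    rw [← Spec.map_comp, ← Spec.map_comp]
    congr 1
    exact CommRingCat.hom_ext (eval_one_pencil' q (algebraMap K L) p).symm
  let y₀ : Spec (CommRingCat.of L) ⟶ Yp := pullback.lift (sp ≫ σ) t₀ h₀
  let y₁ : Spec (CommRingCat.of L) ⟶ Yp :=
    pullback.lift (pullback.lift βS (t₁ ≫ sT) h₁π) t₁ (pullback.lift_snd _ _ _)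
  let toU : Yp ⟶ U.left := pullback.fst gP sT ≫ pullback.fst π φS ≫ e
  have hcT : ∀ r : L, Spec.map (CommRingCat.ofHom (Polynomial.evalRingHom r)) ≫ cT = 𝟙 _ := by
    intro r
    simp only [cT]
    rw [← Spec.map_comp, ← Spec.map_id]
    congr 1
    exact CommRingCat.hom_ext (RingHom.ext fun c => by simp)
  have hy₀ : y₀ ≫ toU = b ≫ a.left := by
    simp only [y₀, toU, σ, σA, pullback.lift_fst_assoc, Category.assoc]
    rw [reassoc_of% hid, hαS]
  have hy₁ : y₁ ≫ toU = x := by
    simp only [y₁, toU, pullback.lift_fst_assoc]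
    exact hβS
  have htoU : toU ≫ U.hom = (p₂ ≫ cT) ≫ b := by
    have e1 : φS ≫ Spec.map (CommRingCat.ofHom (MvPolynomial.C (σ := Fin n) (R := K))) =
        C' ≫ Spec.map (CommRingCat.ofHom (MvPolynomial.C (σ := Fin n) (R := K))) := by
      simp only [φS, C']
      rw [← Spec.map_comp, ← Spec.map_comp]
      congr 1
      exact CommRingCat.hom_ext (CurveJoin.pencil_comp_C q)
    simp only [toU, Category.assoc, ← hf]
    rw [reassoc_of% (pullback.condition : pullback.fst π φS ≫ π = _), e1,
      ← Category.assoc gP C', reassoc_of% hY.w, hid]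
  let Y : Over (Spec (CommRingCat.of L)) := Over.mk (p₂ ≫ cT)
  let z₀ : 𝟙_ (Over (Spec (CommRingCat.of L))) ⟶ Y := Over.homMk y₀ (by
    show y₀ ≫ p₂ ≫ cT = 𝟙 _
    simp only [y₀, p₂, pullback.lift_snd_assoc]
    exact hcT 0)
  let z₁ : 𝟙_ (Over (Spec (CommRingCat.of L))) ⟶ Y := Over.homMk y₁ (by
    show y₁ ≫ p₂ ≫ cT = 𝟙 _
    simp only [y₁, p₂, pullback.lift_snd_assoc]
    exact hcT 1)
  haveI : ConnectedSpace ↥Y.left := inferInstanceAs (ConnectedSpace ↥Yp)
  haveI : Smooth Y.hom := inferInstanceAs (Smooth (p₂ ≫ cT))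
  haveI : GeometricallyConnected Y.hom :=
    Lib.GrpSch.geometricallyConnected_of_rationalPoint Y.hom z₀.left (Over.w z₀)
  exact ⟨Y, p₂, toU, z₀, z₁, ‹IsAffine Yp›, ‹IsIntegral Yp›, inferInstance,
    H2.Rigid.GeomIrred.geometricallyIntegral_of_smooth Y.hom, ‹Etale p₂›, rfl, htoU, hy₀, hy₁⟩

end Groth.Agent.H52.PencilCurve
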