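import Groth.Agent.H52.PoincareFibre
import Groth.Agent.H52.BaseToClosure
import Groth.Agent.H4.KerDual.BidualRel
import Groth.Agent.H4.KerDual.Lambda
import Groth.Agent.Lib.ExchangeFP29.FieldPoint
import Groth.Agent.H2.Rigid.GeomIrred

/-!
# The Poincaré bundle over an arbitrary field: passage to the closure
-/

set_option autoImplicit false
set_option linter.style.haveILetI false
set_option linter.unusedSectionVars false
universe u

open CategoryTheory CategoryTheory.Limits MonoidalCategory CartesianMonoidalCategory MonObj AlgebraicGeometry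
open TopologicalSpace
open Groth.Agent.H3
open Groth.Agent.H52.BaseToClosure (Cl)
open Groth.Agent.H4.KerDual (bcProd bcFst res)

namespace Groth.Agent.H52.PoincareBC

noncomputable section

local instance poincareBCLaw (Y : Scheme.{u}) : PicGrp.Law Y := Groth.Agent.Lib.TensorMod.Invertible.law Y

/-- The two projections of a product stay cartesian after base change. -/
theorem isPullback_bcProd {S S' : Scheme.{u}} (t : S' ⟶ S) (A B : Over S) :
    IsPullback (bcProd t A B) (snd (Red.bc t A) (Red.bc t B)).left (snd A B).left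
      (pullback.fst B.hom t) := by
  have hT : IsPullback (PicF.XTmap A.hom (bcFst t B))
      (pullback.snd A.hom (res t (Red.bc t B)).hom) (pullback.snd A.hom B.hom) (pullback.fst B.hom t) := by
    refine IsPullback.of_right ?_ (pullback.lift_snd _ _ _) (IsPullback.of_hasPullback A.hom B.hom)
    rw [show PicF.XTmap A.hom (bcFst t B) ≫ pullback.fst A.hom B.hom = pullback.fst A.hom (res t (Red.bc t B)).hom from
      (pullback.lift_fst _ _ _).trans (Category.comp_id _)]
    convert IsPullback.of_hasPullback A.hom (res t (Red.bc t B)).hom using 1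
    exact pullback.condition.trans rfl
  refine hT.of_iso (AgPol.bcXTIso t A (Red.bc t B)).symm (Iso.refl _) (Iso.refl _) (Iso.refl _) ?_ ?_ ?_ ?_
  · rw [bcProd]
    simp
  · simp only [Iso.refl_hom, Category.comp_id, Iso.symm_hom]
    exact (pullbackLeftPullbackSndIso_inv_snd_snd _ _ _).symm
  · simp
  · simp

variable {k : Type u} [Field k] {A At : Over (Spec (CommRingCat.of k))} [GrpObj A] [IsProper A.hom]
  [Smooth A.hom] [GeometricallyConnected A.hom] [GrpObj At] [IsProper At.hom] [Smooth At.hom]
  [GeometricallyConnected At.hom]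
  {φ : ∀ T : Over (Spec (CommRingCat.of k)), PicF.Cl (PicF.XT A.hom T) → (T ⟶ At)}
  (hφ : AbDual.IsDualAV Scheme.fppfPrecoverage A At φ)
  (D : (A ⊗ At).left.Modules) (hD : PicF.IsInvertible D) (hDξ : AbDual.IsPoincareCl A At φ (PicF.cl D))

local notation "tK" => Groth.Agent.Lib.GrpSch.extBase k (Cl k)

include hφ hD hDξ in
/-- What the closure sees. -/
theorem closure_data (g : ℕ) (hg : topologicalKrullDim A.left = g) :
    topologicalKrullDim At.left = g ∧
    ((∀ n, n ≠ g → Subsingleton (Coh.HH (A ⊗ At).left D n)) ∧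
      @Module.finrank k (Coh.HH (A ⊗ At).left D g) _ _
        (@Coh.moduleOver k _ (A ⊗ At).left ⟨(A ⊗ At).hom⟩ D g) = 1) ∧
    (∀ y : At.left, IsClosed ({y} : Set At.left) →
      y ≠ η[At].left (IsLocalRing.closedPoint k : PrimeSpectrum k) →
      ∀ n, Subsingleton (CohIII.fiberH (snd A At).left D y n)) ∧
    (∀ y : At.left, IsClosed ({y} : Set At.left) → ∀ n, g < n →
      Subsingleton (CohIII.fiberH (snd A At).left D y n)) := by
  let A' := Red.bc tK A
  let At' := Red.bc tK At
  haveI : IsProper A'.hom := inferInstanceAs (IsProper (pullback.snd A.hom tK))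
  haveI : Smooth A'.hom := inferInstanceAs (Smooth (pullback.snd A.hom tK))
  haveI : GeometricallyConnected A'.hom := inferInstanceAs (GeometricallyConnected (pullback.snd A.hom tK))
  haveI : IsProper At'.hom := inferInstanceAs (IsProper (pullback.snd At.hom tK))
  haveI : Smooth At'.hom := inferInstanceAs (Smooth (pullback.snd At.hom tK))
  haveI : GeometricallyConnected At'.hom := inferInstanceAs (GeometricallyConnected (pullback.snd At.hom tK))
  haveI := Groth.Agent.H2.Rigid.GeomIrred.geometricallyIntegral_of_smooth A'.hom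
  haveI := Groth.Agent.H2.Rigid.GeomIrred.geometricallyIntegral_of_smooth At'.hom
  haveI := Groth.Agent.H2.Rigid.GeomIrred.geometricallyIntegral_of_smooth A.hom
  haveI := Groth.Agent.H2.Rigid.GeomIrred.geometricallyIntegral_of_smooth At.hom
  have hφ' := Groth.Agent.H4.KerDual.isDualAV_bc tK hφ
  have hξ' := Groth.Agent.H4.KerDual.isPoincareCl_bc tK hφ hDξ
  let π : (A' ⊗ At').left ⟶ (A ⊗ At).left := bcProd tK A At
  let D' := (Scheme.Modules.pullback π).obj D
  have hD' : PicF.IsInvertible D' := PicLoc.isInvertible_pullback _ hD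
  have hDξ' : PicF.cl D' = PicF.pullCl (bcProd tK A At) (PicF.cl D) := rfl
  -- dimensions
  haveI : IsCommMonObj At := isCommMonObj_of_isProper_of_geometricallyIntegral At
  have hg' : topologicalKrullDim A'.left = g := Groth.Agent.H63.AVBaseChange.topologicalKrullDim_bc (Cl k) A hg
  haveI : IsIntegral At.left := GeometricallyIntegral.isIntegral_of_subsingleton At.hom
  obtain ⟨gt, hgt⟩ : ∃ gt : ℕ, topologicalKrullDim At.left = gt :=
    ⟨_, Groth.Agent.Lib.GenFinite.Basic.topologicalKrullDim_eq_fdelta At.hom⟩
  have hgt' : topologicalKrullDim At'.left = gt :=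
    Groth.Agent.H63.AVBaseChange.topologicalKrullDim_bc (Cl k) At hgt
  obtain rfl : gt = g := by
    refine le_antisymm (PoincareFibre.dim_le hφ' hξ' D' hD' hDξ' g gt hg' hgt') ?_
    have h := Groth.Agent.H4.KerDual.topologicalKrullDim_le hφ
    rw [hg, hgt] at h
    exact_mod_cast h
  have hsq : IsPullback π (snd A' At').left (snd A At).left (pullback.fst At.hom tK) :=
    isPullback_bcProd tK A At
  have hfull : IsPullback π (A' ⊗ At').hom (A ⊗ At).hom tK := by
    have h := hsq.paste_vert (Groth.Agent.Lib.GrpSch.isPullback_bc tK At)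
    rw [show (snd A' At').left ≫ (Red.bc tK At).hom = (A' ⊗ At').hom from Over.w (snd A' At'),
      show (snd A At).left ≫ At.hom = (A ⊗ At).hom from Over.w (snd A At)] at h
    exact h
  refine ⟨hgt, ?_, ?_⟩
  · obtain ⟨hv, h1⟩ := PoincareCoh.exists_coh hφ' hξ' D' hD' hDξ' gt hg' hgt'
    letI : (A ⊗ At).left.Over (Spec (CommRingCat.of k)) := ⟨(A ⊗ At).hom⟩
    letI : (A' ⊗ At').left.Over (Spec (CommRingCat.of (Cl k))) := ⟨(A' ⊗ At').hom⟩
    haveI : IsProper (A ⊗ At).hom := inferInstanceAs (IsProper (pullback.fst A.hom At.hom ≫ A.hom))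
    haveI : CompactSpace (A ⊗ At).left := QuasiCompact.compactSpace_of_compactSpace (A ⊗ At).hom
    haveI : QuasiSeparatedSpace (A ⊗ At).left := quasiSeparatedSpace_of_quasiSeparated (A ⊗ At).hom
    haveI : D.IsQuasicoherent := Groth.Agent.Lib.TensorMod.QCohInv.isQCoh_of_isInvertible hD
    have h : IsPullback π ((A' ⊗ At').left ↘ Spec (CommRingCat.of (Cl k)))
        ((A ⊗ At).left ↘ Spec (CommRingCat.of k))
        (Spec.map (CommRingCat.ofHom (algebraMap k (Cl k)))) := hfull
    refine ⟨fun n hn => ?_, ?_⟩
    · obtain ⟨e⟩ := ZarCoh.FlatBC.Equiv.nonempty_linearEquiv h D n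
      haveI : Subsingleton (Coh.HH (A' ⊗ At').left D' n) := hv n hn
      haveI := e.toEquiv.subsingleton
      exact (Module.FaithfullyFlat.subsingleton_tensorProduct_iff_right k (Cl k)).mp inferInstance
    · obtain ⟨e⟩ := ZarCoh.FlatBC.Equiv.nonempty_linearEquiv h D gt
      rw [← Module.finrank_baseChange (R := Cl k), e.finrank_eq]
      exact h1
  -- fibres
  haveI : IsLocallyNoetherian At.left := LocallyOfFiniteType.isLocallyNoetherian At.hom
  haveI : IsLocallyNoetherian At'.left := LocallyOfFiniteType.isLocallyNoetherian At'.hom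
  haveI : IsProper (snd A At).left := inferInstanceAs (IsProper (pullback.snd A.hom At.hom))
  haveI : Flat (snd A At).left := inferInstanceAs (Flat (pullback.snd A.hom At.hom))
  haveI : JacobsonSpace At'.left := LocallyOfFiniteType.jacobsonSpace At'.hom
  haveI : IsLocallyNoetherian (A ⊗ At).left := LocallyOfFiniteType.isLocallyNoetherian (snd A At).left
  let p : At'.left ⟶ At.left := pullback.fst At.hom tK
  haveI : Surjective p := MorphismProperty.of_isPullback (P := @Surjective)
    (IsPullback.of_hasPullback At.hom tK).flip inferInstance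
  have hcoh := Groth.Agent.Lib.Ample.GG.isCoh_of_isInvertible hD
  have hfl := Groth.Agent.Lib.Cube.FamCx.isFlatOver_of_isInvertible (snd A At).left hD
  have hdesc : ∀ (y : At.left) (n : ℕ), IsClosed ({y} : Set At.left) →
      (∀ y' : At'.left, IsClosed ({y'} : Set At'.left) → p y' = y →
        Subsingleton (CohIII.fiberH (snd A' At').left D' y' n)) →
      Subsingleton (CohIII.fiberH (snd A At).left D y n) := fun y n hy hsub => by
    obtain ⟨y', hy', hy'c⟩ := nonempty_inter_closedPoints (Z := p ⁻¹' {y})
      (p.surjective y) (hy.preimage p.continuous).isLocallyClosed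
    haveI := hsub y' hy'c hy'
    refine RelAcyclic.subsingleton_fiberH (snd A At).left D hcoh y n ?_
    haveI : D.IsQuasicoherent := hcoh.1
    have hbc := Groth.Agent.Lib.ExchangeFP29.FieldPoint.fiberRank_baseChange (snd A At).left D
      (Groth.Agent.Lib.ZarCoh.FP.isFP_of_isCoh D hcoh) hfl p π (snd A' At').left hsq n y'
    rw [show p y' = y from hy'] at hbc
    rw [← hbc]
    exact Module.finrank_zero_of_subsingleton
  refine ⟨fun y hy hye n => hdesc y n hy fun y' hy' hpy => ?_,
    fun y hy n hn => hdesc y n hy fun y' hy' _ => PoincareFibre.fiber_above D' hD' gt hg'.le y' hy' n hn⟩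
  refine PoincareFibre.fiber_off hφ' hξ' D' hD' hDξ' y' hy' (fun h => hye ?_) n
  rw [← hpy, h]
  refine (Scheme.Hom.comp_apply _ _ _).symm.trans ?_
  have e : η[Red.bc tK At].left ≫ pullback.fst At.hom tK = tK ≫ η[At].left := by
    show (Functor.LaxMonoidal.ε (Over.pullback tK) ≫ (Over.pullback tK).map η[At]).left ≫ _ = _
    rw [Over.comp_left, Category.assoc,
      show ((Over.pullback tK).map η[At]).left ≫ pullback.fst At.hom tK = pullback.fst _ tK ≫ η[At].left from
        pullback.lift_fst _ _ _, ← Category.assoc]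
    congr 1
    have hw := Over.w (Functor.LaxMonoidal.ε (Over.pullback tK))
    have hc : pullback.fst (𝟙_ (Over (Spec (CommRingCat.of k)))).hom tK ≫ (𝟙_ (Over (Spec (CommRingCat.of k)))).hom =
        pullback.snd _ tK ≫ tK :=
      pullback.condition
    rw [show (𝟙_ (Over (Spec (CommRingCat.of k)))).hom = 𝟙 _ from rfl] at hc
    erw [Category.comp_id] at hc
    rw [show pullback.fst (𝟙_ (Over (Spec (CommRingCat.of k)))).hom tK = pullback.snd _ tK ≫ tK from hc,
      ← Category.assoc]
    erw [hw]
    exact Category.id_comp _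
  refine (congrArg (fun m : Spec (CommRingCat.of (Cl k)) ⟶ At.left =>
    m (IsLocalRing.closedPoint (Cl k) : PrimeSpectrum (Cl k))) e).trans ?_
  exact congrArg η[At].left (Subsingleton.elim (α := PrimeSpectrum k) _ _)

end

end Groth.Agent.H52.PoincareBC
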