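import Groth.Agent.Lib.H3.DualAV
import Groth.Agent.Lib.H3.PhiInj
import Groth.Agent.H52.AVHomPointed

/-!
# A Poincaré class from a non-degenerate invertible module
-/

set_option autoImplicit false
set_option linter.style.haveILetI false
set_option linter.unusedSectionVars false
universe u

open CategoryTheory CategoryTheory.Limits MonoidalCategory CartesianMonoidalCategory MonObj GrpObj AlgebraicGeometry

namespace Groth.Agent.H52.PoincareExists

open Groth.Agent.H3 Groth.Agent.H3.PicCalc Groth.Agent.Lib Groth.Agent.Lib.H3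

noncomputable section

variable {k : Type u} [Field k] [IsAlgClosed k]

local notation "S" => Spec (CommRingCat.of k)

local instance poincareExistsLaw (Y : Scheme.{u}) : PicGrp.Law Y := Groth.Agent.Lib.TensorMod.Invertible.law Y

variable {A At : Over (Spec (CommRingCat.of k))} [GrpObj A] [IsCommMonObj A] [IsProper A.hom] [Smooth A.hom]
  [GeometricallyIntegral A.hom] [GrpObj At] [IsProper At.hom] [Smooth At.hom] [GeometricallyIntegral At.hom]
  {φ : ∀ T : Over (Spec (CommRingCat.of k)), PicF.Cl (PicF.XT A.hom T) → (T ⟶ At)}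
  (hφ : AbDual.IsDualAV Scheme.fppfPrecoverage A At φ)
  {L : A.left.Modules} (hL : PicF.IsInvertible L) {Λ : (A ⊗ A).left.Modules} (hΛi : PicF.IsInvertible Λ)
  (hΛ : AgPol.IsLambdaSheaf μ[A].left (fst A A).left (snd A A).left L Λ)
  (hΛ0 : AbDual.IsPicZeroCl A.hom A (PicGrp.cls Λ hΛi).1)

include hL hΛ in
theorem rig_mumford : ph (lift (1 : A ⟶ A) (𝟙 A)) (PicGrp.cls Λ hΛi) = 1 := by
  haveI : Subsingleton (𝟙_ (Over S)).left := inferInstanceAs (Subsingleton S)
  haveI : Nonempty (𝟙_ (Over S)).left := inferInstanceAs (Nonempty S)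
  have h := congrArg (ph (lift (1 : A ⟶ A) (𝟙 A))) (ThetaLift.cls_mul A hL hΛi hΛ)
  rw [map_mul, map_mul, ← ph_comp, ← ph_comp, ← ph_comp, lift_fst, lift_snd, ph_id, ← Hom.mul_def,
    _root_.one_mul, ph_id, Hom.one_def, ph_comp (toUnit A) η[A],
    eq_one_of_subsingleton (ph η[A] (PicGrp.cls L hL)), map_one, _root_.mul_one] at h
  exact mul_eq_right.1 h

include hφ hL hΛ hΛ0 in
theorem isMonHom_phi : IsMonHom (φ A (PicGrp.cls Λ hΛi).1) := by
  refine Groth.Agent.H52.AffToAV.isMonHom_of_pointed _ ?_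
  haveI : Subsingleton (𝟙_ (Over S)).left := inferInstanceAs (Subsingleton S)
  haveI : Nonempty (𝟙_ (Over S)).left := inferInstanceAs (Nonempty S)
  have h1 : ph (A ◁ η[A]) (PicGrp.cls Λ hΛi) = 1 := by
    have e : A ◁ η[A] = fst A (𝟙_ (Over S)) ≫ ThetaLift.axis A := by
      apply CartesianMonoidalCategory.hom_ext
      · simp
      · rw [whiskerLeft_snd, Category.assoc, lift_snd, MonObj.comp_one, Hom.one_def]
        congr 1
        exact toUnit_unique _ _
    rw [e, ph_comp, ThetaLift.ph_axis A hL hΛi hΛ, map_one]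
  have h0 : AbDual.IsPicZeroCl A.hom (𝟙_ (Over S)) (ph (A ◁ η[A]) (PicGrp.cls Λ hΛi)).1 :=
    Groth.Agent.H4.PicZero.isPicZeroCl_ph η[A] _ (whiskerLeft_snd A _) hΛ0
  rw [← Groth.Agent.H4.PicZero.phi_natural hφ η[A] hΛ0, h1, Groth.Agent.H4.PicZero.phi_one hφ (h1 ▸ h0)]
  exact MonObj.one_eq_one (M := At)

set_option maxHeartbeats 1000000 in
include hφ hL hΛ hΛ0 in
/-- **The Poincaré class.** -/
theorem exists_isPoincareCl [IsFinite (φ A (PicGrp.cls Λ hΛi).1).left]
    [Flat (φ A (PicGrp.cls Λ hΛi).1).left] [Surjective (φ A (PicGrp.cls Λ hΛi).1).left] :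
    ∃ (D : (A ⊗ At).left.Modules) (hD : PicF.IsInvertible D), AbDual.IsPoincareCl A At φ (PicF.cl D) ∧
      ph (A ◁ φ A (PicGrp.cls Λ hΛi).1) (PicGrp.cls D hD) = PicGrp.cls Λ hΛi := by
  haveI : Flat A.hom := inferInstance
  haveI : Subsingleton (Spec (CommRingCat.of k)) := inferInstance
  haveI : Subsingleton (𝟙_ (Over S)).left := inferInstanceAs (Subsingleton S)
  haveI : Nonempty (𝟙_ (Over S)).left := inferInstanceAs (Nonempty S)
  haveI := isMonHom_phi hφ hL hΛi hΛ hΛ0
  let ℓ := PicGrp.cls L hL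
  let lam := PicGrp.cls Λ hΛi
  let q : A ⟶ At := φ A lam.1
  have hmul := ThetaLift.cls_mul A hL hΛi hΛ
  have hrig := rig_mumford hL hΛi hΛ
  -- the kernel
  let K : Over S := pullback q η[At]
  let iK : K ⟶ A := pullback.fst q η[At]
  have hiq : iK ≫ q = 1 := by
    rw [Hom.one_def, show toUnit K = pullback.snd q η[At] from toUnit_unique _ _]
    exact pullback.condition
  have hfac : ∀ {T : Over S} (a : T ⟶ A), a ≫ q = 1 → ∃ z : T ⟶ K, z ≫ iK = a := fun a ha =>
    ⟨pullback.lift a (toUnit _) (by rw [ha, Hom.one_def]), pullback.lift_fst _ _ _⟩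
  haveI : Mono η[At] := ⟨fun a b _ => toUnit_unique _ _⟩
  haveI : Mono iK := inferInstanceAs (Mono (pullback.fst q η[At]))
  obtain ⟨_, hiK⟩ := FreeRes.exists_grpObj_of_mono iK
    (fun T => hfac 1 (MonObj.one_comp q))
    (fun a b => hfac _ (by rw [MonObj.mul_comp, Category.assoc, Category.assoc, hiq, MonObj.comp_one,
      MonObj.comp_one, _root_.mul_one]))
    (fun a => hfac _ (by rw [GrpObj.inv_comp, Category.assoc, hiq, MonObj.comp_one, inv_one]))
  haveI := hiK
  haveI hKfin : IsFinite K.hom := by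
    have h := (IsPullback.of_hasPullback q η[At]).map (Over.forget S)
    haveI : IsFinite (pullback.snd q η[At]).left := MorphismProperty.of_isPullback (P := @IsFinite) h ‹_›
    have e : K.hom = (pullback.snd q η[At]).left ≫ 𝟙 _ := (Over.w (pullback.snd q η[At])).symm
    rw [e]
    infer_instance
  haveI : IsLocallyNoetherian K.left := LocallyOfFiniteType.isLocallyNoetherian K.hom
  have hqk : AlgGrp.IsKernel iK q := by
    have e : toUnit K = pullback.snd q η[At] := toUnit_unique _ _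
    show IsPullback iK (toUnit K) q η[At]
    rw [e]
    exact IsPullback.of_hasPullback q η[At]
  have htriv : ph (A ◁ iK) lam = 1 := by
    have h0 : AbDual.IsPicZeroCl A.hom K (ph (A ◁ iK) lam).1 :=
      Groth.Agent.H4.PicZero.isPicZeroCl_ph iK _ (whiskerLeft_snd A _) hΛ0
    have h1 : AbDual.IsPicZeroCl A.hom K (1 : PicLoc.PicSet (A ⊗ K).left).1 := by
      have := Groth.Agent.H4.PicZero.isPicZeroCl_ph (X := A) (X' := A) (1 : K ⟶ A)
        (snd A K ≫ lift (1 : K ⟶ A) (1 : K ⟶ A)) (by rw [Category.assoc, lift_snd]) hΛ0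
      have e : lift (1 : K ⟶ A) (1 : K ⟶ A) = (1 : K ⟶ A) ≫ lift (1 : A ⟶ A) (𝟙 A) := by
        rw [comp_lift, MonObj.comp_one, Category.comp_id]
      rwa [ph_comp, e, ph_comp, hrig, map_one, map_one] at this
    refine PhiInj.eq_of_phi_eq hφ h0 h1 ?_ (map_one _) ?_
    · rw [PhiInj.rig_ph]
      show ph iK (ph (lift (1 : A ⟶ A) (𝟙 A)) lam) = 1
      rw [hrig, map_one]
    · rw [Groth.Agent.H4.PicZero.phi_natural hφ iK hΛ0, Groth.Agent.H4.PicZero.phi_one hφ h1]
      exact hiq
  have hn : TransTriv A ℓ iK (ph iK ℓ) := by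
    have h := congrArg (ph (A ◁ iK)) hmul
    rw [map_mul, map_mul, htriv, _root_.one_mul, ← ph_comp, ← ph_comp, ← ph_comp, comp_transl_fst,
      whiskerLeft_fst, whiskerLeft_snd, ph_comp (snd A K) iK] at h
    exact h.symm
  -- descend the Mumford bundle along `q ▷ A`
  haveI := ThetaLift.isProper_sq A
  haveI := ThetaLift.geometricallyIntegral_sq A
  obtain ⟨h₀, hh₀⟩ := ThetaLift.exists_axisFrame hL hΛi hΛ
  obtain ⟨β₀, hβ₀⟩ := (ThetaPts.exists_thetaPt_iff hΛi (lift iK (1 : K ⟶ A))).mpr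
    (ThetaLift.transTriv A hL hΛi hΛ hn)
  obtain ⟨v, hv⟩ := ThetaLift.exists_norm hΛi h₀ hh₀ hβ₀
  haveI : IsProper (At ⊗ A).hom := by
    haveI : IsProper (fst At A).left := inferInstanceAs (IsProper (Limits.pullback.fst At.hom A.hom))
    rw [← Over.w (fst At A)]
    infer_instance
  let f' : A ⊗ A ⟶ At ⊗ A := q ▷ A
  haveI : IsMonHom f' := by
    refine ⟨?_, ?_⟩ <;> apply CartesianMonoidalCategory.hom_ext <;>
      simp [f', IsMonHom.one_hom, IsMonHom.mul_hom, tensorObj.one_def, tensorObj.mul_def,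
        lift_fst_assoc, IsMonHom.mul_hom_assoc]
  haveI : Flat f'.left := GrpSch.tensorHom_left_of (P := @Flat) q (𝟙 A) ‹_› (inferInstanceAs (Flat (𝟙 A.left))) |> fun h => by
    simpa [f'] using h
  haveI : Surjective f'.left :=
    GrpSch.tensorHom_left_of (P := @Surjective) q (𝟙 A) ‹_› (inferInstanceAs (Surjective (𝟙 A.left))) |> fun h => by
      simpa [f'] using h
  haveI : GeometricallyIntegral (At ⊗ A).hom := Groth.Agent.H4.Chow.geometricallyIntegral_of_cover f'
  let i' : K ⟶ A ⊗ A := lift iK 1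
  have hi'mul : ∀ {T : Over S} (y y' : T ⟶ K),
      (y * y') ≫ i' = (y ≫ i') * (y' ≫ i') := fun y y' => by
    apply CartesianMonoidalCategory.hom_ext <;>
      simp [i', MonObj.mul_comp, MonObj.comp_one]
  haveI : IsMonHom i' := by
    refine ⟨?_, ?_⟩
    · apply CartesianMonoidalCategory.hom_ext <;>
        simp [i', IsMonHom.one_hom, tensorObj.one_def, MonObj.comp_one, Hom.one_def]
    · have h := hi'mul (fst K K) (snd K K)
      rw [Hom.mul_def, Hom.mul_def, lift_fst_snd, Category.id_comp] at h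
      rw [h]
      congr 1
  have hker : AlgGrp.IsKernel i' f' := by
    refine ⟨⟨?_⟩, ⟨Limits.PullbackCone.IsLimit.mk _ (fun s => hqk.lift (s.fst ≫ fst A A) (toUnit _) ?_)
      (fun s => ?_) (fun s => toUnit_unique _ _) (fun s m h1 _ => ?_)⟩⟩
    · apply CartesianMonoidalCategory.hom_ext
      · simp only [i', f', Category.assoc, whiskerRight_fst, lift_fst_assoc, tensorObj.one_def]
        rw [hqk.w]
        simp
      · simp [i', f', tensorObj.one_def, Hom.one_def]
    · have h := congrArg (· ≫ fst At A) s.condition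
      simp only [f', Category.assoc, whiskerRight_fst] at h
      rw [Category.assoc, h, toUnit_unique s.snd (toUnit _)]
      simp [tensorObj.one_def]
    · apply CartesianMonoidalCategory.hom_ext
      · rw [Category.assoc, lift_fst, hqk.lift_fst]
      · have h := congrArg (· ≫ snd At A) s.condition
        simp only [f', Category.assoc, whiskerRight_snd] at h
        rw [Category.assoc, lift_snd, MonObj.comp_one, h, toUnit_unique s.snd (toUnit _)]
        simp [tensorObj.one_def, Hom.one_def]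
    · refine hqk.hom_ext ?_ (toUnit_unique _ _)
      rw [hqk.lift_fst, ← h1, Category.assoc, lift_fst]
  have hnorm : ∀ {T : Over S} (y : T ⟶ K),
      ThetaLift.IsNorm h₀ hh₀ (y ≫ iK) (ThetaRep.bc y v) := fun y => ThetaLift.norm_bc hΛi h₀ hh₀ y hv
  have hmul' : ∀ {T : Over S} (y y' : T ⟶ K),
      ThetaRep.bc (y * y') v = ThetaRep.bc y v * ThetaRep.bc y' v := fun y y' => by
    have h := ThetaLift.norm_mul hΛi h₀ hh₀ (hnorm y) (hnorm y')
    rw [_root_.mul_comm (y' ≫ iK), ← MonObj.mul_comp] at h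
    exact ThetaLift.norm_unique hΛi h₀ hh₀ (hnorm (y * y')) h
  let s : ThetaEff.Splitting i' Λ :=
    { pt := fun y => ThetaRep.bc y v
      over_pt := fun y => by
        have h := (hnorm y).1
        show ThetaGrp.IsOverPt _ (y ≫ lift iK 1)
        rwa [comp_lift, MonObj.comp_one]
      pt_one := fun T => by
        have h := hmul' (1 : T ⟶ K) 1
        rw [_root_.mul_one] at h
        exact left_eq_mul.mp h
      pt_mul := hmul'
      pt_comp := fun g y => by
        rw [← ThetaIso.bc_bc]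
        exact ThetaRep.bc_spec g _ }
  obtain ⟨M, hM, ⟨e⟩⟩ := ThetaEff.exists_descent f' hker s hΛi
  have hMc : ph f' (PicGrp.cls M hM) = lam :=
    (iso_iff (cl_pullback f' (a := PicGrp.cls M hM) rfl) (b := PicGrp.cls Λ hΛi) rfl).mp ⟨e⟩
  -- rigidify
  let x₀ : PicLoc.PicSet (A ⊗ At).left := ph (DualAV.swap A At) (PicGrp.cls M hM)
  let x : PicLoc.PicSet (A ⊗ At).left := x₀ * (ph (snd A At) (PhiInj.rig x₀))⁻¹
  have hsym : ph (DualAV.swap A A) lam = lam := by
    have h := congrArg (ph (DualAV.swap A A)) hmul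
    rw [map_mul, map_mul, ← ph_comp, ← ph_comp, ← ph_comp, lift_fst, lift_snd] at h
    have e1 : DualAV.swap A A ≫ μ[A] = μ[A] := by
      rw [← Hom.mul_def, _root_.mul_comm, Hom.mul_def, lift_fst_snd, Category.id_comp]
    rw [e1, ← hmul, mul_right_comm (ph (DualAV.swap A A) _)] at h
    exact mul_right_cancel (mul_right_cancel h)
  have hx₀ : ph (A ◁ q) x₀ = lam := by
    have e1 : (A ◁ q) ≫ DualAV.swap A At = DualAV.swap A A ≫ f' := by
      apply CartesianMonoidalCategory.hom_ext <;> simp [f']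
    rw [← ph_comp, e1, ph_comp, hMc, hsym]
  have hxq : ph (A ◁ q) x = lam := by
    show ph (A ◁ q) (x₀ * _⁻¹) = lam
    rw [map_mul, map_inv, hx₀, ← ph_comp, whiskerLeft_snd, ph_comp, ← PhiInj.rig_ph, hx₀]
    show lam * (ph (snd A A) (ph (lift (1 : A ⟶ A) (𝟙 A)) lam))⁻¹ = lam
    rw [hrig, map_one, inv_one, _root_.mul_one]
  have hrx : PhiInj.rig x = 1 := by
    show PhiInj.rig (x₀ * _⁻¹) = 1
    rw [PhiInj.rig_mul, PhiInj.rig_inv, PhiInj.rig_snd, mul_inv_cancel]
  obtain ⟨D, hD, hDx⟩ := PicGrp.exists_eq_cls x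
  -- fibrewise algebraically trivial
  have hx0 : AbDual.IsPicZeroCl A.hom At x.1 := by
    refine ⟨D, (congrArg Subtype.val hDx).symm, hD, fun t Ω _ _ σ hσ => ?_⟩
    obtain ⟨L', hL'c, -, hL'0⟩ := hΛ0
    let b := pullback.snd q.left σ
    haveI : IsFinite b := inferInstance
    haveI : Surjective b := inferInstance
    obtain ⟨z, -⟩ := b.surjective (IsLocalRing.closedPoint Ω)
    haveI : JacobsonSpace (pullback q.left σ : Scheme.{u}) := LocallyOfFiniteType.jacobsonSpace b
    obtain ⟨z₀, -, hz₀⟩ := nonempty_inter_closedPoints (Z := (Set.univ : Set (pullback q.left σ : Scheme.{u})))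
      ⟨z, trivial⟩ isOpen_univ.isLocallyClosed
    let τ : Spec (CommRingCat.of Ω) ⟶ A.left := pointOfClosedPoint b z₀ hz₀ ≫ pullback.fst q.left σ
    have hτ : τ ≫ q.left = σ :=
      (Category.assoc _ _ _).trans ((congrArg (pointOfClosedPoint b z₀ hz₀ ≫ ·) pullback.condition).trans
        ((Category.assoc _ _ _).symm.trans ((congrArg (· ≫ σ) (pointOfClosedPoint_comp b z₀ hz₀)).trans
          (Category.id_comp σ))))
    let π := pullback.fst (PicF.XTproj A.hom At) σ
    let c := pullback.snd (PicF.XTproj A.hom At) σ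
    have hsq : IsPullback (A ◁ q).left (snd A A).left (snd A At).left q.left := by
      refine IsPullback.of_right ?_ ?_ (IsPullback.of_hasPullback A.hom At.hom)
      · show IsPullback ((A ◁ q).left ≫ (fst A At).left) _ _ (q.left ≫ At.hom)
        rw [← Over.comp_left, whiskerLeft_fst, Over.w q]
        exact IsPullback.of_hasPullback A.hom A.hom
      · rw [← Over.comp_left, whiskerLeft_snd]
        rfl
    let π' := hsq.lift π (c ≫ τ) (by rw [Category.assoc, hτ]; exact pullback.condition)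
    have h := Groth.Agent.H4.PicZero.isAlgEquivZero_of_algTrivialAt τ
      (hL'0 (τ (IsLocalRing.closedPoint Ω))) c π' (hsq.lift_snd _ _ _)
    obtain ⟨i⟩ := (PicCalc.iso_iff (hL'c.trans rfl) (PicCalc.cl_pullback (A ◁ q) (a := PicGrp.cls D hD) rfl)).2
      (by rw [← hDx, hxq])
    obtain ⟨T₁, qT, hconn, hlft, hqc, M₁, hM₁, t₁, t₀, ht, ht₀, ⟨e₁⟩, e₀⟩ := h
    exact ⟨T₁, qT, hconn, hlft, hqc, M₁, hM₁, t₁, t₀, ht, ht₀,
      ⟨e₁ ≪≫ (Scheme.Modules.pullback π').mapIso i ≪≫ (Scheme.Modules.pullbackComp π' (A ◁ q).left).app D ≪≫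
        (Scheme.Modules.pullbackCongr (hsq.lift_fst _ _ _)).app D⟩, e₀⟩
  have hid : φ At x.1 = 𝟙 At := by
    have h := Groth.Agent.H4.PicZero.phi_natural hφ q hx0
    rw [hxq] at h
    apply Over.OverMorphism.ext
    haveI : Epi q.left := Flat.epi_of_flat_of_surjective q.left
    rw [← cancel_epi q.left, ← Over.comp_left, ← h]
    exact (Category.comp_id _).symm
  refine ⟨D, hD, ?_, ?_⟩
  · rw [show PicF.cl D = x.1 from (congrArg Subtype.val hDx).symm]
    refine ⟨hx0, hid, ?_⟩
    have e : PicF.secT A.hom η[A].left (Over.w η[A]) At = (lift (1 : At ⟶ A) (𝟙 At)).left := by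
      apply pullback.hom_ext
      · refine (pullback.lift_fst _ _ _).trans ?_
        show _ = ((lift (1 : At ⟶ A) (𝟙 At)) ≫ fst A At).left
        rw [lift_fst, Hom.one_def]
        rfl
      · refine (pullback.lift_snd _ _ _).trans ?_
        show _ = ((lift (1 : At ⟶ A) (𝟙 At)) ≫ snd A At).left
        rw [lift_snd]
        rfl
    rw [e, ← PicCalc.ph_val, show ph (lift (1 : At ⟶ A) (𝟙 At)) x = 1 from hrx]
    exact PicGrp.one_val
  · rw [← hDx, hxq]

end

end Groth.Agent.H52.PoincareExists
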