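import Groth.Agent.H52.PoincareCoh

/-!
# The fibres of the Poincaré family over a closed field, and the dimension of the dual
-/

set_option autoImplicit false
set_option linter.style.haveILetI false
set_option linter.unusedSectionVars false
universe u

open CategoryTheory CategoryTheory.Limits MonoidalCategory CartesianMonoidalCategory MonObj AlgebraicGeometry
open TopologicalSpace
open Groth.Agent.H3
open Groth.Agent.Lib.GrpQ.MonoClosed (ptOf exists_ptOf)

namespace Groth.Agent.H52.PoincareFibre

noncomputable section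

local instance poincareFibreLaw (Y : Scheme.{u}) : PicGrp.Law Y := Groth.Agent.Lib.TensorMod.Invertible.law Y

variable {K : Type u} [Field K] [IsAlgClosed K] {A At : Over (Spec (CommRingCat.of K))}
  [GrpObj A] [IsProper A.hom] [Smooth A.hom] [GeometricallyIntegral A.hom]
  [GrpObj At] [IsProper At.hom] [Smooth At.hom] [GeometricallyIntegral At.hom]
  {φ : ∀ T : Over (Spec (CommRingCat.of K)), PicF.Cl (PicF.XT A.hom T) → (T ⟶ At)}
  (hφ : AbDual.IsDualAV Scheme.fppfPrecoverage A At φ)
  {ξ : PicF.Cl (PicF.XT A.hom At)} (hξ : AbDual.IsPoincareCl A At φ ξ)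
  (D : (A ⊗ At).left.Modules) (hD : PicF.IsInvertible D) (hDξ : PicF.cl D = ξ)

local notation "S" => Spec (CommRingCat.of K)

include hφ hξ hD hDξ in
/-- The members of the family away from the origin are acyclic. -/
theorem fiber_off (y : At.left) (hy : IsClosed ({y} : Set At.left))
    (hye : y ≠ η[At].left (IsLocalRing.closedPoint K : PrimeSpectrum K)) (n : ℕ) :
    Subsingleton (CohIII.fiberH (snd A At).left D y n) := by
  obtain ⟨x, hxξ, hx0, -, hu⟩ := Groth.Agent.Lib.H3.PhiInj.exists_poincare hφ hξ
  have hDx : PicGrp.cls D hD = x := Subtype.ext (by rw [PicGrp.cls_val, hDξ, hxξ])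
  haveI : IsLocallyNoetherian A.left := LocallyOfFiniteType.isLocallyNoetherian A.hom
  haveI : IsLocallyNoetherian At.left := LocallyOfFiniteType.isLocallyNoetherian At.hom
  obtain ⟨t, ht⟩ : ∃ t : 𝟙_ (Over S) ⟶ At, t.left = pointOfClosedPoint At.hom y hy :=
    ⟨Over.homMk (pointOfClosedPoint At.hom y hy) (pointOfClosedPoint_comp At.hom y hy), rfl⟩
  obtain ⟨e⟩ := PoincareSlices.exists_fiber_iso (snd A At) D hD y hy _
    (ht ▸ PoincareSlices.isPullback_slice t) n
  have hc : PicGrp.cls ((Scheme.Modules.pullback (PoincareSlices.slice (A := A) t).left).obj D)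
      (PicLoc.isInvertible_pullback _ hD) = PicCalc.ph (PoincareSlices.slice t) x := by
    refine (Subtype.ext (PicCalc.cl_pullback _ (a := PicGrp.cls D hD) rfl)).trans ?_
    rw [hDx]
  haveI := PicZeroTranslate.acyclic _ (PicLoc.isInvertible_pullback _ hD)
    (show TransInv.Inv (PicGrp.cls ((Scheme.Modules.pullback (PoincareSlices.slice (A := A) t).left).obj D)
      (PicLoc.isInvertible_pullback _ hD)) by
      rw [hc]
      exact PoincareSlices.inv_slice x hx0 t)
    (by
      rw [hc]
      refine PoincareSlices.slice_ne_one hφ x hx0 hu t fun h => hye ?_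
      have h' : t = η[At] := h.trans ((Hom.one_def).trans (by rw [toUnit_unique (toUnit _) (𝟙 _), Category.id_comp]))
      rw [← h', ht]
      exact (pointOfClosedPoint_apply At.hom y hy _).symm) n
  exact e.symm.toEquiv.subsingleton

include hD in
/-- The members of the family have no cohomology above the dimension. -/
theorem fiber_above (g : ℕ) (hg : topologicalKrullDim A.left ≤ g) (y : At.left)
    (hy : IsClosed ({y} : Set At.left)) (n : ℕ) (hn : g < n) :
    Subsingleton (CohIII.fiberH (snd A At).left D y n) := by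
  haveI : IsLocallyNoetherian A.left := LocallyOfFiniteType.isLocallyNoetherian A.hom
  haveI : CompactSpace A.left := QuasiCompact.compactSpace_of_compactSpace A.hom
  haveI : IsNoetherian A.left := {}
  obtain ⟨t, ht⟩ : ∃ t : 𝟙_ (Over S) ⟶ At, t.left = pointOfClosedPoint At.hom y hy :=
    ⟨Over.homMk (pointOfClosedPoint At.hom y hy) (pointOfClosedPoint_comp At.hom y hy), rfl⟩
  obtain ⟨e⟩ := PoincareSlices.exists_fiber_iso (snd A At) D hD y hy _
    (ht ▸ PoincareSlices.isPullback_slice t) n
  haveI : Subsingleton (Coh.HH A.left _ n) := Groth.Agent.S0458.result g hg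
    (Coh.toAb ((Scheme.Modules.pullback (PoincareSlices.slice (A := A) t).left).obj D)) n hn
  exact e.symm.toEquiv.subsingleton

include hφ hξ hD hDξ in
/-- The dual is at most as big as the variety. -/
theorem dim_le (g gt : ℕ) (hg : topologicalKrullDim A.left = g) (hgt : topologicalKrullDim At.left = gt) :
    gt ≤ g := by
  by_contra hlt
  push_neg at hlt
  obtain ⟨x, hxξ, hx0, hrig, hu⟩ := Groth.Agent.Lib.H3.PhiInj.exists_poincare hφ hξ
  have hDx : PicGrp.cls D hD = x := Subtype.ext (by rw [PicGrp.cls_val, hDξ, hxξ])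
  haveI : IsIntegral A.left := GeometricallyIntegral.isIntegral_of_subsingleton A.hom
  haveI : IsIntegral At.left := GeometricallyIntegral.isIntegral_of_subsingleton At.hom
  haveI : IsLocallyNoetherian A.left := LocallyOfFiniteType.isLocallyNoetherian A.hom
  haveI : IsLocallyNoetherian At.left := LocallyOfFiniteType.isLocallyNoetherian At.hom
  haveI : JacobsonSpace At.left := LocallyOfFiniteType.jacobsonSpace At.hom
  let f := (snd A At).left
  haveI : IsProper f := inferInstanceAs (IsProper (pullback.snd A.hom At.hom))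
  haveI : Flat f := inferInstanceAs (Flat (pullback.snd A.hom At.hom))
  haveI : IsLocallyNoetherian (A ⊗ At).left := LocallyOfFiniteType.isLocallyNoetherian f
  have hcoh := Groth.Agent.Lib.Ample.GG.isCoh_of_isInvertible hD
  have hfl := Groth.Agent.Lib.Cube.FamCx.isFlatOver_of_isInvertible f hD
  let e₀ : At.left := η[At].left (IsLocalRing.closedPoint K : PrimeSpectrum K)
  have hclosed : IsClosed ({e₀} : Set At.left) :=
    (pointEquivClosedPoint At.hom ⟨η[At].left, Over.w _⟩).2
  obtain ⟨V, hV, heV, -⟩ := exists_isAffineOpen_mem_and_subset (show e₀ ∈ (⊤ : At.left.Opens) from trivial)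
  have hall : ∀ n, Subsingleton (CohTop.HU (Coh.toAb D) n (f ⁻¹ᵁ V)) := fun n => by
    rcases lt_or_ge n gt with h | h
    · refine Acyclicity.subsingleton_HU_lt f D hcoh hfl V hV {e₀} (Set.finite_singleton _) gt
        (by rintro y rfl; exact hclosed) (by
          rintro y rfl
          exact ⟨Groth.Agent.Lib.Cyc.SmoothReg.isRegularLocalRing_stalk At.hom e₀,
            (Groth.Agent.Lib.AffineCompl.Dim.ringKrullDim_stalk_of_isClosed At.hom hclosed).trans hgt⟩)
        (fun y _ hy hyc m => fiber_off hφ hξ D hD hDξ y hyc hy m) n h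
    · exact Acyclicity.subsingleton_HU_degree f D hcoh hfl V hV n fun y _ hy =>
        fiber_above D hD g hg.le y hy n (by omega)
  haveI : D.IsQuasicoherent := hcoh.1
  haveI := RelAcyclic.subsingleton_fiberH f D hcoh e₀ 0
    (RelAcyclic.fiberRank_eq_zero f D hcoh hfl V hV hall e₀ heV 0)
  obtain ⟨t, ht⟩ : ∃ t : 𝟙_ (Over S) ⟶ At, t.left = pointOfClosedPoint At.hom e₀ hclosed :=
    ⟨Over.homMk (pointOfClosedPoint At.hom e₀ hclosed) (pointOfClosedPoint_comp At.hom e₀ hclosed), rfl⟩
  have hη : η[At] = (1 : 𝟙_ (Over S) ⟶ At) := MonObj.one_eq_one (M := At)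
  have htp : t.left (IsLocalRing.closedPoint K : PrimeSpectrum K) = e₀ :=
    (congrArg (fun m : S ⟶ At.left => m (IsLocalRing.closedPoint K : PrimeSpectrum K)) ht).trans
      (pointOfClosedPoint_apply At.hom e₀ hclosed _)
  have ht1 : t = 1 := (Over.OverMorphism.ext
    (ext_of_apply_closedPoint_eq At.hom (Over.w t) (Over.w η[At]) htp)).trans hη
  obtain ⟨e⟩ := PoincareSlices.exists_fiber_iso (snd A At) D hD e₀ hclosed _
    (ht ▸ PoincareSlices.isPullback_slice t) 0
  haveI : Subsingleton (Coh.HH A.left _ 0) := e.toEquiv.subsingleton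
  have h1 : PicCalc.ph (PoincareSlices.slice (A := A) (1 : 𝟙_ (Over S) ⟶ At)) x = 1 := by
    have h := PoincareSlices.family_one hφ x hx0 hrig hu A
    have e : PoincareSlices.slice (A := A) (1 : 𝟙_ (Over S) ⟶ At) =
        lift (𝟙 A) (𝟙 A) ≫ (A ◁ (1 : A ⟶ At)) := by
      apply CartesianMonoidalCategory.hom_ext <;> simp [PoincareSlices.slice, MonObj.comp_one]
    rw [e, PicCalc.ph_comp, h, map_one]
  obtain ⟨i⟩ := (PicGrp.cls_eq_one_iff (PicLoc.isInvertible_pullback
    (PoincareSlices.slice (A := A) t).left hD)).mp ((Subtype.ext (PicCalc.cl_pullback _ (a := PicGrp.cls D hD) rfl)).trans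
      (by rw [hDx, ht1, h1]))
  obtain ⟨i'⟩ := Groth.Agent.S7804.nonempty_of_iso i 0
  haveI : Nontrivial (Coh.HH A.left (Coh.structureModule A.left) 0) := by
    have : Nontrivial ((Coh.structureModule A.left).val.obj (Opposite.op ⊤) : Type u) :=
      inferInstanceAs (Nontrivial Γ(A.left, ⊤))
    exact (Groth.Agent.Lib.Curves.GlobalSections.h0Equiv _).toEquiv.nontrivial
  haveI : Subsingleton (Coh.HH A.left (Coh.structureModule A.left) 0) := i'.symm.toEquiv.subsingleton
  exact false_of_nontrivial_of_subsingleton (Coh.HH A.left (Coh.structureModule A.left) 0)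

end

end Groth.Agent.H52.PoincareFibre
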