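import Groth.Agent.H52.RelAcyclic
import Groth.Agent.H52.RestrictLinear
import Groth.Agent.Lib.Ample.GG
import Groth.Agent.Lib.QCoh.Stalk
import Groth.Agent.Lib.Curves.LES
import Groth.Agent.Lib.Cube.FamCx
import Groth.Agent.Lib.Cyc.PB.Sect

/-!
# Twisting a module with finite relative support by an invertible module

Cohomology concentrated over finitely many closed points only depends on the restriction to a
neighbourhood of them, and an invertible module is trivial near finitely many closed points of an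
affine open.
-/

set_option autoImplicit false
set_option linter.style.haveILetI false
universe u

open CategoryTheory CategoryTheory.Limits AlgebraicGeometry TopologicalSpace Opposite
open CategoryTheory.Abelian
open Groth.Agent.Lib Groth.Agent.Lib.TensorMod.Dual Groth.Agent.Lib.TensorMod.Gen
open Groth.Agent.Lib.Ample.GenLocus Groth.Agent.Lib.Ample.Basis

namespace Groth.Agent.H52.SupportTwist

noncomputable section

/-- Restriction to a part of a two-term cover whose other part carries no cohomology. -/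
theorem res_bijective {Z : TopCat.{u}} (F : CohTop.Ab Z) (V U : Opens Z) (h : V ⊔ U = ⊤)
    (hU : ∀ n, Subsingleton (CohTop.HU F n U)) (hVU : ∀ n, Subsingleton (CohTop.HU F n (V ⊓ U))) (n : ℕ) :
    Function.Bijective (CohTop.res F n (le_top : V ≤ ⊤)) := by
  have key : ∀ (O : Opens Z) (_ : O = ⊤) (hle : V ≤ O),
      Function.Bijective (CohTop.res F n hle) → Function.Bijective (CohTop.res F n (le_top : V ≤ ⊤)) := by
    rintro _ rfl hle h
    exact h
  refine key _ h le_sup_left ⟨?_, fun z => ?_⟩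
  · haveI := hU n
    refine (injective_iff_map_eq_zero _).2 fun z hz => ?_
    cases n with
    | zero =>
      obtain ⟨g, rfl⟩ := (Ext.mk₀_bijective (ZarCoh.Basic.Zs.obj (V ⊔ U)) F).2 z
      have hV : ZarCoh.Basic.Zs.map (homOfLE (le_sup_left : V ≤ V ⊔ U)) ≫ g = 0 :=
        (Ext.mk₀_bijective _ F).1 ((Ext.mk₀_comp_mk₀ _ _).symm.trans (hz.trans (Ext.mk₀_zero _ _).symm))
      have hU' : ZarCoh.Basic.Zs.map (homOfLE (le_sup_right : U ≤ V ⊔ U)) ≫ g = 0 :=
        (Ext.mk₀_bijective _ F).1 ((Ext.mk₀_comp_mk₀ _ _).symm.trans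
          ((Subsingleton.elim (α := CohTop.HU F 0 U) _ _).trans (Ext.mk₀_zero _ _).symm))
      rw [show g = 0 from (ZarCoh.Basic.homEquiv _ F).injective (TopCat.Sheaf.eq_of_locally_eq₂
        (C := AddCommGrpCat.{u}) F (homOfLE (le_sup_left : V ≤ V ⊔ U)) (homOfLE (le_sup_right : U ≤ V ⊔ U))
        le_rfl _ _
        ((ZarCoh.Basic.homEquiv_res _ g).symm.trans ((congrArg (ZarCoh.Basic.homEquiv V F)
          (hV.trans comp_zero.symm)).trans (ZarCoh.Basic.homEquiv_res _ 0)))
        ((ZarCoh.Basic.homEquiv_res _ g).symm.trans ((congrArg (ZarCoh.Basic.homEquiv U F)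
          (hU'.trans comp_zero.symm)).trans (ZarCoh.Basic.homEquiv_res _ 0)))), Ext.mk₀_zero]
      rfl
    | succ n =>
      haveI := hVU n
      obtain ⟨w, rfl⟩ := Cech.MV.exists_δ_eq _ _ _ n z hz (Subsingleton.elim _ _)
      rw [Subsingleton.elim w 0, map_zero]
  · haveI := hVU n
    obtain ⟨w, hw, -⟩ := Cech.MV.exists_res_eq F V U n z (0 : CohTop.HU F n U) (Subsingleton.elim _ _)
    exact ⟨w, hw⟩

variable {K : Type u} [Field K] {X : Scheme.{u}} (q : X ⟶ Spec (CommRingCat.of K))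

/-- Cohomology only depends on the restriction to an open carrying all of it. -/
theorem finrank_eq_of_restrict (O : X.Opens) (M M' : X.Modules) (e : M.restrict O.ι ≅ M'.restrict O.ι)
    (n : ℕ) (hM : Function.Bijective (CohTop.res (Coh.toAb M) n (le_top : O ≤ ⊤)))
    (hM' : Function.Bijective (CohTop.res (Coh.toAb M') n (le_top : O ≤ ⊤))) :
    @Module.finrank K (Coh.HH X M n) _ _ (@Coh.moduleOver K _ X ⟨q⟩ M n) =
      @Module.finrank K (Coh.HH X M' n) _ _ (@Coh.moduleOver K _ X ⟨q⟩ M' n) := by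
  letI : X.Over (Spec (CommRingCat.of K)) := ⟨q⟩
  letI : (O : Scheme.{u}).Over (Spec (CommRingCat.of K)) := ⟨O.ι ≫ q⟩
  have hO : O = O.ι ''ᵁ ⊤ := by rw [Scheme.Hom.image_top_eq_opensRange, Scheme.Opens.opensRange_ι]
  let R : ∀ (N : X.Modules), Coh.HH X N n →ₗ[K] Coh.HH (O : Scheme.{u}) (N.restrict O.ι) n := fun N =>
    { RestrictLinear.restr O.ι N n with
      map_smul' := fun r z => RestrictLinear.restr_smul O.ι N n (Coh.toGlobal q r) z }
  rw [(LinearEquiv.ofBijective (R M) (RestrictLinear.restr_bijective O.ι M n O hO hM)).finrank_eq,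
    (LinearEquiv.ofBijective (R M') (RestrictLinear.restr_bijective O.ι M' n O hO hM')).finrank_eq,
    (Curves.LES.isoK K e n).finrank_eq]

/-- A section generating at a point and at none of finitely many others. -/
theorem exists_sec {Y : Scheme.{u}} [IsAffine Y] (L : Y.Modules) [L.IsQuasicoherent]
    (hL : PicF.IsInvertible L) (z : Y) (C : Set Y) (hC : IsClosed C) (hzC : z ∉ C) :
    ∃ s : Coh.structureModule Y ⟶ L, z ∈ CohB1.genLocus L s ∧ ∀ w ∈ C, w ∉ CohB1.genLocus L s := by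
  have htop : IsAffineOpen (⊤ : Y.Opens) := isAffineOpen_top Y
  obtain ⟨U, e, hzU, he⟩ := isInvertible_iff.1 hL z
  obtain ⟨f, hfle, hzf⟩ := htop.exists_basicOpen_le (V := U ⊓ ⟨Cᶜ, hC.isOpen_compl⟩)
    ⟨z, hzU, hzC⟩ trivial
  obtain ⟨n, t, ht⟩ := (QCoh.Localizing.localizes_of_isAffineOpen L htop f).ext'
    (rs L (hfle.trans inf_le_left) e)
  obtain ⟨s, hs⟩ := exists_hom_of_sec (f • t)
  have hsU : sv s (Y.basicOpen f) =
      (rf (Y.basicOpen_le f) f * rf (Y.basicOpen_le f) f ^ n) • rs L (hfle.trans inf_le_left) e := by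
    rw [← rs_sv s (Y.basicOpen_le f), hs, rs_smul, mul_smul]
    exact congrArg _ ht
  have hu : IsUnit (rf (Y.basicOpen_le f) f) := RingedSpace.isUnit_res_basicOpen _ f
  refine ⟨s, le_genLocus (U := Y.basicOpen f) ?_ hzf, fun w hw hws => ?_⟩
  · rw [hsU]
    exact IsGen_smul_isUnit (he.res _) (hu.mul (hu.pow n))
  · obtain ⟨U', e', hwU', he'⟩ := isInvertible_iff.1 hL w
    obtain ⟨a, ha⟩ := exists_coord he' (rs L (le_top : U' ≤ ⊤) t)
    have h1 : sv s U' = (rf (le_top : U' ≤ ⊤) f * a) • e' := by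
      rw [← rs_sv s (le_top : U' ≤ ⊤), hs, rs_smul, ha, ← mul_smul]
    have h2 := (genLocus_inf_eq he' s h1).le ⟨hws, hwU'⟩
    rw [Scheme.basicOpen_mul] at h2
    have h3 : w ∈ Y.basicOpen f := by
      have := h2.1
      rw [show Y.basicOpen (rf (le_top : U' ≤ ⊤) f) = U' ⊓ Y.basicOpen f from
        Scheme.basicOpen_res _ _ _] at this
      exact this.2
    exact (hfle h3).2 hw

/-- An invertible module on an affine scheme is trivial near finitely many closed points. -/
theorem exists_gen_nhd {Y : Scheme.{u}} [IsAffine Y] (L : Y.Modules) (hL : PicF.IsInvertible L)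
    (Z : Set Y) (hZ : Z.Finite) (hZc : ∀ z ∈ Z, IsClosed ({z} : Set Y)) :
    ∃ (O : Y.Opens) (e : Γ(L, O)), Z ⊆ O ∧ IsGen L O e := by
  classical
  haveI : Fintype Z := hZ.fintype
  haveI : L.IsQuasicoherent := TensorMod.QCohInv.isQCoh_of_isInvertible hL
  have hC : ∀ z : Z, IsClosed (Z \ {(z : Y)}) := fun z => by
    rw [← Set.biUnion_of_singleton (Z \ {(z : Y)})]
    exact (hZ.sdiff).isClosed_biUnion fun w hw => hZc w hw.1
  choose s hzs hoth using fun z : Z =>
    exists_sec L hL (z : Y) (Z \ {(z : Y)}) (hC z) fun h => h.2 rfl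
  obtain ⟨σ, hσ⟩ : ∃ σ : Coh.structureModule Y ⟶ L, σ = ∑ z, s z := ⟨_, rfl⟩
  have hgen : IsGen L (CohB1.genLocus L σ) (sv σ (CohB1.genLocus L σ)) := isGen_genLocus σ
  refine Exists.intro (CohB1.genLocus L σ) (Exists.intro (sv σ (CohB1.genLocus L σ)) (And.intro ?_ hgen))
  intro z hz
  show z ∈ CohB1.genLocus L σ
  rw [hσ]
  have key := @mem_genLocus_sum Y L hL Z (Classical.decEq _) Finset.univ s (z : Y) ⟨z, hz⟩
    (Finset.mem_univ _) (hzs ⟨z, hz⟩) (fun w _ hw => hoth w z ⟨hz, fun h => hw (Subtype.ext h.symm)⟩)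
  exact key

/-- An invertible module is trivial near finitely many closed points of an affine open. -/
theorem exists_trivial_nhd {Y : Scheme.{u}} (V : Y.Opens) (hV : IsAffineOpen V) (L : Y.Modules)
    (hL : PicF.IsInvertible L) (Z : Set Y) (hZ : Z.Finite) (hZV : Z ⊆ V)
    (hZc : ∀ z ∈ Z, IsClosed ({z} : Set Y)) :
    ∃ O : Y.Opens, Z ⊆ O ∧ Nonempty ((Scheme.Modules.pullback O.ι).obj L ≅ Coh.structureModule (O : Scheme.{u})) := by
  haveI : IsAffine (V : Scheme.{u}) := hV
  obtain ⟨O, e, hZO, he⟩ := exists_gen_nhd ((Scheme.Modules.pullback V.ι).obj L)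
    (PicLoc.isInvertible_pullback V.ι hL) (V.ι ⁻¹' Z) (hZ.preimage V.ι.isOpenEmbedding.injective.injOn)
    (fun z hz => by
      rw [← Set.preimage_image_eq {z} V.ι.isOpenEmbedding.injective, Set.image_singleton]
      exact (hZc _ hz).preimage V.ι.continuous)
  let O' : Y.Opens := V.ι ''ᵁ O
  refine ⟨O', fun z hz => ⟨⟨z, hZV hz⟩, hZO hz, rfl⟩, ?_⟩
  have hle : O' ≤ V := by
    rintro _ ⟨p, -, rfl⟩
    exact p.2
  have h₁ : Set.range O'.ι ⊆ Set.range V.ι := by
    rw [Scheme.Opens.range_ι, Scheme.Opens.range_ι]; exact hle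
  let j₁ := IsOpenImmersion.lift V.ι O'.ι h₁
  have h₂ : Set.range j₁ ⊆ Set.range O.ι := by
    rw [Scheme.Opens.range_ι]
    rintro _ ⟨p, rfl⟩
    obtain ⟨r, hr, hrp⟩ := p.2
    have h3 : V.ι (j₁ p) = O'.ι p :=
      (Scheme.Hom.comp_apply _ _ _).symm.trans (by rw [IsOpenImmersion.lift_fac])
    rwa [show j₁ p = r from V.ι.isOpenEmbedding.injective (h3.trans hrp.symm)]
  let j : (O' : Scheme.{u}) ⟶ (O : Scheme.{u}) := IsOpenImmersion.lift O.ι j₁ h₂
  have hj : j ≫ O.ι ≫ V.ι = O'.ι := by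
    rw [IsOpenImmersion.lift_fac_assoc, IsOpenImmersion.lift_fac]
  let M := (Scheme.Modules.pullback O.ι).obj ((Scheme.Modules.pullback V.ι).obj L)
  have hgen : IsGen M (O.ι ⁻¹ᵁ O) (TensorMod.Pullback.unitSec O.ι _ e) := isGen_unitSec O.ι he
  have hcov : iSup (fun _ : PUnit.{u + 1} => O.ι ⁻¹ᵁ O) = ⊤ := by
    rw [iSup_const, Scheme.Opens.ι_preimage_self]
  obtain ⟨φ, -⟩ := TensorMod.HomGlue.exists_iso_of_gen (L := M) (M := Coh.structureModule (O : Scheme.{u})) hcov
    (fun _ => TensorMod.Pullback.unitSec O.ι _ e) (fun _ => hgen) (fun _ => one _ _) (fun _ => isGen_one _)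
    fun _ _ W hi hj c hc => by
      have h1 : (1 : Γ((O : Scheme.{u}), W)) = c := (hgen W hi).1 (by
        show (1 : Γ((O : Scheme.{u}), W)) • rs M hi _ = c • rs M hi _
        rw [one_smul]; exact hc)
      rw [← h1, one_smul]
  obtain ⟨i⟩ : Nonempty (M ≅ Coh.structureModule (O : Scheme.{u})) := ⟨φ⟩
  exact ⟨(Scheme.Modules.pullbackCongr hj.symm).app L ≪≫
    (Scheme.Modules.pullbackComp j (O.ι ≫ V.ι)).symm.app L ≪≫
    (Scheme.Modules.pullback j).mapIso ((Scheme.Modules.pullbackComp O.ι V.ι).symm.app L ≪≫ i) ≪≫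
    PicLoc.pullbackStructureIso j⟩

end

end Groth.Agent.H52.SupportTwist
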