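import Groth.Agent.H52.PoincareExists
import Groth.Agent.H52.PoincareCoh
import Groth.Agent.H52.SupportTwist
import Groth.Agent.H52.IndexThm
import Groth.Agent.H52.IsogenyDegree
import Groth.Agent.H52.HilbertIndex
import Groth.Agent.Lib.QuadricKer.KunnethLin
import Groth.Agent.Lib.FibreDeg.Basic

/-!
# `χ(L)² = deg φ_L`
-/

set_option autoImplicit false
set_option linter.style.haveILetI false
set_option linter.unusedSectionVars false
universe u

open CategoryTheory CategoryTheory.Limits MonoidalCategory CartesianMonoidalCategory MonObj AlgebraicGeometry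
open TopologicalSpace
open Groth.Agent.H3
open Groth.Agent.Lib.GrpQ.MonoClosed (ptOf exists_ptOf)
open Groth.Agent.H52.NondegAmple (tr tr_mul ptOf_tr)
open scoped TensorProduct

namespace Groth.Agent.H52.PoincareRR

noncomputable section

local instance poincareRRLaw (Y : Scheme.{u}) : PicGrp.Law Y := Groth.Agent.Lib.TensorMod.Invertible.law Y

variable {K : Type u} [Field K]

local notation "S" => Spec (CommRingCat.of K)

/-- The Euler characteristic of a module with cohomology in a single degree. -/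
theorem euler_single {X : Scheme.{u}} (q : X ⟶ Spec (CommRingCat.of K)) (M : X.Modules) (i : ℕ)
    (h : ∀ j, j ≠ i → Subsingleton (Coh.HH X M j)) :
    @Curv2.euler K _ X ⟨q⟩ M = (-1 : ℤ) ^ i *
      @Module.finrank K (Coh.HH X M i) _ _ (@Coh.moduleOver K _ X ⟨q⟩ M i) := by
  letI : X.Over S := ⟨q⟩
  exact finsum_eq_single _ i fun j hj => by
    haveI := h j hj
    simp [Module.finrank_zero_of_subsingleton]

/-- Dimensions of cohomology are invariant under isomorphisms of schemes over the field. -/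
theorem finrank_pullback_iso {Y Z : Scheme.{u}} (σ : Y ⟶ Z) [IsIso σ]
    (q : Z ⟶ Spec (CommRingCat.of K)) (q' : Y ⟶ Spec (CommRingCat.of K)) (hq : σ ≫ q = q') [IsProper q]
    (M : Z.Modules) (hM : PicF.IsInvertible M) (n : ℕ) :
    @Module.finrank K (Coh.HH Y ((Scheme.Modules.pullback σ).obj M) n) _ _
        (@Coh.moduleOver K _ Y ⟨q'⟩ ((Scheme.Modules.pullback σ).obj M) n) =
      @Module.finrank K (Coh.HH Z M n) _ _ (@Coh.moduleOver K _ Z ⟨q⟩ M n) := by
  subst hq
  letI : Z.Over (Spec (CommRingCat.of K)) := ⟨q⟩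
  letI : Y.Over (Spec (CommRingCat.of K)) := ⟨σ ≫ q⟩
  haveI : CompactSpace Z := (quasiCompact_iff_compactSpace q).mp inferInstance
  haveI : QuasiSeparatedSpace Z := quasiSeparatedSpace_of_quasiSeparated q
  haveI : Coh.IsQCoh M := Groth.Agent.Lib.TensorMod.QCohInv.isQCoh_of_isInvertible hM
  have h : IsPullback σ (Y ↘ Spec (CommRingCat.of K)) (Z ↘ Spec (CommRingCat.of K))
      (Spec.map (CommRingCat.ofHom (algebraMap K K))) :=
    haveI : IsIso (Spec.map (CommRingCat.ofHom (algebraMap K K))) := by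
      rw [show (CommRingCat.ofHom (algebraMap K K)) = 𝟙 _ from rfl, Spec.map_id]; infer_instance
    IsPullback.of_horiz_isIso ⟨by
      rw [show (CommRingCat.ofHom (algebraMap K K)) = 𝟙 _ from rfl, Spec.map_id, Category.comp_id]; rfl⟩
  obtain ⟨e⟩ := ZarCoh.FlatBC.Equiv.nonempty_linearEquiv h M n
  exact ((TensorProduct.lid K _).symm.trans e).finrank_eq.symm

/-- The dimension of the functions on a finite scheme over a field is its rank. -/
theorem gammaDeg_eq_finrank (G : Over (Spec (CommRingCat.of K))) [IsFinite G.hom]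
    (s : ↥(Spec (CommRingCat.of K))) : IsogenyDegree.gammaDeg G = G.hom.finrank s := by
  haveI : IsAffine G.left := isAffine_of_isAffineHom G.hom
  letI : Algebra K Γ(G.left, ⊤) := (IsogenyDegree.toΓ G).toAlgebra
  have hK : G.left.isoSpec.hom ≫ Spec.map (CommRingCat.ofHom (algebraMap K Γ(G.left, ⊤))) = G.hom := by
    show G.left.toSpecΓ ≫ Spec.map ((Scheme.ΓSpecIso (CommRingCat.of K)).inv ≫ G.hom.appTop) = G.hom
    rw [Spec.map_comp, ← Category.assoc, ← Scheme.toSpecΓ_naturality, Category.assoc,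
      toSpecΓ_SpecMap_ΓSpecIso_inv, Category.comp_id]
  have hfin : IsFinite (Spec.map (CommRingCat.ofHom (algebraMap K Γ(G.left, ⊤)))) := by
    rw [show Spec.map (CommRingCat.ofHom (algebraMap K Γ(G.left, ⊤))) = G.left.isoSpec.inv ≫ G.hom by
      rw [← hK, Iso.inv_hom_id_assoc]]
    infer_instance
  haveI : Module.Finite K Γ(G.left, ⊤) := RingHom.finite_algebraMap.1 ((IsFinite.SpecMap_iff _).1 hfin)
  haveI : Flat (Spec.map (CommRingCat.ofHom (algebraMap K Γ(G.left, ⊤)))) := Flat.SpecMap_iff.2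
    (RingHom.flat_algebraMap_iff.2 inferInstance)
  conv_rhs => rw [← hK]
  rw [congrFun (Scheme.Hom.finrank_comp_left_of_isIso G.left.isoSpec.hom
      (Spec.map (CommRingCat.ofHom (algebraMap K Γ(G.left, ⊤))))) s,
    ]
  refine Eq.trans ?_ (Scheme.Hom.finrank_SpecMap_algebraMap K Γ(G.left, ⊤) s).symm
  rw [Module.rankAtStalk_eq_finrank_of_free]
  rfl

variable [IsAlgClosed K] {A At : Over (Spec (CommRingCat.of K))} [GrpObj A] [IsCommMonObj A] [IsProper A.hom]
  [Smooth A.hom] [GeometricallyIntegral A.hom] [GrpObj At] [IsProper At.hom] [Smooth At.hom]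
  [GeometricallyIntegral At.hom]
  {φ : ∀ T : Over (Spec (CommRingCat.of K)), PicF.Cl (PicF.XT A.hom T) → (T ⟶ At)}
  (hφ : AbDual.IsDualAV Scheme.fppfPrecoverage A At φ)
  {L : A.left.Modules} (hL : PicF.IsInvertible L) {Λ : (A ⊗ A).left.Modules} (hΛi : PicF.IsInvertible Λ)
  (hΛ : AgPol.IsLambdaSheaf μ[A].left (fst A A).left (snd A A).left L Λ)
  (hΛ0 : AbDual.IsPicZeroCl A.hom A (PicGrp.cls Λ hΛi).1)

include hφ hL hΛ hΛ0 in
/-- A non-degenerate class is fixed by finitely many translations only. -/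
theorem finite_fixing [IsFinite (φ A (PicGrp.cls Λ hΛi).1).left] :
    Set.Finite {x : 𝟙_ (Over S) ⟶ A | PicCalc.ph (tr x) (PicGrp.cls L hL) = PicGrp.cls L hL} := by
  haveI : Subsingleton (𝟙_ (Over S)).left := inferInstanceAs (Subsingleton (PrimeSpectrum K))
  haveI : Nonempty (𝟙_ (Over S)).left := inferInstanceAs (Nonempty (PrimeSpectrum K))
  let q : A ⟶ At := φ A (PicGrp.cls Λ hΛi).1
  let e₀ : At.left := ptOf (1 : 𝟙_ (Over S) ⟶ At)
  refine Set.Finite.of_finite_image (f := ptOf) ?_ fun x _ y _ h =>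
    Over.OverMorphism.ext (ext_of_apply_closedPoint_eq A.hom (Over.w x) (Over.w y) h)
  refine (q.left.finite_preimage_singleton e₀).subset ?_
  rintro _ ⟨x, hx, rfl⟩
  show q.left (ptOf x) = e₀
  have hmul := congrArg (PicCalc.ph (A ◁ x)) (Groth.Agent.Lib.H3.ThetaLift.cls_mul A hL hΛi hΛ)
  rw [map_mul, map_mul, ← PicCalc.ph_comp, ← PicCalc.ph_comp, ← PicCalc.ph_comp, PicCalc.comp_transl_fst,
    ThetaGrp.transl_fst, whiskerLeft_fst, whiskerLeft_snd, PicCalc.ph_comp (snd A _) x,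
    PicCalc.eq_one_of_subsingleton (PicCalc.ph x (PicGrp.cls L hL)), map_one, _root_.mul_one] at hmul
  have e : fst A (𝟙_ (Over S)) * (snd A (𝟙_ (Over S)) ≫ x) = fst A (𝟙_ (Over S)) ≫ tr x := by
    simp only [tr, MonObj.comp_mul, Category.comp_id, ← Category.assoc]
    congr 2
    exact toUnit_unique _ _
  have h1 : PicCalc.ph (A ◁ x) (PicGrp.cls Λ hΛi) = 1 := by
    have h2 : PicCalc.ph (fst A (𝟙_ (Over S)) * (snd A (𝟙_ (Over S)) ≫ x)) (PicGrp.cls L hL) =
        PicCalc.ph (fst A (𝟙_ (Over S))) (PicGrp.cls L hL) := by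
      rw [e, PicCalc.ph_comp]
      exact congrArg _ hx
    exact mul_eq_right.1 (hmul.trans h2)
  have h0 := Groth.Agent.H4.PicZero.isPicZeroCl_ph (X := A) (X' := A) x _ (whiskerLeft_snd A x) hΛ0
  have h3 : x ≫ q = 1 := by
    refine (Groth.Agent.H4.PicZero.phi_natural hφ x hΛ0).symm.trans ?_
    rw [h1]
    exact Groth.Agent.H4.PicZero.phi_one hφ (h1 ▸ h0)
  exact congrArg ptOf h3

include hL hΛi hΛ in
/-- The Mumford bundle and its twist by the first factor have the same cohomology. -/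
theorem finrank_mumford_twist
    (hnd : Set.Finite {x : 𝟙_ (Over S) ⟶ A | PicCalc.ph (tr x) (PicGrp.cls L hL) = PicGrp.cls L hL})
    (D : (A ⊗ A).left.Modules) (hD : PicF.IsInvertible D)
    (hDc : PicGrp.cls D hD =
      PicCalc.ph (fst A A * snd A A) (PicGrp.cls L hL) * (PicCalc.ph (snd A A) (PicGrp.cls L hL))⁻¹)
    (n : ℕ) :
    @Module.finrank K (Coh.HH (A ⊗ A).left D n) _ _ (@Coh.moduleOver K _ _ ⟨(A ⊗ A).hom⟩ D n) =
      @Module.finrank K (Coh.HH (A ⊗ A).left Λ n) _ _ (@Coh.moduleOver K _ _ ⟨(A ⊗ A).hom⟩ Λ n) := by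
  haveI : Subsingleton (𝟙_ (Over S)).left := inferInstanceAs (Subsingleton (PrimeSpectrum K))
  haveI : Nonempty (𝟙_ (Over S)).left := inferInstanceAs (Nonempty (PrimeSpectrum K))
  haveI : IsIntegral A.left := GeometricallyIntegral.isIntegral_of_subsingleton A.hom
  haveI : IsLocallyNoetherian A.left := LocallyOfFiniteType.isLocallyNoetherian A.hom
  haveI : JacobsonSpace A.left := LocallyOfFiniteType.jacobsonSpace A.hom
  haveI : CompactSpace A.left := QuasiCompact.compactSpace_of_compactSpace A.hom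
  haveI : IsNoetherian A.left := {}
  haveI : IsProper (fst A A).left := inferInstanceAs (IsProper (pullback.fst A.hom A.hom))
  haveI : Flat (fst A A).left := inferInstanceAs (Flat (pullback.fst A.hom A.hom))
  let ℓ := PicGrp.cls L hL
  let f := (fst A A).left
  let Z : Set A.left := ptOf '' {x : 𝟙_ (Over S) ⟶ A | PicCalc.ph (tr x) ℓ = ℓ}
  have hmul : PicGrp.cls Λ hΛi * PicCalc.ph (fst A A) ℓ * PicCalc.ph (snd A A) ℓ = PicCalc.ph μ[A] ℓ :=
    Groth.Agent.Lib.H3.ThetaLift.cls_mul A hL hΛi hΛ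
  have hclosed : ∀ x : 𝟙_ (Over S) ⟶ A, IsClosed ({ptOf x} : Set A.left) := fun x =>
    (pointEquivClosedPoint A.hom ⟨x.left, Over.w x⟩).2
  have hZc : ∀ y ∈ Z, IsClosed ({y} : Set A.left) := by rintro _ ⟨x, -, rfl⟩; exact hclosed x
  have hpt : ∀ y (hy : IsClosed ({y} : Set A.left)), ∃ x : 𝟙_ (Over S) ⟶ A,
      x.left = pointOfClosedPoint A.hom y hy ∧ ptOf x = y := fun y hy =>
    ⟨Over.homMk (pointOfClosedPoint A.hom y hy) (pointOfClosedPoint_comp A.hom y hy), rfl,
      pointOfClosedPoint_apply A.hom y hy _⟩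
  have hid : IsPullback (𝟙 A.left) A.hom A.hom (𝟙 _) := IsPullback.of_horiz_isIso ⟨by simp⟩
  have hs : ∀ x : 𝟙_ (Over S) ⟶ A,
      IsPullback (lift (toUnit A ≫ x) (𝟙 A)).left A.hom f x.left := fun x => by
    have hr : IsPullback (snd A A).left (fst A A).left A.hom A.hom :=
      (IsPullback.of_hasPullback A.hom A.hom).flip
    refine IsPullback.of_right ?_ ?_ hr
    · rw [← Over.comp_left, lift_snd, show x.left ≫ A.hom = 𝟙 _ from Over.w x]
      exact hid
    · rw [← Over.comp_left, lift_fst]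
      rfl
  have hU : ∀ (M : (A ⊗ A).left.Modules) (hM : PicF.IsInvertible M),
      (∀ x, PicCalc.ph (lift (toUnit A ≫ x) (𝟙 A)) (PicGrp.cls M hM) = PicCalc.ph (tr x) ℓ * ℓ⁻¹) →
      ∀ W : A.left.Opens, (W : Set A.left) ⊆ Zᶜ → ∀ n, Subsingleton (CohTop.HU (Coh.toAb M) n (f ⁻¹ᵁ W)) := by
    intro M hM hsl W hW n
    have hcoh := Groth.Agent.Lib.Ample.GG.isCoh_of_isInvertible hM
    have hfl := Groth.Agent.Lib.Cube.FamCx.isFlatOver_of_isInvertible (fst A A).left hM
    have hoff : ∀ y, y ∉ Z → IsClosed ({y} : Set A.left) → ∀ n, Subsingleton (CohIII.fiberH f M y n) := by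
      intro y hyZ hy n
      obtain ⟨x, hx, hxy⟩ := hpt y hy
      obtain ⟨e⟩ := PicZeroTranslate.exists_fiber_iso (fst A A) M hM y hy _ (hx ▸ hs x) n
      have hc : PicGrp.cls ((Scheme.Modules.pullback (lift (toUnit A ≫ x) (𝟙 A)).left).obj M)
          (PicLoc.isInvertible_pullback _ hM) = PicCalc.ph (tr x) ℓ * ℓ⁻¹ :=
        (Subtype.ext (PicCalc.cl_pullback _ (a := PicGrp.cls M hM) rfl)).trans (hsl x)
      haveI := PicZeroTranslate.acyclic _ (PicLoc.isInvertible_pullback _ hM)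
        (show TransInv.Inv (PicGrp.cls ((Scheme.Modules.pullback (lift (toUnit A ≫ x) (𝟙 A)).left).obj M)
          (PicLoc.isInvertible_pullback _ hM)) by
          rw [hc]
          exact TransInv.inv_defect ℓ x)
        (by
          rw [hc]
          exact fun h => hyZ ⟨x, mul_inv_eq_one.mp h, hxy⟩) n
      exact e.symm.toEquiv.subsingleton
    let U : A.left.Opens := ⟨Zᶜ, IsClosed.isOpen_compl (self := by
      rw [← Set.biUnion_of_singleton Z]
      exact (hnd.image _).isClosed_biUnion fun y hy => hZc y hy)⟩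
    exact RelAcyclic.subsingleton_HU_of_affine f M U (fun W' hW' hW'a => RelAcyclic.subsingleton_HU
      f M hcoh hfl W' hW'a fun y hyW hy => hoff y (hW' hyW) hy) W hW
        (NoetherianSpace.isCompact _) n
  have hslD : ∀ x, PicCalc.ph (lift (toUnit A ≫ x) (𝟙 A)) (PicGrp.cls D hD) =
      PicCalc.ph (tr x) ℓ * ℓ⁻¹ := fun x => by
    rw [hDc]
    simp only [map_mul, map_inv, ← PicCalc.ph_comp, MonObj.comp_mul, lift_fst, lift_snd,
      PicCalc.ph_id, tr]
    rw [_root_.mul_comm (toUnit A ≫ x)]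
  have hDΛ : PicGrp.cls D hD = PicGrp.cls Λ hΛi * PicCalc.ph (fst A A) ℓ := by
    rw [hDc, Hom.mul_def, lift_fst_snd, Category.id_comp, ← hmul, mul_inv_cancel_right]
  have hslΛ : ∀ x, PicCalc.ph (lift (toUnit A ≫ x) (𝟙 A)) (PicGrp.cls Λ hΛi) =
      PicCalc.ph (tr x) ℓ * ℓ⁻¹ := fun x => by
    have h := hslD x
    rwa [hDΛ, map_mul, ← PicCalc.ph_comp, lift_fst, PicCalc.ph_comp,
      PicCalc.eq_one_of_subsingleton (PicCalc.ph x ℓ), map_one, _root_.mul_one] at h
  obtain ⟨V, hV, hZV⟩ := Groth.Agent.Lib.WeilRep.GrpAffine.exists_isAffineOpen_finite A Z (hnd.image _)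
  obtain ⟨O₀, hZO, ⟨t⟩⟩ := SupportTwist.exists_trivial_nhd V hV L hL Z (hnd.image _) hZV hZc
  let U : A.left.Opens := ⟨Zᶜ, IsClosed.isOpen_compl (self := by
    rw [← Set.biUnion_of_singleton Z]
    exact (hnd.image _).isClosed_biUnion fun y hy => hZc y hy)⟩
  have htop : f ⁻¹ᵁ O₀ ⊔ f ⁻¹ᵁ U = ⊤ := by
    rw [← Scheme.Hom.preimage_sup, ← Scheme.Hom.preimage_top (f := f)]
    congr 1
    ext y
    simp only [Opens.coe_sup, Set.mem_union, Opens.coe_top, Set.mem_univ, iff_true]
    exact (em (y ∈ Z)).imp (fun h => hZO h) id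
  have hbij : ∀ (M : (A ⊗ A).left.Modules) (hM : PicF.IsInvertible M),
      (∀ x, PicCalc.ph (lift (toUnit A ≫ x) (𝟙 A)) (PicGrp.cls M hM) = PicCalc.ph (tr x) ℓ * ℓ⁻¹) →
      Function.Bijective (CohTop.res (Coh.toAb M) n (le_top : f ⁻¹ᵁ O₀ ≤ ⊤)) := fun M hM hsl =>
    SupportTwist.res_bijective _ _ _ htop (hU M hM hsl U subset_rfl)
      (hU M hM hsl (O₀ ⊓ U) fun _ h => h.2) n
  -- restrictions agree
  let O : (A ⊗ A).left.Opens := f ⁻¹ᵁ O₀
  let T : Over S := Over.mk (O.ι ≫ (A ⊗ A).hom)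
  let T₀ : Over S := Over.mk (O₀.ι ≫ A.hom)
  let jO : T ⟶ A ⊗ A := Over.homMk O.ι rfl
  let jA : T₀ ⟶ A := Over.homMk O₀.ι rfl
  let f₀ : T ⟶ T₀ := Over.homMk (f ∣_ O₀) (by
    show (f ∣_ O₀) ≫ O₀.ι ≫ A.hom = O.ι ≫ (A ⊗ A).hom
    rw [← Category.assoc, morphismRestrict_ι, Category.assoc]
    exact congrArg _ (Over.w (fst A A)))
  have hf₀ : jO ≫ fst A A = f₀ ≫ jA := Over.OverMorphism.ext (morphismRestrict_ι f O₀).symm
  have hℓ : PicCalc.ph jA ℓ = 1 := by
    apply Subtype.ext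
    rw [PicGrp.one_val]
    exact Quot.sound ⟨t⟩
  have hjO : PicCalc.ph jO (PicGrp.cls D hD) = PicCalc.ph jO (PicGrp.cls Λ hΛi) := by
    rw [hDΛ, map_mul, ← PicCalc.ph_comp jO, hf₀, PicCalc.ph_comp, hℓ, map_one, _root_.mul_one]
  obtain ⟨r⟩ : Nonempty ((Scheme.Modules.pullback jO.left).obj D ≅ (Scheme.Modules.pullback jO.left).obj Λ) :=
    (PicCalc.iso_iff (PicCalc.cl_pullback jO (a := PicGrp.cls D hD) rfl)
      (PicCalc.cl_pullback jO (a := PicGrp.cls Λ hΛi) rfl)).mpr hjO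
  exact SupportTwist.finrank_eq_of_restrict (A ⊗ A).hom O D Λ
    ((Scheme.Modules.restrictFunctorIsoPullback O.ι).app D ≪≫ r ≪≫
      ((Scheme.Modules.restrictFunctorIsoPullback O.ι).app Λ).symm) n (hbij D hD hslD) (hbij Λ hΛi hslΛ)

include hφ hL hΛ hΛ0 in
/-- **`χ(L)² = deg φ_L`.** -/
theorem euler_sq (g : ℕ) (hg : topologicalKrullDim A.left = g)
    [IsFinite (φ A (PicGrp.cls Λ hΛi).1).left] [Flat (φ A (PicGrp.cls Λ hΛi).1).left]
    (d : ℕ) (hd : ∀ y : ↥At.left, Scheme.Hom.finrank (φ A (PicGrp.cls Λ hΛi).1).left y = d) :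
    @Curv2.euler K _ A.left ⟨A.hom⟩ L ^ 2 = (d : ℤ) := by
  haveI : IsIntegral A.left := GeometricallyIntegral.isIntegral_of_subsingleton A.hom
  haveI : IsIntegral At.left := GeometricallyIntegral.isIntegral_of_subsingleton At.hom
  let q : A ⟶ At := φ A (PicGrp.cls Λ hΛi).1
  haveI : Surjective q.left := (Scheme.Hom.one_le_finrank_iff_surjective q.left).1 fun y => by
    have h := Scheme.Hom.one_le_finrank_map q.left (genericPoint A.left)
    rw [hd] at h
    exact h.trans_eq (hd y).symm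
  have hgt : topologicalKrullDim At.left = g := by
    rw [← hg]
    exact (Groth.Agent.Lib.AffineCompl.Dim.topologicalKrullDim_of_finite_surjective q.left q.left.surjective).symm
  have hnd := finite_fixing hφ hL hΛi hΛ hΛ0
  obtain ⟨L', hL', hL'c, i, j, hij, hvi, -, hvj, -⟩ := IndexThm.exists_index_pair g hg L hL hnd
  haveI := PoincareExists.isMonHom_phi hφ hL hΛi hΛ hΛ0
  obtain ⟨P, hP, hPξ, hPc⟩ := PoincareExists.exists_isPoincareCl hφ hL hΛi hΛ hΛ0
  obtain ⟨hPv, hP1⟩ := PoincareCoh.exists_coh hφ hPξ P hP rfl g hg hgt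
  letI : A.left.Over S := ⟨A.hom⟩
  haveI : IsProper (A.left ↘ S) := ‹IsProper A.hom›
  letI : (A ⊗ A).left.Over S := ⟨(A ⊗ A).hom⟩
  letI : (A ⊗ At).left.Over S := ⟨(A ⊗ At).hom⟩
  haveI : IsProper (fst A A).left := inferInstanceAs (IsProper (pullback.fst A.hom A.hom))
  haveI : Flat (fst A A).left := inferInstanceAs (Flat (pullback.fst A.hom A.hom))
  haveI : IsProper (A ⊗ A).hom := inferInstanceAs (IsProper (pullback.fst A.hom A.hom ≫ A.hom))
  haveI : IsProper ((A ⊗ A).left ↘ S) := ‹IsProper (A ⊗ A).hom›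
  haveI : IsProper (A ⊗ At).hom := inferInstanceAs (IsProper (pullback.fst A.hom At.hom ≫ A.hom))
  -- the Euler characteristic of the Mumford bundle
  let F : A ⊗ A ⟶ A ⊗ At := A ◁ q
  haveI : IsMonHom q := ‹_›
  haveI : IsMonHom F := by
    refine ⟨?_, ?_⟩ <;> apply CartesianMonoidalCategory.hom_ext <;>
      simp [F, IsMonHom.one_hom, IsMonHom.mul_hom, tensorObj.one_def, tensorObj.mul_def,
        lift_snd_assoc, IsMonHom.mul_hom_assoc]
  have hr : IsPullback (fst A At).left (snd A At).left A.hom At.hom :=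
    IsPullback.of_hasPullback A.hom At.hom
  have hsq : IsPullback (A ◁ q).left (snd A A).left (snd A At).left q.left := by
    refine IsPullback.of_right ?_ ?_ hr
    · rw [← Over.comp_left, whiskerLeft_fst, Over.w q]
      exact IsPullback.of_hasPullback A.hom A.hom
    · rw [← Over.comp_left, whiskerLeft_snd]
      rfl
  haveI : IsFinite F.left := MorphismProperty.of_isPullback (P := @IsFinite) hsq.flip ‹_›
  haveI : Flat F.left := MorphismProperty.of_isPullback (P := @Flat) hsq.flip ‹_›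
  haveI : Surjective F.left := MorphismProperty.of_isPullback (P := @Surjective) hsq.flip ‹_›
  have hdeg : IsogenyDegree.gammaDeg (pullback F η[A ⊗ At]) = d := by
    let G : Over S := pullback F η[A ⊗ At]
    have sq := (IsPullback.of_hasPullback F η[A ⊗ At]).map (Over.forget S)
    have e : G.hom = (pullback.snd F η[A ⊗ At]).left := by
      rw [← Over.w (pullback.snd F η[A ⊗ At])]
      exact Category.comp_id _
    haveI : IsFinite G.hom := by
      rw [e]; exact MorphismProperty.of_isPullback (P := @IsFinite) sq ‹_›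
    rw [gammaDeg_eq_finrank G (IsLocalRing.closedPoint K), e]
    refine (Scheme.Hom.finrank_of_isPullback _ _ F.left η[A ⊗ At].left sq _).trans ?_
    exact (Scheme.Hom.finrank_of_isPullback _ _ q.left (snd A At).left hsq.flip _).trans (hd _)
  obtain ⟨d', hd'⟩ : ∃ d' : ℕ, d' = d ∧ ∀ G : (A ⊗ At).left.Modules, Coh.IsCoh G →
      Curv2.euler K (A ⊗ A).left ((Scheme.Modules.pullback F.left).obj G) =
        d' * Curv2.euler K (A ⊗ At).left G :=
    ⟨_, hdeg, IsogenyDegree.euler_pullback_degree F⟩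
  have hΛχ : Curv2.euler K (A ⊗ A).left Λ = (d : ℤ) * (-1) ^ g := by
    obtain ⟨i₁⟩ := (PicCalc.iso_iff (PicCalc.cl_pullback F (a := PicGrp.cls P hP) rfl)
      (b := PicGrp.cls Λ hΛi) rfl).mpr hPc
    rw [← (IsogenyEuler.isAdd_euler (k := K)).iso i₁,
      hd'.2 P (Groth.Agent.Lib.Ample.GG.isCoh_of_isInvertible hP), hd'.1,
      euler_single (A ⊗ At).hom P g hPv, hP1, Nat.cast_one, _root_.mul_one]
  -- shear
  let ℓ := PicGrp.cls L hL
  let δ : PicLoc.PicSet (A ⊗ A).left :=
    PicCalc.ph (fst A A * snd A A) ℓ * (PicCalc.ph (snd A A) ℓ)⁻¹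
  obtain ⟨D, hD, hDc⟩ := PicGrp.exists_eq_cls δ
  let σ : A ⊗ A ⟶ A ⊗ A := lift (fst A A * snd A A) (snd A A)
  let τ : A ⊗ A ⟶ A ⊗ A := lift (fst A A * (snd A A)⁻¹) (snd A A)
  have hστ : σ ≫ τ = 𝟙 _ := by
    ext1 <;> simp [σ, τ, MonObj.comp_mul, GrpObj.comp_inv]
  have hτσ : τ ≫ σ = 𝟙 _ := by
    ext1 <;> simp [σ, τ, MonObj.comp_mul, GrpObj.comp_inv]
  haveI : IsIso σ.left :=
    ⟨τ.left, by rw [← Over.comp_left, hστ]; rfl, by rw [← Over.comp_left, hτσ]; rfl⟩
  haveI : Coh.IsQCoh L := Groth.Agent.Lib.TensorMod.QCohInv.isQCoh_of_isInvertible hL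
  haveI : Coh.IsQCoh L' := Groth.Agent.Lib.TensorMod.QCohInv.isQCoh_of_isInvertible hL'
  let M₂ := CohB1.tensorMod ((Scheme.Modules.pullback (fst A A).left).obj L)
    ((Scheme.Modules.pullback (snd A A).left).obj L')
  obtain ⟨iσ⟩ : Nonempty ((Scheme.Modules.pullback σ.left).obj M₂ ≅ D) :=
    (PicCalc.iso_iff (PicCalc.cl_pullback σ (PicCalc.cl_tensor
      (PicCalc.cl_pullback (fst A A) (a := PicGrp.cls L hL) rfl)
      (PicCalc.cl_pullback (snd A A) (a := PicGrp.cls L' hL') rfl))) (b := PicGrp.cls D hD) rfl).mpr (by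
      rw [← hDc, hL'c]
      simp only [δ, σ, map_mul, map_inv, ← PicCalc.ph_comp, MonObj.comp_mul, lift_fst, lift_snd]
      rfl)
  have hDfin : Curv2.euler K A.left L * Curv2.euler K A.left L' = Curv2.euler K (A ⊗ A).left D := by
    letI : (pullback (A.left ↘ S) (A.left ↘ S)).Over S :=
      ⟨pullback.fst (A.left ↘ S) (A.left ↘ S) ≫ (A.left ↘ S)⟩
    have hdim : ∀ n, Module.finrank K (Coh.HH (A ⊗ A).left D n) =
        ∑ pq : Finset.HasAntidiagonal.antidiagonal n, Module.finrank K (Coh.HH A.left L pq.1.1) *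
          Module.finrank K (Coh.HH A.left L' pq.1.2) := fun n => by
      obtain ⟨eK⟩ := ZarCoh.Exchange.Kunneth.nonempty_kunneth_linear K A.left A.left L L'
        (Groth.Agent.Lib.IntTheory.BaseChange.isFlatOver (k := K) (X := A.left) L) (fun _ => inferInstance) n
      haveI : ∀ p, Module.Finite K (Coh.HH A.left L p) := Groth.Agent.Lib.Snapper.Finite.cohFinite K A.left L
        (Groth.Agent.Lib.Ample.GG.isCoh_of_isInvertible hL)
      haveI : ∀ p, Module.Finite K (Coh.HH A.left L' p) := Groth.Agent.Lib.Snapper.Finite.cohFinite K A.left L'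
        (Groth.Agent.Lib.Ample.GG.isCoh_of_isInvertible hL')
      rw [← (Groth.Agent.Lib.Curves.LES.isoK K iσ n).finrank_eq,
        finrank_pullback_iso σ.left (A ⊗ A).hom (A ⊗ A).hom (Over.w σ) M₂
          (Groth.Agent.Lib.TensorMod.Invertible.isInvertible_tensorMod (PicLoc.isInvertible_pullback _ hL)
            (PicLoc.isInvertible_pullback _ hL')) n]
      refine eK.finrank_eq.trans ?_
      rw [Module.finrank_directSum]
      exact Finset.sum_congr rfl fun pq _ => Module.finrank_tensorProduct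
    rw [euler_single A.hom L i hvi, euler_single A.hom L' j hvj]
    rw [show Curv2.euler K (A ⊗ A).left D = (-1 : ℤ) ^ g * Module.finrank K (Coh.HH (A ⊗ A).left D g) from
      finsum_eq_single _ g fun n hn => by
        rw [hdim, Finset.sum_eq_zero, Nat.cast_zero, mul_zero]
        intro pq _
        by_cases hp : pq.1.1 = i
        · haveI := hvj pq.1.2 (fun hq => hn (by
            rw [← hij, ← hp, ← hq]; exact (Finset.HasAntidiagonal.mem_antidiagonal.1 pq.2).symm))
          rw [Module.finrank_zero_of_subsingleton (M := Coh.HH A.left L' pq.1.2), mul_zero]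
        · haveI := hvi pq.1.1 hp
          rw [Module.finrank_zero_of_subsingleton, zero_mul]]
    have hpow : (-1 : ℤ) ^ g = (-1) ^ i * (-1) ^ j := by rw [← pow_add, hij]
    rw [hdim, Finset.sum_eq_single ⟨(i, j), Finset.HasAntidiagonal.mem_antidiagonal.2 hij⟩, hpow]
    · push_cast; ring
    · rintro ⟨⟨p, p'⟩, hpp⟩ - hne
      have hp : p ≠ i := fun hp => hne (by
        have := Finset.HasAntidiagonal.mem_antidiagonal.1 hpp
        subst hp
        refine Subtype.ext (Prod.ext rfl ?_)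
        show p' = j
        simp only at this
        omega)
      haveI := hvi p hp
      rw [Module.finrank_zero_of_subsingleton, zero_mul]
    · exact fun h => absurd (Finset.mem_univ _) h
  have hDΛ : Curv2.euler K (A ⊗ A).left D = Curv2.euler K (A ⊗ A).left Λ :=
    finsum_congr fun n => by rw [finrank_mumford_twist hL hΛi hΛ hnd D hD hDc.symm n]
  have hinv := HilbertIndex.euler_inverse g hg L L' hL hL' hL'c
  have h1 : (-1 : ℤ) ^ g * (-1 : ℤ) ^ g = 1 := by rw [← pow_add, ← two_mul, pow_mul]; simp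
  have h := hDfin.trans (hDΛ.trans hΛχ)
  change Curv2.euler K A.left L ^ 2 = (d : ℤ)
  have hinv' : Curv2.euler K A.left L' = (-1 : ℤ) ^ g * Curv2.euler K A.left L := hinv
  rw [hinv'] at h
  calc Curv2.euler K A.left L ^ 2
      = (Curv2.euler K A.left L * ((-1 : ℤ) ^ g * Curv2.euler K A.left L)) * (-1) ^ g := by
        linear_combination -(Curv2.euler K A.left L ^ 2) * h1
    _ = (d : ℤ) := by rw [h, _root_.mul_assoc, h1, _root_.mul_one]

end

end Groth.Agent.H52.PoincareRR
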