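import Groth.Agent.H52.PoincareBC
import Groth.Agent.H52.SupportTwist
import Groth.Agent.H18.ZClos.BaseChange
import Groth.Agent.Lib.Modules.ClosedUnit
import Groth.Agent.Lib.Modules.AffineSections

/-!
# The higher direct images of the Poincaré bundle
-/

set_option autoImplicit false
set_option linter.style.haveILetI false
set_option linter.unusedSectionVars false
universe u

open CategoryTheory CategoryTheory.Limits MonoidalCategory CartesianMonoidalCategory MonObj AlgebraicGeometry
open TopologicalSpace Opposite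
open Groth.Agent.Lib Groth.Agent.Lib.TensorMod.Dual Groth.Agent.Lib.TensorMod.Gen
open Groth.Agent.Lib.Ample.GenLocus
open ZarCoh.Exchange.Local (AV XV MV)

namespace Groth.Agent.H52.PoincareRpush

noncomputable section

/-- A module on the spectrum of a field spanned by one non-zero section is trivial. -/
theorem iso_of_line {K : Type u} [Field K] (N : (Spec (CommRingCat.of K)).Modules)
    (W : (Spec (CommRingCat.of K)).Opens) (hW : W = ⊤) (s : Γ(N, W)) (hs : s ≠ 0)
    (hsp : ∀ x : Γ(N, W), ∃ r : Γ(Spec (CommRingCat.of K), W), x = r • s) :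
    Nonempty (Coh.structureModule (Spec (CommRingCat.of K)) ≅ N) := by
  subst hW
  haveI : Subsingleton (Spec (CommRingCat.of K)) := inferInstanceAs (Subsingleton (PrimeSpectrum K))
  obtain ⟨φ, hφ⟩ := exists_hom_of_sec s
  have happ : ∀ r : Γ(Spec (CommRingCat.of K), ⊤), φ.app ⊤ r = r • s := fun r => by
    rw [← hφ]
    refine Eq.trans ?_ (Scheme.Modules.Hom.app_smul φ r _)
    congr 1
    exact (mul_one r).symm
  have hbij : Function.Bijective (φ.app ⊤) := by
    refine ⟨?_, fun x => ?_⟩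
    · refine (injective_iff_map_eq_zero _).2 fun (r : Γ(Spec (CommRingCat.of K), ⊤)) h => ?_
      rw [happ] at h
      by_contra hr
      let e := (Scheme.ΓSpecIso (CommRingCat.of K)).commRingCatIsoToRingEquiv
      have hu : IsUnit r := by
        rw [← e.symm_apply_apply r]
        exact (isUnit_iff_ne_zero.2 fun h0 => hr (e.injective (h0.trans (map_zero e).symm))).map e.symm
      obtain ⟨v, rfl⟩ := hu
      refine hs ?_
      rw [← one_smul Γ(Spec (CommRingCat.of K), ⊤) s, ← v.inv_mul, mul_smul, h, smul_zero]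
    · obtain ⟨r, hr⟩ := hsp x
      exact ⟨r, (happ r).trans hr.symm⟩
  haveI : IsIso φ := Groth.Agent.H18.ZClos.isIso_of_basis φ fun x V hxV => by
    refine ⟨⊤, trivial, ?_, hbij⟩
    intro y _
    rwa [Subsingleton.elim y x]
  exact ⟨asIso φ⟩

/-- Zero or unit multiples of a non-zero section killed off a point are killed by the ideal of the point. -/
theorem smul_eq_zero_of_line {Y : Scheme.{u}} (R : Y.Modules) [R.IsQuasicoherent] (U : Y.Opens)
    (hU : IsAffineOpen U) (a : Γ(Y, U)) (ha : Subsingleton Γ(R, Y.basicOpen a))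
    (hline : ∃ s₀ : Γ(R, U), ∀ s : Γ(R, U), ∃ r : Γ(Y, U), (r = 0 ∨ IsUnit r) ∧ s = r • s₀) (s : Γ(R, U)) :
    a • s = 0 := by
  obtain ⟨s₀, hs₀⟩ := hline
  suffices h : a • s₀ = 0 by
    obtain ⟨r, -, rfl⟩ := hs₀ s
    rw [smul_comm, h, smul_zero]
  obtain ⟨r, hr, har⟩ := hs₀ (a • s₀)
  rcases hr with rfl | hr
  · rw [har, zero_smul]
  · obtain ⟨n, hn⟩ := (Groth.Agent.Lib.QCoh.Localizing.localizes_of_isAffineOpen R hU a).sep s₀
      (Subsingleton.elim _ _)
    have hpow : ∀ m : ℕ, a ^ m • s₀ = r ^ m • s₀ := fun m => by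
      induction m with
      | zero => simp
      | succ m ih => rw [pow_succ, pow_succ, mul_smul, har, smul_comm, ih, ← mul_smul, _root_.mul_comm r]
    rw [hpow] at hn
    obtain ⟨v, hv⟩ := hr.pow n
    rw [har]
    have : s₀ = 0 := by
      rw [← hv] at hn
      rw [← one_smul Γ(Y, U) s₀, ← v.inv_mul, mul_smul, hn, smul_zero]
    rw [this, smul_zero]

variable {k : Type u} [Field k] {A At : Over (Spec (CommRingCat.of k))} [GrpObj A] [IsProper A.hom]
  [Smooth A.hom] [GeometricallyConnected A.hom] [GrpObj At] [IsProper At.hom] [Smooth At.hom]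
  [GeometricallyConnected At.hom]
  {φ : ∀ T : Over (Spec (CommRingCat.of k)), PicF.Cl (PicF.XT A.hom T) → (T ⟶ At)}
  (hφ : AbDual.IsDualAV Scheme.fppfPrecoverage A At φ)
  (D : (A ⊗ At).left.Modules) (hD : PicF.IsInvertible D) (hDξ : AbDual.IsPoincareCl A At φ (PicF.cl D))

local notation "S" => Spec (CommRingCat.of k)

set_option maxHeartbeats 1000000 in
include hφ hD hDξ in
/-- The direct images: none below or above the top degree, a line at the origin in the top one. -/
theorem exists_all (g : ℕ) (hg : topologicalKrullDim A.left = g) :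
    (∀ n, n ≠ g → IsZero ((Coh.Rpush (snd A At).left n).obj D)) ∧
      Nonempty ((Coh.Rpush (snd A At).left g).obj D ≅
        (Coh.push η[At].left).obj (Coh.structureModule (Spec (CommRingCat.of k)))) := by
  obtain ⟨hgt, ⟨-, hfin⟩, hoff, habove⟩ := PoincareBC.closure_data hφ D hD hDξ g hg
  haveI := Groth.Agent.H2.Rigid.GeomIrred.geometricallyIntegral_of_smooth At.hom
  haveI : IsIntegral At.left := GeometricallyIntegral.isIntegral_of_subsingleton At.hom
  haveI : IsLocallyNoetherian At.left := LocallyOfFiniteType.isLocallyNoetherian At.hom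
  haveI : JacobsonSpace At.left := LocallyOfFiniteType.jacobsonSpace At.hom
  haveI : CompactSpace At.left := QuasiCompact.compactSpace_of_compactSpace At.hom
  haveI : IsNoetherian At.left := {}
  let f := (snd A At).left
  haveI : IsProper f := inferInstanceAs (IsProper (pullback.snd A.hom At.hom))
  haveI : Flat f := inferInstanceAs (Flat (pullback.snd A.hom At.hom))
  haveI : IsLocallyNoetherian (A ⊗ At).left := LocallyOfFiniteType.isLocallyNoetherian f
  have hcoh := Groth.Agent.Lib.Ample.GG.isCoh_of_isInvertible hD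
  have hfl := Groth.Agent.Lib.Cube.FamCx.isFlatOver_of_isInvertible f hD
  haveI : D.IsQuasicoherent := hcoh.1
  haveI : Coh.IsQCoh D := hcoh.1
  let e₀ : At.left := η[At].left (IsLocalRing.closedPoint k : PrimeSpectrum k)
  haveI : IsClosedImmersion η[At].left := Groth.Agent.Lib.GrpSch.isClosedImmersion_η At
  have hclosed : IsClosed ({e₀} : Set At.left) := by
    have h : Set.range η[At].left = ({e₀} : Set At.left) :=
      Set.eq_singleton_iff_unique_mem.2 ⟨⟨_, rfl⟩, by
        rintro _ ⟨p, rfl⟩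
        exact congrArg η[At].left (Subsingleton.elim (α := PrimeSpectrum k) _ _)⟩
    rw [← h]
    exact η[At].left.isClosedEmbedding.isClosed_range
  let U : At.left.Opens := ⟨{e₀}ᶜ, hclosed.isOpen_compl⟩
  have hU : ∀ W : At.left.Opens, W ≤ U → ∀ n, Subsingleton (CohTop.HU (Coh.toAb D) n (f ⁻¹ᵁ W)) :=
    fun W hW n => RelAcyclic.subsingleton_HU_of_affine f D U (fun W' hW' hW'a => RelAcyclic.subsingleton_HU
      f D hcoh hfl W' hW'a fun y hyW hy => hoff y hy (hW' hyW)) W hW (NoetherianSpace.isCompact _) n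
  have hne : ∀ V : At.left.Opens, IsAffineOpen V → ∀ n, n ≠ g →
      Subsingleton (CohTop.HU (Coh.toAb D) n (f ⁻¹ᵁ V)) := fun V hV n hn => by
    rcases lt_or_gt_of_ne hn with h | h
    · exact Acyclicity.subsingleton_HU_lt f D hcoh hfl V hV {e₀} (Set.finite_singleton _) g
        (by rintro y rfl; exact hclosed) (by
          rintro y rfl
          exact ⟨Groth.Agent.Lib.Cyc.SmoothReg.isRegularLocalRing_stalk At.hom e₀,
            (Groth.Agent.Lib.AffineCompl.Dim.ringKrullDim_stalk_of_isClosed At.hom hclosed).trans hgt⟩)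
        (fun y _ hy hyc => hoff y hyc hy) n h
    · exact Acyclicity.subsingleton_HU_degree f D hcoh hfl V hV n fun y _ hy => habove y hy n h
  have hzero : ∀ (n : ℕ) (V : At.left.Opens), IsAffineOpen V →
      Subsingleton (CohTop.HU (Coh.toAb D) n (f ⁻¹ᵁ V)) → Subsingleton Γ((Coh.Rpush f n).obj D, V) := by
    intro n V hV h
    haveI : IsAffine (V : Scheme.{u}) := hV
    haveI := h
    obtain ⟨s⟩ := ZarCoh.Exchange.LocalRep.nonempty_sections f V D n
    obtain ⟨e⟩ := Groth.Agent.Lib.ZarCoh.Morph.nonempty_HHon_equiv D (f ⁻¹ᵁ V) n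
    haveI : Subsingleton (Coh.HH (XV f V) (MV f V D) n) := e.toEquiv.subsingleton
    have h' : Subsingleton Γ((Coh.Rpush f n).obj D, V.ι ''ᵁ ⊤) := s.toEquiv.subsingleton
    rwa [Scheme.Hom.image_top_eq_opensRange, Scheme.Opens.opensRange_ι] at h'
  refine ⟨fun n hn => ?_, ?_⟩
  · haveI : ((Coh.Rpush f n).obj D).IsQuasicoherent := Groth.Agent.S0030.result f D n
    refine Modules.AffineSections.isZero_of_sections fun x => ?_
    obtain ⟨V, hV, hx, -⟩ := exists_isAffineOpen_mem_and_subset (U := ⊤) (x := x) trivial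
    exact ⟨V, hV, hx, hzero n V hV (hne V hV n hn)⟩
  let R := (Coh.Rpush f g).obj D
  haveI : R.IsQuasicoherent := Groth.Agent.S0030.result f D g
  -- the sections near the origin form a line
  have hline : ∀ V : At.left.Opens, IsAffineOpen V → e₀ ∈ V → ∃ s₀ : Γ(R, V), s₀ ≠ 0 ∧
      ∀ s : Γ(R, V), ∃ r : Γ(At.left, V), (r = 0 ∨ IsUnit r) ∧ s = r • s₀ := by
    intro V hV heV
    haveI : IsAffine (V : Scheme.{u}) := hV
    let W := XV f V
    let Av := AV V
    obtain ⟨str, hstr⟩ := Spec.map_surjective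
      (ZarCoh.Exchange.LocalRep.k V ≫ At.hom : Spec (CommRingCat.of Av) ⟶ S)
    have hVU : V ⊔ U = ⊤ := by
      ext y
      simp only [Opens.coe_sup, Set.mem_union, Opens.coe_top, Set.mem_univ, iff_true]
      exact (em (y = e₀)).imp (fun h : y = e₀ => (congrArg (· ∈ V) h).mpr heV) id
    have hres : Function.Bijective (CohTop.res (Coh.toAb D) g (le_top : f ⁻¹ᵁ V ≤ ⊤)) :=
      SupportTwist.res_bijective (Coh.toAb D) (f ⁻¹ᵁ V) (f ⁻¹ᵁ U)
        (by rw [← Scheme.Hom.preimage_sup, hVU, Scheme.Hom.preimage_top])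
        (hU U le_rfl) (fun n => by rw [← Scheme.Hom.preimage_inf]; exact hU (V ⊓ U) inf_le_right n) g
    let R₀ := RestrictLinear.restr (f ⁻¹ᵁ V).ι D g
    have hR₀ : Function.Bijective R₀ := RestrictLinear.restr_bijective (f ⁻¹ᵁ V).ι D g (f ⁻¹ᵁ V)
      (by rw [Scheme.Hom.image_top_eq_opensRange, Scheme.Opens.opensRange_ι]) hres
    letI : (A ⊗ At).left.Over S := ⟨(A ⊗ At).hom⟩
    have hR := ZarCoh.Exchange.LocalRep.isPullback_k f V
    have hover : (f ⁻¹ᵁ V).ι ≫ (A ⊗ At).hom = (W ↘ Spec (CommRingCat.of Av)) ≫ Spec.map str := by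
      rw [hstr, ← Category.assoc, ← hR.w, Category.assoc]
      exact congrArg _ (Over.w (snd A At)).symm
    have hRs : ∀ (r : k) (z : Coh.HH (A ⊗ At).left D g),
        R₀ (r • z) = (str.hom r • R₀ z : Coh.HH W (MV f V D) g) := fun r z => by
      refine (RestrictLinear.restr_smul (f ⁻¹ᵁ V).ι D g (Coh.toGlobal (A ⊗ At).hom r) z).trans ?_
      refine congrArg (· • R₀ z) ?_
      have h := ZarCoh.Exchange.LocalRep.toGlobal_comp str (W ↘ Spec (CommRingCat.of Av)) r
      rw [← hover] at h
      exact h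
    obtain ⟨z₀, hz₀, hz⟩ := finrank_eq_one_iff'.mp hfin
    obtain ⟨s⟩ := ZarCoh.Exchange.LocalRep.nonempty_sections f V D g
    have key : ∃ t₀ : Γ(R, V.ι ''ᵁ ⊤), t₀ ≠ 0 ∧
        ∀ t : Γ(R, V.ι ''ᵁ ⊤), ∃ r : Γ(At.left, V.ι ''ᵁ ⊤), (r = 0 ∨ IsUnit r) ∧ t = r • t₀ := by
      refine ⟨s.symm (R₀ z₀), ?_, fun t => ?_⟩
      · intro h
        have h1 : R₀ z₀ = 0 := s.symm.injective (h.trans (map_zero s.symm).symm)
        exact hz₀ (hR₀.1 (h1.trans (map_zero R₀).symm))
      · obtain ⟨z, hzt⟩ := hR₀.2 (s t)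
        obtain ⟨c, rfl⟩ := hz z
        refine ⟨(V.ι.appIso ⊤).inv.hom (str.hom c), ?_, ?_⟩
        · rcases eq_or_ne c 0 with rfl | hc
          · exact Or.inl ((congrArg (V.ι.appIso ⊤).inv.hom (map_zero str.hom)).trans (map_zero _))
          · exact Or.inr (((isUnit_iff_ne_zero.2 hc).map str.hom).map (V.ι.appIso ⊤).inv.hom)
        · refine s.injective ?_
          rw [hRs] at hzt
          rw [← hzt]
          refine Eq.trans ?_ ((map_smul s (str.hom c) (s.symm (R₀ z₀))).symm.trans (congrArg s ?_))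
          · rw [LinearEquiv.apply_symm_apply]
          · rfl
    rwa [show V.ι ''ᵁ ⊤ = V by rw [Scheme.Hom.image_top_eq_opensRange, Scheme.Opens.opensRange_ι]] at key
  -- the ideal of the origin kills the sections
  haveI : IsIso ((Scheme.Modules.pullbackPushforwardAdjunction η[At].left).unit.app R) := by
    refine Modules.ClosedUnit.isIso_unit η[At].left R fun W a ha s => ?_
    by_cases heW : e₀ ∈ W.1
    swap
    · haveI := hzero g W.1 W.2 (hU W.1 (fun y hy h => heW (h ▸ hy)) g)
      exact Subsingleton.elim _ _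
    obtain ⟨s₀, -, hs⟩ := hline W.1 W.2 heW
    refine smul_eq_zero_of_line R W.1 W.2 a ?_ ⟨s₀, hs⟩ s
    refine hzero g _ (W.2.basicOpen a) (hU _ ?_ g)
    intro y hy hye
    rw [Scheme.Hom.ker_apply, RingHom.mem_ker] at ha
    have hp : (IsLocalRing.closedPoint k : PrimeSpectrum k) ∈ η[At].left ⁻¹ᵁ At.left.basicOpen a := by
      show e₀ ∈ At.left.basicOpen a
      exact (show y = e₀ from hye) ▸ hy
    rw [Scheme.preimage_basicOpen, show η[At].left.app W.1 a = 0 from ha, Scheme.basicOpen_zero] at hp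
    exact hp
  -- the fibre at the origin
  obtain ⟨V, hV, heV, -⟩ := exists_isAffineOpen_mem_and_subset (show e₀ ∈ (⊤ : At.left.Opens) from trivial)
  obtain ⟨s₀, hs₀, hs⟩ := hline V hV heV
  let θ := (Scheme.Modules.pullbackPushforwardAdjunction η[At].left).unit.app R
  let N := (Scheme.Modules.pullback η[At].left).obj R
  have hθ := (Modules.Stalk.isIso_iff_app_bijective θ).mp inferInstance V
  obtain ⟨i⟩ := iso_of_line (K := k) N (η[At].left ⁻¹ᵁ V) (by
      ext p
      simp only [Opens.coe_top, Set.mem_univ, iff_true]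
      rw [Subsingleton.elim (α := PrimeSpectrum k) p (IsLocalRing.closedPoint k)]
      exact heV)
    (θ.app V s₀) (fun h => hs₀ (hθ.1 (h.trans (map_zero _).symm))) (fun x => by
      obtain ⟨t, rfl⟩ := hθ.2 x
      obtain ⟨r, -, rfl⟩ := hs t
      exact ⟨η[At].left.app V r, Scheme.Modules.Hom.app_smul θ r s₀⟩)
  exact ⟨asIso θ ≪≫ (Coh.push η[At].left).mapIso i.symm⟩

end

end Groth.Agent.H52.PoincareRpush
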