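import Groth.Agent.H34.VanishOne
import Mathlib.AlgebraicGeometry.Noetherian

/-!
# Sheaves supported in closed points of a locally Noetherian scheme are flasque
-/

set_option linter.style.haveILetI false

universe u

open CategoryTheory CategoryTheory.Limits TopologicalSpace Opposite AlgebraicGeometry
open Groth.Agent.H34.VanishOne

namespace Groth.Agent.H52.PointSupp

variable {Z : Scheme.{u}}

theorem finite_of_closedPoints (T : Set Z) (hT : ∀ x ∈ T, IsClosed ({x} : Set Z)) (hTc : IsClosed T)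
    (O : Z.Opens) [NoetherianSpace (O : Set Z)] : (T ∩ O : Set Z).Finite := by
  obtain ⟨S, hSf, hSc, hSi, hS⟩ := NoetherianSpace.exists_finite_set_isClosed_irreducible
    (α := (O : Set Z)) (hTc.preimage continuous_subtype_val)
  haveI : QuasiSober (O : Set Z) := O.2.isOpenEmbedding_subtypeVal.quasiSober
  have hsub : ∀ A ∈ S, A.Subsingleton := fun A hA a ha b hb => by
    obtain ⟨η, hη⟩ := QuasiSober.sober (hSi A hA) (hSc A hA)
    have hηT : η.1 ∈ T := by
      have : η ∈ Subtype.val ⁻¹' T := hS ▸ Set.mem_sUnion_of_mem hη.mem hA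
      exact this
    have key : ∀ c ∈ A, c = η := fun c hc => by
      refine Subtype.ext ?_
      have h1 : η.1 ⤳ c.1 := (hη.specializes hc).map continuous_subtype_val
      exact h1.mem_closed (hT _ hηT) rfl
    rw [key a ha, key b hb]
  refine (((hSf.biUnion fun A hA => (hsub A hA).finite).image Subtype.val)).subset ?_
  rintro z ⟨hzT, hzO⟩
  refine ⟨⟨z, hzO⟩, ?_, rfl⟩
  have : (⟨z, hzO⟩ : (O : Set Z)) ∈ ⋃₀ S := hS ▸ hzT
  obtain ⟨A, hA, hzA⟩ := this
  exact Set.mem_biUnion hA hzA

variable [IsLocallyNoetherian Z]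

theorem isFlasque (F : CohTop.Ab Z.toTopCat) (T : Set Z) (hT : ∀ x ∈ T, IsClosed ({x} : Set Z))
    (hTc : IsClosed T) (h : ∀ x : Z, x ∉ T → Subsingleton ((St (X := Z.toTopCat) x).obj F)) :
    TopCat.Sheaf.IsFlasque (X := Z.toTopCat) F where
  epi {U V} i := by
    rw [AddCommGrpCat.epi_iff_surjective]
    intro s
    let supp : Set Z := {x | ∃ hx : x ∈ V.unop, TopCat.Presheaf.germ F.obj V.unop x hx s ≠ 0}
    have hopen : IsOpen {x : Z | ∃ hx : x ∈ V.unop, TopCat.Presheaf.germ F.obj V.unop x hx s = 0} := by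
      refine isOpen_iff_forall_mem_open.2 fun x ⟨hx, h0⟩ => ?_
      rw [← map_zero (TopCat.Presheaf.germ F.obj V.unop x hx).hom] at h0
      obtain ⟨W, hW, i₁, i₂, hij⟩ := TopCat.Presheaf.germ_eq F.obj x hx hx _ _ h0
      refine ⟨W.carrier, fun y hy => ⟨i₁.le hy, ?_⟩, W.2, hW⟩
      rw [← TopCat.Presheaf.germ_res_apply F.obj i₁ y hy s, hij, map_zero, map_zero]
    have hsuppT : supp ⊆ T := fun z ⟨hz, hne⟩ => by
      refine not_not.1 fun hg => hne ?_
      haveI := h z hg
      exact @Subsingleton.elim _ (h z hg) _ _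
    have hsupp : IsClosed supp := by
      refine isOpen_compl_iff.1 (isOpen_iff_forall_mem_open.2 fun x hx => ?_)
      obtain ⟨O, hO, hxO, -⟩ := exists_isAffineOpen_mem_and_subset (X := Z) (x := x) (U := ⊤) trivial
      haveI := IsLocallyNoetherian.component_noetherian (X := Z) ⟨O, hO⟩
      haveI : TopologicalSpace.NoetherianSpace (O : Set Z) := noetherianSpace_of_isAffineOpen O hO
      have hfin : ((supp ∩ O : Set Z)).Finite := (finite_of_closedPoints T hT hTc O).subset fun z hz => ⟨hsuppT hz.1, hz.2⟩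
      have hc : IsClosed (supp ∩ O : Set Z) := by
        rw [← Set.biUnion_of_singleton (supp ∩ O : Set Z)]
        exact hfin.isClosed_biUnion fun z hz => hT z (hsuppT hz.1)
      exact ⟨(O : Set Z) ∩ (supp ∩ O : Set Z)ᶜ, fun z hz hzs => hz.2 ⟨hzs, hz.1⟩,
        O.2.inter hc.isOpen_compl, hxO, fun hh => hx hh.1⟩
    let W : Opens (Z : TopCat.{u}) := ⟨suppᶜ, hsupp.isOpen_compl⟩
    let F' : TopCat.Sheaf AddCommGrpCat.{u} Z.toTopCat := F
    have hagree : ∀ (y : Z) (hyV : y ∈ V.unop) (_ : y ∈ W),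
        TopCat.Presheaf.germ F.obj V.unop y hyV s = 0 :=
      fun y hyV hyW => not_not.1 fun hne => hyW ⟨hyV, hne⟩
    obtain ⟨t, ht, -⟩ := TopCat.Sheaf.existsUnique_gluing' F' (fun b : ULift.{u} Bool => cond b.down V.unop (W ⊓ U.unop)) U.unop
      (fun b => homOfLE (by rcases b with ⟨_ | _⟩; exacts [inf_le_right, i.unop.le]))
      (fun y hy => by
        rw [Opens.mem_iSup]
        by_cases hyV : y ∈ V.unop
        · exact ⟨⟨true⟩, hyV⟩
        · exact ⟨⟨false⟩, fun h' => hyV h'.choose, hy⟩)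
      (fun b => match b with | ⟨true⟩ => s | ⟨false⟩ => 0)
      (fun a b => by
        refine TopCat.Presheaf.section_ext F' _ _ _ fun y hy => ?_
        rcases a with ⟨_ | _⟩ <;> rcases b with ⟨_ | _⟩
        · exact congrArg _ rfl
        · change TopCat.Presheaf.germ F.obj _ y hy _ = TopCat.Presheaf.germ F.obj _ y hy _
          rw [TopCat.Presheaf.germ_res_apply, TopCat.Presheaf.germ_res_apply]
          exact (map_zero _).trans (hagree y hy.2 hy.1.1).symm
        · change TopCat.Presheaf.germ F.obj _ y hy _ = TopCat.Presheaf.germ F.obj _ y hy _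
          rw [TopCat.Presheaf.germ_res_apply, TopCat.Presheaf.germ_res_apply]
          exact (hagree y hy.1 hy.2.1).trans (map_zero _).symm
        · exact congrArg _ rfl)
    exact ⟨t, ht ⟨true⟩⟩


end Groth.Agent.H52.PointSupp
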