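import Groth.Agent.H52.IndexInvariance
import Groth.Agent.Lib.PosLin.AsympTwist

/-!
# The index of a positive power
-/

set_option autoImplicit false
set_option linter.style.haveILetI false
universe u

open CategoryTheory CategoryTheory.Limits MonoidalCategory CartesianMonoidalCategory MonObj AlgebraicGeometry
open Groth.Agent.H3
open Groth.Agent.H52.NondegAmple (tr tr_mul)
open Groth.Agent.H52.EulerHomogeneous (nondeg_pow isMonHom_pow pow_part)
open Groth.Agent.H52.IndexInvariance (Nondeg exists_translate_pow pullback_index)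
open Groth.Agent.Lib.Snapper Groth.Agent.Lib.PosLin.CohBound

namespace Groth.Agent.H52.PowIndex

noncomputable section

local instance (Y : Scheme.{u}) : PicGrp.Law Y := Groth.Agent.Lib.TensorMod.Invertible.law Y

variable {K : Type u} [Field K] [IsAlgClosed K]

local notation "S" => Spec (CommRingCat.of K)

variable {A : Over (Spec (CommRingCat.of K))} [GrpObj A] [IsProper A.hom] [GeometricallyIntegral A.hom]
  [Smooth A.hom]

/-- The index of the square of a power. -/
theorem square_index (L : A.left.Modules) (hL : PicF.IsInvertible L) (hnd : Nondeg (PicGrp.cls L hL))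
    (n : ℕ) (hn : 0 < n) (i : ℕ) (hne : Nontrivial (Coh.HH A.left L i)) :
    (∀ j, j ≠ i → Subsingleton (Coh.HH A.left (CohB1.tensorPow L (n * n)) j)) ∧
      Nontrivial (Coh.HH A.left (CohB1.tensorPow L (n * n)) i) := by
  letI : A.left.Over S := ⟨A.hom⟩
  haveI : IsCommMonObj A := isCommMonObj_of_isProper_of_geometricallyIntegral A
  haveI := isMonHom_pow (A := A) n
  obtain ⟨h1, h2, h3⟩ := Groth.Agent.H4.MulIso.int A (d := (n : ℕ)) (by omega)
  simp only [zpow_natCast] at h1 h2 h3
  haveI := h1; haveI := h2; haveI := h3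
  obtain ⟨hv, hnt⟩ := pullback_index (𝟙 A ^ n) L hL hnd i hne
  obtain ⟨x, hx⟩ := exists_translate_pow (PicGrp.cls L hL) hnd n hn
  have hL' := Groth.Agent.Lib.TensorMod.Invertible.isInvertible_tensorPow hL (n * n)
  obtain ⟨e⟩ : Nonempty ((Scheme.Modules.pullback (𝟙 A ^ n).left).obj L ≅
      (Scheme.Modules.pullback (tr x).left).obj (CohB1.tensorPow L (n * n))) :=
    (PicCalc.iso_iff (PicCalc.cl_pullback (𝟙 A ^ n) (a := PicGrp.cls L hL) rfl)
      (PicCalc.cl_pullback (tr x) (a := PicGrp.cls L hL ^ (n * n)) (AmpleVanishAV.cl_pow rfl _))).mpr hx.symm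
  haveI : IsIso (tr x) := ⟨tr x⁻¹, by
    rw [tr_mul, mul_inv_cancel]; simp [tr], by
    rw [tr_mul, inv_mul_cancel]; simp [tr]⟩
  haveI : IsIso (tr x).left := inferInstanceAs (IsIso ((Over.forget S).map (tr x)))
  have he : ∀ j, Nonempty (Coh.HH A.left ((Scheme.Modules.pullback (𝟙 A ^ n).left).obj L) j ≃
      Coh.HH A.left (CohB1.tensorPow L (n * n)) j) := fun j => by
    obtain ⟨e₁⟩ := Groth.Agent.S7804.nonempty_of_iso e j
    obtain ⟨e₂⟩ := Groth.Agent.S7804.nonempty_of_isIso (tr x).left A.hom (CohB1.tensorPow L (n * n)) hL' j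
    exact ⟨(e₁.trans e₂.symm).toEquiv⟩
  refine ⟨fun j hj => ?_, ?_⟩
  · obtain ⟨q⟩ := he j
    haveI := hv j hj
    exact q.symm.subsingleton
  · obtain ⟨q⟩ := he i
    haveI := hnt
    exact q.symm.nontrivial

/-- **A positive power has the same index.** -/
theorem pow_index (L : A.left.Modules) (hL : PicF.IsInvertible L) (hnd : Nondeg (PicGrp.cls L hL))
    (m : ℕ) (hm : 0 < m) (i : ℕ) (hne : Nontrivial (Coh.HH A.left L i)) :
    (∀ j, j ≠ i → Subsingleton (Coh.HH A.left (CohB1.tensorPow L m) j)) ∧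
      Nontrivial (Coh.HH A.left (CohB1.tensorPow L m) i) := by
  letI : A.left.Over S := ⟨A.hom⟩
  haveI : IsProper (A.left ↘ S) := ‹IsProper A.hom›
  haveI : IsIntegral A.left := GeometricallyIntegral.isIntegral_of_subsingleton A.hom
  obtain ⟨g, hg⟩ : ∃ g : ℕ, topologicalKrullDim A.left = g :=
    ⟨_, Groth.Agent.Lib.GenFinite.Basic.topologicalKrullDim_eq_fdelta A.hom⟩
  have hM := Groth.Agent.Lib.TensorMod.Invertible.isInvertible_tensorPow hL m
  have hMnd : Nondeg (PicGrp.cls (CohB1.tensorPow L m) hM) := by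
    rw [show PicGrp.cls (CohB1.tensorPow L m) hM = PicGrp.cls L hL ^ m from
      Subtype.ext (AmpleVanishAV.cl_pow (a := PicGrp.cls L hL) rfl _)]
    exact nondeg_pow _ hnd hm
  obtain ⟨i', -, hv', hne'⟩ := IndexThm.exists_index g hg (CohB1.tensorPow L m) hM hMnd
  suffices i' = i by subst this; exact ⟨hv', hne'⟩
  by_contra hii
  obtain ⟨A₀, hA₀⟩ := H63.AVProjective.exists_isAmple A
  obtain ⟨C, hC0, hC⟩ := Groth.Agent.Lib.PosLin.AsympTwist.exists_shift_bound (k := K) hg hA₀ hL i' 1
  -- iterated shift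
  have hshift : ∀ a r : ℕ, hd K A.left (CohB1.tensorPow L (a + r)) i' ≤
      hd K A.left (CohB1.tensorPow L a) i' + r * C * (a + r + 1) ^ (g - 1) := fun a r => by
    induction r with
    | zero => simp
    | succ r ih =>
      refine ((hC (a + r)).1.trans (Nat.add_le_add_right ih _)).trans ?_
      have h1 : (a + r + 1) ^ (g - 1) ≤ (a + (r + 1) + 1) ^ (g - 1) := Nat.pow_le_pow_left (by omega) _
      rw [add_assoc, Nat.succ_mul, Nat.add_mul]
      exact Nat.add_le_add_left (Nat.add_le_add (Nat.mul_le_mul_left _ h1) (Nat.mul_le_mul_left _ h1)) _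
  haveI := fun M (hM : PicF.IsInvertible M) j => Groth.Agent.Lib.Snapper.Finite.cohFinite K A.left M
    (Groth.Agent.Lib.Ample.GG.isCoh_of_isInvertible hM) j
  have hone : ∀ (M : A.left.Modules), (∀ j, j ≠ i' → Subsingleton (Coh.HH A.left M j)) →
      Curv2.euler K A.left M = (-1 : ℤ) ^ i' * Module.finrank K (Coh.HH A.left M i') := fun M hM =>
    finsum_eq_single _ i' fun j hj => by
      haveI := hM j hj
      simp [Module.finrank_zero_of_subsingleton]
  obtain ⟨n, hn, hn0⟩ : ∃ n : ℕ, 2 * m * C * (3 * m) ^ (g - 1) < n ∧ 0 < n := ⟨_, Nat.lt_succ_self _, Nat.succ_pos _⟩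
  have hnn : 0 < n * n := Nat.mul_pos hn0 hn0
  have hMP := Groth.Agent.Lib.TensorMod.Invertible.isInvertible_tensorPow hM (n * n)
  -- growth
  obtain ⟨hvn, hnen⟩ := square_index (CohB1.tensorPow L m) hM hMnd n hn0 i' hne'
  have heq := EulerHomogeneous.euler_pow g hg (CohB1.tensorPow L m) hM hMnd (n * n) hnn
  rw [hone _ hvn, hone _ hv', mul_left_comm] at heq
  have heq' : (Module.finrank K (Coh.HH A.left (CohB1.tensorPow (CohB1.tensorPow L m) (n * n)) i') : ℤ) =
      ((n * n) ^ g * Module.finrank K (Coh.HH A.left (CohB1.tensorPow L m) i') : ℕ) := by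
    push_cast
    exact mul_left_cancel₀ (pow_ne_zero i' (show (-1 : ℤ) ≠ 0 by norm_num)) (by push_cast at heq; exact heq)
  have heqN := Int.ofNat_inj.mp heq'
  haveI := hne'
  haveI := Groth.Agent.Lib.Snapper.Finite.cohFinite K A.left _
    (Groth.Agent.Lib.Ample.GG.isCoh_of_isInvertible hM) i'
  have hpos : 0 < Module.finrank K (Coh.HH A.left (CohB1.tensorPow L m) i') := Module.finrank_pos
  have hlow : (n * n) ^ g ≤ hd K A.left (CohB1.tensorPow L (m * (n * n))) i' := by
    rw [← hd_congr (k := K) (Groth.Agent.Lib.Ample.Pow.powMul L m (n * n)) i']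
    exact (Nat.le_mul_of_pos_right _ hpos).trans heqN.ge
  -- the bound
  let t := m * (n * n)
  let s := Nat.sqrt t
  have ht : 0 < t := Nat.mul_pos hm hnn
  have hs0 : 0 < s := Nat.sqrt_pos.2 ht
  have hs1 : s * s ≤ t := Nat.sqrt_le t
  have hs2 : t ≤ s * s + s + s := Nat.sqrt_le_add t
  have hs3 : s ≤ m * n := by
    refine (Nat.sqrt_le_sqrt ?_).trans (Nat.sqrt_eq (m * n)).le
    calc t = m * 1 * (n * n) := by simp [t]
      _ ≤ m * m * (n * n) := Nat.mul_le_mul_right _ (Nat.mul_le_mul_left _ hm)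
      _ = _ := by ring
  have hzero : hd K A.left (CohB1.tensorPow L (s * s)) i' = 0 := by
    haveI := (square_index L hL hnd s hs0 i hne).1 i' hii
    exact Module.finrank_zero_of_subsingleton
  have hup := hshift (s * s) (t - s * s)
  rw [hzero, zero_add, Nat.add_sub_cancel' hs1] at hup
  rcases Nat.eq_zero_or_pos g with rfl | hgpos
  · have := hlow.trans hup
    simp [hC0 rfl] at this
  obtain ⟨g', rfl⟩ : ∃ g', g = g' + 1 := ⟨g - 1, by omega⟩
  simp only [Nat.add_sub_cancel] at hup hn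
  have h5 : (t + 1) ^ g' ≤ (3 * m) ^ g' * (n * n) ^ g' := by
    rw [← mul_pow]
    refine Nat.pow_le_pow_left ?_ _
    calc t + 1 ≤ 3 * t := by omega
      _ = 3 * m * (n * n) := by simp only [t]; ring
  have h6 : (n * n) ^ g' * (n * n) ≤ (n * n) ^ g' * (2 * m * C * (3 * m) ^ g' * n) := by
    calc (n * n) ^ g' * (n * n) = (n * n) ^ (g' + 1) := (pow_succ _ _).symm
      _ ≤ _ := hlow.trans hup
      _ ≤ (2 * (m * n)) * C * ((3 * m) ^ g' * (n * n) ^ g') :=
        Nat.mul_le_mul (Nat.mul_le_mul_right _ (by omega)) h5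
      _ = _ := by ring
  have h7 := Nat.le_of_mul_le_mul_right (Nat.le_of_mul_le_mul_left h6 (pow_pos hnn g')) hn0
  omega

end

end Groth.Agent.H52.PowIndex
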