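import Groth.Agent.H30.TopCoh
import Mathlib.Topology.Separation.Profinite
import Mathlib.Order.Disjointed
import Mathlib.Data.Fintype.EquivFin

/-!
On a profinite space the sections of an epimorphism of abelian sheaves are surjective.
-/

set_option autoImplicit false
universe u

open CategoryTheory TopologicalSpace Opposite

namespace Groth.Agent.H52.Profinite

/-- Every open cover of a profinite space is refined by a finite partition into opens. -/
theorem exists_partition {X : Type u} [TopologicalSpace X] [CompactSpace X] [T2Space X] [TotallyDisconnectedSpace X]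
    {ι : Type*} (U : ι → Opens X) (hU : ∀ x, ∃ i, x ∈ U i) :
    ∃ (n : ℕ) (D : Fin n → Opens X), (∀ x, ∃ j, x ∈ D j) ∧ (∀ j k, j ≠ k → D j ⊓ D k = ⊥) ∧ (∀ j, ∃ i, D j ≤ U i) := by
  choose i hi using hU
  choose C hC hxC hCU using fun x => compact_exists_isClopen_in_isOpen (U (i x)).2 (hi x)
  obtain ⟨t, ht⟩ := isCompact_univ.elim_finite_subcover (fun x => C x) (fun x => (hC x).2) (fun x _ => Set.mem_iUnion.2 ⟨x, hxC x⟩)
  let e := t.equivFin.symm
  let Cs : Fin t.card → Set X := fun j => C (e j).1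
  refine ⟨t.card, fun j => ⟨disjointed Cs j, ?_⟩, ?_, ?_, ?_⟩
  · exact (disjointedRec (p := fun s : Set X => IsClopen s) (fun _ _ h => h.diff (hC _)) (hC _) : IsClopen (disjointed Cs j)).2
  · intro x
    have : x ∈ ⋃ j, disjointed Cs j := by
      rw [iUnion_disjointed]
      obtain ⟨y, hy, hxy⟩ := Set.mem_iUnion₂.1 (ht (Set.mem_univ x))
      exact Set.mem_iUnion.2 ⟨t.equivFin ⟨y, hy⟩, by simpa [Cs, e] using hxy⟩
    exact Set.mem_iUnion.1 this
  · intro j k h
    exact Opens.ext (disjoint_disjointed Cs h).eq_bot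
  · intro j
    exact ⟨i (e j).1, (disjointed_le Cs j).trans (hCU _)⟩

/-- Sections of an epimorphism lift on a profinite space. -/
theorem surjective_app_top {X : TopCat.{u}} [CompactSpace X] [T2Space X] [TotallyDisconnectedSpace X]
    {A B : CohTop.Ab X} (φ : A ⟶ B) [Epi φ] : Function.Surjective (φ.hom.app (op (⊤ : Opens X))) := by
  intro s
  have h := (TopCat.Presheaf.isLocallySurjective_iff φ.hom).1
    ((TopCat.Sheaf.isLocallySurjective_iff_epi φ).2 (show Epi φ from ‹Epi φ›)) ⊤ s
  choose W hW hs hx using fun x : X => h x trivial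
  choose t ht using hs
  obtain ⟨n, D, hD, hdis, hle⟩ := exists_partition W (fun x => ⟨x, hx x⟩)
  choose i hi using hle
  let sf : ∀ j, A.obj.obj (op (D j)) := fun j => A.obj.map (homOfLE (hi j)).op (t (i j))
  have hsf : ∀ j, φ.hom.app (op (D j)) (sf j) = B.obj.map (homOfLE (le_top : D j ≤ ⊤)).op s := by
    intro j
    refine (congr($(φ.hom.naturality (homOfLE (hi j)).op) (t (i j)))).trans ?_
    refine (congrArg (B.obj.map (homOfLE (hi j)).op) (ht (i j))).trans ?_
    show (B.obj.map (homOfLE (hW (i j))).op ≫ B.obj.map (homOfLE (hi j)).op) s = _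
    rw [← Functor.map_comp]
    rfl
  have hc : TopCat.Presheaf.IsCompatible (X := X) A.obj D sf := by
    intro j k
    by_cases hjk : j = k
    · subst hjk; rfl
    · refine TopCat.Presheaf.section_ext (C := AddCommGrpCat.{u}) (X := X) A (D j ⊓ D k) _ _
        fun z hz => ?_
      exact ((hdis j k hjk).le hz).elim
  obtain ⟨σ, hσ, -⟩ := TopCat.Sheaf.existsUnique_gluing' (C := AddCommGrpCat.{u}) (X := X) A D ⊤
    (fun j => homOfLE le_top) (fun x _ => Opens.mem_iSup.2 (hD x)) sf hc
  refine ⟨σ, TopCat.Sheaf.eq_of_locally_eq' (C := AddCommGrpCat.{u}) (X := X) B D ⊤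
    (fun j => homOfLE le_top) (fun x _ => Opens.mem_iSup.2 (hD x)) _ _ fun j => ?_⟩
  refine (congr($(φ.hom.naturality (homOfLE (le_top : D j ≤ ⊤)).op) σ)).symm.trans ?_
  exact (congrArg (φ.hom.app (op (D j))) (hσ j)).trans (hsf j)

end Groth.Agent.H52.Profinite
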