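import Groth.Agent.S11995
import Groth.Agent.S2500
import Groth.Agent.Lib.ProjSpace.Basic
import Groth.Agent.Lib.GrpSch.SmoothReduced
import Mathlib.AlgebraicGeometry.AffineSpace

/-!
Maps from projective space to an abelian variety are constant.
-/

set_option autoImplicit false
set_option linter.style.haveILetI false
universe u

open CategoryTheory Limits MonoidalCategory CartesianMonoidalCategory MonObj AlgebraicGeometry
open Groth.Agent.Lib.ProjSpace.Basic

namespace Groth.Agent.H52.ProjConst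

theorem geometricallyIntegral_toSpec (n : ℕ) (K : Type u) [Field K] [IsAlgClosed K] :
    GeometricallyIntegral (CohB1.ProjSpace.toSpec n K) := by
  haveI := S2500.result (CohB1.ProjSpace.toSpec n K)
  haveI := Lib.GrpSch.geometricallyReduced_of_smooth_field (CohB1.ProjSpace.toSpec n K)
  exact GeometricallyIntegral.of_geometricallyReduced_of_geometricallyIrreducible
    (f := CohB1.ProjSpace.toSpec n K)

theorem exists_const (n : ℕ) (K : Type u) [Field K] [IsAlgClosed K]
    (A : Over (Spec (CommRingCat.of K))) [GrpObj A] [IsProper A.hom] [GeometricallyIntegral A.hom]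
    (f : Over.mk (CohB1.ProjSpace.toSpec n K) ⟶ A) :
    ∃ a : 𝟙_ (Over (Spec (CommRingCat.of K))) ⟶ A, f = toUnit _ ≫ a := by
  haveI : Smooth (Over.mk (CohB1.ProjSpace.toSpec n K)).hom := smooth_toSpec n K
  haveI : IsProper (Over.mk (CohB1.ProjSpace.toSpec n K)).hom := isProper_toSpec n K
  haveI : GeometricallyIntegral (Over.mk (CohB1.ProjSpace.toSpec n K)).hom :=
    geometricallyIntegral_toSpec n K
  let S := Spec (CommRingCat.of K)
  let e : CommRingCat.of (MvPolynomial (Fin n) K) ≅ CommRingCat.of (MvPolynomial (ULift.{u} (Fin n)) K) :=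
    (MvPolynomial.renameEquiv K Equiv.ulift.symm).toRingEquiv.toCommRingCatIso
  let φ₀ : 𝔸(ULift.{u} (Fin n); S) ⟶ CohB1.ProjSpace n K :=
    (AffineSpace.SpecIso (ULift.{u} (Fin n)) (CommRingCat.of K)).hom ≫ Spec.map e.hom ≫ chartι K 0
  have hw : φ₀ ≫ CohB1.ProjSpace.toSpec n K = 𝔸(ULift.{u} (Fin n); S) ↘ S := by
    simp only [φ₀, Category.assoc, chartι_toSpec]
    rw [← Iso.eq_inv_comp, AffineSpace.SpecIso_inv_over, ← Spec.map_comp]
    congr 1
    ext x
    simp [e]
  haveI : IsOpenImmersion φ₀ := by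
    simp only [φ₀]; infer_instance
  have hne : ((⊤ : (𝔸(ULift.{u} (Fin n); S)).Opens) : Set ↑(𝔸(ULift.{u} (Fin n); S))).Nonempty := by
    haveI : Nonempty ↑(Spec (CommRingCat.of (MvPolynomial (ULift.{u} (Fin n)) K))) :=
      inferInstanceAs (Nonempty (PrimeSpectrum _))
    exact ⟨(AffineSpace.SpecIso (ULift.{u} (Fin n)) (CommRingCat.of K)).inv (Classical.arbitrary _), trivial⟩
  refine S11995.result K _ A (ULift.{u} (Fin n)) ⊤ hne
    (Scheme.Opens.ι _ ≫ φ₀) (by exact (Category.assoc _ _ _).trans (congrArg _ hw)) ?_ f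
  refine ((Scheme.Opens.ι (⊤ : (𝔸(ULift.{u} (Fin n); S)).Opens) ≫ φ₀).opensRange.2.dense ?_)
  obtain ⟨x, hx⟩ := hne
  exact ⟨_, ⟨x, hx⟩, rfl⟩

/-- Pointwise form. -/
theorem apply_eq (n : ℕ) (K : Type u) [Field K] [IsAlgClosed K]
    (A : Over (Spec (CommRingCat.of K))) [GrpObj A] [IsProper A.hom] [GeometricallyIntegral A.hom]
    (f : CohB1.ProjSpace n K ⟶ A.left) (hf : f ≫ A.hom = CohB1.ProjSpace.toSpec n K)
    (x y : CohB1.ProjSpace n K) : f x = f y := by
  obtain ⟨a, ha⟩ := exists_const n K A (Over.homMk f hf)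
  have h : f = CohB1.ProjSpace.toSpec n K ≫ a.left := congrArg CommaMorphism.left ha
  rw [h, Scheme.Hom.comp_apply, Scheme.Hom.comp_apply]
  exact congrArg _ (Subsingleton.elim (α := PrimeSpectrum K) _ _)

end Groth.Agent.H52.ProjConst
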