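import Groth.Agent.Lib.PushClosed.Basic

/-!
# Direct image along a morphism which is a homeomorphism on points preserves colimits
-/

set_option autoImplicit false

universe u

open CategoryTheory Limits AlgebraicGeometry Opposite TopologicalSpace
open Groth.Agent.Lib.Modules.Stalk
open Groth.Agent.Lib.PushClosed.Basic

namespace Groth.Agent.H52.PushHomeo

variable {Z X : Scheme.{u}} (i : Z ⟶ X)

theorem preservesColimits (hi : Topology.IsInducing i) (hs : Function.Surjective i) :
    PreservesColimitsOfSize.{u, u} (Scheme.Modules.pushforward i) := by
  refine ⟨fun {K} _ => ⟨fun {F} => ?_⟩⟩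
  have hstalk : ∀ x : X,
      PreservesColimitsOfShape K (Scheme.Modules.pushforward i ⋙ stalkFunctor X x) := fun x => by
    obtain ⟨z, rfl⟩ := hs x
    haveI : ∀ M, IsIso ((stalkPushNat i z).app M) := fun M =>
      TopCat.Presheaf.stalkPushforward.stalkPushforward_iso_of_isInducing _ hi M.presheaf z
    haveI : IsIso (stalkPushNat i z) := NatIso.isIso_of_isIso_app _
    exact preservesColimitsOfShape_of_natIso (asIso (stalkPushNat i z)).symm
  have : IsIso (colimit.post F (Scheme.Modules.pushforward i)) := by
    refine (isIso_iff_stalk _).2 fun x => ?_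
    haveI := hstalk x
    have h := colimit.post_post F (Scheme.Modules.pushforward i) (stalkFunctor X x)
    have : IsIso (colimit.post (F ⋙ Scheme.Modules.pushforward i) (stalkFunctor X x) ≫
        (stalkFunctor X x).map (colimit.post F (Scheme.Modules.pushforward i))) := by
      rw [h]
      infer_instance
    exact IsIso.of_isIso_comp_left (colimit.post (F ⋙ Scheme.Modules.pushforward i) (stalkFunctor X x)) _
  exact preservesColimit_of_isIso_post _ _

end Groth.Agent.H52.PushHomeo
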