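import Groth.Agent.H52.GenDescent
import Groth.Agent.H18.ZClos.BaseChange

/-!
Direct images of invertible modules which are generated locally over the base.
-/

noncomputable section

universe u

open CategoryTheory CategoryTheory.Limits AlgebraicGeometry Opposite TopologicalSpace
open Groth.Agent.Lib Groth.Agent.Lib.TensorMod Groth.Agent.Lib.TensorMod.Dual Groth.Agent.Lib.TensorMod.Gen
open Groth.Agent.Lib.TensorMod.Pullback Groth.Agent.Lib.Ample Groth.Agent.Lib.Ample.GenLocus

namespace Groth.Agent.H52.PushInv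

variable {X Y Y' P : Scheme.{u}}

/-- Generators are transported along isomorphisms. -/
theorem isGen_of_iso {L M : X.Modules} (φ : L ≅ M) {U : X.Opens} {e : Γ(L, U)} (he : IsGen L U e) :
    IsGen M U (φ.hom.app U e) :=
  isGen_of_isIso_over (isIso_over_of_iso φ U) he

/-- A module isomorphic to the structure module has a generator. -/
theorem exists_gen_of_iso_unit {L : X.Modules} (φ : L ≅ Coh.structureModule X) :
    ∃ e : Γ(L, ⊤), IsGen L ⊤ e :=
  ⟨_, isGen_of_iso φ.symm (isGen_one ⊤)⟩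

/-- A morphism which sends local generators to local generators is an isomorphism. -/
theorem isIso_of_gens {L M : X.Modules} (φ : L ⟶ M)
    (h : ∀ x : X, ∃ (U : X.Opens) (e : Γ(L, U)), x ∈ U ∧ IsGen L U e ∧ IsGen M U (φ.app U e)) :
    IsIso φ := by
  refine Groth.Agent.H18.ZClos.isIso_of_basis φ fun x V hxV => ?_
  obtain ⟨U, e, hxU, he, he'⟩ := h x
  refine ⟨U ⊓ V, ⟨hxU, hxV⟩, inf_le_right, ?_⟩
  refine (Function.Bijective.of_comp_iff _ (he _ inf_le_left)).1 ?_
  refine (iff_of_eq (congrArg Function.Bijective (funext fun a => ?_))).1 (he' _ inf_le_left)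
  rw [Function.comp_apply, Scheme.Modules.Hom.app_smul, HomGlue.rs_app]

variable (f : X ⟶ Y) (hf : ∀ V : Y.Opens, Function.Bijective (f.app V)) {L : X.Modules}

include hf in
theorem isGen_push {W : Y.Opens} {e : Γ(L, f ⁻¹ᵁ W)} (he : IsGen L (f ⁻¹ᵁ W) e) :
    IsGen ((Scheme.Modules.pushforward f).obj L) W e := fun V hV =>
  (he (f ⁻¹ᵁ V) ((Opens.map f.base).monotone hV)).comp (hf V)

include hf in
theorem isInvertible_push
    (h : ∀ y : Y, ∃ (W : Y.Opens) (e : Γ(L, f ⁻¹ᵁ W)), y ∈ W ∧ IsGen L (f ⁻¹ᵁ W) e) :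
    PicF.IsInvertible ((Scheme.Modules.pushforward f).obj L) :=
  isInvertible_iff.2 fun y => let ⟨W, e, hy, he⟩ := h y; ⟨W, e, hy, isGen_push f hf he⟩

theorem counit_unitSec {W : Y.Opens} (e : Γ(L, f ⁻¹ᵁ W)) :
    ((Scheme.Modules.pullbackPushforwardAdjunction f).counit.app L).app (f ⁻¹ᵁ W)
      (unitSec f ((Scheme.Modules.pushforward f).obj L) (U := W) e) = e := by
  have h1 := (Scheme.Modules.pullbackPushforwardAdjunction f).right_triangle_components L
  exact congrArg (fun t => (Scheme.Modules.Hom.app t W) e) h1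

include hf in
theorem isIso_counit
    (h : ∀ y : Y, ∃ (W : Y.Opens) (e : Γ(L, f ⁻¹ᵁ W)), y ∈ W ∧ IsGen L (f ⁻¹ᵁ W) e) :
    IsIso ((Scheme.Modules.pullbackPushforwardAdjunction f).counit.app L) := by
  refine isIso_of_gens _ fun x => ?_
  obtain ⟨W, e, hx, he⟩ := h (f x)
  refine ⟨f ⁻¹ᵁ W, unitSec f ((Scheme.Modules.pushforward f).obj L) (U := W) e, hx,
    isGen_unitSec f (isGen_push f hf he), ?_⟩
  rw [counit_unitSec]
  exact he

/-- Bijectivity on affine opens gives bijectivity on all opens. -/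
theorem bijective_app_of_affine
    (h : ∀ (y : Y) (O : Y.Opens), y ∈ O → ∃ W : Y.Opens, y ∈ W ∧ W ≤ O ∧ Function.Bijective (f.app W))
    (V : Y.Opens) : Function.Bijective (f.app V) := by
  obtain ⟨φ, hφ⟩ := exists_hom_of_sec (L := (Scheme.Modules.pushforward f).obj (Coh.structureModule X))
    (show Γ((Scheme.Modules.pushforward f).obj (Coh.structureModule X), ⊤) from one X (f ⁻¹ᵁ ⊤))
  have happ : ∀ W : Y.Opens, (fun a : Γ(Y, W) => φ.app W (show Γ(Coh.structureModule Y, W) from a)) =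
      fun a => (show Γ((Scheme.Modules.pushforward f).obj (Coh.structureModule X), W) from f.app W a) :=
    fun W => funext fun a => by
      rw [app_eq_smul]
      have h1 : φ.app W (one Y W) = one X (f ⁻¹ᵁ W) := by
        rw [← rs_app_one φ (le_top : W ≤ ⊤)]
        refine (congrArg (rs _ (le_top : W ≤ ⊤)) hφ).trans ?_
        exact map_one (X.presheaf.map (homOfLE ((Opens.map f.base).monotone (le_top : W ≤ ⊤))).op).hom
      rw [h1]
      exact mul_one (f.app W a)
  have : IsIso φ := Groth.Agent.H18.ZClos.isIso_of_basis φ fun y O hy => by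
    obtain ⟨W, hyW, hWO, hb⟩ := h y O hy
    refine ⟨W, hyW, hWO, ?_⟩
    exact (iff_of_eq (congrArg Function.Bijective (happ W))).2 hb
  have h2 := ConcreteCategory.bijective_of_isIso (φ.app V)
  exact (iff_of_eq (congrArg Function.Bijective (happ V))).1 h2

variable {f} {g : Y' ⟶ Y} {π : P ⟶ X} {f' : P ⟶ Y'}

/-- Bijectivity of functions is stable under flat base change. -/
theorem bijective_app_baseChange (h : IsPullback π f' f g) [Flat g] [QuasiCompact f] [QuasiSeparated f]
    (hf : ∀ V : Y.Opens, IsAffineOpen V → Function.Bijective (f.app V)) (V' : Y'.Opens) :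
    Function.Bijective (f'.app V') := by
  refine bijective_app_of_affine f' (fun y' O hy' => ?_) V'
  obtain ⟨V, hV, hyV, -⟩ := exists_isAffineOpen_mem_and_subset (X := Y) (x := g y') (U := ⊤) trivial
  obtain ⟨W, hW, hyW, hle⟩ := exists_isAffineOpen_mem_and_subset (X := Y') (x := y') (U := O ⊓ g ⁻¹ᵁ V)
    ⟨hy', hyV⟩
  exact ⟨W, hyW, fun z hz => (hle hz).1,
    GenDescent.bijective_app h hV hW (fun z hz => (hle hz).2) (hf V hV)⟩

/-- Generators over an open covering of the flat surjective base change descend. -/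
theorem exists_gens (h : IsPullback π f' f g) [Flat g] [Surjective g] [QuasiCompact f] [QuasiSeparated f]
    (hL : PicF.IsInvertible L) (hf : ∀ V : Y.Opens, IsAffineOpen V → Function.Bijective (f.app V))
    (hgen : ∀ y' : Y', ∃ (V' : Y'.Opens) (e : Γ((pb π).obj L, f' ⁻¹ᵁ V')),
      y' ∈ V' ∧ IsGen ((pb π).obj L) (f' ⁻¹ᵁ V') e) (y : Y) :
    ∃ (W : Y.Opens) (e : Γ(L, f ⁻¹ᵁ W)), y ∈ W ∧ IsGen L (f ⁻¹ᵁ W) e := by
  obtain ⟨y', rfl⟩ := g.surjective y
  obtain ⟨V₀, e₀, hy₀, he₀⟩ := hgen y'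
  obtain ⟨V, hV, hyV, -⟩ := exists_isAffineOpen_mem_and_subset (X := Y) (x := g y') (U := ⊤) trivial
  obtain ⟨V', hV', hyV', hle⟩ := exists_isAffineOpen_mem_and_subset (X := Y') (x := y') (U := V₀ ⊓ g ⁻¹ᵁ V)
    ⟨hy₀, hyV⟩
  exact GenDescent.exists_gen h hL hV hV' (fun z hz => (hle hz).2) (hf V hV)
    (he₀.res ((Opens.map f'.base).monotone (fun z hz => (hle hz).1))) y' hyV'

end Groth.Agent.H52.PushInv
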