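import Groth.Agent.S9223
import Groth.Agent.H69.NhdStage
import Groth.Agent.Lib.Ample.RelAmple

/-!
# Relative ampleness holds at some stage
-/

set_option autoImplicit false
set_option backward.isDefEq.respectTransparency false
set_option linter.unusedVariables false

universe u

open CategoryTheory CategoryTheory.Limits AlgebraicGeometry
open Groth.Agent.Lib.Lim.Basic Groth.Agent.H69.NhdStage
open Groth.Agent.Lib.Ample

namespace Groth.Agent.H52.RelAmpleStage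

variable {I : Type u} [SmallCategory I] [IsCofiltered I]
  {D : I ⥤ Scheme.{u}} {c : Cone D} {i₀ : I} {X₀ Y₀ : Scheme.{u}} {f₀ : X₀ ⟶ Y₀}
  {g₀ : Y₀ ⟶ D.obj i₀} {X Y : Scheme.{u}} {f : X ⟶ Y} {g : Y ⟶ c.pt} {qY : Y ⟶ Y₀}
  {qX : X ⟶ X₀} (hY : IsPullback qY g g₀ (c.π.app i₀)) (hX : IsPullback qX f f₀ qY)
  [∀ (i j : I) (f : i ⟶ j), IsAffineHom (D.map f)]

include hY hX

theorem exists_stage (hc : IsLimit c) [CompactSpace Y₀] [QuasiCompact f₀] [QuasiSeparated f₀]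
    {L₀ : X₀.Modules} (hL₀ : PicF.IsInvertible L₀)
    (h : _root_.RelAmple.IsRelAmple f ((Scheme.Modules.pullback qX).obj L₀)) :
    ∃ (j : I) (φ : j ⟶ i₀) (Xj Yj : Scheme.{u}) (fj : Xj ⟶ Yj) (gj : Yj ⟶ D.obj j) (pY : Yj ⟶ Y₀)
      (pX : Xj ⟶ X₀), IsPullback pY gj g₀ (D.map φ) ∧ IsPullback pX fj f₀ pY ∧
        _root_.RelAmple.IsRelAmple fj ((Scheme.Modules.pullback pX).obj L₀) := by
  have hA : ∀ {i j : I} (g : i ⟶ j), IsAffineHom (D.map g) := fun g => inferInstance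
  have hXS : IsPullback qX (f ≫ g) (f₀ ≫ g₀) (c.π.app i₀) := hX.paste_vert hY
  have := isAffineHom_π (c := c) hc i₀
  have : IsAffineHom qY := MorphismProperty.of_isPullback hY.flip inferInstance
  let 𝒱 := Y₀.affineCover.finiteSubcover
  let V : 𝒱.I₀ → Y₀.Opens := fun k => (𝒱.f k).opensRange
  have hV : ∀ k, IsAffineOpen (V k) := fun k =>
    have : IsAffine (𝒱.X k) := inferInstanceAs (IsAffine (Spec _))
    isAffineOpen_opensRange _
  have hk : ∀ k, ∃ (j : I) (φ : j ⟶ i₀), CohB1.IsAmple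
      ((Scheme.Modules.pullback (pullback.fst ((f₀ ⁻¹ᵁ V k).ι ≫ f₀ ≫ g₀) (D.map φ) ≫
        (f₀ ⁻¹ᵁ V k).ι)).obj L₀) := by
    intro k
    let U := f₀ ⁻¹ᵁ V k
    have : CompactSpace (U : Scheme.{u}) :=
      isCompact_iff_compactSpace.mp (f₀.isCompact_preimage (hV k).isCompact)
    have : IsAffine (V k : Scheme.{u}) := hV k
    have : QuasiSeparated (f₀ ∣_ V k) :=
      MorphismProperty.of_isPullback (isPullback_morphismRestrict f₀ (V k)).flip inferInstance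
    have : QuasiSeparatedSpace (U : Scheme.{u}) := quasiSeparatedSpace_of_quasiSeparated (f₀ ∣_ V k)
    have hU : IsPullback (qX ∣_ U) ((qX ⁻¹ᵁ U).ι ≫ f ≫ g) (U.ι ≫ f₀ ≫ g₀) (c.π.app i₀) :=
      (isPullback_morphismRestrict qX U).paste_vert hXS
    let o : Over i₀ := Over.mk (𝟙 i₀)
    let a : (bcDiagram D (U.ι ≫ f₀ ≫ g₀)).obj o ⟶ X₀ :=
      pullback.fst (U.ι ≫ f₀ ≫ g₀) (D.map o.hom) ≫ U.ι
    have hcs : ∀ i, CompactSpace ↥((bcDiagram D (U.ι ≫ f₀ ≫ g₀)).obj i) :=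
      fun i => compactSpace_bcDiagram D _ i
    have hqs : ∀ i, QuasiSeparatedSpace ↥((bcDiagram D (U.ι ≫ f₀ ≫ g₀)).obj i) :=
      fun i => quasiSeparatedSpace_bcDiagram D _ i
    obtain ⟨i, φ, hi⟩ := S9223.result (bcDiagram D (U.ι ≫ f₀ ≫ g₀)) (bcCone hU.w)
      (isLimitBcCone hc hU) o ((Scheme.Modules.pullback a).obj L₀)
      (PicLoc.isInvertible_pullback a hL₀) (by
        have e : f ⁻¹ᵁ (qY ⁻¹ᵁ V k) = qX ⁻¹ᵁ U := by
          show (f ≫ qY) ⁻¹ᵁ V k = (qX ≫ f₀) ⁻¹ᵁ V k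
          rw [hX.w]
        have h' := ((RelAmple.isRelAmple_iff f).1 h).2 (qY ⁻¹ᵁ V k) ((hV k).preimage qY)
        rw [e] at h'
        refine Pow.isAmple_of_iso ?_ h'
        refine (Scheme.Modules.pullbackComp (qX ⁻¹ᵁ U).ι qX).app L₀ ≪≫
          (Scheme.Modules.pullbackCongr ?_).app L₀ ≪≫
            ((Scheme.Modules.pullbackComp ((bcCone hU.w).π.app o) a).app L₀).symm
        refine Eq.trans ?_ (Category.assoc _ _ _)
        exact (morphismRestrict_ι qX U).symm.trans (congrArg (· ≫ U.ι) (bcCone_π_fst hU.w o).symm))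
    refine ⟨i.left, i.hom, Pow.isAmple_of_iso
      ((Scheme.Modules.pullbackComp ((bcDiagram D (U.ι ≫ f₀ ≫ g₀)).map φ) a).app L₀ ≪≫
        (Scheme.Modules.pullbackCongr ?_).app L₀) hi⟩
    exact (Category.assoc _ _ _).symm.trans
      (congrArg (· ≫ U.ι) (bcDiagram_map_fst D (U.ι ≫ f₀ ≫ g₀) φ))
  choose j φ hφ using hk
  obtain ⟨i, ψ, χ, hχ⟩ := IsCofiltered.wideCospan φ
  let l : Over i₀ := Over.mk ψ
  have hsq := isPullback_stageHom D i₀ f₀ g₀ l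
  refine ⟨i, ψ, _, _, stageHom D i₀ f₀ g₀ l, pullback.snd _ _, pullback.fst _ _,
    pullback.fst _ _, IsPullback.of_hasPullback g₀ (D.map ψ), hsq, ?_⟩
  have : QuasiCompact (stageHom D i₀ f₀ g₀ l) := MorphismProperty.of_isPullback hsq inferInstance
  refine RelAmple.isRelAmple_of_local _ fun y => ?_
  obtain ⟨k, v, hv⟩ := 𝒱.exists_eq (pullback.fst g₀ (D.map ψ) y)
  refine ⟨pullback.fst g₀ (D.map ψ) ⁻¹ᵁ V k, ⟨v, hv⟩, fun V' hV' hle => ?_⟩
  refine RelAmple.ampleOn_of_le (U' := pullback.fst (f₀ ≫ g₀) (D.map ψ) ⁻¹ᵁ (f₀ ⁻¹ᵁ V k)) ?_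
    ((stageHom D i₀ f₀ g₀ l).isCompact_preimage hV'.isCompact) ?_
  · intro z hz
    show (pullback.fst (f₀ ≫ g₀) (D.map ψ) ≫ f₀) z ∈ V k
    erw [hsq.w]
    exact hle hz
  · let U := f₀ ⁻¹ᵁ V k
    let p := pullback.fst (f₀ ≫ g₀) (D.map ψ)
    let t : ((p ⁻¹ᵁ U : Scheme.Opens _) : Scheme.{u}) ⟶ pullback (U.ι ≫ f₀ ≫ g₀) (D.map (φ k)) :=
      pullback.lift (p ∣_ U) ((p ⁻¹ᵁ U).ι ≫ pullback.snd _ _ ≫ D.map (χ k)) (by
        rw [morphismRestrict_ι_assoc, Category.assoc, Category.assoc, ← D.map_comp, hχ]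
        exact congrArg ((p ⁻¹ᵁ U).ι ≫ ·) pullback.condition)
    have : IsAffineHom p := isAffineHom_fst D (f₀ ≫ g₀) l
    have := isAffineHom_fst D (U.ι ≫ f₀ ≫ g₀) (Over.mk (φ k))
    have : IsAffineHom (pullback.fst (U.ι ≫ f₀ ≫ g₀) (D.map (φ k))) := this
    have ht : t ≫ pullback.fst _ _ = p ∣_ U := pullback.lift_fst _ _ _
    have : IsAffineHom (p ∣_ U) :=
      MorphismProperty.of_isPullback (isPullback_morphismRestrict p U).flip inferInstance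
    have : IsAffineHom (t ≫ pullback.fst (U.ι ≫ f₀ ≫ g₀) (D.map (φ k))) := by rw [ht]; infer_instance
    have : IsAffineHom t := .of_comp t (pullback.fst (U.ι ≫ f₀ ≫ g₀) (D.map (φ k)))
    exact RelAmple.isAmple_pullback_of_comp L₀ t _ (p ⁻¹ᵁ U).ι p
      (Pullback.isQuasiAffine_of_isAffineHom t)
      (by rw [reassoc_of% ht, morphismRestrict_ι]) (hφ k)

theorem of_stage (hc : IsLimit c) {L₀ : X₀.Modules} {j : I} {φ : j ⟶ i₀} {Xj Yj : Scheme.{u}}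
    {fj : Xj ⟶ Yj} {gj : Yj ⟶ D.obj j} {pY : Yj ⟶ Y₀} {pX : Xj ⟶ X₀}
    (h1 : IsPullback pY gj g₀ (D.map φ)) (h2 : IsPullback pX fj f₀ pY)
    (h : _root_.RelAmple.IsRelAmple fj ((Scheme.Modules.pullback pX).obj L₀)) :
    _root_.RelAmple.IsRelAmple f ((Scheme.Modules.pullback qX).obj L₀) := by
  let rY : Y ⟶ Yj := h1.lift qY (g ≫ c.π.app j) (by rw [Category.assoc, c.w, hY.w])
  have e : rY ≫ pY = qY := h1.lift_fst _ _ _
  let rX : X ⟶ Xj := h2.lift qX (f ≫ rY) (by rw [Category.assoc, e, hX.w])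
  have sq : IsPullback rX f fj rY := by
    refine IsPullback.of_right ?_ (h2.lift_snd _ _ _) h2
    rw [h2.lift_fst, e]
    exact hX
  have := h.1
  have h3 := RelAmple.isRelAmple_pullback (pullback.snd fj rY) sq.isoPullback.hom
    (Pullback.isQuasiAffine_of_isAffineHom _) (RelAmple.isRelAmple_baseChange fj rY h)
  rw [sq.isoPullback_hom_snd] at h3
  have e' : ((Scheme.Modules.pullback sq.isoPullback.hom).obj
      ((Scheme.Modules.pullback (pullback.fst fj rY)).obj ((Scheme.Modules.pullback pX).obj L₀))) ≅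
      (Scheme.Modules.pullback qX).obj L₀ :=
    (Scheme.Modules.pullbackComp _ _).app _ ≪≫
      (Scheme.Modules.pullbackCongr sq.isoPullback_hom_fst).app _ ≪≫
      (Scheme.Modules.pullbackComp rX pX).app L₀ ≪≫
      (Scheme.Modules.pullbackCongr (h2.lift_fst _ _ _)).app L₀
  exact (RelAmple.isRelAmple_iff f).2 ⟨h3.1, fun V hV => Pow.isAmple_of_iso
    ((Scheme.Modules.pullback _).mapIso e') (((RelAmple.isRelAmple_iff f).1 h3).2 V hV)⟩

end Groth.Agent.H52.RelAmpleStage
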