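import Groth.Agent.Lib.FreeMod.Nerve
import Groth.Agent.Lib.SiteCoh.TotAcyclic
import Groth.Agent.Lib.FreeMod.Coeff
import Groth.Agent.Lib.SiteCoh.FreeRes
import Groth.Agent.Lib.SiteCoh.NerveRes
import Mathlib.Algebra.Category.ModuleCat.Presheaf.Sheafification
import Mathlib.Algebra.Category.ModuleCat.Sheaf.Abelian
import Mathlib.Algebra.Homology.ShortComplex.ExactFunctor

/-!
# Free modules over a sheaf of rings: injectives are totally acyclic
-/

set_option linter.style.haveILetI false

universe u

open CategoryTheory Limits Opposite Simplicial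

namespace Groth.Agent.H52.RingTA

open Groth.Agent.Lib.SiteCoh Groth.Agent.Lib.ModTensor.Monoidal Fillers FreeRes

variable {C : Type u} [SmallCategory C] {J : GrothendieckTopology C}

open Groth.Agent.Lib Groth.Agent.Lib.FreeMod
open Groth.Agent.Lib.FreeMod.Nerve (fs fs_map fs_natural fs_comp)

variable (O : Sheaf J RingCat.{u})

/-- The free sheaf of modules on a presheaf of sets. -/
noncomputable def FrP : (Cᵒᵖ ⥤ Type u) ⥤ SheafOfModules.{u} O :=
  PresheafOfModules.free O.obj ⋙ PresheafOfModules.sheafification (𝟙 O.obj)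

/-- The underlying presheaf of sets of a module. -/
noncomputable abbrev toSets : SheafOfModules.{u} O ⥤ Cᵒᵖ ⥤ Type u :=
  SheafOfModules.forget O ⋙ PresheafOfModules.restrictScalars (𝟙 O.obj) ⋙ (PresheafOfModules.toPresheaf _ ⋙
    (Functor.whiskeringRight _ _ _).obj (forget Ab.{u}))

/-- `FrP` is left adjoint to the underlying presheaf of sets. -/
noncomputable def frAdj : FrP O ⊣ toSets O :=
  (PresheafOfModules.freeAdjunction _).comp (PresheafOfModules.sheafificationAdjunction (𝟙 O.obj))

/-- Free modules, as abelian presheaves. -/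
noncomputable abbrev freeAb : (Cᵒᵖ ⥤ Type u) ⥤ (Cᵒᵖ ⥤ AddCommGrpCat.{u}) :=
  PresheafOfModules.free O.obj ⋙ PresheafOfModules.toPresheaf _

lemma freeAb_map_apply {S T : Cᵒᵖ ⥤ Type u} (φ : S ⟶ T) (U : Cᵒᵖ)
    (z : S.obj U →₀ O.obj.obj U) :
    ((freeAb O).map φ).app U z = z.mapDomain (φ.app U) := rfl

lemma fs_apply (A : SemiPsh C) (k : ℕ) (U : C)
    (z : (A.obj (k + 1)).obj (op U) →₀ O.obj.obj (op U)) :
    (fs (freeAb O) A k).app (op U) z = Coeff.bd A k U z := by
  unfold fs
  rw [NatTrans.app_sum]
  refine (congrArg (fun f : _ →+ _ => f z) (map_sum (AddCommGrpCat.homAddEquiv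
    (M := ((freeAb O).obj (A.obj (k + 1))).obj (op U))
    (N := ((freeAb O).obj (A.obj k)).obj (op U))) _ _)).trans
      ((AddMonoidHom.finsetSum_apply _ _ z).trans ?_)
  refine Finset.sum_congr rfl fun i _ => ?_
  rfl

lemma freeAb_res (S : Cᵒᵖ ⥤ Type u) {U V : Cᵒᵖ} (g : U ⟶ V) (z : S.obj U →₀ O.obj.obj U) :
    ((freeAb O).obj S).map g z =
      (z.mapRange (O.obj.map g).hom (map_zero _)).mapDomain (S.map g) := by
  induction z using Finsupp.induction with
  | zero =>
    rw [Finsupp.mapRange_zero, Finsupp.mapDomain_zero]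
    exact map_zero (((freeAb O).obj S).map g).hom
  | single_add a r z ha hr ih =>
    rw [Finsupp.mapRange_add (by simp), Finsupp.mapDomain_add, ← ih, Finsupp.mapRange_single,
      Finsupp.mapDomain_single]
    refine (map_add (((freeAb O).obj S).map g).hom _ _).trans (congrArg (· + _) ?_)
    have e : (((PresheafOfModules.free O.obj).obj S).map g).hom (Finsupp.single a (1 : O.obj.obj U)) =
        Finsupp.single (S.map g a) (1 : O.obj.obj V) := ModuleCat.freeDesc_apply _ a
    have h := ((PresheafOfModules.free O.obj).obj S).map_smul g (r : O.obj.obj U) (Finsupp.single a (1 : O.obj.obj U))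
    rw [show ((PresheafOfModules.free O.obj).obj S).map g (Finsupp.single a (1 : O.obj.obj U)) =
      Finsupp.single (S.map g a) (1 : O.obj.obj V) from e] at h
    refine Eq.trans ?_ (h.trans ?_)
    · exact congrArg _ (Finsupp.smul_single_one a r).symm
    · exact Finsupp.smul_single_one (S.map g a) ((O.obj.map g).hom r : O.obj.obj V)

variable {O}

/-- The underlying abelian sheaf of a free module. -/
noncomputable def frPToAbIso :
    FrP O ⋙ SheafOfModules.toSheaf.{u} O ≅
      freeAb O ⋙ presheafToSheaf J AddCommGrpCat.{u} :=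
  Functor.isoWhiskerLeft (PresheafOfModules.free O.obj)
    (PresheafOfModules.sheafificationCompToSheaf (𝟙 O.obj))

instance additive_toPresheaf' :
    (PresheafOfModules.toPresheaf O.obj).Additive := inferInstance

/-- The free modules on a semi-simplicial presheaf with fillers form an exact sequence. -/
theorem exact_fs {X : SimplicialObject.Augmented (Cᵒᵖ ⥤ Type u)}
    (hX : HasFillers (ofAugmented X) J) (k : ℕ) :
    (ShortComplex.mk _ _ (fs_comp (FrP O) X k)).Exact := by
  let S : ShortComplex (Cᵒᵖ ⥤ AddCommGrpCat.{u}) := ShortComplex.mk _ _ (fs_comp (freeAb O) X k)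
  have h : (S.map (presheafToSheaf J AddCommGrpCat.{u})).Exact := by
    refine LocExact.exact_map_of_locally_exact _ fun U x hx => ?_
    obtain ⟨R, hR, hR'⟩ := Coeff.exists_cover_boundary (M := O.obj.obj (op U))
      (N := fun V : C => O.obj.obj (op V)) hX k x
      ((fs_apply O (ofAugmented X) k U x).symm.trans hx)
      (fun V g => (O.obj.map g.op).hom.toAddMonoidHom)
    refine ⟨R, hR, fun V g hg => ?_⟩
    obtain ⟨w, hw⟩ := hR' g hg
    exact ⟨w, (fs_apply O (ofAugmented X) (k + 1) V w).trans
      (hw.trans (freeAb_res O _ g.op x).symm)⟩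
  refine (ShortComplex.exact_map_iff_of_faithful _
    (SheafOfModules.toSheaf.{u} O)).1 ?_
  refine ShortComplex.exact_of_iso (ShortComplex.isoMk (frPToAbIso.app _).symm
    (frPToAbIso.app _).symm (frPToAbIso.app _).symm ?_ ?_) h
  all_goals
    exact ((congrArg (_ ≫ ·) (fs_map (FrP O)
      (SheafOfModules.toSheaf.{u} O) _ _)).trans
        (fs_natural frPToAbIso.inv _ _)).trans
      (congrArg (· ≫ _) (fs_map (freeAb O) (presheafToSheaf J AddCommGrpCat.{u}) _ _).symm)

/-- Local surjectivity gives an epimorphism of free modules. -/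
theorem epi_map_of_isLocallySurjective {S T : Cᵒᵖ ⥤ Type u} (φ : S ⟶ T)
    [Presheaf.IsLocallySurjective J φ] : Epi ((FrP O).map φ) := by
  suffices Epi ((presheafToSheaf J AddCommGrpCat.{u}).map ((freeAb O).map φ)) by
    haveI := this
    have e := frPToAbIso (O := O).hom.naturality φ
    haveI : Epi ((SheafOfModules.toSheaf.{u} O).map ((FrP O).map φ)) :=
      ((MorphismProperty.epimorphisms _).arrow_mk_iso_iff
        (Arrow.isoMk (frPToAbIso.app S) (frPToAbIso.app T) e.symm)).2 this
    exact (SheafOfModules.toSheaf.{u} O).epi_of_epi_map this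
  refine LocExact.epi_map_of_isLocallySurjective _ ⟨fun {U} s => ?_⟩
  induction s using Finsupp.induction with
  | zero => exact J.superset_covering (fun V g _ => ⟨0, (map_zero (((freeAb O).map φ).app _).hom).trans
      (map_zero (((freeAb O).obj T).map g.op).hom).symm⟩) (J.top_mem U)
  | single_add a r z ha hr ih =>
    refine J.superset_covering ?_
      (J.intersection_covering (Presheaf.imageSieve_mem J φ (U := op U) a) ih)
    rintro V g ⟨⟨t, ht⟩, ⟨t', ht'⟩⟩
    refine ⟨(show ((freeAb O).obj S).obj (op V) from Finsupp.single t ((O.obj.map g.op).hom r)) + t', ?_⟩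
    refine (map_add (((freeAb O).map φ).app (op V)).hom _ _).trans (Eq.trans ?_
      (map_add (((freeAb O).obj T).map g.op).hom _ _).symm)
    refine congrArg₂ (· + ·) ?_ ht'
    refine (freeAb_map_apply O φ (op V) _).trans (Eq.trans ?_ (freeAb_res O T g.op _).symm)
    rw [Finsupp.mapDomain_single, Finsupp.mapRange_single, Finsupp.mapDomain_single]
    exact congrArg (Finsupp.single · _) ht

variable (O)

/-- The free abelian sheaf on a presheaf of sets is left adjoint to the underlying presheaf. -/
noncomputable def freePAdj : freeP J ⊣ sheafToPresheaf J AddCommGrpCat.{u} ⋙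
    (Functor.whiskeringRight Cᵒᵖ AddCommGrpCat.{u} (Type u)).obj (forget AddCommGrpCat.{u}) :=
  (AddCommGrpCat.adj.whiskerRight Cᵒᵖ).comp (sheafificationAdjunction J AddCommGrpCat.{u})

/-- Maps out of free modules and free abelian sheaves agree. -/
noncomputable def homEquivAb (S : Cᵒᵖ ⥤ Type u) (M : SheafOfModules.{u} O) :
    ((FrP O).obj S ⟶ M) ≃ ((freeP J).obj S ⟶ (SheafOfModules.toSheaf O).obj M) :=
  ((frAdj O).homEquiv S M).trans ((freePAdj).homEquiv S ((SheafOfModules.toSheaf O).obj M)).symm

lemma homEquivAb_left {S T : Cᵒᵖ ⥤ Type u} (φ : S ⟶ T) {M : SheafOfModules.{u} O}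
    (y : (FrP O).obj T ⟶ M) :
    homEquivAb O S M ((FrP O).map φ ≫ y) = (freeP J).map φ ≫ homEquivAb O T M y := by
  change ((freePAdj (J := J)).homEquiv S ((SheafOfModules.toSheaf O).obj M)).symm
    ((frAdj O).homEquiv S M ((FrP O).map φ ≫ y)) = _
  rw [Adjunction.homEquiv_naturality_left]
  exact Adjunction.homEquiv_naturality_left_symm _ _ _

/-- The comparison map. -/
noncomputable def κ (S : Cᵒᵖ ⥤ Type u) :
    (freeP J).obj S ⟶ (SheafOfModules.toSheaf O).obj ((FrP O).obj S) := homEquivAb O S _ (𝟙 _)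

lemma homEquivAb_eq (S : Cᵒᵖ ⥤ Type u) {M : SheafOfModules.{u} O} (y : (FrP O).obj S ⟶ M) :
    homEquivAb O S M y = κ O S ≫ (SheafOfModules.toSheaf _).map y := by
  have e₁ : (frAdj O).homEquiv S M y =
      (frAdj O).homEquiv S _ (𝟙 _) ≫ (toSets O).map y := by
    rw [← Adjunction.homEquiv_naturality_right, Category.id_comp]
  change (freePAdj.homEquiv S _).symm _ = (freePAdj.homEquiv S _).symm _ ≫ _
  rw [← Adjunction.homEquiv_naturality_right_symm, e₁]
  rfl

lemma homEquivAb_fs (A : SemiPsh C) (k : ℕ) {M : SheafOfModules.{u} O}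
    (y : (FrP O).obj (A.obj k) ⟶ M) :
    homEquivAb O _ M (fs (FrP O) A k ≫ y) =
      fs (freeP J) A k ≫ homEquivAb O _ M y := by
  simp only [fs, Preadditive.sum_comp, Preadditive.zsmul_comp, ← homEquivAb_left]
  simp only [homEquivAb_eq, Functor.map_sum, Functor.map_zsmul, Preadditive.comp_sum,
    Preadditive.comp_zsmul]

/-- Injective modules over a sheaf of rings are totally acyclic. -/
theorem isTotallyAcyclic_injective (M : SheafOfModules.{u} O) [Injective M] :
    CohCx.IsTotallyAcyclic ((SheafOfModules.toSheaf O).obj M) := by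
  refine SiteCoh.TotAcyclic.isTotallyAcyclic_of_exactHom fun {K' K} f hf q x hx => ?_
  haveI := hf
  let X := NerveRes.nervePsh f
  let A := ofAugmented X
  have hA := NerveRes.hasFillers f
  have hd : ∀ n, (NerveCx.nerveP f).d (n + 1) n = fs (freeP J) A (n + 1) := by
    intro n
    refine (AlgebraicTopology.AlternatingFaceMapComplex.obj_d_eq _ n).trans ?_
    exact Finset.sum_congr rfl fun i _ => rfl
  let x' : (FrP O).obj (A.obj (q + 2)) ⟶ M := (homEquivAb O _ M).symm x
  have hx' : fs (FrP O) A (q + 2) ≫ x' = 0 := by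
    apply (homEquivAb O _ M).injective
    rw [homEquivAb_fs, Equiv.apply_symm_apply, homEquivAb_eq, Functor.map_zero, comp_zero]
    exact (congrArg (· ≫ x) (hd (q + 1)).symm).trans hx
  have hex := exact_fs (O := O) hA (q + 1)
  refine ⟨homEquivAb O _ M (hex.descToInjective x' hx'), ?_⟩
  refine (congrArg (· ≫ homEquivAb O (A.obj (q + 1)) M _) (hd q)).trans ?_
  refine (homEquivAb_fs O A (q + 1) _).symm.trans ?_
  refine (congrArg (homEquivAb O _ M) ?_).trans (Equiv.apply_symm_apply _ x)
  exact hex.comp_descToInjective x' hx'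

end Groth.Agent.H52.RingTA
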