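import Groth.Agent.H52.TorusRigid
import Groth.Agent.H4.HomImage
import Groth.Agent.H4.KernelSquare
import Groth.Agent.Lib.FEt.GeomConn
import Groth.Agent.Lib.GrpSch.SmoothReduced
import Mathlib.AlgebraicGeometry.Group.Abelian

/-!
# Extensions of abelian varieties by tori: smooth, geometrically integral, commutative
-/

set_option autoImplicit false
set_option linter.style.haveILetI false
universe u
open CategoryTheory MonoidalCategory CartesianMonoidalCategory MonObj GrpObj AlgebraicGeometry

namespace Groth.Agent.H52.SemiAbelian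

noncomputable section

variable {k : Type u} [Field k]

/-- A torus over a field is connected. -/
theorem connectedSpace_of_isTorus (T : Over (Spec (CommRingCat.of k))) [GrpObj T] (hT : Red.IsTorus T) :
    ConnectedSpace ↥T.left := by
  let L := AlgebraicClosure k
  let b := Groth.Agent.Lib.GrpSch.extBase k L
  let TL := Red.bc b T
  obtain ⟨r, ⟨e⟩⟩ := TorusRigid.exists_split TL (Groth.Agent.Lib.Tori.Basic.isTorus_bc hT b)
  haveI := Groth.Agent.H1.Classical.TorusSplit.connectedSpace_DS L r
  let ε := Groth.Agent.Lib.Tori.BaseChange.overIso e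
  haveI : ConnectedSpace TL.left := by
    haveI : IsIso ε.inv.left := ((Over.forget _).mapIso ε.symm).isIso_hom
    exact ε.inv.left.surjective.connectedSpace ε.inv.left.continuous
  obtain ⟨⟨q1, q2⟩, q3⟩ := Groth.Agent.Lib.GrpSch.bcProj_surjective_flat_qc k L T
  haveI := q1
  exact (Groth.Agent.Lib.GrpSch.bcProj b T).surjective.connectedSpace
    (Groth.Agent.Lib.GrpSch.bcProj b T).continuous

/-- A torus over a field is geometrically integral. -/
theorem geometricallyIntegral_of_isTorus (T : Over (Spec (CommRingCat.of k))) [GrpObj T] (hT : Red.IsTorus T) :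
    GeometricallyIntegral T.hom := by
  haveI := Groth.Agent.Lib.Tori.Basic.smooth_of_isTorus hT
  haveI := connectedSpace_of_isTorus T hT
  haveI := Groth.Agent.Lib.GrpSch.geometricallyReduced_of_smooth_field T.hom
  exact Groth.Agent.H4.HomImage.geometricallyIntegral_of_connected T

variable {T G A : Over (Spec (CommRingCat.of k))} [GrpObj T] [GrpObj G] [GrpObj A]
  [LocallyOfFiniteType G.hom] [QuasiCompact G.hom] (i : T ⟶ G) (q : G ⟶ A) [IsMonHom q]
  [Surjective q.left] [Flat q.left]

/-- The extension is connected. -/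
theorem connectedSpace_ext (hK : AlgGrp.IsKernel i q) [GeometricallyConnected T.hom]
    [ConnectedSpace ↥A.left] [LocallyOfFiniteType A.hom] : ConnectedSpace ↥G.left := by
  haveI : IsLocallyNoetherian A.left := LocallyOfFiniteType.isLocallyNoetherian A.hom
  haveI : LocallyOfFiniteType (q.left ≫ A.hom) := by rw [Over.w]; infer_instance
  haveI : LocallyOfFiniteType q.left := locallyOfFiniteType_of_comp q.left A.hom
  haveI : LocallyOfFinitePresentation q.left := inferInstance
  haveI : UniversallyOpen q.left := UniversallyOpen.of_flat q.left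
  let p : (G ⊗ T).left ⟶ G.left := (fst G T).left
  haveI : GeometricallyConnected p :=
    Groth.Agent.Lib.GrpSch.fst_left_of (P := @GeometricallyConnected) G ‹_›
  have hf : ∀ b, _root_.IsPreconnected (q.left.base ⁻¹' {b}) := fun b => by
    refine isPreconnected_of_forall_pair fun x hx y hy => ?_
    obtain ⟨z, hz1, hz2⟩ := Scheme.exists_preimage_of_isPullback
      (Groth.Agent.H4.KernelSquare.isPullback_left q i hK) x y (hx.trans (Eq.symm hy))
    refine ⟨(fst G T * (snd G T ≫ i)).left '' (p ⁻¹' {x}), ?_, ?_, ⟨z, hz1, hz2⟩, ?_⟩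
    · rintro _ ⟨w, hw, rfl⟩
      have h := congrArg (fun f : (G ⊗ T) ⟶ A => f.left w) (Groth.Agent.H4.KernelSquare.isPullback q i hK).w
      simp only [Set.mem_preimage, Set.mem_singleton_iff, p] at hw hx ⊢
      rw [Over.comp_left, Scheme.Hom.comp_apply, Over.comp_left, Scheme.Hom.comp_apply, hw, hx] at h
      exact h.symm
    · let σ : G ⟶ G ⊗ T := lift (𝟙 G) (hK.lift 1 (toUnit G) (by rw [MonObj.one_comp, Hom.one_def]))
      refine ⟨σ.left x, ?_, ?_⟩
      · change (σ ≫ fst G T).left x = x
        rw [lift_fst]
        rfl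
      · change (σ ≫ (fst G T * (snd G T ≫ i))).left x = x
        rw [MonObj.comp_mul, lift_fst, lift_snd_assoc, hK.lift_fst, _root_.mul_one]
        rfl
    · exact (p.isConnected_preimage_singleton x).isPreconnected.image _
        (fst G T * (snd G T ≫ i)).left.continuous.continuousOn
  refine connectedSpace_iff_clopen.2 ⟨⟨η[G].left (IsLocalRing.closedPoint k)⟩, fun C hC => ?_⟩
  have h1 := Groth.Agent.Lib.FEt.GeomConn.preimage_image_of_connected_fibres q.left.base hf hC
  have h2 := Groth.Agent.Lib.FEt.GeomConn.image_compl_of_connected_fibres q.left.base q.left.surjective hf hC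
  have hcl : IsClopen (q.left.base '' C) :=
    ⟨by rw [← isOpen_compl_iff, ← h2]; exact q.left.isOpenMap _ hC.compl.2, q.left.isOpenMap _ hC.2⟩
  rcases isClopen_iff.1 hcl with h | h
  · left; rw [← h1, h, Set.preimage_empty]
  · right; rw [← h1, h, Set.preimage_univ]

/-- An extension of a smooth connected group by a torus is smooth and geometrically integral. -/
theorem smooth_geometricallyIntegral (hK : AlgGrp.IsKernel i q) (hT : Red.IsTorus T)
    [Smooth A.hom] [ConnectedSpace ↥A.left] : Smooth G.hom ∧ GeometricallyIntegral G.hom := by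
  haveI := Groth.Agent.Lib.Tori.Basic.smooth_of_isTorus hT
  haveI := geometricallyIntegral_of_isTorus T hT
  haveI : GeometricallyConnected T.hom :=
    haveI := connectedSpace_of_isTorus T hT
    Groth.Agent.Lib.GrpSch.geometricallyConnected_of_rationalPoint T.hom η[T].left (Over.w η[T])
  haveI := Groth.Agent.Lib.GrpQ.quasiCompact_left q
  haveI : Smooth q.left :=
    Groth.Agent.H4.KernelSquare.left_of_hom q i hK (P := @Smooth) inferInstance
  haveI hs : Smooth G.hom := by rw [← Over.w q]; infer_instance
  haveI := connectedSpace_ext i q hK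
  haveI := Groth.Agent.Lib.GrpSch.geometricallyReduced_of_smooth_field G.hom
  exact ⟨hs, Groth.Agent.H4.HomImage.geometricallyIntegral_of_connected G⟩

/-- An extension of an abelian variety by a torus is commutative. -/
theorem isCommMonObj (hK : AlgGrp.IsKernel i q) (hT : Red.IsTorus T) [IsMonHom i]
    [IsProper A.hom] [Smooth A.hom] [ConnectedSpace ↥A.left] : IsCommMonObj G := by
  obtain ⟨hs, hgi⟩ := smooth_geometricallyIntegral i q hK hT
  haveI := hs; haveI := hgi
  haveI := Groth.Agent.Lib.GrpSch.isSeparated_of_field G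
  haveI : GeometricallyIntegral A.hom :=
    haveI := Groth.Agent.Lib.GrpSch.geometricallyReduced_of_smooth_field A.hom
    Groth.Agent.H4.HomImage.geometricallyIntegral_of_connected A
  haveI : IsCommMonObj A := isCommMonObj_of_isProper_of_geometricallyIntegral A
  haveI : Mono i := ⟨fun a b h => hK.hom_ext h (toUnit_unique _ _)⟩
  let c : G ⊗ G ⟶ G := fst G G * snd G G * (fst G G)⁻¹ * (snd G G)⁻¹
  have hc : c ≫ q = toUnit (G ⊗ G) ≫ η[A] := by
    rw [← Hom.one_def]
    simp only [c, MonObj.mul_comp, GrpObj.inv_comp]
    rw [_root_.mul_comm (fst G G ≫ q), mul_inv_cancel_right, mul_inv_cancel]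
  have e : c = 1 := by
    rw [← hK.lift_fst c (toUnit _) hc, TorusRigid.eq_one_of_axes G G T hT η[G] η[G]
      (hK.lift c (toUnit _) hc) ?_ ?_, MonObj.one_comp]
    all_goals
      rw [← cancel_mono i, MonObj.one_comp, Category.assoc, hK.lift_fst]
      simp only [c, MonObj.comp_mul, GrpObj.comp_inv, lift_fst, lift_snd, ← Hom.one_def,
        _root_.mul_one, _root_.one_mul, inv_one, mul_inv_cancel]
  refine ⟨?_⟩
  have e' : snd G G * fst G G = fst G G * snd G G := by
    have h : (fst G G * snd G G) * (snd G G * fst G G)⁻¹ = 1 := by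
      rw [_root_.mul_inv_rev, ← _root_.mul_assoc]
      exact e
    exact (mul_inv_eq_one.1 h).symm
  calc (β_ G G).hom ≫ μ[G] = (β_ G G).hom ≫ (fst G G * snd G G) := by
        rw [Hom.mul_def, lift_fst_snd, Category.id_comp]
    _ = snd G G * fst G G := by rw [MonObj.comp_mul, braiding_hom_fst, braiding_hom_snd]
    _ = fst G G * snd G G := e'
    _ = μ[G] := by rw [Hom.mul_def, lift_fst_snd, Category.id_comp]

end

end Groth.Agent.H52.SemiAbelian
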