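import Groth.Agent.H4.PicZero.RelCube
import Groth.Agent.H4.AxesConst
import Groth.Agent.S7887
import Groth.Agent.Lib.ActSep.MonoIso
import Groth.Agent.Lib.JacCrit.OverField

/-!
# The square relation along pairs of curves, without completeness
-/

set_option autoImplicit false
set_option linter.style.haveILetI false
universe u

open CategoryTheory CategoryTheory.Limits MonoidalCategory CartesianMonoidalCategory AlgebraicGeometry
open Groth.Agent.H3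

namespace Groth.Agent.H52.SquareCurves

noncomputable section

local instance (Y : Scheme.{u}) : PicGrp.Law Y := Groth.Agent.Lib.TensorMod.Invertible.law Y

variable {K : Type u} [Field K]

local notation "S" => Spec (CommRingCat.of K)

/-- The slice `{a} × {b} × W`. -/
def sl {U V : Over S} (W : Over S) (a : 𝟙_ (Over S) ⟶ U) (b : 𝟙_ (Over S) ⟶ V) : W ⟶ U ⊗ V ⊗ W :=
  lift (toUnit W ≫ a) (lift (toUnit W ≫ b) (𝟙 W))

/-- The alternating product over a pair of pairs of points is trivial. -/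
def Sq {U V W : Over S} (γ : PicLoc.PicSet (U ⊗ V ⊗ W).left) (a a' : 𝟙_ (Over S) ⟶ U)
    (b b' : 𝟙_ (Over S) ⟶ V) : Prop :=
  PicCalc.ph (sl W a b) γ * PicCalc.ph (sl W a' b') γ =
    PicCalc.ph (sl W a b') γ * PicCalc.ph (sl W a' b) γ

theorem Sq.symm_left {U V W : Over S} {γ : PicLoc.PicSet (U ⊗ V ⊗ W).left} {a a' : 𝟙_ (Over S) ⟶ U}
    {b b' : 𝟙_ (Over S) ⟶ V} (h : Sq γ a a' b b') : Sq γ a' a b b' := by
  unfold Sq at *
  rw [mul_comm, ← h, mul_comm]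

theorem Sq.trans_left {U V W : Over S} {γ : PicLoc.PicSet (U ⊗ V ⊗ W).left}
    {a a' a'' : 𝟙_ (Over S) ⟶ U}
    {b b' : 𝟙_ (Over S) ⟶ V} (h : Sq γ a a' b b') (h' : Sq γ a' a'' b b') : Sq γ a a'' b b' := by
  unfold Sq at *
  apply mul_right_cancel (b := PicCalc.ph (sl W a' b') γ * PicCalc.ph (sl W a' b) γ)
  calc _ = (PicCalc.ph (sl W a b) γ * PicCalc.ph (sl W a' b') γ) *
        (PicCalc.ph (sl W a' b) γ * PicCalc.ph (sl W a'' b') γ) := by ac_rfl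
    _ = _ := by rw [h, h']; ac_rfl

theorem Sq.symm_right {U V W : Over S} {γ : PicLoc.PicSet (U ⊗ V ⊗ W).left} {a a' : 𝟙_ (Over S) ⟶ U}
    {b b' : 𝟙_ (Over S) ⟶ V} (h : Sq γ a a' b b') : Sq γ a a' b' b :=
  Eq.symm h

theorem Sq.trans_right {U V W : Over S} {γ : PicLoc.PicSet (U ⊗ V ⊗ W).left}
    {a a' : 𝟙_ (Over S) ⟶ U}
    {b b' b'' : 𝟙_ (Over S) ⟶ V} (h : Sq γ a a' b b') (h' : Sq γ a a' b' b'') : Sq γ a a' b b'' := by
  unfold Sq at *
  apply mul_right_cancel (b := PicCalc.ph (sl W a b') γ * PicCalc.ph (sl W a' b') γ)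
  calc _ = (PicCalc.ph (sl W a b) γ * PicCalc.ph (sl W a' b') γ) *
        (PicCalc.ph (sl W a b') γ * PicCalc.ph (sl W a' b'') γ) := by ac_rfl
    _ = _ := by rw [h, h']; ac_rfl

set_option maxHeartbeats 1000000 in
/-- The square relation on complete varieties. -/
theorem sq_of_proper {C D W : Over S} [IsProper C.hom] [Flat C.hom] [GeometricallyIntegral C.hom]
    [IsProper D.hom] [Flat D.hom] [GeometricallyIntegral D.hom] [IsLocallyNoetherian W.left]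
    [ConnectedSpace W.left] (w : 𝟙_ (Over S) ⟶ W) (γ : PicLoc.PicSet (C ⊗ D ⊗ W).left)
    (c c' : 𝟙_ (Over S) ⟶ C) (d d' : 𝟙_ (Over S) ⟶ D) :
    Sq γ c c' d d' := by
  let e₁ : C ⊗ D ⊗ W ⟶ C ⊗ D ⊗ W := lift (toUnit _ ≫ c) (snd C (D ⊗ W))
  let e₂ : C ⊗ D ⊗ W ⟶ C ⊗ D ⊗ W :=
    lift (fst C (D ⊗ W)) (lift (toUnit _ ≫ d) (snd C (D ⊗ W) ≫ snd D W))
  let e₃ : C ⊗ D ⊗ W ⟶ C ⊗ D ⊗ W :=
    lift (toUnit _ ≫ c) (lift (toUnit _ ≫ d) (snd C (D ⊗ W) ≫ snd D W))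
  let e₄ : C ⊗ D ⊗ W ⟶ C ⊗ D ⊗ W :=
    lift (fst C (D ⊗ W)) (lift (snd C (D ⊗ W) ≫ fst D W) (toUnit _ ≫ w))
  let i₁ : D ⊗ W ⟶ C ⊗ D ⊗ W := lift (toUnit (D ⊗ W) ≫ c) (𝟙 (D ⊗ W))
  let i₂ : C ⊗ W ⟶ C ⊗ D ⊗ W := lift (fst C W) (lift (toUnit (C ⊗ W) ≫ d) (snd C W))
  let γ₁ := γ * PicCalc.ph e₃ γ * (PicCalc.ph e₁ γ * PicCalc.ph e₂ γ)⁻¹
  let γ₂ := γ₁ * (PicCalc.ph e₄ γ₁)⁻¹
  have h₁₁ : i₁ ≫ e₁ = i₁ := by
    ext : 1 <;> simp [i₁, e₁, comp_lift, comp_toUnit_assoc]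
  have h₁₂ : i₁ ≫ e₃ = i₁ ≫ e₂ := by
    ext : 1 <;> simp [i₁, e₂, e₃, comp_lift, comp_toUnit_assoc]
  have h₂₂ : i₂ ≫ e₂ = i₂ := by
    ext : 1 <;> simp [i₂, e₂, comp_lift, comp_toUnit_assoc]
  have h₂₁ : i₂ ≫ e₃ = i₂ ≫ e₁ := by
    ext : 1 <;> simp [i₂, e₁, e₃, comp_lift, comp_toUnit_assoc]
  have h₁₄ : i₁ ≫ e₄ = lift (fst D W) (toUnit _ ≫ w) ≫ i₁ := by
    ext : 1 <;> simp [i₁, e₄, comp_lift, comp_toUnit_assoc]
  have h₂₄ : i₂ ≫ e₄ = lift (fst C W) (toUnit _ ≫ w) ≫ i₂ := by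
    ext : 1 <;> simp [i₂, e₄, comp_lift, comp_toUnit_assoc]
  have g₁ : PicCalc.ph i₁ γ₁ = 1 := by
    simp only [γ₁, map_mul, map_inv, ← PicCalc.ph_comp, h₁₁, h₁₂]
    exact mul_inv_eq_one.mpr rfl
  have g₂ : PicCalc.ph i₂ γ₁ = 1 := by
    simp only [γ₁, map_mul, map_inv, ← PicCalc.ph_comp, h₂₁, h₂₂]
    exact mul_inv_eq_one.mpr (mul_comm _ _)
  have k₁ : PicCalc.ph i₁ γ₂ = 1 := by
    simp only [γ₂, map_mul, map_inv, ← PicCalc.ph_comp, h₁₄]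
    rw [PicCalc.ph_comp, g₁, map_one, inv_one, _root_.mul_one]
  have k₂ : PicCalc.ph i₂ γ₂ = 1 := by
    simp only [γ₂, map_mul, map_inv, ← PicCalc.ph_comp, h₂₄]
    rw [PicCalc.ph_comp, g₂, map_one, inv_one, _root_.mul_one]
  have hfib : PicCalc.ph (C ◁ (D ◁ H4.PicZero.fieldPtHom w.left)) γ₂ = 1 := by
    have hφ : H4.PicZero.fieldPtHom w.left = toUnit (H4.PicZero.fieldPt w.left) ≫ w := by
      refine Over.OverMorphism.ext ?_
      show w.left = (toUnit (H4.PicZero.fieldPt w.left)).left ≫ w.left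
      have h : (toUnit (H4.PicZero.fieldPt w.left)).left = w.left ≫ W.hom := rfl
      have h' : w.left ≫ W.hom = 𝟙 _ := Over.w w
      rw [h, h']
      exact (Category.id_comp _).symm
    have hj : (C ◁ (D ◁ H4.PicZero.fieldPtHom w.left)) ≫ e₄ =
        C ◁ (D ◁ H4.PicZero.fieldPtHom w.left) := by
      rw [hφ]
      apply CartesianMonoidalCategory.hom_ext
      · simp [e₄]
      · apply CartesianMonoidalCategory.hom_ext <;> simp [e₄, comp_lift, comp_toUnit_assoc]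
    simp only [γ₂, map_mul, map_inv, ← PicCalc.ph_comp, hj]
    exact mul_inv_eq_one.mpr rfl
  have key : γ₂ = 1 := H4.PicZero.eq_one_of_fibre c d k₁ k₂ K w.left hfib
  have key' : γ₁ = PicCalc.ph e₄ γ₁ := mul_inv_eq_one.mp key
  have hev : PicCalc.ph (sl W c' d') γ₁ = 1 := by
    have he : sl W c' d' ≫ e₄ = toUnit W ≫ lift c' (lift d' w) := by
      ext : 1 <;> simp [sl, e₄, comp_lift, comp_toUnit_assoc]
    haveI : Subsingleton (𝟙_ (Over S)).left := inferInstanceAs (Subsingleton (PrimeSpectrum K))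
    haveI : Nonempty (𝟙_ (Over S)).left := inferInstanceAs (Nonempty (PrimeSpectrum K))
    rw [key', ← PicCalc.ph_comp, he, PicCalc.ph_comp,
      PicCalc.eq_one_of_subsingleton (PicCalc.ph _ γ₁), map_one]
  have hs₁ : sl W c' d' ≫ e₁ = sl W c d' := by
    ext : 1 <;> simp [sl, e₁, comp_lift, comp_toUnit_assoc]
  have hs₂ : sl W c' d' ≫ e₂ = sl W c' d := by
    ext : 1 <;> simp [sl, e₂, comp_lift, comp_toUnit_assoc]
  have hs₃ : sl W c' d' ≫ e₃ = sl W c d := by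
    ext : 1 <;> simp [sl, e₃, comp_lift, comp_toUnit_assoc]
  simp only [γ₁, map_mul, map_inv, ← PicCalc.ph_comp, hs₁, hs₂, hs₃] at hev
  rw [mul_inv_eq_one] at hev
  show _ = _
  rw [← hev]
  exact mul_comm _ _

/-- Extension of classes along open immersions into regular schemes. -/
theorem exists_extension {Y X : Over S} (i : Y ⟶ X) [IsOpenImmersion i.left] [Smooth X.hom]
    [QuasiCompact X.hom] [IsIntegral X.left] (γ : PicLoc.PicSet Y.left) :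
    ∃ δ, PicCalc.ph i δ = γ := by
  haveI : IsLocallyNoetherian X.left := LocallyOfFiniteType.isLocallyNoetherian X.hom
  haveI : CompactSpace X.left := QuasiCompact.compactSpace_of_compactSpace X.hom
  haveI : IsNoetherian X.left := {}
  have hreg : ∀ x : X.left, IsRegularLocalRing (X.left.presheaf.stalk x) := fun x =>
    Groth.Agent.Lib.JacCrit.OverField.isRegularLocalRing_stalk X.hom x
      (by rw [X.hom.smoothLocus_eq_top]; trivial)
  let e := i.left.isoOpensRange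
  let γ' : PicLoc.PicSet (i.left.opensRange : Scheme.{u}) :=
    PicGrp.pullHom e.inv (Groth.Agent.Lib.TensorMod.Pullback.pullMul e.inv) γ
  obtain ⟨M, hM, hγ⟩ := PicGrp.exists_eq_cls γ'
  obtain ⟨L, hL, ⟨iso⟩⟩ := Groth.Agent.S7887.result X.left hreg i.left.opensRange M hM
  refine ⟨PicGrp.cls L hL, Subtype.ext ?_⟩
  have h1 : PicF.pullCl i.left.opensRange.ι (PicGrp.cls L hL).1 = γ'.1 := by
    rw [hγ]
    exact (PicGrp.cl_eq_cl_iff _ _).mpr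
      ⟨((Scheme.Modules.restrictFunctorIsoPullback _).app L).symm ≪≫ iso⟩
  have h2 : γ'.1 = PicF.pullCl e.inv γ.1 := rfl
  rw [PicCalc.ph_val]
  conv_lhs => rw [← Scheme.Hom.isoOpensRange_hom_ι i.left]
  rw [PicLoc.pullCl_comp, h1, h2, ← PicLoc.pullCl_comp, Iso.hom_inv_id, PicLoc.pullCl_id]

variable [IsAlgClosed K]

/-- The square relation for points joined by open pieces of complete curves. -/
theorem sq_of_open {U V W C D C₀ D₀ : Over S} [Smooth C.hom] [IsProper C.hom]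
    [GeometricallyIntegral C.hom] [Smooth D.hom] [IsProper D.hom] [GeometricallyIntegral D.hom]
    [Smooth W.hom] [QuasiCompact W.hom] [GeometricallyIntegral W.hom]
    (w : 𝟙_ (Over S) ⟶ W) (γ : PicLoc.PicSet (U ⊗ V ⊗ W).left)
    (j : C₀ ⟶ C) [IsOpenImmersion j.left] (k : D₀ ⟶ D) [IsOpenImmersion k.left]
    (f : C₀ ⟶ U) (g : D₀ ⟶ V) (c c' : 𝟙_ (Over S) ⟶ C₀) (d d' : 𝟙_ (Over S) ⟶ D₀) :
    Sq γ (c ≫ f) (c' ≫ f) (d ≫ g) (d' ≫ g) := by
  haveI : IsLocallyNoetherian W.left := LocallyOfFiniteType.isLocallyNoetherian W.hom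
  haveI : IsIntegral W.left := GeometricallyIntegral.isIntegral_of_subsingleton W.hom
  obtain ⟨-, hDW⟩ := H4.AxesConst.geometricallyIntegral_tensor D W
  haveI := hDW
  haveI : Smooth (D ⊗ W).hom := by rw [Over.tensorObj_hom]; infer_instance
  haveI : QuasiCompact (D ⊗ W).hom := by rw [Over.tensorObj_hom]; infer_instance
  haveI : IsIntegral (C ⊗ D ⊗ W).left := (H4.AxesConst.geometricallyIntegral_tensor C (D ⊗ W)).1
  haveI : Smooth (C ⊗ D ⊗ W).hom := by rw [Over.tensorObj_hom]; infer_instance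
  haveI : QuasiCompact (C ⊗ D ⊗ W).hom := by rw [Over.tensorObj_hom]; infer_instance
  haveI h1 : IsOpenImmersion (k ⊗ₘ 𝟙 W).left :=
    Groth.Agent.Lib.ActSep.GenericTransporter.prop_tensorHom (P := @IsOpenImmersion) k (𝟙 W) ‹_›
      (inferInstanceAs (IsOpenImmersion (𝟙 W.left)))
  haveI : IsOpenImmersion (j ⊗ₘ (k ⊗ₘ 𝟙 W)).left :=
    Groth.Agent.Lib.ActSep.GenericTransporter.prop_tensorHom (P := @IsOpenImmersion) j (k ⊗ₘ 𝟙 W) ‹_› h1
  obtain ⟨δ, hδ⟩ := exists_extension (j ⊗ₘ (k ⊗ₘ 𝟙 W)) (PicCalc.ph (f ⊗ₘ (g ⊗ₘ 𝟙 W)) γ)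
  have key := sq_of_proper w δ (c ≫ j) (c' ≫ j) (d ≫ k) (d' ≫ k)
  have e : ∀ (x : 𝟙_ (Over S) ⟶ C₀) (y : 𝟙_ (Over S) ⟶ D₀),
      PicCalc.ph (sl W (x ≫ j) (y ≫ k)) δ = PicCalc.ph (sl W (x ≫ f) (y ≫ g)) γ := fun x y => by
    have h : ∀ {C' D' : Over S} (p : C₀ ⟶ C') (q : D₀ ⟶ D'),
        sl W x y ≫ (p ⊗ₘ (q ⊗ₘ 𝟙 W)) = sl W (x ≫ p) (y ≫ q) := fun p q => by
      ext : 1 <;> simp [sl]
    rw [← h, PicCalc.ph_comp, hδ, ← PicCalc.ph_comp, h]
  unfold Sq at key ⊢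
  rwa [e, e, e, e] at key

end

end Groth.Agent.H52.SquareCurves
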