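import Groth.Agent.H52.SquareCurves
import Groth.Agent.H52.CurveJoin

/-!
# The square relation on products of smooth varieties, none of them assumed complete
-/

set_option autoImplicit false
set_option linter.style.haveILetI false
universe u

open CategoryTheory CategoryTheory.Limits MonoidalCategory CartesianMonoidalCategory AlgebraicGeometry
open Groth.Agent.H3
open Groth.Agent.Lib.GrpQ.MonoClosed (ptOf exists_ptOf)

namespace Groth.Agent.H52.SquareNoncomplete

noncomputable section

local instance (Y : Scheme.{u}) : PicGrp.Law Y := Groth.Agent.Lib.TensorMod.Invertible.law Y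

variable {K : Type u} [Field K] [IsAlgClosed K]

local notation "S" => Spec (CommRingCat.of K)

theorem isIntegral_left (U : Over S) [Smooth U.hom] [GeometricallyIntegral U.hom] : IsIntegral U.left := by
  haveI : IsLocallyNoetherian U.left := LocallyOfFiniteType.isLocallyNoetherian U.hom
  exact GeometricallyIntegral.isIntegral_of_subsingleton U.hom

/-- Two rational points are joined to a common one. -/
theorem exists_common {U : Over S} [Smooth U.hom] [IsSeparated U.hom] [GeometricallyIntegral U.hom]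
    (a a' : 𝟙_ (Over S) ⟶ U) :
    ∃ x : 𝟙_ (Over S) ⟶ U, CurveJoin.Joined a x ∧ CurveJoin.Joined a' x := by
  haveI := isIntegral_left U
  obtain ⟨O, hO, h⟩ := CurveJoin.exists_open a
  obtain ⟨O', hO', h'⟩ := CurveJoin.exists_open a'
  obtain ⟨x, hx⟩ := exists_ptOf (X := U) (O.2.inter O'.2).isLocallyClosed
    (nonempty_preirreducible_inter O.2 O'.2 hO hO')
  exact ⟨x, h x hx.1, h' x hx.2⟩

theorem sq_of_joined {U V W : Over S} [Smooth W.hom] [QuasiCompact W.hom] [GeometricallyIntegral W.hom]
    (γ : PicLoc.PicSet (U ⊗ V ⊗ W).left) {a a' : 𝟙_ (Over S) ⟶ U} {b b' : 𝟙_ (Over S) ⟶ V}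
    (ha : CurveJoin.Joined a a') (hb : CurveJoin.Joined b b') : SquareCurves.Sq γ a a' b b' := by
  obtain ⟨C, C₀, j, f, c, c', hC, hC', hC'', hj, rfl, rfl⟩ := ha
  obtain ⟨D, D₀, k, g, d, d', hD, hD', hD'', hk, rfl, rfl⟩ := hb
  haveI := isIntegral_left W
  obtain ⟨w, -⟩ := exists_ptOf (X := W) isOpen_univ.isLocallyClosed Set.univ_nonempty
  exact SquareCurves.sq_of_open w γ j k f g c c' d d'

/-- **The square relation**, for smooth varieties none of which is assumed complete. -/
theorem sq {U V W : Over S} [Smooth U.hom] [IsSeparated U.hom] [GeometricallyIntegral U.hom]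
    [Smooth V.hom] [IsSeparated V.hom] [GeometricallyIntegral V.hom]
    [Smooth W.hom] [QuasiCompact W.hom] [GeometricallyIntegral W.hom]
    (γ : PicLoc.PicSet (U ⊗ V ⊗ W).left) (a a' : 𝟙_ (Over S) ⟶ U) (b b' : 𝟙_ (Over S) ⟶ V) :
    SquareCurves.Sq γ a a' b b' := by
  obtain ⟨x, hx, hx'⟩ := exists_common a a'
  obtain ⟨y, hy, hy'⟩ := exists_common b b'
  have h : ∀ c, CurveJoin.Joined c x → SquareCurves.Sq γ c x b b' := fun c hc =>
    (sq_of_joined γ hc hy).trans_right (sq_of_joined γ hc hy').symm_right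
  exact (h a hx).trans_left (h a' hx').symm_left

/-- The square relation as an isomorphism of modules. -/
theorem nonempty_iso {U V W : Over S} [Smooth U.hom] [IsSeparated U.hom] [GeometricallyIntegral U.hom]
    [Smooth V.hom] [IsSeparated V.hom] [GeometricallyIntegral V.hom]
    [Smooth W.hom] [QuasiCompact W.hom] [GeometricallyIntegral W.hom]
    (L : (U ⊗ V ⊗ W).left.Modules) (hL : PicF.IsInvertible L)
    (a0 a1 : 𝟙_ (Over S) ⟶ U) (b0 b1 : 𝟙_ (Over S) ⟶ V) :
    Nonempty (CohB1.tensorMod ((Scheme.Modules.pullback (SquareCurves.sl W a0 b0).left).obj L)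
        ((Scheme.Modules.pullback (SquareCurves.sl W a1 b1).left).obj L) ≅
      CohB1.tensorMod ((Scheme.Modules.pullback (SquareCurves.sl W a0 b1).left).obj L)
        ((Scheme.Modules.pullback (SquareCurves.sl W a1 b0).left).obj L)) :=
  (PicCalc.iso_iff
    (PicCalc.cl_tensor (PicCalc.cl_pullback _ (a := PicGrp.cls L hL) rfl)
      (PicCalc.cl_pullback _ (a := PicGrp.cls L hL) rfl))
    (PicCalc.cl_tensor (PicCalc.cl_pullback _ (a := PicGrp.cls L hL) rfl)
      (PicCalc.cl_pullback _ (a := PicGrp.cls L hL) rfl))).mpr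
    (sq (PicGrp.cls L hL) a0 a1 b0 b1)

end

end Groth.Agent.H52.SquareNoncomplete
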