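import Groth.Agent.H52.NondegAmple
import Groth.Agent.H63.CartierInverse

/-!
# A divisor with finite stabilizer is ample
-/

set_option autoImplicit false
set_option linter.style.haveILetI false
universe u

open CategoryTheory CategoryTheory.Limits MonoidalCategory CartesianMonoidalCategory MonObj AlgebraicGeometry
open Groth.Agent.H3
open Groth.Agent.Lib.GrpQ.MonoClosed (ptOf exists_ptOf)
open Groth.Agent.H52.NondegAmple (tr tr_mul ptOf_tr loc_nonempty genAt_sq infinite_fixing)

namespace Groth.Agent.H52.StabAmple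

noncomputable section

local instance (Y : Scheme.{u}) : PicGrp.Law Y := Groth.Agent.Lib.TensorMod.Invertible.law Y

variable {K : Type u} [Field K] [IsAlgClosed K]

local notation "S" => Spec (CommRingCat.of K)

omit [IsAlgClosed K] in
/-- A homeomorphism permutes the irreducible components. -/
theorem image_mem_components {Y : Type u} [TopologicalSpace Y] (e : Y ≃ₜ Y) {Z : Set Y}
    (hZ : Z ∈ irreducibleComponents Y) : e '' Z ∈ irreducibleComponents Y := by
  refine ⟨hZ.1.image e e.continuous.continuousOn, fun W hW hle => ?_⟩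
  have h1 : Z ⊆ e.symm '' W := fun z hz => ⟨e z, hle ⟨z, hz, rfl⟩, e.symm_apply_apply z⟩
  have h2 := hZ.2 (hW.image e.symm e.symm.continuous.continuousOn) h1
  exact fun w hw => ⟨e.symm w, h2 ⟨w, hw, rfl⟩, e.apply_symm_apply w⟩

omit [IsAlgClosed K] in
/-- The points of a proper integral curve are infinite in number. -/
theorem infinite_points [IsAlgClosed K] {C : Over (Spec (CommRingCat.of K))} [IsProper C.hom] [IsIntegral C.left]
    (hdim : topologicalKrullDim C.left = 1) : Infinite (𝟙_ (Over S) ⟶ C) := by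
  refine not_finite_iff_infinite.mp fun hf => ?_
  haveI : JacobsonSpace C.left := LocallyOfFiniteType.jacobsonSpace C.hom
  have hclosed : (closedPoints C.left).Finite := (Set.finite_range (ptOf (X := C))).subset fun z hz =>
    ⟨Over.homMk (pointOfClosedPoint C.hom z hz) (pointOfClosedPoint_comp C.hom z hz),
      pointOfClosedPoint_apply C.hom z hz _⟩
  have huniv : closedPoints C.left = Set.univ := by
    have h1 : IsClosed (closedPoints C.left) := by
      rw [← Set.biUnion_of_singleton (closedPoints C.left)]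
      exact hclosed.isClosed_biUnion fun z hz => hz
    rw [← h1.closure_eq, closure_closedPoints]
  haveI : Finite C.left := Set.finite_univ_iff.mp (huniv ▸ hclosed)
  haveI : T1Space C.left := ⟨fun z => (huniv.ge (Set.mem_univ z) : z ∈ closedPoints C.left)⟩
  have h0 := topologicalKrullDim_zero_of_discreteTopology C.left
  rw [hdim] at h0
  exact absurd h0 (by decide)

variable {A : Over (Spec (CommRingCat.of K))} [GrpObj A] [IsProper A.hom] [GeometricallyIntegral A.hom]

/-- The points preserving a set which are not in the finite stabilizer of its components. -/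
theorem finite_stab (D : Set A.left)
    (hb : Set.Finite {a : 𝟙_ (Over S) ⟶ A | ∀ Z ∈ irreducibleComponents ↥D,
      (fun x : A.left => (tr a).left.base x) '' (Subtype.val '' Z) = Subtype.val '' Z})
    (T : Set (𝟙_ (Over S) ⟶ A)) (hT : ∀ a ∈ T, ∀ x, (tr a).left.base x ∈ D ↔ x ∈ D) : T.Finite := by
  haveI : IsLocallyNoetherian A.left := LocallyOfFiniteType.isLocallyNoetherian A.hom
  haveI : CompactSpace A.left := QuasiCompact.compactSpace_of_compactSpace A.hom
  haveI : IsNoetherian A.left := { }
  haveI : TopologicalSpace.NoetherianSpace ↥D :=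
    (Topology.IsInducing.subtypeVal : Topology.IsInducing (Subtype.val : ↥D → A.left)).noetherianSpace
  haveI : Finite (irreducibleComponents ↥D) :=
    TopologicalSpace.NoetherianSpace.finite_irreducibleComponents.to_subtype
  let e : ∀ a : T, ↥D ≃ₜ ↥D := fun a =>
    (Scheme.homeoOfIso (asIso ((Over.forget S).map (tr a.1)))).subtype fun x => (hT a.1 a.2 x).symm
  let Φ : T → (irreducibleComponents ↥D → irreducibleComponents ↥D) := fun a Z =>
    ⟨e a '' Z.1, image_mem_components _ Z.2⟩
  have himg : ∀ (a : T) (Z : Set ↥D),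
      Subtype.val '' (e a '' Z) = (fun x : A.left => (tr a.1).left.base x) '' (Subtype.val '' Z) := fun a Z => by
    rw [Set.image_image, Set.image_image]
    rfl
  by_contra hTi
  haveI : Infinite T := Set.infinite_coe_iff.mpr hTi
  obtain ⟨p, hp⟩ := Finite.exists_infinite_fiber Φ
  have hp' : (Φ ⁻¹' {p}).Infinite := Set.infinite_coe_iff.mp hp
  obtain ⟨a₀, ha₀⟩ := hp'.nonempty
  refine hp' (Set.Finite.of_finite_image (f := fun a : T => a.1 * a₀.1⁻¹) (hb.subset ?_) ?_)
  · rintro _ ⟨a, ha, rfl⟩ Z hZ
    have h : e a '' Z = e a₀ '' Z :=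
      congrArg Subtype.val (congrFun ((show Φ a = p from ha).trans (show Φ a₀ = p from ha₀).symm) ⟨Z, hZ⟩)
    have h' := congrArg (fun W : Set ↥D => (fun x : A.left => (tr a₀.1⁻¹).left.base x) '' (Subtype.val '' W)) h
    simp only at h'
    rw [himg, himg] at h'
    simp only [Set.image_image] at h'
    have hc : ∀ (b : 𝟙_ (Over S) ⟶ A) (x : A.left), (tr a₀.1⁻¹).left.base ((tr b).left.base x) =
        (tr (b * a₀.1⁻¹)).left.base x := fun b x => by
      rw [← tr_mul]
      rfl
    simp only [hc, mul_inv_cancel] at h'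
    simp only [Set.image_image]
    refine h'.trans (Set.image_congr fun x _ => ?_)
    simp [tr, MonObj.comp_one]
  · exact fun a _ b _ h => Subtype.ext (mul_right_cancel h)

variable (L : A.left.Modules) (hL : PicF.IsInvertible L) (s : Coh.structureModule A.left ⟶ L) (hs : s ≠ 0)

include hL hs in
theorem isAmple (D : Set A.left) (hD : ∀ x, x ∈ CohB1.genLocus L s ↔ x ∉ D)
    (hb : Set.Finite {a : 𝟙_ (Over S) ⟶ A | ∀ Z ∈ irreducibleComponents ↥D,
      (fun x : A.left => (tr a).left.base x) '' (Subtype.val '' Z) = Subtype.val '' Z}) :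
    CohB1.IsAmple L := by
  letI : A.left.Over S := ⟨A.hom⟩
  haveI : IsProper (A.left ↘ S) := ‹IsProper A.hom›
  haveI : IsCommMonObj A := isCommMonObj_of_isProper_of_geometricallyIntegral A
  have hLL := Groth.Agent.Lib.TensorMod.Invertible.isInvertible_tensorMod hL hL
  have h2 : CohB1.IsAmple (CohB1.tensorMod L L) := by
    refine Groth.Agent.Lib.SurfInt.GGAmple.isAmple K hLL (genAt_sq L hL s hs) fun C hC hCd => ?_
    haveI := hC
    let C' : Over S := Over.mk (C.subschemeι ≫ A.hom)
    let i : C' ⟶ A := Over.homMk C.subschemeι rfl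
    haveI : IsProper C'.hom := inferInstanceAs (IsProper (C.subschemeι ≫ A.hom))
    haveI : IsIntegral C'.left := hC
    haveI : Mono i.left := inferInstanceAs (Mono C.subschemeι)
    haveI : Mono i := Over.mono_of_mono_left i
    have hdimC : topologicalKrullDim C'.left = 1 := by
      rw [← hCd]
      exact IsHomeomorph.topologicalKrullDim_eq _
        (C.subschemeι.isClosedEmbedding.isEmbedding.toHomeomorph.trans
          (Homeomorph.setCongr C.range_subschemeι)).isHomeomorph
    by_contra hnA
    have hall := (infinite_fixing L hL s hs hdimC i (fun c c' h => (cancel_mono i).1 h) hnA).1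
    haveI := infinite_points hdimC
    let c₀ : 𝟙_ (Over S) ⟶ C' := Classical.arbitrary _
    let T : Set (𝟙_ (Over S) ⟶ A) := Set.range fun c : 𝟙_ (Over S) ⟶ C' => (c ≫ i) * (c₀ ≫ i)⁻¹
    refine (Set.infinite_range_of_injective (fun c c' h => (cancel_mono i).1 (mul_right_cancel h)) : T.Infinite)
      (finite_stab D hb T ?_)
    -- the translations preserve the locus
    have hle : ∀ c c' : 𝟙_ (Over S) ⟶ C', ∀ x, x ∈ CohB1.genLocus L s →
        (tr ((c' ≫ i) * (c ≫ i)⁻¹)).left.base x ∈ CohB1.genLocus L s := fun c c' x hx => by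
      by_contra hx'
      obtain ⟨q, hq1, hq2⟩ := exists_ptOf (X := A)
        ((CohB1.genLocus L s).2.isLocallyClosed.inter
          ((tr ((c' ≫ i) * (c ≫ i)⁻¹)).left ⁻¹ᵁ CohB1.genLocus L s).2.isClosed_compl.isLocallyClosed)
        ⟨x, hx, hx'⟩
      refine hq2 ?_
      show (tr ((c' ≫ i) * (c ≫ i)⁻¹)).left (ptOf q) ∈ CohB1.genLocus L s
      have e : q * ((c' ≫ i) * (c ≫ i)⁻¹) = (c' ≫ i) * ((c ≫ i)⁻¹ * q) := by
        ac_rfl
      rw [ptOf_tr, e]
      refine hall _ c c' ?_
      rw [mul_inv_cancel_left]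
      exact hq1
    rintro _ ⟨c, rfl⟩ x
    constructor
    · intro h
      by_contra hx
      exact (hD _).mp (hle c₀ c x ((hD x).mpr hx)) h
    · intro h
      by_contra hx
      refine (hD x).mp ?_ h
      have := hle c c₀ _ ((hD _).mpr hx)
      rwa [← Scheme.Hom.comp_apply, ← Over.comp_left, tr_mul,
        show (c ≫ i) * (c₀ ≫ i)⁻¹ * ((c₀ ≫ i) * (c ≫ i)⁻¹) = 1 by group,
        show tr (1 : 𝟙_ (Over S) ⟶ A) = 𝟙 A by simp [tr]] at this
  refine (Groth.Agent.Lib.Ample.Pow.isAmple_tensorPow_iff hL two_pos).mpr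
    (Groth.Agent.Lib.Ample.Pow.isAmple_of_iso
      (Groth.Agent.Lib.TensorMod.Basic.tensorIso
        (Groth.Agent.Lib.TensorMod.Basic.leftUnit L).symm (Iso.refl L)) h2)

end

end Groth.Agent.H52.StabAmple
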