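import Groth.Agent.H56.RelPC.FlatBC
import Groth.Agent.Lib.DR.FlatAcyclic
import Groth.Agent.Lib.DR.TopCohomology

/-!
Base change of pseudo-coherence along a Tor-independent square: everything flat over the base.
-/

set_option autoImplicit false
set_option linter.style.haveILetI false

universe u

open CategoryTheory CategoryTheory.Limits
open Groth.Agent.Lib.DR
open Groth.Agent.Lib.DR.Basic Groth.Agent.Lib.DR.FiniteComplex Groth.Agent.Lib.DR.PseudoCoherent
open scoped TensorProduct

attribute [local instance] HasDerivedCategory.standard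

namespace Groth.Agent.H52.TorIndepPC

section Module

variable {A : Type u} [CommRing A]

/-- A pseudo-coherent module in degree at most zero is finite. -/
theorem finite_of_pcn {M : Type u} [AddCommGroup M] [Module A M] {m : ℤ} (hm : m ≤ 0)
    (h : PCn (ff A) m (Dual.inD A M)) : Module.Finite A M := by
  haveI : (Dual.inD A M).IsLE 0 := inferInstanceAs
    (((DerivedCategory.singleFunctor (ModuleCat.{u} A) 0).obj (ModuleCat.of A M)).IsLE 0)
  haveI := (TopCohomology.finite_top ((TopCohomology.pcn_ff_iff_fproj m _).1 h) hm inferInstance).1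
  exact Module.Finite.equiv (homologySingle (ModuleCat.of A M) 0).toLinearEquiv

/-- The short complex of a linear surjection and its kernel. -/
noncomputable def kerSeq {F M : Type u} [AddCommGroup F] [Module A F] [AddCommGroup M] [Module A M]
    {K : Type u} [AddCommGroup K] [Module A K] (i : K →ₗ[A] F) (p : F →ₗ[A] M)
    (h : Function.Exact i p) : ShortComplex (ModuleCat.{u} A) :=
  ShortComplex.moduleCatMk i p h.linearMap_comp_eq_zero

theorem kerSeq_shortExact {F M : Type u} [AddCommGroup F] [Module A F] [AddCommGroup M] [Module A M]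
    {K : Type u} [AddCommGroup K] [Module A K] {i : K →ₗ[A] F} {p : F →ₗ[A] M}
    (h : Function.Exact i p) (hi : Function.Injective i) (hp : Function.Surjective p) :
    (kerSeq i p h).ShortExact :=
  { exact := by
      rw [ShortComplex.moduleCat_exact_iff_range_eq_ker]
      exact (LinearMap.exact_iff.1 h).symm
    mono_f := (ModuleCat.mono_iff_injective _).2 hi
    epi_g := (ModuleCat.epi_iff_surjective _).2 hp }

end Module

variable {R₀ R₀' P P' : Type u} [CommRing R₀] [CommRing R₀'] [CommRing P] [CommRing P']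
  [Algebra R₀ R₀'] [Algebra R₀ P] [Algebra R₀ P'] [Algebra R₀' P'] [Algebra P P']
  [IsScalarTower R₀ P P'] [IsScalarTower R₀ R₀' P'] [hpo : Algebra.IsPushout R₀ R₀' P P']

include hpo in
theorem baseChange_injective {K F : Type u} [AddCommGroup K] [Module P K] [Module R₀ K]
    [IsScalarTower R₀ P K] [AddCommGroup F] [Module P F] [Module R₀ F] [IsScalarTower R₀ P F]
    {M : Type u} [AddCommGroup M] [Module P M] [Module R₀ M] [IsScalarTower R₀ P M]
    [Module.Flat R₀ M] (i : K →ₗ[P] F) (hi : Function.Injective i) (p : F →ₗ[P] M)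
    (hp : Function.Surjective p) (h : Function.Exact i p) :
    Function.Injective (i.baseChange P') := by
  let eK := Algebra.IsPushout.cancelBaseChange R₀ R₀' P P' K
  let eF := Algebra.IsPushout.cancelBaseChange R₀ R₀' P P' F
  have hcomm : ∀ x, i.baseChange P' (eK.symm x) = eF.symm ((i.restrictScalars R₀).lTensor R₀' x) := by
    intro x
    induction x using TensorProduct.induction_on with
    | zero => simp
    | tmul s m => simp [eK, eF, LinearMap.baseChange_tmul]
    | add x y hx hy => simp only [map_add, hx, hy]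
  have hinj : Function.Injective ((i.restrictScalars R₀).lTensor R₀') :=
    LinearMap.lTensor_injective_of_exact_of_flat (p.restrictScalars R₀) hp _ hi h R₀'
  intro x y hxy
  obtain ⟨x, rfl⟩ := eK.symm.surjective x
  obtain ⟨y, rfl⟩ := eK.symm.surjective y
  rw [hcomm, hcomm] at hxy
  rw [hinj (eF.symm.injective hxy)]

include hpo in
theorem pcn_baseChange [Module.Flat R₀ P] : ∀ (k : ℕ) (M : Type u) [AddCommGroup M] [Module P M]
    [Module R₀ M] [IsScalarTower R₀ P M] [Module.Flat R₀ M],
    PCn (ff P) (-k : ℤ) (Dual.inD P M) → PCn (ff P') (-k : ℤ) (Dual.inD P' (P' ⊗[P] M)) := by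
  intro k
  induction k with
  | zero =>
    intro M _ _ _ _ _ h
    haveI := finite_of_pcn (by simp) h
    simpa using pcn_single_of_finite (ModuleCat.of P' (P' ⊗[P] M)) 0
  | succ k ih =>
    intro M _ _ _ _ _ h
    haveI := finite_of_pcn (by lia) h
    obtain ⟨n, p, hp⟩ := Module.Finite.exists_fin' P M
    let i : LinearMap.ker p →ₗ[P] (Fin n → P) := (LinearMap.ker p).subtype
    have hex : Function.Exact i p := LinearMap.exact_subtype_ker_map p
    have hS := kerSeq_shortExact hex Subtype.val_injective hp
    have hFF : ff P (ModuleCat.of P (Fin n → P)) :=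
      ⟨inferInstanceAs (Module.Finite P (Fin n → P)), inferInstanceAs (Module.Free P (Fin n → P))⟩
    haveI : Module.Flat R₀ (Fin n → P) := Module.Flat.trans R₀ P (Fin n → P)
    haveI : Module.Flat R₀ (LinearMap.ker p) :=
      FlatAcyclic.flat_ker (p.restrictScalars R₀) hp
    have hK : PCn (ff P) (-k : ℤ) (Dual.inD P (LinearMap.ker p)) :=
      PCn.fiber good_ff projective_of_ff _ hS.singleTriangle_distinguished
        ((bdd_single good_ff hFF 0).pcn _) (h.mono (le_of_eq (by push_cast; ring)))
    have hS' := kerSeq_shortExact (i := i.baseChange P') (p := p.baseChange P')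
      (lTensor_exact P' hex hp) (baseChange_injective (R₀ := R₀) (R₀' := R₀') i Subtype.val_injective p hp hex)
      (LinearMap.lTensor_surjective P' hp)
    have hFF' : ff P' (ModuleCat.of P' (P' ⊗[P] (Fin n → P))) :=
      ⟨inferInstanceAs (Module.Finite P' (P' ⊗[P] (Fin n → P))),
        inferInstanceAs (Module.Free P' (P' ⊗[P] (Fin n → P)))⟩
    exact PCn.cone good_ff projective_of_ff _ hS'.singleTriangle_distinguished
      ((ih (LinearMap.ker p) hK).mono (le_of_eq (by push_cast; ring)))
      ((bdd_single good_ff hFF' 0).pcn _)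

include hpo in
theorem pcn_baseChange' [Module.Flat R₀ P] (m : ℤ) (M : Type u) [AddCommGroup M] [Module P M]
    [Module R₀ M] [IsScalarTower R₀ P M] [Module.Flat R₀ M]
    (h : PCn (ff P) m (Dual.inD P M)) : PCn (ff P') m (Dual.inD P' (P' ⊗[P] M)) := by
  by_cases hm : m ≤ 0
  · obtain ⟨k, hk⟩ : ∃ k : ℕ, m = -(k : ℤ) := ⟨(-m).toNat, by lia⟩
    subst hk
    exact pcn_baseChange (R₀ := R₀) (R₀' := R₀') k M h
  · haveI : (Dual.inD P' (P' ⊗[P] M)).IsLE 0 := inferInstanceAs
      (((DerivedCategory.singleFunctor (ModuleCat.{u} P') 0).obj (ModuleCat.of P' (P' ⊗[P] M))).IsLE 0)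
    exact pcn_of_isLE good_ff
      ((DerivedCategory.TStructure.t (C := ModuleCat.{u} P')).isLE_of_le _ 0 (m - 1) (by lia))

section Presentation

attribute [local instance] MvPolynomial.algebraMvPolynomial

open Groth.Agent.H54.PCRestrict

/-- Base change of a presentation along a Tor-independent square of rings. -/
theorem pcn_tor_baseChange {R₀ R₀' R R' A A' : Type u} [CommRing R₀] [CommRing R₀'] [CommRing R]
    [CommRing R'] [CommRing A] [CommRing A'] [Algebra R₀ R₀'] [Algebra R₀ R] [Algebra R₀ R']
    [Algebra R₀' R'] [Algebra R R'] [IsScalarTower R₀ R R'] [IsScalarTower R₀ R₀' R']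
    [h₀ : Algebra.IsPushout R₀ R₀' R R'] [Algebra R₀ A] [Algebra R A] [IsScalarTower R₀ R A]
    [Algebra R A'] [Algebra R' A'] [Algebra A A'] [IsScalarTower R R' A'] [IsScalarTower R A A']
    [hP : Algebra.IsPushout R R' A A'] [Module.Flat R₀ R] [Module.Flat R₀ A] {n : ℕ}
    (α : MvPolynomial (Fin n) R →ₐ[R] A) (hα : Function.Surjective α) {m : ℤ}
    (h : PCn (ff (MvPolynomial (Fin n) R)) m ((sgl _ 0).obj ((res α.toRingHom).obj (ModuleCat.of A A)))) :
    ∃ β : MvPolynomial (Fin n) R' →ₐ[R'] A', Function.Surjective β ∧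
      PCn (ff (MvPolynomial (Fin n) R')) m
        ((sgl _ 0).obj ((res β.toRingHom).obj (ModuleCat.of A' A'))) := by
  let β : MvPolynomial (Fin n) R' →ₐ[R'] A' :=
    MvPolynomial.aeval fun i => algebraMap A A' (α (MvPolynomial.X i))
  letI : Algebra (MvPolynomial (Fin n) R) A := α.toRingHom.toAlgebra
  letI : Algebra (MvPolynomial (Fin n) R') A' := β.toRingHom.toAlgebra
  letI : Algebra (MvPolynomial (Fin n) R) A' := ((algebraMap A A').comp α.toRingHom).toAlgebra
  haveI : IsScalarTower R (MvPolynomial (Fin n) R) A :=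
    .of_algebraMap_eq fun r => (α.commutes r).symm
  haveI : IsScalarTower (MvPolynomial (Fin n) R) A A' := .of_algebraMap_eq fun _ => rfl
  haveI : IsScalarTower R' (MvPolynomial (Fin n) R') A' :=
    .of_algebraMap_eq fun r => (β.commutes r).symm
  haveI : IsScalarTower R (MvPolynomial (Fin n) R') A' := .of_algebraMap_eq fun r => by
    rw [IsScalarTower.algebraMap_apply R R' (MvPolynomial (Fin n) R'),
      IsScalarTower.algebraMap_apply R R' A']
    exact (β.commutes _).symm
  haveI : IsScalarTower (MvPolynomial (Fin n) R) (MvPolynomial (Fin n) R') A' := by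
    refine .of_algebraMap_eq' (MvPolynomial.ringHom_ext (fun r => ?_) fun i => ?_)
    · show algebraMap A A' (α (MvPolynomial.C r)) = β (MvPolynomial.map _ (MvPolynomial.C r))
      rw [MvPolynomial.map_C, ← MvPolynomial.algebraMap_eq, ← MvPolynomial.algebraMap_eq,
        α.commutes, β.commutes, ← IsScalarTower.algebraMap_apply, ← IsScalarTower.algebraMap_apply]
    · show algebraMap A A' (α (MvPolynomial.X i)) = β (MvPolynomial.map _ (MvPolynomial.X i))
      rw [MvPolynomial.map_X]
      exact (MvPolynomial.aeval_X (R := R') (fun i => algebraMap A A' (α (MvPolynomial.X i))) i).symm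
  haveI hQ : Algebra.IsPushout R R' (MvPolynomial (Fin n) R) (MvPolynomial (Fin n) R') :=
    Algebra.IsPushout.symm inferInstance
  haveI : IsScalarTower R₀ R₀' (MvPolynomial (Fin n) R') := .of_algebraMap_eq fun r => by
    rw [IsScalarTower.algebraMap_apply R₀ R' (MvPolynomial (Fin n) R'),
      IsScalarTower.algebraMap_apply R₀ R₀' R', ← IsScalarTower.algebraMap_apply R₀' R']
  haveI : IsScalarTower R₀ (MvPolynomial (Fin n) R) (MvPolynomial (Fin n) R') := .of_algebraMap_eq fun r => by
    rw [IsScalarTower.algebraMap_apply R₀ R' (MvPolynomial (Fin n) R'),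
      IsScalarTower.algebraMap_apply R₀ R R', ← IsScalarTower.algebraMap_apply R R',
      IsScalarTower.algebraMap_apply R₀ R (MvPolynomial (Fin n) R), ← IsScalarTower.algebraMap_apply R (MvPolynomial (Fin n) R)]
  haveI : Algebra.IsPushout R₀ R₀' (MvPolynomial (Fin n) R) (MvPolynomial (Fin n) R') :=
    haveI : Algebra.IsPushout R₀ R R₀' R' := h₀.symm
    ((Algebra.IsPushout.comp_iff R₀ R R₀' R' (T := MvPolynomial (Fin n) R)
      (T' := MvPolynomial (Fin n) R')).2 hQ.symm).symm
  haveI : Module.Flat R₀ (MvPolynomial (Fin n) R) := Module.Flat.trans R₀ R _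
  haveI : IsScalarTower R₀ (MvPolynomial (Fin n) R) A := .of_algebraMap_eq fun r => by
    rw [IsScalarTower.algebraMap_apply R₀ R A, IsScalarTower.algebraMap_apply R₀ R (MvPolynomial (Fin n) R),
      ← IsScalarTower.algebraMap_apply R (MvPolynomial (Fin n) R) A]
  haveI : Algebra.IsPushout (MvPolynomial (Fin n) R) (MvPolynomial (Fin n) R') A A' :=
    (Algebra.IsPushout.comp_iff R (MvPolynomial (Fin n) R) R' (MvPolynomial (Fin n) R') (T := A) (T' := A')).1
      hP.symm |>.symm
  let e := Algebra.IsPushout.equiv (MvPolynomial (Fin n) R) (MvPolynomial (Fin n) R') A A'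
  refine ⟨β, fun y => ?_, ?_⟩
  · obtain ⟨p, hp⟩ := Algebra.TensorProduct.includeLeft_surjective (R := MvPolynomial (Fin n) R)
      (T := A) (MvPolynomial (Fin n) R') (MvPolynomial (Fin n) R') hα (e.symm y)
    exact ⟨p, ((e.commutes p).symm.trans (congrArg e hp)).trans (e.apply_symm_apply y)⟩
  · have h' : PCn (ff (MvPolynomial (Fin n) R)) m (Dual.inD (MvPolynomial (Fin n) R) A) :=
      h.of_iso ((sgl _ 0).mapIso (FlatBC.resEquiv (MvPolynomial (Fin n) R) A).toModuleIso)
    exact (pcn_baseChange' (R₀ := R₀) (R₀' := R₀') (P' := MvPolynomial (Fin n) R') m A h').of_iso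
        ((sgl _ 0).mapIso ((e.toLinearEquiv.trans
          (FlatBC.resEquiv (MvPolynomial (Fin n) R') A').symm).toModuleIso))

end Presentation

end Groth.Agent.H52.TorIndepPC
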