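import Groth.Agent.H52.TorIndepPC

/-!
Base change of pseudo-coherent morphisms of flat schemes over an arbitrary base.
-/

set_option autoImplicit false
set_option linter.style.haveILetI false

universe u

open CategoryTheory Limits AlgebraicGeometry
open Groth.Agent.Lib Groth.Agent.Lib.Perfect.Basic Groth.Agent.Lib.Perfect.PseudoCoh
open Groth.Agent.Lib.DR.Basic Groth.Agent.Lib.DR.FiniteComplex Groth.Agent.Lib.DR.PseudoCoherent
open Groth.Agent.H54.PCRestrict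
open scoped TensorProduct

attribute [local instance] HasDerivedCategory.standard

namespace Groth.Agent.H52.TorIndepPC

open Groth.Agent.H56.RelPC

/-- If `f₂` is a pseudo-coherent morphism of flat `S`-schemes, so is its base change along `T ⟶ S`. -/
theorem isNPseudoCoherent_baseChange {S T X₂ Y₂ X' Y' : Scheme.{u}} {q₁ : T ⟶ S} {f₂ : X₂ ⟶ Y₂}
    {q₂ : Y₂ ⟶ S} [Flat q₂] [Flat (f₂ ≫ q₂)] {pT : Y' ⟶ T} {pY : Y' ⟶ Y₂}
    (hY : IsPullback pT pY q₁ q₂) {f' : X' ⟶ Y'} {g' : X' ⟶ X₂} (hc : IsPullback g' f' f₂ pY)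
    [LocallyOfFiniteType f₂] {n : ℤ} (hf : DerSch.IsNPseudoCoherent f₂ n) :
    DerSch.IsNPseudoCoherent f' n := by
  haveI : LocallyOfFiniteType f' :=
    MorphismProperty.of_isPullback (P := @LocallyOfFiniteType) hc inferInstance
  refine isPseudoCoherentRel_of_hasTest fun U' V' hle => ?_
  have hft : (f'.appLE (V' : Y'.Opens) (U' : X'.Opens) hle).hom.FiniteType :=
    LocallyOfFiniteType.finiteType_appLE f' V'.2 U'.2 hle
  algebraize [(f'.appLE (V' : Y'.Opens) (U' : X'.Opens) hle).hom]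
  obtain ⟨k, φ, hφ⟩ := Algebra.FiniteType.iff_quotient_mvPolynomial''.1 ‹_›
  refine hasTest_of_locally U'.2 (φ := φ.toRingHom) hφ (RingHom.ext fun r => φ.commutes r)
    fun z hz => ?_
  obtain ⟨T₀, hT₀, hzT₀, -⟩ :=
    exists_isAffineOpen_mem_and_subset (X := S) (x := q₁ (pT (f' z))) (U := ⊤) trivial
  obtain ⟨T₁, hT₁, hzT₁, hT₁₀⟩ :=
    exists_isAffineOpen_mem_and_subset (X := T) (x := pT (f' z)) (U := q₁ ⁻¹ᵁ T₀) hzT₀
  have hzY : q₂ (pY (f' z)) ∈ T₀ := by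
    rw [← Scheme.Hom.comp_apply, ← hY.w, Scheme.Hom.comp_apply]
    exact hzT₀
  obtain ⟨W, hW, hzW, hW₀⟩ :=
    exists_isAffineOpen_mem_and_subset (X := Y₂) (x := pY (f' z)) (U := q₂ ⁻¹ᵁ T₀) hzY
  let P₀ := pT ⁻¹ᵁ T₁ ⊓ pY ⁻¹ᵁ W
  have hpP := Scheme.Hom.isPullback_resLE hY hW₀ hT₁₀ (rfl : P₀ = _)
  have hP₀ : IsAffineOpen P₀ := by
    haveI : IsAffine T₀.toScheme := hT₀
    haveI : IsAffine T₁.toScheme := hT₁
    haveI : IsAffine W.toScheme := hW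
    exact .of_isIso hpP.isoPullback.hom
  obtain ⟨r, hrP, hzr⟩ := V'.2.exists_basicOpen_le (V := P₀) ⟨f' z, ⟨hzT₁, hzW⟩⟩ (hle hz)
  have hr : Y'.basicOpen r ≤ pY ⁻¹ᵁ W := fun x hx => (hrP hx).2
  have hxW : f₂ (g' z) ∈ W := by
    rw [← Scheme.Hom.comp_apply, hc.w, Scheme.Hom.comp_apply]
    exact hzW
  obtain ⟨U, hU, hzU, hUW⟩ :=
    exists_isAffineOpen_mem_and_subset (X := X₂) (x := g' z) (U := f₂ ⁻¹ᵁ W) hxW
  let UY := g' ⁻¹ᵁ U ⊓ f' ⁻¹ᵁ Y'.basicOpen r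
  have hp := Scheme.Hom.isPullback_resLE hc hr hUW (rfl : UY = _)
  have hUY : IsAffineOpen UY := by
    haveI : IsAffine W.toScheme := hW
    haveI : IsAffine (Y'.basicOpen r).toScheme := V'.2.basicOpen r
    haveI : IsAffine U.toScheme := hU
    exact .of_isIso hp.isoPullback.hom
  have hT : HasTest f' UY (Y'.basicOpen r) inf_le_right n (DCoh.toD X' (DerSch.unitCx X')) := by
    obtain ⟨l, α₀, hαC, hα⟩ := pcBaseAt_of_isNPseudoCoherent hf U W hU hW hUW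
    have hpush := (isIso_pushoutSection_iff hc hr hUW (rfl : UY = _)).mp
      (isIso_pushoutSection_of_isAffineOpen hc hr hUW rfl hW (V'.2.basicOpen r) hU)
    have hpush₀ := (isIso_pushoutSection_iff hY hW₀ hT₁₀ (rfl : P₀ = _)).mp
      (isIso_pushoutSection_of_isAffineOpen hY hW₀ hT₁₀ rfl hT₀ hW hT₁)
    have hflatW := q₂.flat_appLE hT₀ hW hW₀
    have hflatU := (f₂ ≫ q₂).flat_appLE hT₀ hU (fun x hx => hW₀ (hUW hx))
    have hflatr := (𝟙 Y' : Y' ⟶ Y').flat_appLE hP₀ (V'.2.basicOpen r) hrP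
    let t₁ := (q₁.appLE T₀ T₁ hT₁₀).hom
    let t₂ := (q₂.appLE T₀ W hW₀).hom
    let s₁ := (pT.appLE T₁ P₀ inf_le_left).hom
    let s₂ := (pY.appLE W P₀ inf_le_right).hom
    let j := ((𝟙 Y' : Y' ⟶ Y').appLE P₀ (Y'.basicOpen r) hrP).hom
    let a := (f₂.appLE W U hUW).hom
    let b := (pY.appLE W (Y'.basicOpen r) hr).hom
    let c := (g'.appLE U UY inf_le_left).hom
    let d := (f'.appLE (Y'.basicOpen r) UY inf_le_right).hom
    letI := t₁.toAlgebra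
    letI := t₂.toAlgebra
    letI := s₁.toAlgebra
    letI := s₂.toAlgebra
    letI := (s₂.comp t₂).toAlgebra
    letI := j.toAlgebra
    letI := a.toAlgebra
    letI := (a.comp t₂).toAlgebra
    letI := b.toAlgebra
    letI := c.toAlgebra
    letI := d.toAlgebra
    letI := (c.comp a).toAlgebra
    haveI : IsScalarTower Γ(S, T₀) Γ(Y₂, W) Γ(Y', P₀) := .of_algebraMap_eq' rfl
    haveI : IsScalarTower Γ(S, T₀) Γ(T, T₁) Γ(Y', P₀) :=
      .of_algebraMap_eq' (congrArg CommRingCat.Hom.hom hpush₀.w).symm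
    haveI : Algebra.IsPushout Γ(S, T₀) Γ(T, T₁) Γ(Y₂, W) Γ(Y', P₀) :=
      CommRingCat.isPushout_iff_isPushout.mp hpush₀
    haveI : IsScalarTower Γ(S, T₀) Γ(Y₂, W) Γ(X₂, U) := .of_algebraMap_eq' rfl
    haveI : Module.Flat Γ(S, T₀) Γ(Y₂, W) := hflatW
    haveI : Module.Flat Γ(S, T₀) Γ(X₂, U) := by
      have e : ((f₂ ≫ q₂).appLE T₀ U (fun x hx => hW₀ (hUW hx))).hom = a.comp t₂ := by
        rw [← Scheme.Hom.appLE_comp_appLE f₂ q₂ T₀ W U hW₀ hUW]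
        rfl
      exact (e ▸ hflatU :)
    haveI : IsScalarTower Γ(Y₂, W) Γ(X₂, U) Γ(X', UY) := .of_algebraMap_eq' rfl
    haveI : IsScalarTower Γ(Y₂, W) Γ(Y', Y'.basicOpen r) Γ(X', UY) :=
      .of_algebraMap_eq' (congrArg CommRingCat.Hom.hom hpush.w)
    haveI : IsScalarTower Γ(Y₂, W) Γ(Y', P₀) Γ(Y', Y'.basicOpen r) := .of_algebraMap_eq' (by
      show b = j.comp s₂
      rw [← CommRingCat.hom_comp, Scheme.Hom.appLE_comp_appLE]
      simp [b])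
    haveI : Module.Flat Γ(Y', P₀) Γ(Y', Y'.basicOpen r) := hflatr
    haveI hVr : Algebra.IsPushout Γ(Y₂, W) Γ(Y', Y'.basicOpen r) Γ(X₂, U) Γ(X', UY) :=
      CommRingCat.isPushout_iff_isPushout.mp hpush.flip
    letI : Algebra (Γ(Y', P₀) ⊗[Γ(Y₂, W)] Γ(X₂, U)) Γ(X', UY) :=
      (Algebra.TensorProduct.lift
        ((IsScalarTower.toAlgHom Γ(Y₂, W) Γ(Y', Y'.basicOpen r) Γ(X', UY)).comp
          (IsScalarTower.toAlgHom Γ(Y₂, W) Γ(Y', P₀) Γ(Y', Y'.basicOpen r)))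
        (IsScalarTower.toAlgHom Γ(Y₂, W) Γ(X₂, U) Γ(X', UY))
        fun _ _ => Commute.all _ _).toRingHom.toAlgebra
    letI : Algebra Γ(Y', P₀) Γ(X', UY) := (d.comp j).toAlgebra
    haveI : IsScalarTower Γ(Y', P₀) Γ(Y', Y'.basicOpen r) Γ(X', UY) := .of_algebraMap_eq' rfl
    haveI : IsScalarTower Γ(Y₂, W) Γ(Y', P₀) Γ(X', UY) := .of_algebraMap_eq fun x => by
      rw [IsScalarTower.algebraMap_apply Γ(Y₂, W) Γ(Y', Y'.basicOpen r) Γ(X', UY),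
        IsScalarTower.algebraMap_apply Γ(Y₂, W) Γ(Y', P₀) Γ(Y', Y'.basicOpen r)]
      rfl
    haveI : IsScalarTower Γ(Y', P₀) (Γ(Y', P₀) ⊗[Γ(Y₂, W)] Γ(X₂, U)) Γ(X', UY) :=
      .of_algebraMap_eq fun x => by
        show _ = Algebra.TensorProduct.lift _ _ _ (x ⊗ₜ 1)
        rw [Algebra.TensorProduct.lift_tmul, map_one, mul_one]
        rfl
    letI : Algebra Γ(X₂, U) (Γ(Y', P₀) ⊗[Γ(Y₂, W)] Γ(X₂, U)) := Algebra.TensorProduct.rightAlgebra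
    haveI : IsScalarTower Γ(X₂, U) (Γ(Y', P₀) ⊗[Γ(Y₂, W)] Γ(X₂, U)) Γ(X', UY) :=
      .of_algebraMap_eq fun x => by
        show _ = Algebra.TensorProduct.lift _ _ _ (1 ⊗ₜ x)
        rw [Algebra.TensorProduct.lift_tmul, map_one, one_mul]
        rfl
    haveI : Algebra.IsPushout Γ(Y', P₀) Γ(Y', Y'.basicOpen r) (Γ(Y', P₀) ⊗[Γ(Y₂, W)] Γ(X₂, U))
        Γ(X', UY) :=
      ((Algebra.IsPushout.comp_iff Γ(Y₂, W) Γ(Y', P₀) Γ(X₂, U)
        (Γ(Y', P₀) ⊗[Γ(Y₂, W)] Γ(X₂, U)) (T := Γ(Y', Y'.basicOpen r)) (T' := Γ(X', UY))).1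
        hVr).symm.symm
    let α : MvPolynomial (Fin l) Γ(Y₂, W) →ₐ[Γ(Y₂, W)] Γ(X₂, U) :=
      { α₀ with commutes' := fun r => RingHom.congr_fun hαC r }
    obtain ⟨β₁, hβ₁, hβ₁'⟩ := pcn_tor_baseChange (R₀ := Γ(S, T₀)) (R₀' := Γ(T, T₁)) (R' := Γ(Y', P₀))
      (A' := Γ(Y', P₀) ⊗[Γ(Y₂, W)] Γ(X₂, U)) α hα.surjective
      ((pcStrAt_spec_iff _ hα.surjective n).1 hα.pcStr)
    obtain ⟨β, hβ, hβ'⟩ := pcn_flat_baseChange (R' := Γ(Y', Y'.basicOpen r)) (A' := Γ(X', UY)) β₁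
      hβ₁ hβ₁'
    exact ⟨Fin l, inferInstance, β.toRingHom, hβ, RingHom.ext fun r => β.commutes r,
      (ringTest_unit_iff hUY hβ n).2 hβ'⟩
  obtain ⟨a₁, a₂, haa, hza⟩ :=
    exists_basicOpen_le_affine_inter U'.2 hUY z ⟨hz, ⟨hzU, hzr⟩⟩
  refine ⟨a₁, hza, ?_⟩
  exact (hasTest_congr haa.symm (h' := fun x hx => ((haa ▸ X'.basicOpen_le a₂ :
    X'.basicOpen a₁ ≤ UY) hx).2) (hT.basicOpen hUY a₂)).of_base V'.2 (U'.2.basicOpen a₁) r _

end Groth.Agent.H52.TorIndepPC
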