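import Groth.Agent.H87.SplitMax
import Groth.Agent.H87.Factor
import Groth.Agent.H82.Weyl.FieldHom
import Groth.Prelude.Def_AlgGrp
import Mathlib.Algebra.Module.Projective

/-!
# Short exact sequences of split tori split
-/

set_option autoImplicit false
universe u

open CategoryTheory MonoidalCategory CartesianMonoidalCategory MonObj GrpObj AlgebraicGeometry
open CategoryTheory.Limits
open Groth.Agent.Lib.RedPts Groth.Agent.Lib.Tori Groth.Agent.H87

namespace Groth.Agent.H52.ToriSplit

theorem exists_section {A : CommRingCat.{u}} [IsDomain A] {a b c : ℕ} {K G Q : Over (Spec A)} [GrpObj K] [GrpObj G]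
    [GrpObj Q] (eK : Grp.mk K ≅ Grp.mk (Red.DS (Spec A) (Fin a → ℤ)))
    (eG : Grp.mk G ≅ Grp.mk (Red.DS (Spec A) (Fin b → ℤ)))
    (eQ : Grp.mk Q ≅ Grp.mk (Red.DS (Spec A) (Fin c → ℤ)))
    (i : K ⟶ G) [IsMonHom i] [Mono i] (π : G ⟶ Q) [IsMonHom π] [Epi π] (hker : IsPullback i (toUnit K) π η[Q]) :
    ∃ s : Q ⟶ G, IsMonHom s ∧ s ≫ π = 𝟙 Q := by
  let εK := BaseChange.overIso eK
  let εG := BaseChange.overIso eG
  let εQ := BaseChange.overIso eQ
  have : IsMonHom εK.inv := inferInstanceAs (IsMonHom (BaseChange.overIso eK.symm).hom)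
  have : IsMonHom εG.inv := inferInstanceAs (IsMonHom (BaseChange.overIso eG.symm).hom)
  have : IsMonHom εQ.inv := inferInstanceAs (IsMonHom (BaseChange.overIso eQ.symm).hom)
  have : IsMonHom εK.hom := BaseChange.isMonHom_overIso eK
  have : IsMonHom εG.hom := BaseChange.isMonHom_overIso eG
  have : IsMonHom εQ.hom := BaseChange.isMonHom_overIso eQ
  obtain ⟨φ, hφ⟩ := H82.Weyl.exists_DSmap (εK.inv ≫ i ≫ εG.hom)
  obtain ⟨ψ, hψ⟩ := H82.Weyl.exists_DSmap (εG.inv ≫ π ≫ εQ.hom)
  have hφm : Mono (Red.DSmap (Spec A) φ) := by rw [← hφ]; infer_instance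
  have hψe : Epi (Red.DSmap (Spec A) ψ) := by rw [← hψ]; infer_instance
  have hs := Loci.surjective_of_mono hφm
  have hinj := Loci.injective_of_epi hψe
  have h0 : φ.comp ψ = 0 := by
    apply Factor.eq_of_DSmap_eq (A := A)
    rw [← Factor.DSmap_comp, Factor.DSmap_zero, ← hφ, ← hψ]
    have h1 : i ≫ π = (1 : K ⟶ Q) := hker.w.trans Hom.one_def.symm
    simp only [Category.assoc, Iso.hom_inv_id_assoc, reassoc_of% h1, MonObj.one_comp, MonObj.comp_one]
  have hker' : φ.ker = ψ.range := by
    refine le_antisymm ?_ ?_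
    · let q : (Fin b → ℤ) →+ (Fin b → ℤ) ⧸ ψ.range := QuotientAddGroup.mk' ψ.range
      let j : Red.DS (Spec A) ((Fin b → ℤ) ⧸ ψ.range) ⟶ G := Red.DSmap (Spec A) q ≫ εG.inv
      have hj : IsMonHom j := inferInstance
      have hjπ : j ≫ π = toUnit _ ≫ η[Q] := by
        rw [← Hom.one_def, ← cancel_mono εQ.hom, Category.assoc]
        simp only [j, Category.assoc]
        rw [hψ, Factor.DSmap_comp, show q.comp ψ = 0 from AddMonoidHom.ext fun x =>
          (QuotientAddGroup.eq_zero_iff _).mpr ⟨x, rfl⟩, Factor.DSmap_zero]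
        exact (MonObj.one_comp εQ.hom).symm
      let l := hker.lift j (toUnit _) hjπ
      have hl : l ≫ i = j := hker.lift_fst _ _ _
      have hlk : IsMonHom (l ≫ εK.hom) := by
        have : IsMonHom l := by
          constructor
          · rw [← cancel_mono i, Category.assoc, hl, IsMonHom.one_hom, IsMonHom.one_hom]
          · rw [← cancel_mono i, Category.assoc, hl, IsMonHom.mul_hom, Category.assoc,
              IsMonHom.mul_hom, ← Category.assoc, tensorHom_comp_tensorHom, hl]
        infer_instance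
      obtain ⟨χ, hχ⟩ := H82.Weyl.exists_DSmap (l ≫ εK.hom)
      have hq : χ.comp φ = q := by
        apply Factor.eq_of_DSmap_eq (A := A)
        rw [← Factor.DSmap_comp, ← hχ, ← hφ]
        simp only [Category.assoc, Iso.hom_inv_id_assoc, reassoc_of% hl, j, Iso.inv_hom_id,
          Category.comp_id]
      intro x hx
      refine (QuotientAddGroup.eq_zero_iff x).mp ?_
      show q x = 0
      rw [← hq, AddMonoidHom.comp_apply, (AddMonoidHom.mem_ker.mp hx), map_zero]
    · rintro _ ⟨x, rfl⟩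
      exact DFunLike.congr_fun h0 x
  obtain ⟨σ, hσ⟩ := Module.projective_lifting_property φ.toIntLinearMap LinearMap.id hs
  have hσ' : ∀ y, φ (σ y) = y := fun y => LinearMap.congr_fun hσ y
  have hmem : ∀ x, x - σ (φ x) ∈ ψ.range := fun x => by
    rw [← hker', AddMonoidHom.mem_ker, map_sub, hσ', sub_self]
  choose r hr using hmem
  let r' : (Fin b → ℤ) →+ (Fin c → ℤ) := AddMonoidHom.mk' r fun x y => hinj (by
    simp only [map_add, hr]
    abel)
  have hrψ : r'.comp ψ = AddMonoidHom.id _ := AddMonoidHom.ext fun x => hinj (by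
    show ψ (r (ψ x)) = ψ x
    rw [hr, show φ (ψ x) = 0 from DFunLike.congr_fun h0 x, map_zero, sub_zero])
  refine ⟨εQ.hom ≫ Red.DSmap (Spec A) r' ≫ εG.inv, inferInstance, ?_⟩
  rw [← cancel_mono εQ.hom]
  simp only [Category.assoc, hψ, Category.id_comp, Factor.DSmap_comp, hrψ, SplitMax.DSmap_id, Category.comp_id]

end Groth.Agent.H52.ToriSplit
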