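import Groth.Agent.Lib.GrpQ.Rosenlicht
import Groth.Agent.Lib.RedPts.Gm
import Groth.Agent.H60.MuTorus.Torus
import Groth.Agent.Lib.GrpSch.BaseChange
import Groth.Agent.Lib.GrpQ.Desc

/-!
# Maps from a product of varieties to a torus which are trivial on the axes are trivial
-/

set_option autoImplicit false
set_option linter.style.haveILetI false
universe u
open CategoryTheory MonoidalCategory CartesianMonoidalCategory MonObj GrpObj AlgebraicGeometry
open Groth.Agent.Lib.RedPts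

namespace Groth.Agent.H52.TorusRigid

noncomputable section

variable {K : Type u} [Field K]

attribute [local instance] Points.baseAlgebra in
/-- A torus over an algebraically closed field is split. -/
theorem exists_split [IsAlgClosed K] (T : Over (Spec (CommRingCat.of K))) [GrpObj T]
    (hT : Red.IsTorus T) : ∃ r : ℕ, Red.IsSplitTorusWith (Fin r → ℤ) T := by
  haveI := Groth.Agent.Lib.Tori.Basic.smooth_of_isTorus hT
  haveI := Groth.Agent.Lib.Tori.Basic.isAffineHom_of_isTorus hT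
  haveI : IsAffine T.left := isAffine_of_isAffineHom T.hom
  obtain ⟨A, _, _, e, he⟩ := Groth.Agent.H1.Hopf.exists_iso T
  haveI := he
  haveI : Algebra.FiniteType K A := Groth.Agent.H1.Classical.Scheme'.finiteType_of_iso e
  have hT' := Groth.Agent.Lib.Tori.Basic.isTorus_congr (Groth.Agent.Lib.Tori.BaseChange.grpIso e).symm hT
  obtain ⟨r, hr⟩ := Groth.Agent.H1.Classical.TorusSplit.isSplit_of_isTorus hT'
  exact ⟨r, Groth.Agent.Lib.Tori.Basic.isSplit_congr (Groth.Agent.Lib.Tori.BaseChange.grpIso e) hr⟩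

/-- Over an algebraically closed field. -/
theorem eq_one_of_axes_algClosed [IsAlgClosed K] (X Y T : Over (Spec (CommRingCat.of K)))
    [LocallyOfFiniteType X.hom] [IsSeparated X.hom] [IsIntegral X.left]
    [LocallyOfFiniteType Y.hom] [IsSeparated Y.hom] [IsIntegral Y.left]
    [GrpObj T] (hT : Red.IsTorus T)
    (x : 𝟙_ (Over (Spec (CommRingCat.of K))) ⟶ X) (y : 𝟙_ (Over (Spec (CommRingCat.of K))) ⟶ Y)
    (φ : X ⊗ Y ⟶ T) (h1 : lift (𝟙 X) (toUnit X ≫ y) ≫ φ = 1)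
    (h2 : lift (toUnit Y ≫ x) (𝟙 Y) ≫ φ = 1) : φ = 1 := by
  obtain ⟨r, ⟨e⟩⟩ := exists_split T hT
  let ε : T ⟶ Red.DS _ (Fin r → ℤ) := (Groth.Agent.Lib.Tori.BaseChange.overIso e).hom
  haveI : IsMonHom ε := inferInstanceAs (IsMonHom (Groth.Agent.Lib.Tori.BaseChange.overIso e).hom)
  rw [← cancel_mono ε, MonObj.one_comp]
  refine Gm.dsFn_ext fun m => ?_
  rw [Gm.dsFn_one]
  have a1 : ∀ {Z : Over (Spec (CommRingCat.of K))} (t : Z ⟶ X ⊗ Y), t ≫ φ = 1 →
      t.left.appTop (Gm.dsFn (φ ≫ ε) m) = 1 := fun t ht => by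
    rw [← Gm.dsFn_comp, ← Category.assoc, ht, MonObj.one_comp, Gm.dsFn_one]
  have h := Groth.Agent.Lib.GrpQ.Rosenlicht.units_prod x y _ (Gm.isUnit_dsFn (φ ≫ ε) m)
  have hxy : lift x y ≫ φ = 1 := by
    rw [show lift x y = x ≫ lift (𝟙 X) (toUnit X ≫ y) by
      rw [comp_lift, Category.comp_id, comp_toUnit_assoc, toUnit_unique (toUnit _) (𝟙 _), Category.id_comp],
      Category.assoc, h1, MonObj.comp_one]
  rw [a1 _ h1, a1 _ h2, map_one, map_one, _root_.one_mul, Groth.Agent.Lib.GrpQ.Rosenlicht.valAt] at h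
  simpa only [CommRingCat.hom_comp, RingHom.comp_apply, a1 _ hxy, map_one, _root_.mul_one] using h

/-- Over any field. -/
theorem eq_one_of_axes (X Y T : Over (Spec (CommRingCat.of K)))
    [LocallyOfFiniteType X.hom] [IsSeparated X.hom] [GeometricallyIntegral X.hom]
    [LocallyOfFiniteType Y.hom] [IsSeparated Y.hom] [GeometricallyIntegral Y.hom]
    [GrpObj T] (hT : Red.IsTorus T)
    (x : 𝟙_ (Over (Spec (CommRingCat.of K))) ⟶ X) (y : 𝟙_ (Over (Spec (CommRingCat.of K))) ⟶ Y)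
    (φ : X ⊗ Y ⟶ T) (h1 : lift (𝟙 X) (toUnit X ≫ y) ≫ φ = 1)
    (h2 : lift (toUnit Y ≫ x) (𝟙 Y) ≫ φ = 1) : φ = 1 := by
  let L := AlgebraicClosure K
  let b := Groth.Agent.Lib.GrpSch.extBase K L
  let F := Over.pullback b
  haveI : LocallyOfFiniteType (F.obj X).hom := Groth.Agent.Lib.GrpSch.bc_hom_of b X ‹_›
  haveI : IsSeparated (F.obj X).hom := Groth.Agent.Lib.GrpSch.bc_hom_of b X ‹_›
  haveI : GeometricallyIntegral (F.obj X).hom := Groth.Agent.Lib.GrpSch.bc_hom_of b X ‹_›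
  haveI : IsIntegral (F.obj X).left := GeometricallyIntegral.isIntegral_of_subsingleton (F.obj X).hom
  haveI : LocallyOfFiniteType (F.obj Y).hom := Groth.Agent.Lib.GrpSch.bc_hom_of b Y ‹_›
  haveI : IsSeparated (F.obj Y).hom := Groth.Agent.Lib.GrpSch.bc_hom_of b Y ‹_›
  haveI : GeometricallyIntegral (F.obj Y).hom := Groth.Agent.Lib.GrpSch.bc_hom_of b Y ‹_›
  haveI : IsIntegral (F.obj Y).left := GeometricallyIntegral.isIntegral_of_subsingleton (F.obj Y).hom
  letI : GrpObj (F.obj T) := Functor.grpObjObj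
  have hT' : Red.IsTorus (F.obj T) := Groth.Agent.Lib.Tori.Basic.isTorus_bc hT b
  have key := eq_one_of_axes_algClosed (F.obj X) (F.obj Y) (F.obj T) hT'
    (Functor.LaxMonoidal.ε F ≫ F.map x) (Functor.LaxMonoidal.ε F ≫ F.map y)
    (Functor.LaxMonoidal.μ F X Y ≫ F.map φ) ?_ ?_
  · have e : F.map φ = F.map 1 := by
      rw [← cancel_epi (Functor.LaxMonoidal.μ F X Y), key, Functor.map_one, MonObj.comp_one]
    apply Over.OverMorphism.ext
    obtain ⟨⟨q1, q2⟩, q3⟩ := Groth.Agent.Lib.GrpSch.bcProj_surjective_flat_qc K L (X ⊗ Y)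
    haveI := q1; haveI := q2; haveI := q3
    haveI := Flat.epi_of_flat_of_surjective (Groth.Agent.Lib.GrpSch.bcProj b (X ⊗ Y))
    rw [← cancel_epi (Groth.Agent.Lib.GrpSch.bcProj b (X ⊗ Y)),
      ← Groth.Agent.Lib.GrpSch.bc_map_proj b, ← Groth.Agent.Lib.GrpSch.bc_map_proj b, e]
  · rw [show lift (𝟙 (F.obj X)) (toUnit (F.obj X) ≫ Functor.LaxMonoidal.ε F ≫ F.map y) =
      lift (F.map (𝟙 X)) (F.map (toUnit X ≫ y)) by
        rw [F.map_id, F.map_comp, Functor.Monoidal.toUnit_ε_assoc],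
      Functor.Monoidal.lift_μ_assoc, ← F.map_comp, h1, Functor.map_one]
  · rw [show lift (toUnit (F.obj Y) ≫ Functor.LaxMonoidal.ε F ≫ F.map x) (𝟙 (F.obj Y)) =
      lift (F.map (toUnit Y ≫ x)) (F.map (𝟙 Y)) by
        rw [F.map_id, F.map_comp, Functor.Monoidal.toUnit_ε_assoc],
      Functor.Monoidal.lift_μ_assoc, ← F.map_comp, h2, Functor.map_one]

end

end Groth.Agent.H52.TorusRigid
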