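import Groth.Agent.Lib.PosLin.Asymp

/-!
# Bounds for the cohomology of `L^a ⊗ H^c ⊗ F`, and chains of hyperplane quotients
-/

set_option autoImplicit false
set_option linter.style.haveILetI false
universe u

open CategoryTheory CategoryTheory.Limits AlgebraicGeometry
open Groth.Agent.Lib Groth.Agent.Lib.Snapper Groth.Agent.Lib.PosLin.CohBound
open Groth.Agent.Lib.PosLin.SectionBound (isCoh_twist_right)
open Groth.Agent.Lib.TensorMod.Basic (comm assoc tensorIso leftUnit rightUnit)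
open Groth.Agent.Lib.TensorMod.Invertible (isInvertible_tensorPow isInvertible_tensorMod)

namespace Groth.Agent.H52.TwoTwistBound

noncomputable section

variable {k : Type u} [Field k] {X : Scheme.{u}} [X.Over (Spec (CommRingCat.of k))]
  [IsProper (X ↘ Spec (CommRingCat.of k))]

/-- `L^a ⊗ H^c`. -/
abbrev Tw (L H : X.Modules) (a c : ℕ) : X.Modules :=
  CohB1.tensorMod (CohB1.tensorPow L a) (CohB1.tensorPow H c)

theorem isInvertible_tw {L H : X.Modules} (hL : PicF.IsInvertible L) (hH : PicF.IsInvertible H) (a c : ℕ) :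
    PicF.IsInvertible (Tw L H a c) :=
  isInvertible_tensorMod (isInvertible_tensorPow hL a) (isInvertible_tensorPow hH c)

variable (k) in
/-- The support has dimension less than `r`. -/
def SmallId (F : X.Modules) (r : ℕ) : Prop :=
  ∀ x ∈ CohB1.support F, VarDim.Basic.pdim (X ↘ Spec (CommRingCat.of k)) x < r

/-- A finite set of points whose avoidance makes multiplication injective with a smaller cokernel. -/
theorem exists_key {F : X.Modules} (hF : Coh.IsCoh F) :
    ∃ Z : Set X, Z.Finite ∧ ∀ {P : X.Modules}, PicF.IsInvertible P → ∀ t : Coh.structureModule X ⟶ P,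
      Z ⊆ CohB1.genLocus P t → ∃ (Q : X.Modules) (φ : F ⟶ CohB1.tensorMod F P)
        (π : CohB1.tensorMod F P ⟶ Q) (w : φ ≫ π = 0), (ShortComplex.mk φ π w).ShortExact ∧ Coh.IsCoh Q ∧
          ∀ r, SmallId k F (r + 1) → SmallId k Q r := by
  haveI := Curves.GlobalSections.isNoetherian_of_proper k X
  have hT : IsClosed (CohB1.support F) := haveI := hF.2; Modules.Support.isClosed_support F
  refine ⟨{x | x ∈ CohB1.support F ∧ ∀ z ∈ CohB1.support F, z ⤳ x → z = x} ∪ {y | Curv2.IsAssPoint F y},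
    (Devissage.Dim.finite_maximal hT).union (UnifReg.Hyperplane.finite_assPoints hF), ?_⟩
  intro P hP t ht
  obtain ⟨Q, φ, π, w, hS, hQ, hsupp⟩ := exists_mulSeq hF hP t (fun y hy => ht (Or.inr hy))
  refine ⟨Q, φ, π, w, hS, hQ, fun r hsmall y hy => ?_⟩
  obtain ⟨h1, h2⟩ := hsupp y hy
  obtain ⟨z, hz, hzy, hmax⟩ := Ideal.Prime.exists_maximal_generization hT h2
  have hne : z ≠ y := fun e => h1 (ht (Or.inl (e ▸ ⟨hz, hmax⟩)))
  have hlt := VarDim.Basic.pdim_lt (X ↘ Spec (CommRingCat.of k)) hzy hne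
  have := hsmall z hz
  omega

/-- One step. -/
theorem step_le {F Qs Qu L C P : X.Modules} {e : ℕ} (hL : PicF.IsInvertible L)
    (hF : Coh.IsCoh F) (hC : PicF.IsInvertible C) (hP : PicF.IsInvertible P)
    (iC : CohB1.tensorMod (CohB1.tensorPow L e) C ≅ P)
    {φs : F ⟶ CohB1.tensorMod F C} {πs : CohB1.tensorMod F C ⟶ Qs} {ws : φs ≫ πs = 0}
    (hSs : (ShortComplex.mk φs πs ws).ShortExact) (hQs : Coh.IsCoh Qs)
    {φu : F ⟶ CohB1.tensorMod F P} {πu : CohB1.tensorMod F P ⟶ Qu} {wu : φu ≫ πu = 0}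
    (hSu : (ShortComplex.mk φu πu wu).ShortExact) (hQu : Coh.IsCoh Qu)
    {H : X.Modules} (hH : PicF.IsInvertible H) (i m c : ℕ) :
    hd k X (CohB1.tensorMod (Tw L H (m + e) c) F) i ≤
      hd k X (CohB1.tensorMod (Tw L H m c) F) i +
      (hd k X (CohB1.tensorMod (Tw L H (m + e) c) Qs) (i - 1) +
        hd k X (CohB1.tensorMod (Tw L H m c) Qu) i) := by
  haveI := Curves.GlobalSections.isNoetherian_of_proper k X
  have hMe := isInvertible_tw hL hH (m + e) c
  have hMm := isInvertible_tw hL hH m c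
  have hFC := isCoh_twist_right hF hC
  have hFA := isCoh_twist_right hF hP
  let Lm := CohB1.tensorPow L m
  let Le := CohB1.tensorPow L e
  let Hc := CohB1.tensorPow H c
  let eMM : CohB1.tensorMod (Tw L H (m + e) c) C ≅ CohB1.tensorMod (Tw L H m c) P :=
    tensorIso (tensorIso (Ample.Pow.powAdd L m e) (Iso.refl Hc)) (Iso.refl C) ≪≫
      tensorIso (assoc Lm Le Hc ≪≫ tensorIso (Iso.refl Lm) (comm Le Hc) ≪≫ (assoc Lm Hc Le).symm)
        (Iso.refl C) ≪≫
      assoc (CohB1.tensorMod Lm Hc) Le C ≪≫ tensorIso (Iso.refl _) iC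
  let eswap : CohB1.tensorMod (Tw L H (m + e) c) (CohB1.tensorMod F C) ≅
      CohB1.tensorMod (Tw L H m c) (CohB1.tensorMod F P) :=
    tensorIso (Iso.refl _) (comm _ _) ≪≫ (assoc _ _ _).symm ≪≫ tensorIso eMM (Iso.refl F) ≪≫
      assoc _ _ _ ≪≫ tensorIso (Iso.refl _) (comm _ _)
  have l1 := hd_left_le (k := k) (Twist.twistSeq_shortExact hMe hSs) (Twist.isCoh_twist hMe hF)
    (Twist.isCoh_twist hMe hFC) (Twist.isCoh_twist hMe hQs) i
  have l2 := hd_mid_le (k := k) (Twist.twistSeq_shortExact hMm hSu) (Twist.isCoh_twist hMm hF)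
    (Twist.isCoh_twist hMm hFA) (Twist.isCoh_twist hMm hQu) i
  exact l1.trans ((Nat.add_le_add_right ((hd_congr (k := k) eswap i).le.trans l2) _).trans
    (le_of_eq ((Nat.add_assoc _ _ _).trans (congrArg _ (Nat.add_comm _ _)))))

/-- Arithmetic recursion, in two variables. -/
theorem rec_bound₂ {P : ℕ → ℕ → ℕ} {e : ℕ} (he : 0 < e) {g s : ℕ}
    (h : ∀ a c, P (a + e) c ≤ P a c + g * (a + e + c + 1) ^ s) :
    ∀ a c, P a c ≤ (∑ j ∈ Finset.range e, P j c) + g * a * (a + c + 1) ^ s := by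
  intro a c
  induction a using Nat.strong_induction_on with
  | _ a ih =>
    by_cases ha : a < e
    · exact (Finset.single_le_sum (fun j _ => Nat.zero_le (P j c)) (Finset.mem_range.2 ha)).trans
        (Nat.le_add_right _ _)
    · obtain ⟨n, rfl⟩ : ∃ n, a = n + e := ⟨a - e, by omega⟩
      refine (h n c).trans ((Nat.add_le_add_right (ih n (by omega)) _).trans ?_)
      rw [add_assoc]
      refine Nat.add_le_add_left ?_ _
      calc g * n * (n + c + 1) ^ s + g * (n + e + c + 1) ^ s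
          ≤ g * n * (n + e + c + 1) ^ s + g * (n + e + c + 1) ^ s :=
            Nat.add_le_add_right (Nat.mul_le_mul_left _ (Nat.pow_le_pow_left (by omega) s)) _
        _ = g * (n + 1) * (n + e + c + 1) ^ s := by ring
        _ ≤ g * (n + e) * (n + e + c + 1) ^ s :=
            Nat.mul_le_mul_right _ (Nat.mul_le_mul_left _ (by omega))

/-- **The bound**: `dim H^i(L^a ⊗ H^c ⊗ F) = O((a + c + 1)^{r-1})` for a support of dimension `< r`. -/
theorem exists_bound₂ {A L H : X.Modules} (hA : CohB1.IsAmple A) (hL : PicF.IsInvertible L)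
    (hH : PicF.IsInvertible H) :
    ∀ (r : ℕ) (F : X.Modules), Coh.IsCoh F → SmallId k F r → ∀ i : ℕ,
      ∃ K : ℕ, (r = 0 → K = 0) ∧ ∀ a c : ℕ,
        hd k X (CohB1.tensorMod (Tw L H a c) F) i ≤ K * (a + c + 1) ^ (r - 1) := by
  haveI := Curves.GlobalSections.isNoetherian_of_proper k X
  intro r
  induction r with
  | zero =>
    intro F _ hsmall i
    refine ⟨0, fun _ => rfl, fun a c => ?_⟩
    have hz : IsZero (CohB1.tensorMod (Tw L H a c) F) := by
      rw [← Modules.Support.support_eq_empty_iff, Twist.support_twist (isInvertible_tw hL hH a c)]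
      exact Set.eq_empty_iff_forall_notMem.2 fun y hy => Nat.not_lt_zero _ (hsmall y hy)
    haveI : Subsingleton (Coh.HH X (CohB1.tensorMod (Tw L H a c) F) i) :=
      subsingleton_HH_isZero (k := k) hz i
    simp [hd, Module.finrank_zero_of_subsingleton]
  | succ r ih =>
    intro F hF hsmall i
    obtain ⟨Z, hZ, key⟩ := exists_key (k := k) hF
    obtain ⟨N, e, C, s, u, he, hC, hsZ, huZ, ⟨iC⟩⟩ := exists_avoiding_pair (k := k) hA hL hZ
    have hAN := isInvertible_tensorPow hA.1 N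
    obtain ⟨Qs, φs, πs, ws, hSs, hQs, hQs'⟩ := key hC s hsZ
    obtain ⟨Qu, φu, πu, wu, hSu, hQu, hQu'⟩ := key hAN u huZ
    obtain ⟨Ks, hKs0, hKs⟩ := ih Qs hQs (hQs' r hsmall) (i - 1)
    obtain ⟨Ku, hKu0, hKu⟩ := ih Qu hQu (hQu' r hsmall) i
    let P : ℕ → ℕ → ℕ := fun a c => hd k X (CohB1.tensorMod (Tw L H a c) F) i
    have hstep : ∀ a c, P (a + e) c ≤ P a c + (Ks + Ku) * (a + e + c + 1) ^ (r - 1) := by
      intro a c
      have h1 := hKs (a + e) c
      have h2 := (hKu a c).trans (Nat.mul_le_mul_left Ku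
        (Nat.pow_le_pow_left (show a + c + 1 ≤ a + e + c + 1 by omega) (r - 1)))
      exact (step_le (k := k) hL hF hC hAN iC hSs hQs hSu hQu hH i a c).trans
        (le_of_le_of_eq (Nat.add_le_add_left (Nat.add_le_add h1 h2) _) (by rw [Nat.add_mul]))
    -- the base of the recursion
    have hbase : ∀ j : ℕ, ∃ B : ℕ, ∀ c, P j c ≤ B * (c + 1) ^ r := fun j => by
      have hLj := isInvertible_tensorPow hL j
      obtain ⟨B, -, hB⟩ := exists_bound (k := k) (𝟙 X) hA hH (r + 1) (CohB1.tensorMod (CohB1.tensorPow L j) F)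
        (Twist.isCoh_twist hLj hF) (fun y hy => hsmall y (by rwa [Twist.support_twist hLj] at hy)) i
      refine ⟨B, fun c => (hd_congr (k := k) (tensorIso (comm _ _) (Iso.refl F) ≪≫ assoc _ _ _ ≪≫
        tensorIso ((Scheme.Modules.pullbackId X).app _).symm (Iso.refl _)) i).le.trans
          ((hB c).trans (le_of_eq ?_))⟩
      rw [Nat.add_sub_cancel]
    choose B hB using hbase
    refine ⟨(∑ j ∈ Finset.range e, B j) + (Ks + Ku), fun h => absurd h r.succ_ne_zero, fun a c => ?_⟩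
    refine (rec_bound₂ he hstep a c).trans ?_
    rw [Nat.add_sub_cancel, add_mul (∑ j ∈ Finset.range e, B j)]
    refine add_le_add ?_ ?_
    · rw [Finset.sum_mul]
      exact Finset.sum_le_sum fun j _ =>
        (hB j c).trans (Nat.mul_le_mul_left _ (Nat.pow_le_pow_left (by omega) r))
    cases r with
    | zero => simp [hKs0 rfl, hKu0 rfl]
    | succ r =>
      rw [Nat.add_sub_cancel, mul_assoc, pow_succ']
      exact Nat.mul_le_mul_left _ (Nat.mul_le_mul_right _ (by omega))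

/-- A chain of hyperplane quotients for an ample module. -/
theorem exists_chain {H : X.Modules} (hH : CohB1.IsAmple H) {d : ℕ} (hd : topologicalKrullDim X = d) :
    ∃ (e : ℕ → ℕ) (Q : ℕ → X.Modules), (∀ l, 0 < e l) ∧ Nonempty (Q 0 ≅ Coh.structureModule X) ∧
      (∀ l, Coh.IsCoh (Q l)) ∧ (∀ l, SmallId k (Q l) (d + 1 - l)) ∧
      ∀ l, ∃ (φ : Q l ⟶ CohB1.tensorMod (Q l) (CohB1.tensorPow H (e l)))
        (π : CohB1.tensorMod (Q l) (CohB1.tensorPow H (e l)) ⟶ Q (l + 1)) (w : φ ≫ π = 0),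
        (ShortComplex.mk φ π w).ShortExact := by
  haveI := Curves.GlobalSections.isNoetherian_of_proper k X
  have one : ∀ F : {F : X.Modules // Coh.IsCoh F}, ∃ (n : ℕ) (G : {F : X.Modules // Coh.IsCoh F}), 0 < n ∧
      (∀ r, SmallId k F.1 (r + 1) → SmallId k G.1 r) ∧
      ∃ (φ : F.1 ⟶ CohB1.tensorMod F.1 (CohB1.tensorPow H n))
        (π : CohB1.tensorMod F.1 (CohB1.tensorPow H n) ⟶ G.1) (w : φ ≫ π = 0),
        (ShortComplex.mk φ π w).ShortExact := fun F => by
    obtain ⟨Z, hZ, key⟩ := exists_key (k := k) F.2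
    obtain ⟨n, hn, t, ht, -, -⟩ := Ample.Basis.exists_locus_of_finite hH Z hZ ⊤ (fun _ _ => trivial)
    obtain ⟨G, φ, π, w, hS, hG, hsm⟩ := key (isInvertible_tensorPow hH.1 n) t ht
    exact ⟨n, ⟨G, hG⟩, hn, hsm, φ, π, w, hS⟩
  choose n G hn hsm hseq using one
  let Q : ℕ → {F : X.Modules // Coh.IsCoh F} :=
    Nat.rec ⟨Coh.structureModule X, Twist.isCoh_structureModule X⟩ fun _ F => G F
  refine ⟨fun l => n (Q l), fun l => (Q l).1, fun l => hn _, ⟨Iso.refl _⟩, fun l => (Q l).2,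
    fun l => ?_, fun l => hseq (Q l)⟩
  induction l with
  | zero => exact fun x _ => Nat.lt_succ_of_le (PosLin.Asymp.pdim_le_dim (k := k) hd x)
  | succ l ih =>
    refine hsm (Q l) _ fun x hx => (ih x hx).trans_le ?_
    omega

end

end Groth.Agent.H52.TwoTwistBound
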